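import Cfsg.Agent.H50.Center
import Cfsg.Agent.H50.Generation

/-! Involutions of `SU 3` in odd characteristic. -/

set_option autoImplicit false

namespace H50

open Matrix Cfsg

variable {F : Type*} [Field F] [Fintype F] {q : ℕ} (hF : Fintype.card F = q ^ 2)
include hF

theorem two_ne_zero_of_odd (hq : Odd q) : (2 : F) ≠ 0 := by
  obtain ⟨p, f, hp, hf, hc, rfl⟩ := exists_prime_pow hF
  intro h
  have h2 : ((2 : ℕ) : F) = 0 := by exact_mod_cast h
  rw [CharP.cast_eq_zero_iff F p, Nat.prime_dvd_prime_iff_eq hp Nat.prime_two] at h2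
  subst h2
  exact Nat.not_even_iff_odd.2 hq ((Nat.even_pow.2 ⟨even_two, by omega⟩))

theorem neg_two_pow_q (hq : Odd q) : ((-2 : F)) ^ q = -2 := by
  have h1 : (1 : F) + 1 = 2 := one_add_one_eq_two
  rw [Odd.neg_pow hq, ← h1, add_pow_q hF, one_pow]

/-- The element `x ↦ -x + 2 h(x,z) z`. -/
noncomputable def su3inv (hq : Odd q) (z : Fin 3 → F) (hz : hermForm 3 F q z z = 1) : SU 3 F q :=
  mkSU (-(unitaryTransvection 3 q z (-2)))
    (fun u v => by
      rw [neg_mulVec, neg_mulVec, h_neg_left, h_neg_right hF, neg_neg,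
        ut_isIso hF (v := z) (c := -2) (by rw [hz, neg_two_pow_q hF hq]; ring) u v])
    (by rw [det_neg, ut_det, hz, Fintype.card_fin]; ring)

theorem su3inv_mulVec (hq : Odd q) (z : Fin 3 → F) (hz : hermForm 3 F q z z = 1) (x : Fin 3 → F) :
    suMat (su3inv hF hq z hz) *ᵥ x = -x + (2 * hermForm 3 F q x z) • z := by
  show (-(unitaryTransvection 3 q z (-2))) *ᵥ x = _
  rw [neg_mulVec, ut_mulVec]
  module

theorem su3inv_sq (hq : Odd q) (z : Fin 3 → F) (hz : hermForm 3 F q z z = 1) :
    su3inv hF hq z hz * su3inv hF hq z hz = 1 := by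
  refine suMat_ext fun x => ?_
  rw [suMat_mulVec_mul, suMat_one, one_mulVec, su3inv_mulVec, su3inv_mulVec]
  simp only [h_add_left, h_neg_left, h_smul_left, hz]
  module

theorem su3inv_fix (hq : Odd q) (z : Fin 3 → F) (hz : hermForm 3 F q z z = 1) :
    suMat (su3inv hF hq z hz) *ᵥ z = z := by
  rw [su3inv_mulVec, hz]; module

theorem su3inv_ne_one (hq : Odd q) (z : Fin 3 → F) (hz : hermForm 3 F q z z = 1) :
    su3inv hF hq z hz ≠ 1 := by
  intro h
  obtain ⟨d, hd, hdz⟩ := exists_completion hF (IsON.gramND hF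
    (b := fun _ : Fin 1 => z) (fun i j => by simp [Subsingleton.elim i j, hz]))
  let a : Fin (3 - Fintype.card (Fin 1)) := ⟨0, by simp⟩
  have h1 := congrArg (fun g => suMat g *ᵥ d a) h
  simp only [su3inv_mulVec, suMat_one, one_mulVec, show hermForm 3 F q (d a) z = 0 from hdz a 0,
    mul_zero, zero_smul, add_zero] at h1
  have h2 : hermForm 3 F q (d a) (d a) = 1 := by simpa using hd a a
  have h3 := congrArg (fun v => hermForm 3 F q v (d a)) h1
  simp only [h_neg_left, h2] at h3
  exact two_ne_zero_of_odd hF hq (by linear_combination -h3)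

theorem su3inv_conj (hq : Odd q) (g : SU 3 F q) (z : Fin 3 → F) (hz : hermForm 3 F q z z = 1) :
    g * su3inv hF hq z hz * g⁻¹ = su3inv hF hq (suMat g *ᵥ z) (by rw [suMat_h, hz]) := by
  refine suMat_ext fun x => ?_
  rw [suMat_mulVec_mul, suMat_mulVec_mul, su3inv_mulVec, su3inv_mulVec, mulVec_add, mulVec_neg,
    mulVec_smul, suMat_mulVec_inv, suMat_inv_h]

theorem su3inv_eq_iff (hq : Odd q) {z w : Fin 3 → F} (hz : hermForm 3 F q z z = 1)
    (hw : hermForm 3 F q w w = 1) :
    su3inv hF hq z hz = su3inv hF hq w hw ↔ ∃ a : F, w = a • z := by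
  constructor
  · intro h
    have h1 := congrArg (fun g => suMat g *ᵥ w) h
    simp only [su3inv_mulVec, hw] at h1
    refine ⟨hermForm 3 F q w z, smul_right_injective _ (two_ne_zero_of_odd hF hq) ?_⟩
    simp only [smul_smul]
    have := add_left_cancel h1
    rw [this, mul_one]
  · rintro ⟨a, rfl⟩
    have ha : a * a ^ q = 1 := by
      rw [h_smul_left, h_smul_right hF, hz] at hw
      linear_combination hw
    refine suMat_ext fun x => ?_
    rw [su3inv_mulVec, su3inv_mulVec, h_smul_right hF, smul_smul]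
    congr 2
    linear_combination (-(2 * hermForm 3 F q x z)) * ha

theorem sl_two_sq_eq_one (hq : Odd q) (s : SU 2 F q) (hs : s * s = 1) :
    suMat s = 1 ∨ suMat s = -1 := by
  have h2 := two_ne_zero_of_odd hF hq
  have hd : (suMat s).det = 1 := s.1.2
  rw [det_fin_two] at hd
  have hm : suMat s * suMat s = 1 := by rw [← suMat_mul, hs, suMat_one]
  have h00 := congrFun (congrFun hm 0) 0
  have h01 := congrFun (congrFun hm 0) 1
  have h10 := congrFun (congrFun hm 1) 0
  simp [Matrix.mul_apply, Fin.sum_univ_two] at h00 h01 h10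
  set a := suMat s 0 0
  set b := suMat s 0 1
  set c := suMat s 1 0
  set d := suMat s 1 1
  have had : a + d ≠ 0 := by
    intro h
    exact h2 (by linear_combination -h00 - hd + a * h)
  have hb : b = 0 :=
    (mul_eq_zero.1 (show b * (a + d) = 0 by linear_combination h01)).resolve_right had
  have hc : c = 0 :=
    (mul_eq_zero.1 (show c * (a + d) = 0 by linear_combination h10)).resolve_right had
  rw [hb, hc] at hd h00
  have ha : (a - 1) * (a + 1) = 0 := by linear_combination h00
  rcases mul_eq_zero.1 ha with ha | ha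
  · refine Or.inl (Matrix.ext fun i j => ?_)
    have ha1 : a = 1 := sub_eq_zero.1 ha
    rw [ha1] at hd
    fin_cases i <;> fin_cases j
    · exact ha1
    · exact hb
    · exact hc
    · show d = 1; linear_combination hd
  · refine Or.inr (Matrix.ext fun i j => ?_)
    have ha1 : a = -1 := eq_neg_of_add_eq_zero_left ha
    rw [ha1] at hd
    fin_cases i <;> fin_cases j
    · simpa using ha1
    · simpa using hb
    · simpa using hc
    · simp only [Fin.mk_one, Matrix.neg_apply, Matrix.one_apply_eq]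
      show d = -1; linear_combination -hd

/-- Every involution of `SU 3` is some `su3inv`. -/
theorem exists_su3inv (hq : Odd q) (t : SU 3 F q) (ht : t ≠ 1) (ht2 : t * t = 1) :
    ∃ (z : Fin 3 → F) (hz : hermForm 3 F q z z = 1), t = su3inv hF hq z hz := by
  have h2 := two_ne_zero_of_odd hF hq
  have htt : ∀ x, suMat t *ᵥ (suMat t *ᵥ x) = x := fun x => by
    rw [← suMat_mulVec_mul, ht2, suMat_one, one_mulVec]
  let W : Submodule F (Fin 3 → F) := LinearMap.ker ((suMat t).mulVecLin - LinearMap.id)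
  have hW : ∀ x, x ∈ W ↔ suMat t *ᵥ x = x := fun x => by simp [W, sub_eq_zero]
  have hplus : ∀ x, x + suMat t *ᵥ x ∈ W := fun x => by rw [hW, mulVec_add, htt, add_comm]
  have hne : W ≠ ⊥ := by
    intro hbot
    have hneg : ∀ x, suMat t *ᵥ x = -x := fun x => by
      have := hplus x
      rw [hbot, Submodule.mem_bot] at this
      exact eq_neg_of_add_eq_zero_right this
    have hdet : (suMat t).det = 1 := t.1.2
    have hm : suMat t = -1 := Matrix.ext_of_mulVec_single fun i => by
      rw [hneg, neg_mulVec, one_mulVec]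
    rw [hm, det_neg, det_one, Fintype.card_fin] at hdet
    exact h2 (by linear_combination -hdet)
  have hnd : IsNondeg q W := by
    intro u hu h
    refine eq_zero_of_h_left hF fun v => ?_
    have h1 := h _ (hplus v)
    have h3 : hermForm 3 F q u (suMat t *ᵥ v) = hermForm 3 F q u v := by
      conv_lhs => rw [← (hW u).1 hu]
      exact suMat_h t u v
    rw [h_add_right hF, h3, ← two_mul] at h1
    exact (mul_eq_zero.1 h1).resolve_left h2
  obtain ⟨z, hzW, hz⟩ := exists_norm_one_mem hF hnd hne
  refine ⟨z, hz, ?_⟩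
  obtain ⟨k, hk⟩ := exists_SU_of_sameGram hF (ι := Unit)
    (b := fun _ => (Pi.single 0 1 : Fin 3 → F)) (b' := fun _ => z)
    (fun c hc => funext fun u => by simpa [h_smul_left, h_single_single hF] using hc u)
    (fun _ _ => by rw [hz, h_single_single hF, if_pos rfl]) (by simp)
  obtain ⟨s, hs⟩ := mem_range_liftSU hF (n := 2) (g := k⁻¹ * t * k) (by
    rw [suMat_mulVec_mul, suMat_mulVec_mul, hk (), (hW z).1 hzW, ← hk (), suMat_inv_mulVec])
  have hs2 : s * s = 1 := by
    refine suMat_ext fun v => ?_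
    have h := congrArg (fun g => suMat g *ᵥ (Fin.cons 0 v : Fin 3 → F))
      (show liftSU (s * s) = (1 : SU 3 F q) by
        rw [map_mul, hs]
        calc k⁻¹ * t * k * (k⁻¹ * t * k) = k⁻¹ * (t * t) * k := by group
          _ = 1 := by rw [ht2]; group)
    simp only [liftSU_mulVec, suMat_one, one_mulVec] at h
    rw [suMat_one, one_mulVec]
    exact Fin.cons_right_injective (α := fun _ => F) _ h
  rcases sl_two_sq_eq_one hF hq s hs2 with h1 | h1
  · exfalso
    apply ht
    have : s = 1 := SU_ext h1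
    rw [this, map_one] at hs
    calc t = k * (k⁻¹ * t * k) * k⁻¹ := by group
      _ = 1 := by rw [← hs]; group
  · have key : k⁻¹ * t * k = su3inv hF hq (Pi.single 0 1) (by simp [h_single_single hF]) := by
      rw [← hs]
      refine suMat_ext fun x => ?_
      rw [← Fin.cons_self_tail x, liftSU_mulVec, su3inv_mulVec, h1, h_single_right hF, Fin.cons_zero]
      funext i
      induction i using Fin.cases with
      | zero => simp; ring
      | succ i => simp [neg_mulVec, Fin.tail]
    calc t = k * (k⁻¹ * t * k) * k⁻¹ := by group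
      _ = _ := by rw [key, su3inv_conj]; congr 1; exact hk ()

theorem su3inv_commute_iff (hq : Odd q) {z w : Fin 3 → F} (hz : hermForm 3 F q z z = 1)
    (hw : hermForm 3 F q w w = 1) :
    Commute (su3inv hF hq z hz) (su3inv hF hq w hw) ↔
      hermForm 3 F q w z = 0 ∨ ∃ a : F, w = a • z := by
  have h2 := two_ne_zero_of_odd hF hq
  have hconj := su3inv_conj hF hq (su3inv hF hq z hz) w hw
  constructor
  · intro h
    rw [h.eq, mul_inv_cancel_right, su3inv_eq_iff] at hconj
    obtain ⟨a, ha⟩ := hconj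
    rw [su3inv_mulVec] at ha
    by_cases h0 : hermForm 3 F q w z = 0
    · exact Or.inl h0
    · refine Or.inr ⟨hermForm 3 F q w z, ?_⟩
      have h3 := congrArg (fun x => hermForm 3 F q x z) ha
      simp only [h_add_left, h_neg_left, h_smul_left, hz] at h3
      have ha1 : a = 1 := mul_right_cancel₀ h0 (by linear_combination -h3)
      rw [ha1, one_smul] at ha
      refine smul_right_injective _ h2 ?_
      simp only [smul_smul]
      have h4 : (2 * hermForm 3 F q w z) • z =
          w + (-w + (2 * hermForm 3 F q w z) • z) := by abel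
      rw [h4, ha, two_smul]
  · intro h
    have hfix : ∃ a : F, suMat (su3inv hF hq z hz) *ᵥ w = a • w := by
      rcases h with h | ⟨a, rfl⟩
      · exact ⟨-1, by rw [su3inv_mulVec, h]; module⟩
      · exact ⟨1, by rw [su3inv_mulVec, h_smul_left, hz]; module⟩
    have h5 : su3inv hF hq z hz * su3inv hF hq w hw * (su3inv hF hq z hz)⁻¹ =
        su3inv hF hq w hw := by
      rw [hconj, eq_comm, su3inv_eq_iff]; exact hfix
    exact mul_inv_eq_iff_eq_mul.1 h5

/-- Counting involutions through norm-one vectors. -/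
theorem card_su3inv_vectors (hq : Odd q) (P : SU 3 F q → Prop) :
    Nat.card {w : {w : Fin 3 → F // hermForm 3 F q w w = 1} // P (su3inv hF hq w.1 w.2)} =
      (q + 1) * Nat.card {x : SU 3 F q // x ≠ 1 ∧ x * x = 1 ∧ P x} := by
  classical
  let X := {x : SU 3 F q // x ≠ 1 ∧ x * x = 1 ∧ P x}
  have e : {w : {w : Fin 3 → F // hermForm 3 F q w w = 1} // P (su3inv hF hq w.1 w.2)} ≃
      Σ x : X, {w : {w : Fin 3 → F // hermForm 3 F q w w = 1} // su3inv hF hq w.1 w.2 = x.1} :=
    { toFun := fun w => ⟨⟨_, su3inv_ne_one hF hq _ _, su3inv_sq hF hq _ _, w.2⟩, w.1, rfl⟩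
      invFun := fun p => ⟨p.2.1, by rw [p.2.2]; exact p.1.2.2.2⟩
      left_inv := fun w => rfl
      right_inv := fun p => Sigma.subtype_ext (Subtype.ext p.2.2) rfl }
  have hfib : ∀ x : X,
      Nat.card {w : {w : Fin 3 → F // hermForm 3 F q w w = 1} // su3inv hF hq w.1 w.2 = x.1} =
        q + 1 := by
    rintro ⟨x, hx1, hx2, hx⟩
    obtain ⟨z, hz, rfl⟩ := exists_su3inv hF hq x hx1 hx2
    refine Eq.trans ?_ (card_norm_eq hF (one_pow q) one_ne_zero)
    refine (Nat.card_congr (Equiv.ofBijective (fun a : {a : F // a ^ (q + 1) = 1} =>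
      (⟨⟨a.1 • z, by rw [h_smul_left, h_smul_right hF, hz, mul_one, ← pow_succ']; exact a.2⟩,
        ((su3inv_eq_iff hF hq hz _).2 ⟨a.1, rfl⟩).symm⟩ :
        {w : {w : Fin 3 → F // hermForm 3 F q w w = 1} // su3inv hF hq w.1 w.2 = su3inv hF hq z hz}))
      ⟨?_, ?_⟩)).symm
    · intro a b hab
      have h := congrArg (fun u => hermForm 3 F q u.1.1 z) hab
      simp only [h_smul_left, hz, mul_one] at h
      exact Subtype.ext h
    · rintro ⟨⟨w, hw⟩, hwx⟩
      obtain ⟨a, ha⟩ := (su3inv_eq_iff hF hq hz hw).1 hwx.symm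
      subst ha
      refine ⟨⟨a, ?_⟩, rfl⟩
      rw [h_smul_left, h_smul_right hF, hz] at hw
      rw [pow_succ']
      linear_combination hw
  rw [Nat.card_congr e, Nat.card_sigma, Finset.sum_congr rfl (fun x _ => hfib x), Finset.sum_const,
    Finset.card_univ, smul_eq_mul, ← Nat.card_eq_fintype_card, mul_comm]

/-- Norm-one vectors split along `z`: the coordinate along `z` and a plane vector. -/
theorem card_norm_one_split {z : Fin 3 → F} (hz : hermForm 3 F q z z = 1)
    (P : F → (Fin 2 → F) → Prop) :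
    ∃ π : (Fin 3 → F) → (Fin 2 → F),
      (∀ x, π x = 0 ↔ ∃ a : F, x = a • z) ∧
      Nat.card {w : {w : Fin 3 → F // hermForm 3 F q w w = 1} //
          P (hermForm 3 F q w.1 z) (π w.1)} =
        Nat.card {p : F × (Fin 2 → F) //
          p.1 ^ (q + 1) + hermForm 2 F q p.2 p.2 = 1 ∧ P p.1 p.2} := by
  have hON : IsON q (fun _ : Fin 1 => z) := fun i j => by simp [Subsingleton.elim i j, hz]
  obtain ⟨d, hd, hdb⟩ : ∃ d : Fin 2 → Fin 3 → F, IsON q d ∧
      ∀ a i, hermForm 3 F q (d a) ((fun _ : Fin 1 => z) i) = 0 := by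
    have h := exists_completion hF (IsON.gramND hF hON)
    rwa [show 3 - Fintype.card (Fin 1) = 2 by simp] at h
  have hdz : ∀ a, hermForm 3 F q (d a) z = 0 := fun a => hdb a 0
  have hzd := fun a => (h_eq_zero_comm hF).1 (hdz a)
  have hnd := sumElim_gramND hF (IsON.gramND hF hON) hd hdb
  have hinj : Function.Injective (coords q (Sum.elim (fun _ : Fin 1 => z) d)) :=
    (LinearMap.injective_iff_surjective_of_finrank_eq_finrank (by simp)).2
      (coords_surjective hF (GramND.linearIndependent hF hnd))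
  let π : (Fin 3 → F) → (Fin 2 → F) := fun x a => hermForm 3 F q x (d a)
  have hexp : ∀ x, x = hermForm 3 F q x z • z + ∑ a, π x a • d a := fun x => by
    refine hinj (funext fun i => ?_)
    rcases i with i | a
    · simp [h_add_left, h_sum_left, h_smul_left, hz, hdz]
    · fin_cases a <;> simp [h_add_left, h_smul_left, hzd, hd _ _, π]
  have hnorm : ∀ (a : F) (v : Fin 2 → F),
      hermForm 3 F q (a • z + ∑ i, v i • d i) (a • z + ∑ i, v i • d i) =
        a ^ (q + 1) + hermForm 2 F q v v := by
    intro a v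
    have h1 : hermForm 3 F q (∑ i, v i • d i) z = 0 := by
      simp [h_add_left, h_smul_left, hdz]
    have h2 : hermForm 3 F q (∑ i, v i • d i) (∑ i, v i • d i) = hermForm 2 F q v v := by
      rw [h_sum_right hF]
      simp only [h_smul_right hF, IsON.coeff hF hd]
      rw [hermForm]
      exact Finset.sum_congr rfl fun i _ => mul_comm _ _
    simp only [h_add_left, h_add_right hF, h_smul_left, h_smul_right hF, h1, h2, hz,
      (h_eq_zero_comm hF).1 h1]
    ring
  refine ⟨π, fun x => ⟨fun h => ⟨hermForm 3 F q x z, ?_⟩, ?_⟩, Nat.card_congr ?_⟩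
  · conv_lhs => rw [hexp x]
    simp [h]
  · rintro ⟨a, rfl⟩
    funext i
    simp [π, h_smul_left, hzd]
  · refine
      { toFun := fun w => ⟨(hermForm 3 F q w.1.1 z, π w.1.1), ?_, w.2⟩
        invFun := fun p => ⟨⟨p.1.1 • z + ∑ i, p.1.2 i • d i, ?_⟩, ?_⟩
        left_inv := fun w => Subtype.ext (Subtype.ext (hexp w.1.1).symm)
        right_inv := ?_ }
    · rw [← hnorm, ← hexp]; exact w.1.2
    · rw [hnorm]; exact p.2.1
    · have e1 : hermForm 3 F q (p.1.1 • z + ∑ i, p.1.2 i • d i) z = p.1.1 := by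
        simp [h_add_left, h_sum_left, h_smul_left, hz, hdz]
      have e2 : π (p.1.1 • z + ∑ i, p.1.2 i • d i) = p.1.2 := funext fun a => by
        fin_cases a <;> simp [π, h_add_left, h_smul_left, hzd, hd _ _]
      show P (hermForm 3 F q (p.1.1 • z + ∑ i, p.1.2 i • d i) z) (π (p.1.1 • z + ∑ i, p.1.2 i • d i))
      rw [e1, e2]; exact p.2.2
    · intro p
      refine Subtype.ext (Prod.ext ?_ ?_)
      · simp [h_add_left, h_sum_left, h_smul_left, hz, hdz]
      · funext a
        fin_cases a <;> simp [π, h_add_left, h_smul_left, hzd, hd _ _]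

theorem normCount_three_one : normCount 3 q F 1 = q ^ 2 * (q ^ 3 + 1) := by
  rw [norm_one_count_succ hF (n := 2)]
  simp

theorem normCount_two_one : normCount 2 q F 1 = q * (q ^ 2 - 1) := by
  rw [norm_one_count_succ hF (n := 1)]
  simp

theorem normCount_two_zero : normCount 2 q F 0 = (q ^ 2 - 1) * (q + 1) + 1 := by
  have h := q_mul_norm_zero_count hF (n := 2)
  have hq := two_le hF
  have h1 : 1 ≤ q ^ 2 := Nat.one_le_pow _ _ (by omega)
  apply Int.ofNat_inj.1
  refine mul_left_cancel₀ (show (q : ℤ) ≠ 0 by omega) (h.trans ?_)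
  push_cast [Nat.cast_sub h1]
  ring

end H50
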