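import Cfsg.Agent.H95.MatElt
import Cfsg.Agent.H50.Simple
import Cfsg.Agent.H50.Generation
import Cfsg.Agent.H64.SUTransport

/-!
Identifying a stabiliser in `Co0` with a projective special unitary group from a table that
sends lattice vectors to subspaces, moved alike by transvections and lattice automorphisms.
-/

set_option autoImplicit false

namespace H50.LeechU

open Cfsg Matrix

variable {n q : ℕ} {K : Type} [Field K]

/-- a table entry: coordinates of a lattice vector and a basis of a subspace -/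
abbrev Entry (n : ℕ) (K : Type) := List ℤ × List (Fin n → K)

/-- the span of a list -/
def spanL (B : List (Fin n → K)) : Submodule K (Fin n → K) := Submodule.span K {a | a ∈ B}

/-- the pair moves the table -/
def Good (T : List (Entry n K)) (p : Co0 × SU n K q) : Prop :=
  ∀ (y : leechLattice) (B : List (Fin n → K)), (H95.vecL (y : GolayPt → ℤ), B) ∈ T →
    ∃ B', (H95.vecL ((p.1 • y : leechLattice) : GolayPt → ℤ), B') ∈ T ∧
      ∀ a ∈ B, suMat p.2 *ᵥ a ∈ spanL B'

theorem good_one (T : List (Entry n K)) : Good (q := q) T (1, 1) := fun y B h =>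
  ⟨B, by rw [one_smul]; exact h, fun a ha => by
    rw [suMat_one, one_mulVec]; exact Submodule.subset_span ha⟩

theorem good_mul {T : List (Entry n K)} {p p' : Co0 × SU n K q} (h : Good T p) (h' : Good T p') :
    Good T (p * p') := by
  intro y B hy
  obtain ⟨B1, h1, s1⟩ := h' y B hy
  obtain ⟨B2, h2, s2⟩ := h _ B1 h1
  refine ⟨B2, by rw [Prod.fst_mul, mul_smul]; exact h2, fun a ha => ?_⟩
  rw [Prod.snd_mul, suMat_mulVec_mul]
  have hle : spanL B1 ≤ (spanL B2).comap (Matrix.mulVecLin (suMat p.2)) := by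
    rw [spanL, Submodule.span_le]
    exact fun b hb => s2 b hb
  exact hle (s1 a ha)

/-- the transvection, applied -/
def tvv (q : ℕ) (v : Fin n → K) (c : K) (x : Fin n → K) : Fin n → K :=
  x + (c * hermForm n K q x v) • v

section Checks

variable [DecidableEq K]

/-- the coefficient of `b` read off at its leading coordinate -/
def coef (x b : Fin n → K) : K :=
  match (List.finRange n).find? (fun i => decide (b i ≠ 0)) with
  | some i => x i
  | none => 0

/-- membership in a span by an echelon basis -/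
def inSpan (x : Fin n → K) (B : List (Fin n → K)) : Bool :=
  decide (x = (B.map fun b => coef x b • b).sum)

theorem mem_of_inSpan {x : Fin n → K} {B : List (Fin n → K)} (h : inSpan x B = true) :
    x ∈ spanL B := by
  rw [inSpan, decide_eq_true_eq] at h
  rw [h]
  refine list_sum_mem fun z hz => ?_
  obtain ⟨b, hb, rfl⟩ := List.mem_map.1 hz
  exact Submodule.smul_mem _ _ (Submodule.subset_span hb)

/-- one cell of the step check -/
def cellOK (q : ℕ) (C : List (List (Entry n K))) (size : ℕ) (E : List (List ℤ)) (v : Fin n → K)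
    (c : K) (x : Entry n K × ℕ) : Bool :=
  match (C.getD (x.2 / size) [])[x.2 % size]? with
  | some e' => decide (H95.applyL E x.1.1 = e'.1) && x.1.2.all fun a => inSpan (tvv q v c a) e'.2
  | none => false

/-- a matrix moves the table as a transvection does -/
def stepOK (q : ℕ) (C : List (List (Entry n K))) (size : ℕ) (E : List (List ℤ)) (v : Fin n → K)
    (c : K) (idx : List (List ℕ)) : Bool :=
  decide (C.length = idx.length) && (C.zip idx).all fun p =>
    decide (p.1.length = p.2.length) && (p.1.zip p.2).all (cellOK q C size E v c)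

/-- coordinates packed in hexadecimal digits shifted by 4 -/
def decY (m : ℕ) : List ℤ := List.ofFn fun i : Fin 24 => ((m / 16 ^ (i : ℕ) % 16 : ℕ) : ℤ) - 4

theorem exists_zip_mem {α β : Type} {l : List α} {m : List β} (h : l.length = m.length) {a : α}
    (ha : a ∈ l) : ∃ b, (a, b) ∈ l.zip m := by
  obtain ⟨i, hi, rfl⟩ := List.mem_iff_getElem.1 ha
  exact ⟨m[i]'(h ▸ hi), List.mem_iff_getElem.2 ⟨i, by simp [h ▸ hi, hi], by simp⟩⟩

theorem good_step {C : List (List (Entry n K))} {size : ℕ} (D : H95.MatData) (v : Fin n → K)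
    (c : K) (idx : List (List ℕ)) (h : stepOK q C size D.E v c idx = true) (g : SU n K q)
    (hg : ∀ x, suMat g *ᵥ x = tvv q v c x) : Good C.flatten (D.elt, g) := by
  intro y B hy
  simp only [stepOK, Bool.and_eq_true, decide_eq_true_eq] at h
  obtain ⟨ch, hch, hy'⟩ := List.mem_flatten.1 hy
  obtain ⟨ids, hids⟩ := exists_zip_mem h.1 hch
  have h2 := List.all_eq_true.1 h.2 _ hids
  simp only [Bool.and_eq_true, decide_eq_true_eq] at h2
  obtain ⟨j, hj⟩ := exists_zip_mem h2.1 hy'
  have h3 := List.all_eq_true.1 h2.2 _ hj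
  unfold cellOK at h3
  split at h3
  · rename_i e' he'
    simp only [Bool.and_eq_true, decide_eq_true_eq] at h3
    refine ⟨e'.2, ?_, fun a ha => ?_⟩
    · rw [D.vecL_elt, h3.1]
      have hm : e' ∈ C.getD (j / size) [] := List.mem_of_getElem? he'
      rw [List.getD_eq_getElem?_getD] at hm
      cases hC : C[j / size]? with
      | none => rw [hC] at hm; simp at hm
      | some l =>
        rw [hC] at hm
        exact List.mem_flatten.2 ⟨l, List.mem_of_getElem? hC, hm⟩
    · rw [hg]; exact mem_of_inSpan (List.all_eq_true.1 h3.2 a ha)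
  · simp at h3

/-- the table has one entry at `Y` -/
def uniqOK (T : List (Entry n K)) (Y : List ℤ) (B : List (Fin n → K)) : Bool :=
  T.all fun e => !decide (e.1 = Y) || decide (e.2 = B)

theorem uniq_of_ok {T : List (Entry n K)} {Y : List ℤ} {B B' : List (Fin n → K)}
    (h : uniqOK T Y B = true) (hB : (Y, B') ∈ T) : B' = B := by
  have := List.all_eq_true.1 h _ hB
  simpa using this

end Checks

section Gen

variable [Fintype K] (hF : Fintype.card K = q ^ 2) {S : Subgroup (SU n K q)}

/-- all transvections at `v` lie in `S` -/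
def InS (S : Subgroup (SU n K q)) (v : Fin n → K) : Prop :=
  ∀ (c : K) (g : SU n K q), c + c ^ q = 0 → (∀ x, suMat g *ᵥ x = tvv q v c x) → g ∈ S

include hF

theorem inS_move {v w : Fin n → K} (h : InS S v) {k : SU n K q} (hk : k ∈ S)
    (hw : suMat k *ᵥ v = w) : InS S w := by
  intro c g hc hg
  have e : k⁻¹ * g * k ∈ S := h c _ hc fun x => by
    rw [suMat_mulVec_mul, suMat_mulVec_mul, hg, tvv, tvv, mulVec_add, mulVec_smul,
      suMat_inv_mulVec, ← hw, suMat_inv_mulVec, suMat_h]
  have := mul_mem (mul_mem hk e) (inv_mem hk)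
  simpa [mul_assoc] using this

theorem inS_smul {v : Fin n → K} (h : InS S v) (l : K) : InS S (l • v) := by
  intro c g hc hg
  refine h (c * (l * l ^ q)) g ?_ fun x => ?_
  · rw [mul_pow, mul_pow, pow_q_pow_q hF]
    linear_combination (l * l ^ q) * hc
  · rw [hg, tvv, tvv, h_smul_right hF, smul_smul]
    congr 2
    ring

theorem inS_root {v : Fin n → K} {c0 : K} (hc0 : ∀ c : K, c + c ^ q = 0 → ∃ k : Fin q, (k : ℕ) * c0 = c)
    {g0 : SU n K q} (hg0 : g0 ∈ S) (hv : hermForm n K q v v = 0)
    (hg : ∀ x, suMat g0 *ᵥ x = tvv q v c0 x) : InS S v := by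
  intro c g hc hgc
  obtain ⟨k, rfl⟩ := hc0 c hc
  have key : ∀ m : ℕ, ∀ x, suMat (g0 ^ m) *ᵥ x = tvv q v ((m : K) * c0) x := by
    intro m
    induction m with
    | zero => intro x; simp [tvv, suMat_one]
    | succ m ih =>
      intro x
      rw [pow_succ', suMat_mulVec_mul, ih, hg, tvv, tvv, tvv, h_add_left, h_smul_left, hv, mul_zero,
        add_zero, add_assoc, ← add_smul]
      congr 2
      push_cast
      ring
  have : g = g0 ^ (k : ℕ) := suMat_ext fun x => by rw [hgc, key]
  rw [this]
  exact pow_mem hg0 _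

theorem inS_tree [DecidableEq K] {ι : Type} (rt : ι → Fin n → K) (c0 : K) (g : ι → SU n K q)
    (hroot : ∀ i, InS S (rt i)) (hgS : ∀ i, g i ∈ S)
    (hg : ∀ i x, suMat (g i) *ᵥ x = tvv q (rt i) c0 x) (P : ℕ → Fin n → K) (step : ℕ → ℕ × ι)
    (root : ℕ → Option ι) {m : ℕ}
    (h : ∀ j < m, match root j with
      | some i => P j = rt i
      | none => (step j).1 < j ∧ coef (tvv q (rt (step j).2) c0 (P (step j).1)) (P j) ≠ 0 ∧
          tvv q (rt (step j).2) c0 (P (step j).1) =
            coef (tvv q (rt (step j).2) c0 (P (step j).1)) (P j) • P j) :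
    ∀ j < m, InS S (P j) := by
  intro j
  induction j using Nat.strong_induction_on with
  | _ j ih =>
    intro hj
    have hh := h j hj
    split at hh
    · rw [hh]; exact hroot _
    · obtain ⟨ha, hs, he⟩ := hh
      have h1 : InS S (tvv q (rt (step j).2) c0 (P (step j).1)) :=
        inS_move hF (ih _ ha (ha.trans hj)) (hgS _) (hg _ _)
      rw [he] at h1
      have h2 := inS_smul hF h1 (coef (tvv q (rt (step j).2) c0 (P (step j).1)) (P j))⁻¹
      rwa [smul_smul, inv_mul_cancel₀ hs, one_smul] at h2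

theorem eq_top_of_inS (hn : 1 ≤ n) (h32 : ¬(n = 3 ∧ q = 2))
    (h : ∀ v : Fin n → K, hermForm n K q v v = 0 → InS S v) : S = ⊤ := by
  rw [eq_top_iff, ← transSub_eq_top (F := K) hF n hn h32, transSub, Subgroup.closure_le]
  rintro g ⟨v, c, hv, hg⟩
  by_cases hv0 : v = 0
  · have : g = 1 := suMat_ext fun x => by
      rw [hg, suMat_one, one_mulVec, ut_mulVec, hv0, smul_zero, add_zero]
    rw [this]; exact one_mem _
  refine h v hv c g ?_ fun x => by rw [hg, ut_mulVec, tvv]
  obtain ⟨j, hj⟩ := Function.ne_iff.1 hv0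
  have hh := suMat_h g (Pi.single j 1) (Pi.single j 1)
  rw [hg, ut_mulVec] at hh
  simp only [h_add_left, h_add_right hF, h_smul_left, h_smul_right hF, hv, h_single_single hF,
    h_single_left hF, h_single_right hF, mul_pow, pow_q_pow_q hF, if_true, mul_zero, add_zero,
    Pi.add_apply, Pi.smul_apply, Pi.single_eq_same, smul_eq_mul] at hh
  have hj' : v j ^ q ≠ 0 := pow_ne_zero _ hj
  have : (c + c ^ q) * (v j * v j ^ q) = 0 := by linear_combination hh
  rcases mul_eq_zero.1 this with h' | h'
  · exact h'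
  · exact absurd h' (mul_ne_zero hj hj')

end Gen

section Main

variable [Fintype K] [DecidableEq K]

/-- the isomorphism from a table -/
theorem iso_of_table (hF : Fintype.card K = q ^ 2) (hn : 3 ≤ n) (h32 : ¬(n = 3 ∧ q = 2))
    {T : List (Entry n K)} {H : Subgroup Co0} (hcard : Nat.card H = Nat.card (PSU n K q))
    {ι : Type} (h : ι → Co0) (g : ι → SU n K q) (hH : ∀ i, h i ∈ H)
    (hgen : Subgroup.closure (Set.range g) = ⊤) (hgood : ∀ i, Good T (h i, g i))
    (y0 : leechLattice) (B0 : List (Fin n → K)) (a b : Fin n → K) (i0 : ι)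
    (hy0 : (H95.vecL (y0 : GolayPt → ℤ), B0) ∈ T)
    (huniq : uniqOK T (H95.vecL (y0 : GolayPt → ℤ)) B0 = true) (ha : a ∈ B0)
    (hB : ∀ x ∈ B0, hermForm n K q x b = 0)
    (hne : hermForm n K q (suMat (g i0) *ᵥ a) b ≠ 0) : Nonempty (H ≃* PSU n K q) := by
  haveI := PSU_isSimple hF hn h32
  haveI : Finite Co0 := Nat.finite_of_card_ne_zero
    (by rw [H95.card_co0 H95.golayUnique]; norm_num)
  haveI : Finite (SU n K q) :=
    Finite.of_injective (fun g : SU n K q => suMat g) fun _ _ e => SU_ext e
  set Γ : Subgroup (Co0 × SU n K q) := Subgroup.closure (Set.range fun i => (h i, g i)) with hΓ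
  have hgoodΓ : ∀ p ∈ Γ, Good T p := by
    intro p hp
    rw [hΓ, ← Subgroup.mem_toSubmonoid, Subgroup.closure_toSubmonoid_of_finite] at hp
    induction hp using Submonoid.closure_induction with
    | one => exact good_one T
    | mem p hp => obtain ⟨i, rfl⟩ := hp; exact hgood i
    | mul p p' _ _ e e' => exact good_mul e e'
  have hΓH : ∀ p ∈ Γ, p.1 ∈ H := by
    intro p hp
    have : Γ ≤ H.comap (MonoidHom.fst Co0 (SU n K q)) := by
      rw [hΓ, Subgroup.closure_le]
      rintro _ ⟨i, rfl⟩
      exact hH i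
    exact this hp
  have hsnd : ∀ s : SU n K q, ∃ p ∈ Γ, p.2 = s := by
    intro s
    have hs : s ∈ Γ.map (MonoidHom.snd Co0 (SU n K q)) := by
      rw [hΓ, MonoidHom.map_closure, ← Set.range_comp]
      show s ∈ Subgroup.closure (Set.range g)
      rw [hgen]; exact Subgroup.mem_top _
    exact hs
  let φ : Γ →* H := ((MonoidHom.fst _ _).comp Γ.subtype).codRestrict H fun p => hΓH p.1 p.2
  let ψ : Γ →* PSU n K q := (QuotientGroup.mk' _).comp ((MonoidHom.snd _ _).comp Γ.subtype)
  have hψ : Function.Surjective ψ := by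
    intro x
    obtain ⟨s, rfl⟩ := QuotientGroup.mk'_surjective _ x
    obtain ⟨p, hp, rfl⟩ := hsnd s
    exact ⟨⟨p, hp⟩, rfl⟩
  have hle : φ.ker ≤ ψ.ker := by
    rcases ((inferInstance : φ.ker.Normal).map ψ hψ).eq_bot_or_eq_top with e | e
    · exact (Subgroup.map_eq_bot_iff _).1 e
    · exfalso
      obtain ⟨p, hp, hp2⟩ : QuotientGroup.mk' _ (g i0) ∈ φ.ker.map ψ := by
        rw [e]; exact Subgroup.mem_top _
      have h1 : (p : Co0 × SU n K q).1 = 1 := congrArg Subtype.val hp
      obtain ⟨l, hl⟩ := (mem_center_iff_scalar hF (by omega)).1 (QuotientGroup.eq.1 hp2)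
      change suMat ((p : Co0 × SU n K q).2⁻¹ * g i0) = l • 1 at hl
      obtain ⟨B', hB', hspan⟩ := hgoodΓ _ p.2 y0 B0 hy0
      rw [h1, one_smul] at hB'
      rw [uniq_of_ok huniq hB'] at hspan
      have hperp : spanL B0 ≤ perp q {b} := by
        rw [spanL, Submodule.span_le]
        intro x hx w hw
        rw [Set.mem_singleton_iff] at hw
        subst hw
        exact hB x hx
      have e2 : suMat (g i0) *ᵥ a = l • (suMat (p : Co0 × SU n K q).2 *ᵥ a) := by
        have h' : g i0 = (p : Co0 × SU n K q).2 * ((p : Co0 × SU n K q).2⁻¹ * g i0) := by group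
        rw [h', suMat_mulVec_mul, hl, smul_mulVec, one_mulVec, mulVec_smul]
      exact hne (by rw [e2, h_smul_left, hperp (hspan a ha) b rfl, mul_zero])
  have hψr : ψ.ker.index = Nat.card (PSU n K q) := by
    rw [Subgroup.index_ker, MonoidHom.range_eq_top.2 hψ, Subgroup.card_top]
  haveI : Finite Γ := inferInstance
  have hφi : φ.ker.index ≤ Nat.card H := by
    rw [Subgroup.index_ker]
    exact Nat.le_of_dvd Nat.card_pos (Subgroup.card_subgroup_dvd_card _)
  have hrel : φ.ker.relIndex ψ.ker * ψ.ker.index = φ.ker.index := Subgroup.relIndex_mul_index hle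
  have heq : φ.ker = ψ.ker := by
    refine le_antisymm hle (Subgroup.relIndex_eq_one.1 ?_)
    have h0 : φ.ker.relIndex ψ.ker ≠ 0 := Subgroup.FiniteIndex.index_ne_zero
    have hpos : 0 < ψ.ker.index := by rw [hψr]; exact Nat.card_pos
    by_contra hne1
    have h2 : 2 * ψ.ker.index ≤ φ.ker.index :=
      hrel ▸ Nat.mul_le_mul_right _ (by omega)
    omega
  have hφ : Function.Surjective φ := by
    refine MonoidHom.range_eq_top.1 (Subgroup.eq_top_of_card_eq _ ?_)
    rw [← Subgroup.index_ker, heq, hψr, hcard]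
  exact ⟨((QuotientGroup.quotientKerEquivOfSurjective φ hφ).symm.trans
    (QuotientGroup.quotientMulEquivOfEq heq)).trans
    (QuotientGroup.quotientKerEquivOfSurjective ψ hψ)⟩

end Main

/-- `PSU` over fields of the same order are isomorphic -/
theorem psu_transport {K F : Type} [Field K] [Fintype K] [Field F] [Fintype F] (n q : ℕ)
    (h : Fintype.card K = Fintype.card F) : Nonempty (PSU n K q ≃* PSU n F q) := by
  let e := H64.suCongr n q (FiniteField.ringEquivOfCardEq h)
  refine ⟨QuotientGroup.congr _ _ e ?_⟩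
  ext x
  rw [Subgroup.mem_map, Subgroup.mem_center_iff]
  constructor
  · rintro ⟨z, hz, rfl⟩ g
    obtain ⟨k, rfl⟩ := e.surjective g
    show e k * e z = e z * e k
    rw [← map_mul, ← map_mul, Subgroup.mem_center_iff.mp hz k]
  · intro hx
    obtain ⟨z, rfl⟩ := e.surjective x
    refine ⟨z, Subgroup.mem_center_iff.mpr fun k => e.injective ?_, rfl⟩
    rw [map_mul, map_mul]; exact hx (e k)

end H50.LeechU
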