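import Cfsg.Agent.H50.OrCovering
import Cfsg.Agent.H50.SCFour
import Cfsg.Agent.H50.SpCovering
import Cfsg.Agent.H50.Simple
import Cfsg.Agent.H76.SLnExtensions
import Cfsg.Agent.H38.Omega5
import Cfsg.Agent.H38.Omega6
import Cfsg.Agent.H38.Omega6Minus
import Cfsg.Agent.H43.Simple

/-!
Central extensions of `Ω` of order prime to `p`: the small groups covered by `Sp₄`, `SL₄`, `SU₄`,
and the bound in all dimensions.
-/

set_option autoImplicit false

namespace H50.Or

open H43 H50.CExt
open scoped commutatorElement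

universe u v w s

section cover

variable {F : Type u} [Field F] [Finite F] {V : Type w} [AddCommGroup V] [Module F V]
  [FiniteDimensional F V] {Q : QuadraticForm F V} {p : ℕ} [Fact p.Prime]

/-- A covering group without extensions bounds the extensions of `Ω`. -/
theorem bd_of_cover {S : Type s} [Group S] [Finite S] (ψ : S →* Om Q) (hψ : Function.Surjective ψ)
    (hψc : ψ.ker ≤ Subgroup.center S) {g : ℕ} (hg : Nat.card ψ.ker ∣ g) (hpg : ¬ p ∣ g)
    (hS : ∀ (Γ : Type (max v s)) [Group Γ] [Finite Γ] (τ : Γ →* S), Function.Surjective τ →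
      τ.ker ≤ Subgroup.center Γ → ¬ p ∣ Nat.card τ.ker → Split p τ ⊤) :
    Bd.{u, v, w} p Q g := by
  intro Γ _ _ σ hs hc hcop
  haveI : Finite (Om Q) := Finite.of_surjective ψ hψ
  let P : Subgroup (Γ × S) :=
    (σ.comp (MonoidHom.fst Γ S)).eqLocus (ψ.comp (MonoidHom.snd Γ S))
  let π1 : P →* Γ := (MonoidHom.fst Γ S).comp P.subtype
  let π2 : P →* S := (MonoidHom.snd Γ S).comp P.subtype
  have h2s : Function.Surjective π2 := fun s => by
    obtain ⟨a, ha⟩ := hs (ψ s)
    exact ⟨⟨(a, s), ha⟩, rfl⟩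
  have hk : ∀ x : P, x ∈ π2.ker → σ x.1.1 = 1 := fun x hx => by
    have h : σ x.1.1 = ψ x.1.2 := x.2
    rw [h, show x.1.2 = 1 from hx, map_one]
  have h2c : π2.ker ≤ Subgroup.center P := fun x hx => Subgroup.mem_center_iff.2 fun y =>
    Subtype.ext (Prod.ext (Subgroup.mem_center_iff.1 (hc (hk x hx)) y.1.1)
      (show y.1.2 * x.1.2 = x.1.2 * y.1.2 by rw [show x.1.2 = 1 from hx, one_mul, mul_one]))
  have h2p : ¬ p ∣ Nat.card π2.ker := fun h => hcop (h.trans (Subgroup.card_dvd_of_injective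
    ((π1.comp π2.ker.subtype).codRestrict σ.ker fun x => hk x.1 x.2) fun a b hab =>
      Subtype.ext (Subtype.ext (Prod.ext (congrArg (fun z : σ.ker => (z : Γ)) hab)
        ((show a.1.1.2 = 1 from a.2).trans (show b.1.1.2 = 1 from b.2).symm)))))
  have hsplit := hS P π2 h2s h2c h2p
  set N := liftGrp p π2 ⊤ ⊓ ψ.ker.comap π2
  have hN : Nat.card N ∣ g := (Subgroup.card_dvd_of_injective
    ((π2.comp N.subtype).codRestrict ψ.ker fun x => x.2.2) fun a b hab =>
      Subtype.ext (hsplit.inj p π2 a.2.1 b.2.1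
        (congrArg (fun z : ψ.ker => (z : S)) hab))).trans hg
  refine (Subgroup.card_dvd_of_le (K := N.map π1) ?_).trans
    ((Subgroup.card_map_dvd N π1).trans hN)
  have key : liftGrp p σ ⊤ ≤ (liftGrp p π2 ⊤).map π1 := by
    refine (Subgroup.closure_le _).2 fun y hy => ?_
    obtain ⟨s, ⟨l, hl⟩, hsy⟩ := exists_pEl p ψ hψc (fun h => hpg (h.trans hg)) hψ
      (x := σ y) (hy.1.map p σ)
    obtain ⟨k, hk'⟩ := hy.1
    refine ⟨⟨(y, s), hsy.symm⟩, mem_liftGrp p π2 ⟨k + l, Subtype.ext ?_⟩ trivial, rfl⟩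
    show (y, s) ^ p ^ (k + l) = (1, 1)
    rw [Prod.pow_mk, pow_add, pow_mul, hk', one_pow, mul_comm, pow_mul, hl, one_pow]
  rintro a ⟨ha, hka⟩
  obtain ⟨b, hb, rfl⟩ := key ha
  refine ⟨b, ⟨hb, ?_⟩, rfl⟩
  show ψ b.1.2 = 1
  exact (show σ b.1.1 = ψ b.1.2 from b.2).symm.trans hka

end cover

section iso

variable {F : Type u} [Field F] [Finite F] {ι : Type} [Fintype ι] [DecidableEq ι]
  {Q : QuadraticForm F (ι → F)} {p : ℕ} [Fact p.Prime]

/-- The same for a covering of the matrix group. -/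
theorem bd_of_matrix_cover {f : (ι → F) → F} (hf : ⇑Q = f) {S : Type s} [Group S] [Finite S]
    (ψ : S →* Cfsg.isometryGroup F f) (hrange : ψ.range = Cfsg.Omega F f)
    (hψc : ψ.ker ≤ Subgroup.center S) {g : ℕ} (hg : Nat.card ψ.ker ∣ g) (hpg : ¬ p ∣ g)
    (hS : ∀ (Γ : Type (max v s)) [Group Γ] [Finite Γ] (τ : Γ →* S), Function.Surjective τ →
      τ.ker ≤ Subgroup.center Γ → ¬ p ∣ Nat.card τ.ker → Split p τ ⊤) :
    Bd.{u, v, u} p Q g := by
  subst hf
  let ψ0 := ψ.codRestrict (Cfsg.Omega F ⇑Q) fun x => hrange ▸ ⟨x, rfl⟩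
  let ψ' : S →* Om Q := (omegaEquiv Q).toMonoidHom.comp ψ0
  have hk : ∀ x, ψ' x = 1 ↔ ψ x = 1 := fun x => by
    simp only [ψ', MonoidHom.comp_apply, MulEquiv.coe_toMonoidHom, MulEquiv.map_eq_one_iff]
    exact ⟨fun h => congrArg Subtype.val h, fun h => Subtype.ext h⟩
  have hker : ψ'.ker = ψ.ker := by ext x; exact hk x
  refine bd_of_cover ψ' ((omegaEquiv Q).surjective.comp fun y => ?_) (hker ▸ hψc) (hker ▸ hg) hpg hS
  obtain ⟨x, hx⟩ := (hrange.symm ▸ y.2 : y.1 ∈ ψ.range)
  exact ⟨x, Subtype.ext hx⟩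

end iso

section split

variable {Γ G : Type*} [Group Γ] [Group G] [Finite Γ] [Finite G] {p : ℕ} [Fact p.Prime]
  (σ : Γ →* G) (hs : Function.Surjective σ) (hc : σ.ker ≤ Subgroup.center Γ)
  (hcop : ¬ p ∣ Nat.card σ.ker)
include hc hcop

/-- An extension with a section is split. -/
theorem split_of_section (s : G →* Γ) (h : ∀ x, σ (s x) = x) : Split p σ ⊤ := by
  refine eq_bot_iff.2 fun a ⟨ha, hka⟩ => Subgroup.mem_bot.2 ?_
  obtain ⟨x, rfl⟩ : a ∈ s.range := by
    refine (Subgroup.closure_le _).2 ?_ ha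
    exact fun y hy => ⟨σ y, pEl_inj p σ hc hcop ((hy.1.map p σ).map p s) hy.1 (h _)⟩
  rw [show x = 1 from (h x).symm.trans hka, map_one]

include hs in
/-- An abelian subgroup of order nine with an element inverting one generator and fixing the other. -/
theorem eq_one_of_nine {a b t : G} (ha : orderOf a = 3) (hb : orderOf b = 3) (hab : Commute a b)
    (hta : t * a * t⁻¹ = a⁻¹) (htb : t * b * t⁻¹ = b) {i : ℕ} (hcard : Nat.card G = 9 * i)
    (hi : ¬ 3 ∣ i) {z : Γ} (hzc : z ∈ commutator Γ) (hzk : σ z = 1) (hz3 : z ^ 3 = 1) : z = 1 := by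
  haveI := Fact.mk Nat.prime_three
  set H := Subgroup.zpowers a ⊔ Subgroup.zpowers b with hH
  have hdisj : ∀ g ∈ Subgroup.zpowers a, g ∈ Subgroup.zpowers b → g = 1 := by
    intro g hga hgb
    obtain ⟨i, hi⟩ := Subgroup.mem_zpowers_iff.1 hga
    obtain ⟨j, hj⟩ := Subgroup.mem_zpowers_iff.1 hgb
    have h1 : t * g * t⁻¹ = g⁻¹ := by rw [← hi, ← conj_zpow, hta, inv_zpow]
    have h2 : t * g * t⁻¹ = g := by rw [← hj, ← conj_zpow, htb]
    have h3 : g ^ 2 = 1 := by rw [sq, mul_eq_one_iff_eq_inv, ← h1, h2]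
    have h4 : g ^ 3 = 1 := by
      rw [← hi, ← zpow_natCast, ← zpow_mul, mul_comm, zpow_mul, zpow_natCast,
        ← ha, pow_orderOf_eq_one, one_zpow]
    rw [pow_succ, h3, one_mul] at h4
    exact h4
  have hnorm : Subgroup.zpowers b ≤ Subgroup.normalizer (Subgroup.zpowers a : Set G) := by
    refine Subgroup.zpowers_le.2 (Subgroup.mem_normalizer_iff.2 fun x => ⟨fun hx => ?_, fun hx => ?_⟩)
    · obtain ⟨i, rfl⟩ := Subgroup.mem_zpowers_iff.1 hx
      rw [← conj_zpow, hab.eq.symm, mul_inv_cancel_right]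
      exact zpow_mem (Subgroup.mem_zpowers a) i
    · obtain ⟨i, hi⟩ := Subgroup.mem_zpowers_iff.1 hx
      refine Subgroup.mem_zpowers_iff.2 ⟨i, ?_⟩
      have h := (hab.zpow_left i).eq
      rw [hi] at h ⊢
      simp only [mul_assoc, inv_mul_cancel, mul_one, mul_left_cancel_iff] at h
      rw [mul_assoc]
      exact h.symm
  have hidx : ¬ 3 ∣ H.index := by
    rwa [SCBase.index_eq_of_card (i := i)]
    rw [hcard, hH, SCBase.card_sup_eq hnorm hdisj, Nat.card_zpowers, Nat.card_zpowers, ha, hb]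
  obtain ⟨A, rfl⟩ := hs a
  obtain ⟨B, rfl⟩ := hs b
  obtain ⟨T, rfl⟩ := hs t
  set c := ⁅A, B⁆ with hcd
  have hck : σ c = 1 := by
    rw [hcd, map_commutatorElement, commutatorElement_eq_one_iff_commute]; exact hab
  have hcc : ∀ x, Commute c x := fun x => (Subgroup.mem_center_iff.1 (hc hck) x).symm
  have hA3 : A ^ 3 ∈ Subgroup.center Γ := hc (by
    rw [MonoidHom.mem_ker, map_pow, ← ha, pow_orderOf_eq_one])
  have hcc' : A * B * A⁻¹ = c * B := by rw [hcd, commutatorElement_def, inv_mul_cancel_right]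
  have hc3 : c ^ 3 = 1 := by
    have key : ∀ n : ℕ, A ^ n * B * (A ^ n)⁻¹ = c ^ n * B := by
      intro n
      induction n with
      | zero => simp
      | succ n ih =>
        rw [pow_succ', show A * A ^ n * B * (A * A ^ n)⁻¹ = A * (A ^ n * B * (A ^ n)⁻¹) * A⁻¹ by group,
          ih, ← mul_assoc, ← ((hcc A).pow_left n).eq, mul_assoc, mul_assoc, ← mul_assoc A, hcc',
          ← mul_assoc, ← pow_succ]
    have h3 := key 3
    rw [← Subgroup.mem_center_iff.1 hA3 B, mul_inv_cancel_right] at h3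
    exact mul_right_cancel (h3.symm.trans (one_mul B).symm)
  have hc2 : c ^ 2 = 1 := by
    set z1 := T * A * T⁻¹ * A with hz1
    set z2 := T * B * T⁻¹ * B⁻¹ with hz2
    have h1 : z1 ∈ Subgroup.center Γ := hc (by
      rw [MonoidHom.mem_ker, hz1, map_mul, map_mul, map_mul, map_inv, hta, inv_mul_cancel])
    have h2 : z2 ∈ Subgroup.center Γ := hc (by
      rw [MonoidHom.mem_ker, hz2, map_mul, map_mul, map_mul, map_inv, map_inv, htb, mul_inv_cancel])
    have e : T * c * T⁻¹ = ⁅z1 * A⁻¹, z2 * B⁆ := by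
      rw [hz1, hz2, hcd, conjugate_commutatorElement, mul_inv_cancel_right, inv_mul_cancel_right]
    rw [← (hcc T).eq, mul_inv_cancel_right] at e
    have hz : ∀ z ∈ Subgroup.center Γ, ∀ x y : Γ, ⁅z * x, y⁆ = ⁅x, y⁆ ∧ ⁅x, z * y⁆ = ⁅x, y⁆ := by
      intro z hz x y
      constructor
      · rw [commutatorElement_def, commutatorElement_def, mul_inv_rev,
          show z * x * y * (x⁻¹ * z⁻¹) * y⁻¹ = z * (x * y * x⁻¹ * z⁻¹) * y⁻¹ by group,
          ← Subgroup.mem_center_iff.1 hz]
        group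
      · rw [commutatorElement_def, commutatorElement_def, mul_inv_rev,
          show x * (z * y) * x⁻¹ * (y⁻¹ * z⁻¹) = x * z * (y * x⁻¹ * y⁻¹) * z⁻¹ by group,
          Subgroup.mem_center_iff.1 hz x, mul_assoc z, ← Subgroup.mem_center_iff.1 hz]
        group
    rw [(hz z1 h1 _ _).1, (hz z2 h2 _ _).2] at e
    have e' : ⁅A⁻¹, B⁆ = c⁻¹ := by
      rw [show ⁅A⁻¹, B⁆ = A⁻¹ * c⁻¹ * A by rw [hcd]; simp [commutatorElement_def, mul_assoc],
        mul_assoc, ((hcc A).inv_left).eq, inv_mul_cancel_left]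
    rw [e'] at e
    rw [sq]; exact mul_eq_one_iff_eq_inv.2 e
  have hc1 : c = 1 := by rwa [pow_succ, hc2, one_mul] at hc3
  have hz := mem_commutator_comap σ hs hc hidx hzc hzk hz3
  have hle : H.comap σ ≤ Subgroup.closure ({A, B} ∪ (σ.ker : Set Γ)) := by
    rw [hH, show Subgroup.zpowers (σ A) ⊔ Subgroup.zpowers (σ B) =
        (Subgroup.closure {A, B}).map σ by
      rw [MonoidHom.map_closure, Set.image_pair, Set.insert_eq, Subgroup.closure_union,
        Subgroup.zpowers_eq_closure, Subgroup.zpowers_eq_closure], Subgroup.comap_map_eq]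
    exact sup_le (Subgroup.closure_mono Set.subset_union_left)
      fun x hx => Subgroup.subset_closure (Or.inr hx)
  have h0 : z ∈ (⊥ : Subgroup Γ) := by
    refine SCBase.commutator_le_of_gen bot_le ?_ ?_ (Subgroup.commutator_mono hle hle hz)
    · intro x _
      rw [Subgroup.mem_normalizer_iff]
      intro y
      simp [mul_inv_eq_one]
    · intro x hx y hy
      rw [Subgroup.mem_bot, commutatorElement_eq_one_iff_commute]
      have hAB : Commute A B := commutatorElement_eq_one_iff_commute.1 hc1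
      have hk : ∀ k ∈ σ.ker, ∀ w, Commute k w := fun k hk w =>
        (Subgroup.mem_center_iff.1 (hc hk) w).symm
      rcases hx with (rfl | rfl) | hx <;> rcases hy with (rfl | rfl) | hy
      exacts [Commute.refl _, hAB, (hk _ hy _).symm, hAB.symm, Commute.refl _, (hk _ hy _).symm,
        hk _ hx _, hk _ hx _, hk _ hx _]
  exact Subgroup.mem_bot.1 h0

end split

section base

variable (p : ℕ) [Fact p.Prime] {F : Type u} [Field F] [Fintype F] [CharP F p]

theorem not_dvd_gcd_two : ¬ p ∣ Nat.gcd 2 (Fintype.card F - 1) := by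
  intro h
  obtain ⟨n, hp, hq⟩ := FiniteField.card F p
  have h1 : p ∣ Fintype.card F := by rw [hq]; exact dvd_pow_self p n.ne_zero
  have h2 := Nat.dvd_sub h1 (h.trans (Nat.gcd_dvd_right 2 (Fintype.card F - 1)))
  rw [show Fintype.card F - (Fintype.card F - 1) = 1 by
    have := Fintype.one_lt_card (α := F); omega] at h2
  exact hp.not_dvd_one h2

/-- `SL₄(2)` has no central extension of odd order. -/
theorem sl_four_two (hq : Fintype.card F = 2) (Γ : Type v) [Group Γ] [Finite Γ]
    (σ : Γ →* Matrix.SpecialLinearGroup (Fin 4) F) (hs : Function.Surjective σ)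
    (hc : σ.ker ≤ Subgroup.center Γ) (hcop : ¬ p ∣ Nat.card σ.ker) : Split p σ ⊤ := by
  classical
  have hcard : Nat.card (Matrix.SpecialLinearGroup (Fin 4) F) = 20160 := by
    rw [H38.card_SL_four, hq]; norm_num
  have hp2 : p = 2 := by
    obtain ⟨n, hp, h⟩ := FiniteField.card F p
    rw [hq] at h
    exact (Nat.prime_dvd_prime_iff_eq hp Nat.prime_two).1 (h ▸ dvd_pow_self p n.ne_zero)
  refine split_top_of_comm p σ hc hcop fun ℓ hℓ hℓp z hzc hzk hzl => ?_
  haveI := Fact.mk hℓ
  have hl : ∀ k, ℓ ∣ k ^ 1 → Nat.Prime k → ℓ = k := fun k h hk =>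
    (Nat.prime_dvd_prime_iff_eq hℓ hk).1 (pow_one k ▸ h)
  by_cases h3 : ℓ = 3
  · subst h3
    haveI : CharP F 2 := hp2 ▸ (inferInstance : CharP F p)
    let e : Matrix.SpecialLinearGroup (Fin 4) (ZMod 2) →* Matrix.SpecialLinearGroup (Fin 4) F :=
      Matrix.SpecialLinearGroup.map (ZMod.castHom (dvd_refl 2) F)
    have hinj : Function.Injective e := fun x y h => Subtype.ext (Matrix.map_injective
      (ZMod.castHom (dvd_refl 2) F).injective (congrArg Subtype.val h))
    let a : Matrix.SpecialLinearGroup (Fin 4) (ZMod 2) :=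
      ⟨!![0, 1, 0, 0; 1, 1, 0, 0; 0, 0, 1, 0; 0, 0, 0, 1], by decide⟩
    let b : Matrix.SpecialLinearGroup (Fin 4) (ZMod 2) :=
      ⟨!![1, 0, 0, 0; 0, 1, 0, 0; 0, 0, 0, 1; 0, 0, 1, 1], by decide⟩
    let t : Matrix.SpecialLinearGroup (Fin 4) (ZMod 2) :=
      ⟨!![0, 1, 0, 0; 1, 0, 0, 0; 0, 0, 1, 0; 0, 0, 0, 1], by decide⟩
    have ha : orderOf a = 3 := orderOf_eq_prime (by decide) (fun h => by simpa [a] using congrFun (congrFun (congrArg Subtype.val h) 0) 1)
    have hb : orderOf b = 3 := orderOf_eq_prime (by decide) (fun h => by simpa [b] using congrFun (congrFun (congrArg Subtype.val h) 2) 3)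
    have hta : t * a = a⁻¹ * t := by decide
    have htb : t * b = b * t := by decide
    refine eq_one_of_nine σ hs hc hcop (a := e a) (b := e b) (t := e t) (i := 2240)
      (by rw [orderOf_injective e hinj, ha]) (by rw [orderOf_injective e hinj, hb])
      (Commute.map (show a * b = b * a by decide) e) ?_ ?_ (by rw [hcard]) (by norm_num) hzc hzk hzl
    · rw [← map_inv, ← map_mul, ← map_mul, ← map_inv, hta, mul_inv_cancel_right]
    · rw [← map_inv, ← map_mul, ← map_mul, htb, mul_inv_cancel_right]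
  · by_cases hd : ℓ ∣ Nat.card (Matrix.SpecialLinearGroup (Fin 4) F)
    · obtain ⟨g, hg⟩ := exists_prime_orderOf_dvd_card' ℓ hd
      refine SCBase.eq_one_of_zpowers σ hs hc hcop g ?_ hzc hzk hzl
      rw [SCBase.index_eq_of_card (i := 20160 / ℓ) (by
        rw [Nat.card_zpowers, hg, hcard]; exact (Nat.mul_div_cancel' (hcard ▸ hd)).symm)]
      have h57 : ℓ = 5 ∨ ℓ = 7 := by
        rw [hcard, show 20160 = 2 ^ 6 * 3 ^ 2 * 5 * 7 by norm_num] at hd
        rcases (Nat.Prime.dvd_mul hℓ).1 hd with h | h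
        · rcases (Nat.Prime.dvd_mul hℓ).1 h with h | h
          · rcases (Nat.Prime.dvd_mul hℓ).1 h with h | h
            · exact absurd (hl 2 ((pow_one 2).symm ▸ hℓ.dvd_of_dvd_pow h) Nat.prime_two) (hp2 ▸ hℓp)
            · exact absurd (hl 3 ((pow_one 3).symm ▸ hℓ.dvd_of_dvd_pow h) Nat.prime_three) h3
          · exact Or.inl (hl 5 ((pow_one 5).symm ▸ h) (by norm_num))
        · exact Or.inr (hl 7 ((pow_one 7).symm ▸ h) (by norm_num))
      rcases h57 with rfl | rfl <;> norm_num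
    · refine SCBase.eq_one_of_zpowers σ hs hc hcop 1 ?_ hzc hzk hzl
      rw [Subgroup.zpowers_one_eq_bot, Subgroup.index_bot]
      exact hd

/-- The bound in dimension five. -/
theorem bd_five (hodd : Odd (Fintype.card F)) :
    Bd.{u, v, u} p (qOdd 2 F) (Nat.gcd 2 (Fintype.card F - 1)) := by
  classical
  have h2 : (2 : F) ≠ 0 := H38.two_ne_zero_of_odd hodd
  have h3 : 3 ≤ Fintype.card F := by
    have := Fintype.one_lt_card (α := F)
    obtain ⟨c, hc⟩ := hodd
    omega
  let ψ := H38.liftIso (f := Cfsg.quadFormOdd 2 F) (Q' := fun v => H38.pf4 (H38.emb5 (F := F) v))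
    (LinearEquiv.refl F _) id Function.injective_id (fun v => H38.pf4_emb v)
    (H38.autOfEnd H38.spEnd) H38.spEnd_mem
  have hmem : ∀ g, ψ g = 1 ↔ ∃ c : F, c ^ 2 = 1 ∧
      (g : Matrix (Fin 2 ⊕ Fin 2) (Fin 2 ⊕ Fin 2) F) = Matrix.scalar _ c := fun g =>
    (H38.liftIso_eq_one _ _ _ _ _ _ g).trans ((H38.autOfEnd_eq_one_iff _ g).trans (H38.spEnd_eq_self_iff h2 g))
  have hker : Nat.card ψ.ker = Nat.gcd 2 (Fintype.card F - 1) := by
    rw [← H38.card_sq_eq_one (F := F)]
    exact (Nat.card_eq_of_bijective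
      (fun c : {c : F // c ^ 2 = 1} =>
        (⟨⟨Matrix.scalar _ c.1, H38.scalar_mem_symplectic c.2⟩, (hmem _).mpr ⟨c.1, c.2, rfl⟩⟩ : ψ.ker))
      ⟨fun c d h => Subtype.ext (Matrix.scalar_inj.mp
          (congrArg (fun g : ψ.ker => (g.1 : Matrix (Fin 2 ⊕ Fin 2) (Fin 2 ⊕ Fin 2) F)) h)),
       fun g => by
        obtain ⟨c, hc, hg⟩ := (hmem _).mp g.2
        exact ⟨⟨c, hc⟩, Subtype.ext (Subtype.ext hg.symm)⟩⟩).symm
  have hperf : commutator (Matrix.symplecticGroup (Fin 2) F) = ⊤ :=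
    H48.perfect (Or.inr (Or.inl ⟨by simp, h3⟩))
  have hgen : H43.ReflGenerates F (Unit ⊕ (Fin 2 ⊕ Fin 2) → F) :=
    H43.reflGenerates_of_two_ne_zero h2
  have hle : Nat.card (Cfsg.Omega F (Cfsg.quadFormOdd 2 F)) * Nat.card ψ.ker ≤
      Nat.card (Matrix.symplecticGroup (Fin 2) F) := by
    have h1 := (Cfsg.Omega F (Cfsg.quadFormOdd 2 F)).card_mul_index
    rw [H38.omega_index_gcd (H43.coe_qOdd 2 F) (H43.qOdd_nondeg h2 2) hgen (by simp), H38.card_odd h2 2] at h1
    rw [hker, H48.card_sp, Fintype.card_fin]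
    simp only [Finset.prod_range_succ, Finset.prod_range_zero, zero_add, one_mul, mul_one] at h1 ⊢
    exact le_of_eq (Nat.eq_of_mul_eq_mul_left (show 0 < 2 by norm_num) (by linear_combination h1))
  have hrange := H38.range_eq_Omega_of_perfect hperf ψ hle
  refine bd_of_matrix_cover (H43.coe_qOdd 2 F) ψ hrange (fun g hg => ?_) (dvd_of_eq hker)
    (not_dvd_gcd_two p) fun Γ _ _ τ a b c => SpCovering.scp_all 2 (by norm_num) Γ τ a b c
  obtain ⟨c, hc, hA⟩ := (hmem g).mp hg
  refine Subgroup.mem_center_iff.mpr fun x => Subtype.ext ?_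
  show (x : Matrix (Fin 2 ⊕ Fin 2) (Fin 2 ⊕ Fin 2) F) * g = g * x
  rw [hA]
  exact (Matrix.scalar_commute c (fun r => Commute.all c r) _).symm.eq

/-- The bound in dimension six, plus type. -/
theorem bd_six_plus : Bd.{u, v, u} p (qPlus 3 F) (Nat.gcd 2 (Fintype.card F - 1)) := by
  classical
  let S := Matrix.SpecialLinearGroup (Fin 4) F
  let ψ := H38.liftIso (f := Cfsg.quadFormPlus 3 F) (Q' := H38.pf4) (LinearEquiv.refl F _) id
    Function.injective_id (fun v => H38.pf4_eq v) (H38.autOfEnd H38.altEnd) H38.altEnd_mem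
  have hmem : ∀ g : Matrix.SpecialLinearGroup (Fin 4) F, ψ g = 1 ↔
      ∃ c : F, c ^ 2 = 1 ∧ (g : Matrix (Fin 4) (Fin 4) F) = Matrix.scalar (Fin 4) c := fun g => by
    exact (H38.liftIso_eq_one _ _ _ _ _ _ g).trans ((H38.autOfEnd_eq_one_iff _ g).trans (H38.altEnd_eq_self_iff g))
  have hker : Nat.card ψ.ker = Nat.gcd 2 (Fintype.card F - 1) :=
    H38.card_ker_scalar (by simp; decide) ψ hmem
  have hperf : commutator S = ⊤ := H37.commutator_SL_eq_top (by simp)
  have hgen : H43.ReflGenerates F (Fin 3 ⊕ Fin 3 → F) :=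
    H43.reflGenerates_of_card (Or.inr (by rw [H43.finrank_qPlus]; omega))
  have hle : Nat.card (Cfsg.Omega F (Cfsg.quadFormPlus 3 F)) * Nat.card ψ.ker ≤ Nat.card S := by
    have h1 := (Cfsg.Omega F (Cfsg.quadFormPlus 3 F)).card_mul_index
    rw [H38.omega_index_gcd (H43.coe_qPlus 3 F) (H43.qPlus_nondeg 3) hgen (by simp), H38.card_plus 2] at h1
    rw [hker, H38.card_SL_four]
    simp only [Finset.prod_range_succ, Finset.prod_range_zero, zero_add, one_mul, mul_one] at h1
    exact le_of_eq (Nat.eq_of_mul_eq_mul_left (show 0 < 2 by norm_num) (by linear_combination h1))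
  have hrange := H38.range_eq_Omega_of_perfect hperf ψ hle
  refine bd_of_matrix_cover (H43.coe_qPlus 3 F) ψ hrange (fun g hg => ?_) (dvd_of_eq hker)
    (not_dvd_gcd_two p) fun Γ _ _ τ hs hc hcop => ?_
  · obtain ⟨c, hc, hA⟩ := (hmem g).mp hg
    refine Matrix.SpecialLinearGroup.mem_center_iff.mpr ⟨c, ?_, hA.symm⟩
    rw [Fintype.card_fin, show (4 : ℕ) = 2 * 2 from rfl, pow_mul, hc, one_pow]
  · by_cases hq : Fintype.card F = 2
    · exact sl_four_two p hq Γ τ hs hc hcop
    · obtain ⟨s, h⟩ := H76.SLn.exists_section (n := 4) (by norm_num) τ (by simp [hq]) hs hc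
      exact split_of_section τ hc hcop s h

/-- The bound in dimension six, minus type. -/
theorem bd_six_minus (a b : F)
    (hab : ∀ z₁ z₂ : F, z₁ ^ 2 + a * z₁ * z₂ + b * z₂ ^ 2 = 0 → z₁ = 0 ∧ z₂ = 0) :
    Bd.{u, v, u} p (qMinus 2 F a b) (Nat.gcd 2 (Fintype.card F - 1)) := by
  classical
  obtain ⟨n, hp, hF⟩ := FiniteField.card F p
  set q := p ^ (n : ℕ) with hqdef
  have hn : 2 * (n : ℕ) ≠ 0 := by have := n.pos; omega
  obtain ⟨K, _, _, hK⟩ : ∃ (K : Type) (_ : Field K) (_ : Fintype K), Fintype.card K = q ^ 2 :=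
    letI : Fintype (GaloisField p (2 * n)) := Fintype.ofFinite _
    ⟨GaloisField p (2 * n), inferInstance, inferInstance, by
      rw [← Nat.card_eq_fintype_card, GaloisField.card p _ hn, hqdef, ← pow_mul, mul_comm]⟩
  haveI : CharP K p := charP_of_card_eq_prime_pow (f := (n : ℕ) * 2) (by
    rw [hK, hqdef, ← pow_mul])
  obtain ⟨ι, θ, -, hθq, hθn, hbij, hfixq, hnorm⟩ := H38.exists_quadExt hF hK a b hab
  letI : Algebra F K := ι.toAlgebra
  let σ : K →ₐ[F] K := FiniteField.frobeniusAlgHom F K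
  have hσq : ∀ z, σ z = z ^ q := fun z => by simp [σ, hF]
  have hσ : ∀ z, σ (σ z) = z := fun z => by
    rw [hσq, hσq, ← pow_mul, ← sq, ← hK, FiniteField.pow_card]
  have hq : 2 ≤ q := hF ▸ Fintype.one_lt_card
  have hN : ∀ z, z * σ z = z ^ (q + 1) := fun z => by rw [hσq, pow_succ']
  have hθ : σ θ ≠ θ := fun h => by
    obtain ⟨x, hx⟩ := (hfixq θ).mp (by rw [← hσq, h])
    exact hθn x hx
  have hσι : ∀ x : F, σ (ι x) = ι x := fun x => σ.commutes x
  set δ := θ - σ θ with hδ
  have hδ0 : δ ≠ 0 := sub_ne_zero.mpr (Ne.symm hθ)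
  -- two different elements of norm `-1`
  have hfix1 : (-1 : K) ^ q = -1 := by rw [← hσq, map_neg, map_one]
  have hcard : 1 < Nat.card {x : K // x ^ (q + 1) = (-1 : K)} := by
    rw [H50.card_norm_eq hK hfix1 (neg_ne_zero.mpr one_ne_zero)]; omega
  obtain ⟨⟨c, hc⟩, ⟨d, hd⟩, hcd⟩ := (Finite.one_lt_card_iff_nontrivial.mp hcard).exists_pair_ne
  rw [← hN] at hc hd
  have hcd' : c ≠ d := fun h => hcd (Subtype.ext h)
  have hk : 1 + c * σ d ≠ 0 := fun h => hcd' (by linear_combination c * hd - d * h)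
  let zf : ((Fin 2 ⊕ Fin 2) ⊕ Fin 2 → F) → K := fun v =>
    algebraMap F K (v (.inl (.inl 0))) + algebraMap F K (v (.inl (.inl 1))) * θ
  let wf : ((Fin 2 ⊕ Fin 2) ⊕ Fin 2 → F) → K := fun v =>
    σ ((algebraMap F K (v (.inl (.inr 0))) * (-σ θ / δ) + algebraMap F K (v (.inl (.inr 1))) * (1 / δ)) /
      (1 + c * σ d))
  let E : ((Fin 2 ⊕ Fin 2) ⊕ Fin 2 → F) →ₗ[F] (Fin 3 → K) :=
    { toFun := fun v => ![zf v + wf v, c * zf v + d * wf v,
        ι (v (.inr 0)) + ι (v (.inr 1)) * θ]
      map_add' := fun u v => funext fun i => by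
        fin_cases i <;> simp [zf, wf, map_add, add_mul, add_div, mul_add] <;> ring
      map_smul' := fun t v => funext fun i => by
        fin_cases i <;> simp [zf, wf, Algebra.smul_def, RingHom.algebraMap_toAlgebra, hσι] <;> ring }
  have hEinj : Function.Injective E := by
    rw [injective_iff_map_eq_zero]
    intro v hv
    have h0 : zf v + wf v = 0 := congr_fun hv 0
    have h1 : c * zf v + d * wf v = 0 := congr_fun hv 1
    have h2 : ι (v (.inr 0)) + ι (v (.inr 1)) * θ = 0 := congr_fun hv 2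
    have hw : wf v = 0 := by
      have : (d - c) * wf v = 0 := by linear_combination h1 - c * h0
      exact (mul_eq_zero.mp this).resolve_left (sub_ne_zero.mpr (Ne.symm hcd'))
    have hz : zf v = 0 := by linear_combination h0 - hw
    have hb := fun x y : F => fun h : ι x + ι y * θ = 0 =>
      Prod.ext_iff.mp (hbij.1 (a₁ := (x, y)) (a₂ := (0, 0)) (by simpa using h))
    have hx := hb _ _ hz
    have hr := hb _ _ h2
    have hy' := (map_eq_zero σ).mp hw
    rw [div_eq_zero_iff, or_iff_left hk, mul_div, mul_one_div, ← add_div, div_eq_zero_iff,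
      or_iff_left hδ0] at hy'
    -- apply the conjugation
    have hy'' := congrArg σ hy'
    simp only [map_add, map_mul, map_neg, map_zero, hσ, AlgHom.commutes] at hy''
    have hy := hb (v (.inl (.inr 1))) (-(v (.inl (.inr 0)))) (by
      simp only [RingHom.algebraMap_toAlgebra] at hy''
      simp only [map_neg]
      linear_combination hy'')
    simp only [neg_eq_zero] at hy
    funext i
    rcases i with (i | i) | i <;> fin_cases i
    exacts [hx.1, hx.2, hy.2, hy.1, hr.1, hr.2]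
  let e : ((Fin 2 ⊕ Fin 2) ⊕ Fin 2 → F) ≃ₗ[F] (Fin 3 → K) :=
    LinearEquiv.ofBijective E ((Fintype.bijective_iff_injective_and_card E).mpr ⟨hEinj, by
      simp only [Fintype.card_fun, Fintype.card_sum, Fintype.card_fin, hF, hK]; ring⟩)
  have he : ∀ v, (fun z => H38.pf4 (H38.emb6 σ z)) (e v) = ι (Cfsg.quadFormMinus 2 F a b v) := fun v => by
    show H38.pf4 (H38.emb6 σ ![zf v + wf v, c * zf v + d * wf v,
      ι (v (.inr 0)) + ι (v (.inr 1)) * θ]) = _
    simp only [H38.pf4, H38.emb6_inl, H38.emb6_inr, Matrix.cons_val_zero, Matrix.cons_val_one,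
      Matrix.cons_val]
    rw [H38.norm_pair_hyp hσ hc hd hk hδ hδ0, hN, hnorm]
    simp [Cfsg.quadFormMinus, Fin.sum_univ_two, RingHom.algebraMap_toAlgebra]
  let ψ := H38.liftIso (f := Cfsg.quadFormMinus 2 F a b) (Q' := fun z => H38.pf4 (H38.emb6 σ z)) e ι
    ι.injective he (H38.autOfEnd (H38.suEnd hσ hσq hK)) (H38.suEnd_mem hσ hσq hK)
  have hmem : ∀ g, ψ g = 1 ↔ ∃ l : K, l ^ 2 = 1 ∧
      (g.1 : Matrix (Fin 4) (Fin 4) K) = Matrix.scalar _ l := fun g =>
    (H38.liftIso_eq_one _ _ _ _ _ _ g).trans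
      ((H38.autOfEnd_eq_one_iff _ g).trans (H38.suEnd_eq_self_iff hσ hσq hK hθ g))
  have hker : Nat.card ψ.ker = Nat.gcd 2 (q - 1) := by
    rw [H38.card_ker_su hσq hK ψ hmem, hK]
    have e : (q ^ 2 - 1) % 2 = (q - 1) % 2 := by
      have h1 : q ^ 2 % 2 = q % 2 := by
        rcases Nat.mod_two_eq_zero_or_one q with h | h <;> simp [Nat.pow_mod, h]
      have h2 : q ≤ q ^ 2 := Nat.le_self_pow two_ne_zero q
      omega
    rw [Nat.gcd_rec 2 (q ^ 2 - 1), Nat.gcd_rec 2 (q - 1), e]
  have hperf : commutator (Cfsg.SU 4 K q) = ⊤ := H50.SU_perfect hK (by norm_num) (by omega)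
  have hgen : H43.ReflGenerates F ((Fin 2 ⊕ Fin 2) ⊕ Fin 2 → F) :=
    H43.reflGenerates_of_card (Or.inr (by simp))
  have hS : Nat.card (Cfsg.SU 4 K q) = q ^ 6 * (q ^ 3 + 1) * ((q ^ 2 - 1) * (q ^ 4 - 1)) := by
    have h1 := H50.card_SU_mul (n := 4) hK (by norm_num)
    rw [H50.card_GU hK] at h1
    simp [Finset.prod_range_succ, parity_simps, -Nat.card_eq_fintype_card] at h1
    apply Nat.eq_of_mul_eq_mul_left (show 0 < q + 1 by omega)
    rw [h1]; ring
  have hle : Nat.card (Cfsg.Omega F (Cfsg.quadFormMinus 2 F a b)) * Nat.card ψ.ker ≤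
      Nat.card (Cfsg.SU 4 K q) := by
    have h1 := (Cfsg.Omega F (Cfsg.quadFormMinus 2 F a b)).card_mul_index
    rw [H38.omega_index_gcd (H43.coe_qMinus 2 F a b) (H43.qMinus_nondeg 2 hab) hgen (by simp),
      H38.card_minus 2 a b hab, hF] at h1
    rw [hker, hS]
    simp only [Finset.prod_range_succ, Finset.prod_range_zero, zero_add, one_mul, mul_one] at h1 ⊢
    exact le_of_eq (Nat.eq_of_mul_eq_mul_left (show 0 < 2 by norm_num) (by linear_combination h1))
  have hrange := H38.range_eq_Omega_of_perfect hperf ψ hle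
  rw [hF]
  refine bd_of_matrix_cover (H43.coe_qMinus 2 F a b) ψ hrange (fun g hg => ?_) (dvd_of_eq hker)
    (hF ▸ not_dvd_gcd_two p) fun Γ _ _ τ h1 h2 h3 => SCFour.scp_four hK Γ τ h1 h2 h3
  obtain ⟨l, hl, hA⟩ := (hmem g).mp hg
  exact (H50.mem_center_iff_scalar hK (by norm_num)).mpr
    ⟨l, hA.trans (Matrix.smul_one_eq_diagonal l).symm⟩

end base

section steps

variable {F : Type u} [Field F]

/-- Padding by zero at the first index. -/
def pad {α : Type*} [Zero α] {m : ℕ} (f : Fin m → α) : Fin (m + 1) → α := Fin.cases 0 f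

theorem exists_frame_plus (m : ℕ) :
    Nonempty (Frame (qPlus (m + 1) F) (Pi.single (Sum.inl 0) 1) (Pi.single (Sum.inr 0) 1)
      (qPlus m F)) := by
  classical
  refine ⟨{
    nd := qPlus_nondeg _
    pair := ⟨?_, ?_, ?_⟩
    j := { toFun := fun w => Sum.elim (pad (w ∘ Sum.inl)) (pad (w ∘ Sum.inr))
           map_add' := fun u v => funext fun i => by
             rcases i with i | i <;> induction i using Fin.cases <;> simp [pad]
           map_smul' := fun c v => funext fun i => by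
             rcases i with i | i <;> induction i using Fin.cases <;> simp [pad] }
    inj := fun u v h => funext fun i => by
      rcases i with i | i
      · simpa [pad] using congrFun h (Sum.inl i.succ)
      · simpa [pad] using congrFun h (Sum.inr i.succ)
    form := fun w => by simp [coe_qPlus, Cfsg.quadFormPlus, Fin.sum_univ_succ, pad]
    orth := fun w => by simp [polB_qPlus, Fin.sum_univ_succ, pad, Pi.single_apply]
    surj := fun z h1 h2 => ⟨z ∘ Sum.map Fin.succ Fin.succ, ?_⟩ }⟩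
  · simp [coe_qPlus, Cfsg.quadFormPlus, Pi.single_apply]
  · simp [coe_qPlus, Cfsg.quadFormPlus, Pi.single_apply]
  · simp [polB_qPlus, Pi.single_apply]
  · simp [polB_qPlus, Fin.sum_univ_succ, Pi.single_apply] at h1 h2
    funext i
    rcases i with i | i <;> induction i using Fin.cases <;> simp [pad, h1, h2]

theorem exists_frame_odd (h2 : (2 : F) ≠ 0) (m : ℕ) :
    Nonempty (Frame (qOdd (m + 1) F) (Pi.single (Sum.inr (Sum.inl 0)) 1)
      (Pi.single (Sum.inr (Sum.inr 0)) 1) (qOdd m F)) := by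
  classical
  refine ⟨{
    nd := qOdd_nondeg h2 _
    pair := ⟨?_, ?_, ?_⟩
    j := { toFun := fun w => Sum.elim (fun i => w (Sum.inl i))
             (Sum.elim (pad fun i => w (Sum.inr (Sum.inl i))) (pad fun i => w (Sum.inr (Sum.inr i))))
           map_add' := fun u v => funext fun i => by
             rcases i with i | i | i <;> [skip; induction i using Fin.cases; induction i using Fin.cases] <;>
               simp [pad]
           map_smul' := fun c v => funext fun i => by
             rcases i with i | i | i <;> [skip; induction i using Fin.cases; induction i using Fin.cases] <;>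
               simp [pad] }
    inj := fun u v h => funext fun i => by
      rcases i with i | i | i
      · simpa [pad] using congrFun h (Sum.inl i)
      · simpa [pad] using congrFun h (Sum.inr (Sum.inl i.succ))
      · simpa [pad] using congrFun h (Sum.inr (Sum.inr i.succ))
    form := fun w => by simp [coe_qOdd, Cfsg.quadFormOdd, Fin.sum_univ_succ, pad]
    orth := fun w => by simp [polB_qOdd, Fin.sum_univ_succ, pad, Pi.single_apply]
    surj := fun z h1 h2 => ⟨z ∘ Sum.map id (Sum.map Fin.succ Fin.succ), ?_⟩ }⟩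
  · simp [coe_qOdd, Cfsg.quadFormOdd, Pi.single_apply]
  · simp [coe_qOdd, Cfsg.quadFormOdd, Pi.single_apply]
  · simp [polB_qOdd, Pi.single_apply]
  · simp [polB_qOdd, Fin.sum_univ_succ, Pi.single_apply] at h1 h2
    funext i
    rcases i with i | i | i <;> [skip; induction i using Fin.cases; induction i using Fin.cases] <;>
      simp [pad, h1, h2]

theorem exists_frame_minus [Finite F] (m : ℕ) {a b : F}
    (hab : ∀ z₁ z₂ : F, z₁ ^ 2 + a * z₁ * z₂ + b * z₂ ^ 2 = 0 → z₁ = 0 ∧ z₂ = 0) :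
    Nonempty (Frame (qMinus (m + 1) F a b) (Pi.single (Sum.inl (Sum.inl 0)) 1)
      (Pi.single (Sum.inl (Sum.inr 0)) 1) (qMinus m F a b)) := by
  classical
  refine ⟨{
    nd := qMinus_nondeg _ hab
    pair := ⟨?_, ?_, ?_⟩
    j := { toFun := fun w => Sum.elim (Sum.elim (pad fun i => w (Sum.inl (Sum.inl i)))
             (pad fun i => w (Sum.inl (Sum.inr i)))) fun i => w (Sum.inr i)
           map_add' := fun u v => funext fun i => by
             rcases i with (i | i) | i <;> [induction i using Fin.cases; induction i using Fin.cases; skip] <;>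
               simp [pad]
           map_smul' := fun c v => funext fun i => by
             rcases i with (i | i) | i <;> [induction i using Fin.cases; induction i using Fin.cases; skip] <;>
               simp [pad] }
    inj := fun u v h => funext fun i => by
      rcases i with (i | i) | i
      · simpa [pad] using congrFun h (Sum.inl (Sum.inl i.succ))
      · simpa [pad] using congrFun h (Sum.inl (Sum.inr i.succ))
      · simpa [pad] using congrFun h (Sum.inr i)
    form := fun w => by simp [coe_qMinus, Cfsg.quadFormMinus, Fin.sum_univ_succ, pad]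
    orth := fun w => by simp [polB_qMinus, Fin.sum_univ_succ, pad, Pi.single_apply]
    surj := fun z h1 h2 => ⟨z ∘ Sum.map (Sum.map Fin.succ Fin.succ) id, ?_⟩ }⟩
  · simp [coe_qMinus, Cfsg.quadFormMinus, Pi.single_apply]
  · simp [coe_qMinus, Cfsg.quadFormMinus, Pi.single_apply]
  · simp [polB_qMinus, Pi.single_apply]
  · simp [polB_qMinus, Fin.sum_univ_succ, Pi.single_apply] at h1 h2
    funext i
    rcases i with (i | i) | i <;> [induction i using Fin.cases; induction i using Fin.cases; skip] <;>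
      simp [pad, h1, h2]

end steps

section all

variable (p : ℕ) [Fact p.Prime] {F : Type u} [Field F] [Fintype F] [CharP F p]

/-- The bound for the odd-dimensional groups. -/
theorem bd_odd (hodd : Odd (Fintype.card F)) (m : ℕ) (hm : 2 ≤ m) :
    Bd.{u, v, u} p (qOdd m F) (Nat.gcd 2 (Fintype.card F - 1)) := by
  induction m, hm using Nat.le_induction with
  | base => exact bd_five p hodd
  | succ k hk ih =>
    obtain ⟨fr⟩ := exists_frame_odd (H38.two_ne_zero_of_odd hodd) k
    exact bd_step fr (by simp; omega) ih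

/-- The bound for the groups of plus type. -/
theorem bd_plus (m : ℕ) (hm : 3 ≤ m) :
    Bd.{u, v, u} p (qPlus m F) (Nat.gcd 2 (Fintype.card F - 1)) := by
  induction m, hm using Nat.le_induction with
  | base => exact bd_six_plus p
  | succ k hk ih =>
    obtain ⟨fr⟩ := exists_frame_plus (F := F) k
    exact bd_step fr (by simp; omega) ih

/-- The bound for the groups of minus type. -/
theorem bd_minus (m : ℕ) (hm : 2 ≤ m) (a b : F)
    (hab : ∀ z₁ z₂ : F, z₁ ^ 2 + a * z₁ * z₂ + b * z₂ ^ 2 = 0 → z₁ = 0 ∧ z₂ = 0) :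
    Bd.{u, v, u} p (qMinus m F a b) (Nat.gcd 2 (Fintype.card F - 1)) := by
  induction m, hm using Nat.le_induction with
  | base => exact bd_six_minus p a b hab
  | succ k hk ih =>
    obtain ⟨fr⟩ := exists_frame_minus k hab
    exact bd_step fr (by simp; omega) ih

end all

end H50.Or
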