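import Cfsg.Agent.H50.OrPPart
import Cfsg.Agent.H50.Covering

/-!
Central extensions of `Ω` of order prime to `p`: the lifts of `p`-elements meet the kernel no more
than over the complement of a hyperbolic pair, as the covering of the singular vectors is trivial.
-/

set_option autoImplicit false

namespace H50.Or

open H43 H50.CExt

universe u v w w'

/-- The lifts of `p`-elements meet the kernel in a group of order dividing `g`, for all central
extensions of order prime to `p`. -/
def Bd (p : ℕ) {F : Type u} [Field F] {V : Type w} [AddCommGroup V] [Module F V]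
    (Q : QuadraticForm F V) (g : ℕ) : Prop :=
  ∀ (Γ : Type v) [Group Γ] [Finite Γ] (σ : Γ →* Om Q), Function.Surjective σ →
    σ.ker ≤ Subgroup.center Γ → ¬ p ∣ Nat.card σ.ker →
      Nat.card ↥(liftGrp p σ ⊤ ⊓ σ.ker) ∣ g

section general

variable {Γ G G0 : Type*} [Group Γ] [Group G] [Group G0] {p : ℕ} (σ : Γ →* G)

/-- The lifts over the image of an embedded group map into the lifts of the restricted extension. -/
theorem card_range_dvd [Fact p.Prime] [Finite Γ] (hs : Function.Surjective σ)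
    (hc : σ.ker ≤ Subgroup.center Γ) (hcop : ¬ p ∣ Nat.card σ.ker) (ι : G0 →* G)
    (hι : Function.Injective ι) (g : ℕ)
    (h0 : ∀ σ0 : ↥(ι.range.comap σ) →* G0, Function.Surjective σ0 →
      σ0.ker ≤ Subgroup.center _ → ¬ p ∣ Nat.card σ0.ker →
        Nat.card ↥(liftGrp p σ0 ⊤ ⊓ σ0.ker) ∣ g) :
    Nat.card ↥(liftGrp p σ ι.range ⊓ σ.ker) ∣ g := by
  let e := MonoidHom.ofInjective hι
  let σ0 : ι.range.comap σ →* G0 :=
    e.symm.toMonoidHom.comp ((σ.comp (ι.range.comap σ).subtype).codRestrict ι.range fun x => x.2)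
  have hk : ∀ x, σ0 x = 1 ↔ σ x.1 = 1 := fun x => by
    simp only [σ0, MonoidHom.comp_apply, MulEquiv.coe_toMonoidHom, MulEquiv.map_eq_one_iff]
    exact ⟨fun h => congrArg Subtype.val h, fun h => Subtype.ext h⟩
  have hs0 : Function.Surjective σ0 := fun y => by
    obtain ⟨g, hg⟩ := hs (ι y)
    refine ⟨⟨g, show σ g ∈ ι.range by rw [hg]; exact ⟨y, rfl⟩⟩, ?_⟩
    show e.symm ⟨σ g, _⟩ = y
    rw [MulEquiv.symm_apply_eq]
    exact Subtype.ext hg
  have hc0 : σ0.ker ≤ Subgroup.center _ := fun x hx => Subgroup.mem_center_iff.2 fun y =>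
    Subtype.ext (Subgroup.mem_center_iff.1 (hc ((hk x).1 hx)) y.1)
  have hcop0 : ¬ p ∣ Nat.card σ0.ker := fun h => hcop (h.trans (Subgroup.card_dvd_of_injective
    (((ι.range.comap σ).subtype.comp σ0.ker.subtype).codRestrict σ.ker fun x => (hk x.1).1 x.2)
    fun a b h => Subtype.ext (Subtype.ext (congrArg (fun z : σ.ker => (z : Γ)) h))))
  have hle : liftGrp p σ ι.range ⊓ σ.ker ≤
      (liftGrp p σ0 ⊤ ⊓ σ0.ker).map (ι.range.comap σ).subtype := by
    have key : ∀ a ∈ liftGrp p σ ι.range, ∃ ha : σ a ∈ ι.range,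
        (⟨a, ha⟩ : ι.range.comap σ) ∈ liftGrp p σ0 ⊤ := by
      intro a ha
      induction ha using Subgroup.closure_induction with
      | mem y hy => exact ⟨hy.2, mem_liftGrp p σ0 (hy.1.imp fun k hk => Subtype.ext hk) trivial⟩
      | one => exact ⟨by rw [map_one]; exact one_mem _, one_mem _⟩
      | mul a b _ _ ha hb =>
        obtain ⟨ha1, ha2⟩ := ha
        obtain ⟨hb1, hb2⟩ := hb
        exact ⟨by rw [map_mul]; exact mul_mem ha1 hb1, mul_mem ha2 hb2⟩
      | inv a _ ha =>
        obtain ⟨ha1, ha2⟩ := ha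
        exact ⟨by rw [map_inv]; exact inv_mem ha1, inv_mem ha2⟩
    rintro a ⟨ha, hka⟩
    obtain ⟨ha', hm⟩ := key a ha
    exact ⟨⟨a, ha'⟩, ⟨hm, (hk ⟨a, ha'⟩).2 hka⟩, rfl⟩
  refine (Subgroup.card_dvd_of_le hle).trans ?_
  rw [Subgroup.card_map_of_injective Subtype.val_injective]
  exact h0 σ0 hs0 hc0 hcop0

end general

section geom

variable {F : Type u} [Field F] [Finite F] {V : Type w} [AddCommGroup V] [Module F V]
  [FiniteDimensional F V] {Q : QuadraticForm F V}

/-- A singular vector orthogonal to a given one outside its line. -/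
theorem exists_sing_orth_notMem (hQ : (polB Q).Nondegenerate) (h5 : 5 ≤ Module.finrank F V) (d : V) :
    ∃ z, z ≠ 0 ∧ Q z = 0 ∧ polB Q d z = 0 ∧ z ∉ F ∙ d := by
  by_cases hd : d ≠ 0 ∧ Q d = 0
  · obtain ⟨d', hp⟩ := exists_hypPair hQ hd.2 hd.1
    obtain ⟨z, hz, hz0, hzq⟩ := exists_singular_in (Q := Q)
      ((polB Q).orthogonal (Submodule.span F {d, d'})) (by have := finrank_orth_pair hQ d d'; omega)
    obtain ⟨h1, h2⟩ := mem_orth_pair.1 hz
    refine ⟨z, hz0, hzq, h1, fun hm => ?_⟩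
    obtain ⟨t, rfl⟩ := Submodule.mem_span_singleton.1 hm
    rw [map_smul, hp.symm.pair, smul_eq_mul, mul_one] at h2
    exact hz0 (by rw [h2, zero_smul])
  · obtain ⟨z, hz, hz0, hzq⟩ := exists_singular_in (Q := Q) ((polB Q).orthogonal (F ∙ d)) (by
      by_cases hd0 : d = 0
      · have := finrank_orth_add hQ (F ∙ d)
        rw [hd0, Submodule.span_zero_singleton, finrank_bot] at this
        rw [hd0, Submodule.span_zero_singleton]
        omega
      · have := finrank_orth_singleton hQ hd0; omega)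
    refine ⟨z, hz0, hzq, mem_orth_singleton.1 hz, fun hm => ?_⟩
    obtain ⟨t, rfl⟩ := Submodule.mem_span_singleton.1 hm
    have ht : t ≠ 0 := fun h => hz0 (by rw [h, zero_smul])
    rw [qmap_smul] at hzq
    exact hd ⟨fun h => hz0 (by rw [h, smul_zero]), (mul_eq_zero.1 hzq).resolve_left (mul_ne_zero ht ht)⟩

/-- A singular vector orthogonal to three vectors, two of them a non-orthogonal singular pair,
outside their span. -/
theorem exists_sing_three (hQ : (polB Q).Nondegenerate) (h7 : 7 ≤ Module.finrank F V) {a b : V}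
    (ha : Q a = 0) (hb : Q b = 0) (hab : polB Q a b ≠ 0) (d : V) :
    ∃ z, z ≠ 0 ∧ Q z = 0 ∧ z ∉ Submodule.span F {a, b, d} ∧
      polB Q a z = 0 ∧ polB Q b z = 0 ∧ polB Q d z = 0 := by
  set r := polB Q a b
  have hp : HypPair Q a (r⁻¹ • b) := ⟨ha, by rw [qmap_smul, hb, mul_zero],
    by rw [map_smul, smul_eq_mul, inv_mul_cancel₀ hab]⟩
  obtain ⟨fr⟩ := exists_frame hQ hp
  have := fr.finrank_eq
  obtain ⟨z, hz0, hz, hdz, hzd⟩ := exists_sing_orth_notMem fr.nd' (by omega) (fr.P d)
  have hPb : fr.P b = 0 := by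
    have h := fr.P_y
    rw [map_smul, smul_eq_zero] at h
    exact h.resolve_left (inv_ne_zero hab)
  refine ⟨fr.j z, fun h => hz0 (fr.inj (by rw [h, map_zero])), by rw [fr.form, hz], fun hm => ?_,
    (fr.orth z).1, ?_, by rw [fr.b_P, hdz]⟩
  · obtain ⟨c, w, hw, e⟩ := Submodule.mem_span_insert.1 hm
    obtain ⟨c', c'', rfl⟩ := Submodule.mem_span_pair.1 hw
    have h := congrArg fr.P e
    rw [fr.P_j, map_add, map_add, map_smul, map_smul, map_smul, fr.P_x, hPb, smul_zero, smul_zero,
      zero_add, zero_add] at h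
    exact hzd (Submodule.mem_span_singleton.2 ⟨c'', h.symm⟩)
  · have h := (fr.orth z).2
    rwa [map_smul, LinearMap.smul_apply, smul_eq_mul, mul_eq_zero,
      or_iff_right (inv_ne_zero hab)] at h

/-- The singular vectors of the orthogonal of three vectors span it, if one is outside their span. -/
theorem exists_sing_polB_ne (hQ : (polB Q).Nondegenerate) {S : Submodule F V} {z u : V}
    (hz : ∀ s ∈ S, polB Q s z = 0) (hqz : Q z = 0) (hzS : z ∉ S) (huS : u ∉ S) :
    ∃ x, Q x = 0 ∧ (∀ s ∈ S, polB Q s x = 0) ∧ polB Q u x ≠ 0 := by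
  obtain ⟨y, hy, hzy⟩ := exists_orth_polB_eq hQ hzS 1
  obtain ⟨w, hw, huw⟩ := exists_orth_polB_eq hQ huS 1
  by_contra hcon
  push Not at hcon
  have hspan := mem_span_singular (U := (polB Q).orthogonal S) hz hqz hy
    (by rw [hzy]; exact one_ne_zero) hw
  have h0 : polB Q u w = 0 := by
    clear huw hw
    induction hspan using Submodule.span_induction with
    | mem c hc => exact hcon c hc.2 hc.1
    | zero => simp
    | add c d _ _ hc hd => simp [hc, hd]
    | smul t c _ hc => simp [hc]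
  exact one_ne_zero (huw.symm.trans h0)

omit [Finite F] in
/-- Prescribed polar values on three independent vectors. -/
theorem exists_polB_eq₃ (hQ : (polB Q).Nondegenerate) {a b c : V}
    (hli : LinearIndependent F ![a, b, c]) :
    ∃ f, polB Q a f = 1 ∧ polB Q b f = 1 ∧ polB Q c f = 1 := by
  have key : ∀ i : Fin 3, ∃ w, ∀ j : Fin 3, polB Q (![a, b, c] j) w = if j = i then 1 else 0 := by
    intro i
    obtain ⟨w, hw, hiw⟩ := exists_orth_polB_eq hQ
      (hli.notMem_span_image (s := {i}ᶜ) (x := i) (by simp)) 1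
    refine ⟨w, fun j => ?_⟩
    by_cases h : j = i
    · rw [if_pos h, h]; exact hiw
    · rw [if_neg h]; exact hw _ (Submodule.subset_span ⟨j, h, rfl⟩)
  choose w hw using key
  refine ⟨w 0 + w 1 + w 2, ?_, ?_, ?_⟩
  · have h0 := hw 0 0; have h1 := hw 1 0; have h2 := hw 2 0
    simp at h0 h1 h2
    simp [h0, h1, h2]
  · have h0 := hw 0 1; have h1 := hw 1 1; have h2 := hw 2 1
    simp at h0 h1 h2
    simp [h0, h1, h2]
  · have h0 := hw 0 2; have h1 := hw 1 2; have h2 := hw 2 2
    simp at h0 h1 h2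
    simp [h0, h1, h2]

/-- A common singular partner of three independent singular vectors. -/
theorem exists_common (hQ : (polB Q).Nondegenerate) (h7 : 7 ≤ Module.finrank F V) {a b c : V}
    (hli : LinearIndependent F ![a, b, c]) (ha : Q a = 0) (hb : Q b = 0) (hc : Q c = 0) :
    ∃ f, Q f = 0 ∧ polB Q a f = 1 ∧ polB Q b f = 1 ∧ polB Q c f = 1 := by
  obtain ⟨f0, fa, fb, fc⟩ := exists_polB_eq₃ hQ hli
  by_cases hall : polB Q a b = 0 ∧ polB Q a c = 0
  · have hab : polB Q b a = 0 := by rw [polB_comm]; exact hall.1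
    have hac : polB Q c a = 0 := by rw [polB_comm]; exact hall.2
    refine ⟨f0 + (-Q f0) • a, ?_, ?_, ?_, ?_⟩
    · rw [qmap_add_smul, ha, polB_comm f0 a, fa]; ring
    · simp [fa, polB_self, ha]
    · simp [fb, hab]
    · simp [fc, hac]
  obtain ⟨z, hz0, hz, hzS, h1, h2, h3⟩ :
      ∃ z, z ≠ 0 ∧ Q z = 0 ∧ z ∉ Submodule.span F {a, b, c} ∧
        polB Q a z = 0 ∧ polB Q b z = 0 ∧ polB Q c z = 0 := by
    by_cases hab : polB Q a b = 0
    · have hac : polB Q a c ≠ 0 := fun h => hall ⟨hab, h⟩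
      obtain ⟨z, h0, hz, hzS, h1, h2, h3⟩ := exists_sing_three hQ h7 ha hc hac b
      refine ⟨z, h0, hz, ?_, h1, h3, h2⟩
      rwa [show ({a, b, c} : Set V) = {a, c, b} by rw [Set.pair_comm b c]]
    · exact exists_sing_three hQ h7 ha hb hab c
  set S := Submodule.span F ({a, b, c} : Set V) with hS
  have hperp : ∀ k, polB Q a k = 0 → polB Q b k = 0 → polB Q c k = 0 →
      ∀ s ∈ S, polB Q s k = 0 := fun k e1 e2 e3 s hs => by
    induction hs using Submodule.span_induction with
    | mem x hx => rcases hx with rfl | rfl | rfl <;> assumption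
    | zero => simp
    | add x y _ _ hx hy => simp [hx, hy]
    | smul t x _ hx => simp [hx]
  have hmem : ∀ {k : V}, (∀ s ∈ S, polB Q s k = 0) →
      polB Q a k = 0 ∧ polB Q b k = 0 ∧ polB Q c k = 0 := fun {k} h =>
    ⟨h a (Submodule.subset_span (by simp)), h b (Submodule.subset_span (by simp)),
      h c (Submodule.subset_span (by simp))⟩
  by_cases hex : ∃ k, Q k = 0 ∧ (∀ s ∈ S, polB Q s k = 0) ∧ polB Q f0 k ≠ 0
  · obtain ⟨k, hk, hkS, hkf⟩ := hex
    obtain ⟨e1, e2, e3⟩ := hmem hkS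
    refine ⟨f0 + (-Q f0 / polB Q f0 k) • k, ?_, by simp [fa, e1], by simp [fb, e2], by simp [fc, e3]⟩
    rw [qmap_add_smul, hk, div_mul_cancel₀ _ hkf]
    ring
  push Not at hex
  obtain ⟨y, hy, hzy⟩ := exists_orth_polB_eq hQ hzS 1
  set k := y + (-Q f0 - Q y) • z with hk
  have hkS : ∀ s ∈ S, polB Q s k = 0 := fun s hs => by
    simp [hk, hy s hs, hperp z h1 h2 h3 s hs]
  have hfk : polB Q f0 k = 0 := by
    have hspan := mem_span_singular (U := (polB Q).orthogonal S) (hperp z h1 h2 h3) hz hy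
      (by rw [hzy]; exact one_ne_zero) hkS
    clear hkS
    clear_value k
    clear hk
    induction hspan using Submodule.span_induction with
    | mem d hd => exact hex d hd.2 hd.1
    | zero => simp
    | add d d' _ _ hd hd' => simp [hd, hd']
    | smul t d _ hd => simp [hd]
  obtain ⟨e1, e2, e3⟩ := hmem hkS
  refine ⟨f0 + k, ?_, by simp [fa, e1], by simp [fb, e2], by simp [fc, e3]⟩
  rw [qmap_add, hfk, hk, qmap_add_smul, hz, polB_comm y z, hzy]
  ring

/-- The Eichler transformations taking `u` to `v`. -/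
theorem eichler_map {u v f : V} (hu : Q u = 0) (hv : Q v = 0) (hf : Q f = 0) (hfu : polB Q f u = 1)
    (hfv : polB Q f v = 1) :
    polB Q f (v - u) = 0 ∧ (eichler Q f (v - u)).1 u = v := by
  have hw : polB Q f (v - u) = 0 := by rw [map_sub, hfv, hfu, sub_self]
  refine ⟨hw, ?_⟩
  rw [eichler_apply hf hw, polB_comm u f, hfu, map_sub, polB_self, hu, qmap_sub, hv, hu,
    polB_comm v u]
  module

theorem eichler_rev {a b : V} (ha : Q a = 0) (hb : Q b = 0) (hab : polB Q a b = 0) :
    eichler Q a b = eichler Q b (-a) := by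
  apply orth_ext
  intro z
  rw [eichler_apply ha hab, eichler_apply hb (by simp [polB_comm b a, hab]), qmap_neg, ha, hb,
    map_neg]
  simp only [zero_mul, zero_smul, sub_zero, smul_neg, neg_smul, sub_neg_eq_add]
  abel

omit [Finite F] in
/-- A singular vector outside a subspace of smaller dimension. -/
theorem exists_sing_notMem (hQ : (polB Q).Nondegenerate) {z0 : V} (hz00 : z0 ≠ 0) (hz0 : Q z0 = 0)
    {k : ℕ} (f : Fin k → V) (hk : k < Module.finrank F V) :
    ∃ z, Q z = 0 ∧ z ∉ Submodule.span F (Set.range f) := by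
  by_contra hno
  push Not at hno
  have htop : Submodule.span F (Set.range f) = ⊤ := eq_top_iff.2 fun x _ =>
    Submodule.span_le.2 (fun z hz => hno z hz) (mem_span_all_singular hQ hz00 hz0 x)
  have := finrank_range_le_card (R := F) f
  rw [Set.finrank, htop, finrank_top, Fintype.card_fin] at this
  omega

end geom

section step

variable {F : Type u} [Field F] [Finite F] {V : Type w} [AddCommGroup V] [Module F V]
  [FiniteDimensional F V] {Q : QuadraticForm F V} {W : Type w'} [AddCommGroup W] [Module F W]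
  [FiniteDimensional F W] {Q' : QuadraticForm F W} {x0 y0 : V}
  {p : ℕ} [Fact p.Prime] [CharP F p]

omit [FiniteDimensional F W] [Fact p.Prime] in
theorem isPGroup_radU {x : V} (hx : Q x = 0) : IsPGroup p (radU Q x) := by
  rintro ⟨g, hg⟩
  obtain ⟨w, hw, e⟩ := (mem_radU hx).1 hg
  refine ⟨1, Subtype.ext (Subtype.ext ?_)⟩
  show g.1 ^ p ^ 1 = 1
  rw [pow_one, e, eichler_pow hx hw, CharP.cast_eq_zero, zero_smul, eichler_zero hx]

variable (fr : Frame Q x0 y0 Q') {Γ : Type v} [Group Γ] [Finite Γ] (σ : Γ →* Om Q)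
  (hs : Function.Surjective σ) (hc : σ.ker ≤ Subgroup.center Γ) (hcop : ¬ p ∣ Nat.card σ.ker)
include fr hs hc hcop

omit [FiniteDimensional F W] in
/-- Splitting over the complement of a pair gives splitting over the whole group. -/
theorem split_top (h7 : 7 ≤ Module.finrank F V) (h0 : Split p σ fr.extOm.range) :
    Split p σ (⊤ : Subgroup (Om Q)) := by
  classical
  haveI : Finite (Om Q) := Finite.of_surjective σ hs
  haveI := fr.finite_dim
  have hQ := fr.nd
  have h5 : 5 ≤ Module.finrank F V := by omega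
  have hW5 : 5 ≤ Module.finrank F W := by have := fr.finrank_eq; omega
  have hx00 : x0 ≠ 0 := fr.pair.left_ne_zero
  have hrad : ∀ {f : V}, Q f = 0 → IsPGroup p (radU Q f) := fun hf => isPGroup_radU hf
  have hgen0 : PGen p (stab Q x0 ⊓ stab Q y0) := by
    rw [← fr.range_extOm h7, MonoidHom.range_eq_map]
    exact PointStab.pGen_map p fr.extOm (pGen_top fr.nd' hW5)
  have hsplit0 : Split p σ (stab Q x0) := by
    obtain ⟨h1, h2⟩ := fr.stab_eq_sup h5
    rw [h1]
    refine split_sup p σ hc hcop hs (fun l hl => radU_map_conj fr.qx hl.1) h2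
      (split_isPGroup p σ hc hcop (hrad fr.qx)).1 ?_ (pGen_of_isPGroup p (hrad fr.qx)) hgen0
    rwa [← fr.range_extOm h7]
  have hsplit : ∀ x : V, x ≠ 0 → Q x = 0 → Split p σ (stab Q x) := by
    intro x hx0 hx
    obtain ⟨l, hl⟩ := om_transitive hQ h5 hx00 fr.qx hx0 hx
    obtain ⟨L, rfl⟩ := hs l
    refine (hsplit0.conj p σ L).mono p σ fun g hg => ⟨(σ L)⁻¹ * g * σ L, ?_, by
      show σ L * ((σ L)⁻¹ * g * σ L) * (σ L)⁻¹ = g
      group⟩
    show ((σ L).1⁻¹ * g.1 * (σ L).1).1 x0 = x0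
    rw [orth_mul_apply, orth_mul_apply, hl, show g.1.1 x = x from hg, ← hl, orth_inv_apply_self]
  have hgen2 : ∀ {x u : V}, Q x = 0 → Q u = 0 → polB Q x u ≠ 0 → PGen p (stab Q x ⊓ stab Q u) := by
    intro x u hx hu hxu
    set r := polB Q x u
    have hp : HypPair Q x (r⁻¹ • u) := ⟨hx, by rw [qmap_smul, hu, mul_zero],
      by rw [map_smul, smul_eq_mul, inv_mul_cancel₀ hxu]⟩
    obtain ⟨fr'⟩ := exists_frame hQ hp
    have := fr'.finrank_eq
    have hst : stab Q (r⁻¹ • u) = stab Q u := by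
      ext g
      rw [mem_stab, mem_stab, map_smul]
      exact ⟨fun h => smul_right_injective _ (inv_ne_zero hxu) h, fun h => by rw [h]⟩
    rw [← hst, ← fr'.range_extOm h7, MonoidHom.range_eq_map]
    exact PointStab.pGen_map p fr'.extOm (pGen_top fr'.nd' (by omega))
  -- the covering
  set M := liftGrp p σ (stab Q x0) with hMdef
  let P0 : Γ ⧸ M := ((1 : Γ) : Γ ⧸ M)
  let Over : V → Γ ⧸ M → Prop := fun v P => ∃ g : Γ, P = (g : Γ ⧸ M) ∧ (σ g).1.1 x0 = v
  let Move : V → V → Γ → Prop := fun a b g => IsPEl p g ∧ (σ g).1.1 a = b ∧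
    ∃ f, Q f = 0 ∧ polB Q a f ≠ 0 ∧ σ g ∈ radU Q f
  have hover0 : Over x0 P0 := ⟨1, rfl, by rw [map_one]; rfl⟩
  have hover_mul : ∀ {v : V} {P : Γ ⧸ M} (g : Γ), Over v P →
      Over ((σ g).1.1 v) (g • P) := by
    rintro v P g ⟨k, rfl, hk⟩
    refine ⟨g * k, rfl, ?_⟩
    rw [map_mul]
    show ((σ g).1 * (σ k).1).1 x0 = _
    rw [orth_mul_apply, hk]
  have hfix : ∀ {v : V} {P : Γ ⧸ M} (g : Γ), Over v P →
      g ∈ liftGrp p σ (stab Q v) → g • P = P := by
    rintro v P g ⟨k, rfl, hk⟩ hg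
    show ((g * k : Γ) : Γ ⧸ M) = (k : Γ ⧸ M)
    refine (QuotientGroup.eq.2 ?_).symm
    have := liftGrp_conj p σ hg k⁻¹
    rw [inv_inv] at this
    rw [← mul_assoc]
    refine liftGrp_mono p σ ?_ this
    rintro _ ⟨x, hx, rfl⟩
    show (σ k⁻¹ * x * (σ k⁻¹)⁻¹).1.1 x0 = x0
    rw [map_inv, inv_inv]
    show ((σ k).1⁻¹ * x.1 * (σ k).1).1 x0 = x0
    rw [orth_mul_apply, orth_mul_apply, hk, show x.1.1 v = v from hx, ← hk, orth_inv_apply_self]
  have hfree : ∀ {P : Γ ⧸ M} (a : Γ), σ a = 1 → a • P = P → a = 1 := by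
    intro P a ha h
    obtain ⟨k, rfl⟩ := QuotientGroup.mk_surjective P
    have h1 : ((a * k : Γ) : Γ ⧸ M) = (k : Γ ⧸ M) := h
    have h2 := QuotientGroup.eq.1 h1.symm
    rw [← mul_assoc, mul_assoc, ← Subgroup.mem_center_iff.1 (hc ha) k, ← mul_assoc,
      inv_mul_cancel, one_mul] at h2
    exact hsplit0.eq_one p σ h2 ha
  have hpx : ∀ {f v : V} {e : Om Q}, e ∈ radU Q f → Q f = 0 → polB Q f v = polB Q f (e.1.1 v) :=
    fun {f v e} he hf => by
      conv_rhs => arg 1; rw [← show e.1.1 f = f from radU_le_stab hf he]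
      rw [orth_polB_map]
  have hmk : ∀ {a b f : V}, Q a = 0 → Q b = 0 → Q f = 0 → polB Q a f = 1 → polB Q b f = 1 →
      ∃ g, Move a b g ∧ σ g ∈ radU Q f := by
    intro a b f ha hb hf haf hbf
    obtain ⟨hw, hmap⟩ := eichler_map ha hb hf (by rw [polB_comm]; exact haf)
      (by rw [polB_comm]; exact hbf)
    obtain ⟨g, hg, he⟩ := exists_pEl p σ hc hcop hs (isPEl_el (p := p) hQ h5 hf hw)
    have hrad' : σ g ∈ radU Q f := by rw [he]; exact el_mem_radU hQ h5 hf hw
    exact ⟨g, ⟨hg, by rw [he, coe_el hQ h5 hf hw, hmap], f, hf, by rw [haf]; exact one_ne_zero,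
      hrad'⟩, hrad'⟩
  -- two moves between the same points act alike
  have hcore : ∀ {a b f f' x : V} {g g' : Γ} {P : Γ ⧸ M}, Q a = 0 → Over a P →
      IsPEl p g → IsPEl p g' → (σ g).1.1 a = b → (σ g').1.1 a = b →
      Q f = 0 → σ g ∈ radU Q f → Q f' = 0 → σ g' ∈ radU Q f' →
      polB Q a f ≠ 0 → polB Q a f' ≠ 0 →
      Q x = 0 → polB Q x f = 0 → polB Q x f' = 0 → polB Q x b = polB Q x a → polB Q x a ≠ 0 →
      g • P = g' • P := by
    intro a b f f' x g g' P ha hP hg hg' hga hga' hf hgf hf' hgf' haf haf' hx hxf hxf' hxb hxa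
    have hfixx : ∀ {e : Om Q} {f : V}, Q f = 0 → e ∈ radU Q f → e.1.1 a = b → polB Q a f ≠ 0 →
        polB Q x f = 0 → e ∈ stab Q x := by
      intro e f hf he hea haf hxf
      obtain ⟨w, hw, hew⟩ := (mem_radU hf).1 he
      have himg : e.1.1 x = x - polB Q x w • f := by
        rw [hew, eichler_apply hf hw, hxf]; simp
      have h := orth_polB_map e.1 x a
      rw [himg, hea, map_sub, map_smul, LinearMap.sub_apply, LinearMap.smul_apply, smul_eq_mul,
        hxb, sub_eq_self, ← hea, ← hpx he hf, polB_comm f a, mul_eq_zero,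
        or_iff_left haf] at h
      show e.1.1 x = x
      rw [himg, h, zero_smul, sub_zero]
    have hgx : σ g ∈ stab Q x := hfixx hf hgf hga haf hxf
    have hgx' : σ g' ∈ stab Q x := hfixx hf' hgf' hga' haf' hxf'
    set y := g'⁻¹ * g
    have hy : y ∈ liftGrp p σ (stab Q x) :=
      mul_mem (inv_mem (mem_liftGrp p σ hg' hgx')) (mem_liftGrp p σ hg hgx)
    have hy2 : σ y ∈ stab Q x ⊓ stab Q a := by
      refine ⟨liftGrp_le_comap p σ _ hy, ?_⟩
      show (σ (g'⁻¹ * g)).1.1 a = a
      rw [map_mul, map_inv]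
      show ((σ g').1⁻¹ * (σ g).1).1 a = a
      rw [orth_mul_apply, hga, ← hga', orth_inv_apply_self]
    have hx0 : x ≠ 0 := fun h => hxa (by rw [h, map_zero, LinearMap.zero_apply])
    obtain ⟨y', hy', hyy'⟩ := exists_mem_liftGrp p σ hc hcop hs (hgen2 hx ha hxa) hy2
    have heq : y' = y := (hsplit x hx0 hx).inj p σ (liftGrp_mono p σ inf_le_left hy') hy hyy'
    have hyu : y ∈ liftGrp p σ (stab Q a) := heq ▸ liftGrp_mono p σ inf_le_right hy'
    calc g • P = g' • (y • P) := by rw [smul_smul, mul_inv_cancel_left]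
      _ = g' • P := by rw [hfix y hP hyu]
  have hWD : ∀ {a b : V} {g g' : Γ} {P : Γ ⧸ M}, a ≠ 0 → Q a = 0 → Over a P →
      Move a b g → Move a b g' → g • P = g' • P := by
    intro a b g g' P ha0 ha hP ⟨hg, hga, f, hf, haf, hgf⟩ ⟨hg', hga', f', hf', haf', hgf'⟩
    have hfb : polB Q f b = polB Q f a := by rw [← hga]; exact (hpx hgf hf).symm
    have hfb' : polB Q f' b = polB Q f' a := by rw [← hga']; exact (hpx hgf' hf').symm
    have hfa : polB Q f a ≠ 0 := by rw [polB_comm]; exact haf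
    have hb : Q b = 0 := by rw [← hga, orth_qmap, ha]
    by_cases hff : polB Q f f' = 0
    · exact hcore ha hP hg hg' hga hga' hf hgf hf' hgf' haf haf' hf
        (by rw [polB_self, hf, mul_zero]) hff hfb hfa
    set S := Submodule.span F ({f, f', b - a} : Set V) with hS
    obtain ⟨k, hk0, hk, hkS, k1, k2, k3⟩ := exists_sing_three hQ h7 hf hf' hff (b - a)
    have hperp : ∀ s ∈ S, polB Q s k = 0 := fun s hs => by
      induction hs using Submodule.span_induction with
      | mem z hz => rcases hz with rfl | rfl | rfl <;> assumption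
      | zero => simp
      | add z z' _ _ h h' => simp [h, h']
      | smul t z _ h => simp [h]
    by_cases haS : a ∈ S
    swap
    · obtain ⟨x, hx, hxS, hxa⟩ := exists_sing_polB_ne hQ hperp hk hkS haS
      have e3 := hxS (b - a) (Submodule.subset_span (by simp))
      rw [map_sub, LinearMap.sub_apply, sub_eq_zero] at e3
      exact hcore ha hP hg hg' hga hga' hf hgf hf' hgf' haf haf' hx
        (by rw [polB_comm]; exact hxS f (Submodule.subset_span (by simp)))
        (by rw [polB_comm]; exact hxS f' (Submodule.subset_span (by simp)))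
        (by rw [polB_comm x b, polB_comm x a]; exact e3) (by rw [polB_comm]; exact hxa)
    -- an intermediate point
    set r := polB Q f a with hr
    have hka : polB Q a k = 0 := hperp a haS
    have hkb : polB Q b k = 0 := by
      have := hperp (b - a) (Submodule.subset_span (by simp))
      rwa [map_sub, LinearMap.sub_apply, hka, sub_zero] at this
    set f'' := r⁻¹ • f + k with hf''def
    have hf''0 : Q f'' = 0 := by
      rw [hf''def, qmap_add, qmap_smul, hf, hk, map_smul, LinearMap.smul_apply, k1]; simp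
    have hfaf : polB Q a f'' = 1 := by
      rw [hf''def, map_add, map_smul, polB_comm a f, hka, add_zero, smul_eq_mul, inv_mul_cancel₀ hfa]
    have hfbf : polB Q b f'' = 1 := by
      rw [hf''def, map_add, map_smul, polB_comm b f, hfb, hkb, add_zero, smul_eq_mul,
        inv_mul_cancel₀ hfa]
    obtain ⟨g'', ⟨hg'', hga'', -⟩, hgf''⟩ := hmk ha hb hf''0 hfaf hfbf
    have haf'' : polB Q a f'' ≠ 0 := by rw [hfaf]; exact one_ne_zero
    have hff0 : polB Q f f = 0 := by rw [polB_self, hf, mul_zero]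
    rw [hcore ha hP hg hg'' hga hga'' hf hgf hf''0 hgf'' haf haf'' hf hff0
      (by simp [hf''def, hff0, k1]) hfb hfa]
    have hff'' : polB Q f'' f' ≠ 0 := by
      simp [hf''def, polB_comm k f', k2]
      exact ⟨hfa, hff⟩
    set S' := Submodule.span F ({f'', f', b - a} : Set V) with hS'
    obtain ⟨k', hk'0, hk', hk'S, l1, l2, l3⟩ := exists_sing_three hQ h7 hf''0 hf' hff'' (b - a)
    have hperp' : ∀ s ∈ S', polB Q s k' = 0 := fun s hs => by
      induction hs using Submodule.span_induction with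
      | mem z hz => rcases hz with rfl | rfl | rfl <;> assumption
      | zero => simp
      | add z z' _ _ h h' => simp [h, h']
      | smul t z _ h => simp [h]
    have haS' : a ∉ S' := by
      intro hm
      obtain ⟨c, w, hw, e⟩ := Submodule.mem_span_insert.1 hm
      obtain ⟨c', c'', rfl⟩ := Submodule.mem_span_pair.1 hw
      have hc0 : c = 0 := by
        by_contra hc0
        refine hkS ?_
        have hk' : k = c⁻¹ • (a - c' • f' - c'' • (b - a)) - r⁻¹ • f := by
          have e' : c • f'' = a - c' • f' - c'' • (b - a) := by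
            linear_combination (norm := module) -e
          rw [← e', smul_smul, inv_mul_cancel₀ hc0, one_smul, hf''def, add_sub_cancel_left]
        rw [hk']
        refine S.sub_mem (S.smul_mem _ (S.sub_mem (S.sub_mem haS ?_) ?_)) (S.smul_mem _ ?_)
        · exact S.smul_mem _ (Submodule.subset_span (by simp))
        · exact S.smul_mem _ (Submodule.subset_span (by simp))
        · exact Submodule.subset_span (by simp)
      have h := congrArg (polB Q f') e
      rw [hc0, zero_smul, zero_add, map_add, map_smul, map_smul, polB_self, hf', map_sub, hfb',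
        sub_self] at h
      simp at h
      exact haf' (by rw [polB_comm]; exact h)
    obtain ⟨x, hx, hxS, hxa⟩ := exists_sing_polB_ne hQ hperp' hk' hk'S haS'
    have e3 := hxS (b - a) (Submodule.subset_span (by simp))
    rw [map_sub, LinearMap.sub_apply, sub_eq_zero] at e3
    exact hcore ha hP hg'' hg' hga'' hga' hf''0 hgf'' hf' hgf' haf'' haf' hx
      (by rw [polB_comm]; exact hxS f'' (Submodule.subset_span (by simp)))
      (by rw [polB_comm]; exact hxS f' (Submodule.subset_span (by simp)))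
      (by rw [polB_comm x b, polB_comm x a]; exact e3) (by rw [polB_comm]; exact hxa)
  have htri : ∀ {u v w : V} {a b c : Γ} {P : Γ ⧸ M}, Q u = 0 → Q v = 0 → Q w = 0 →
      LinearIndependent F ![u, v, w] → Over u P →
      Move u v a → Move v w b → Move u w c → b • a • P = c • P := by
    intro u v w a b c P hu hv hw hli hP ha hb hcm
    obtain ⟨f, hf, hfu, hfv, hfw⟩ := exists_common hQ h7 hli hu hv hw
    obtain ⟨a', ha', haf⟩ := hmk hu hv hf hfu hfv
    obtain ⟨b', hb', hbf⟩ := hmk hv hw hf hfv hfw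
    have hu0 : u ≠ 0 := hli.ne_zero 0
    have hv0 : v ≠ 0 := hli.ne_zero 1
    have hov : Over v (a' • P) := by
      have := hover_mul a' hP
      rwa [ha'.2.1] at this
    have hba : Move u w (b' * a') := by
      refine ⟨(split_isPGroup p σ hc hcop (hrad hf)).2 _
        (mul_mem (mem_liftGrp p σ hb'.1 hbf) (mem_liftGrp p σ ha'.1 haf)), ?_, f, hf, ?_,
        by rw [map_mul]; exact mul_mem hbf haf⟩
      · rw [map_mul]
        show ((σ b').1 * (σ a').1).1 u = w
        rw [orth_mul_apply, ha'.2.1, hb'.2.1]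
      · rw [hfu]; exact one_ne_zero
    rw [hWD hu0 hu hP ha ha', hWD hv0 hv hov hb hb', smul_smul]
    exact hWD hu0 hu hP hba hcm
  have hthird : ∀ {k : ℕ} (f : Fin k → V), k ≤ 4 →
      ∃ z, Q z = 0 ∧ z ∉ Submodule.span F (Set.range f) :=
    fun f hk => exists_sing_notMem hQ hx00 fr.qx f (by omega)
  have hli3 : ∀ {u v w : V}, LinearIndependent F ![u, v] →
      w ∉ Submodule.span F (Set.range ![u, v]) → LinearIndependent F ![u, v, w] := by
    intro u v w h hw
    have h3 : (![u, v, w] : Fin 3 → V) = Fin.snoc ![u, v] w := by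
      funext i
      fin_cases i <;> rfl
    rw [h3]
    exact linearIndependent_fin_snoc.2 ⟨h, hw⟩
  have hex : ∀ {u v : V}, Q u = 0 → Q v = 0 → LinearIndependent F ![u, v] → ∃ g, Move u v g := by
    intro u v hu hv hli
    obtain ⟨w, hw, hwS⟩ := hthird ![u, v] (by omega)
    obtain ⟨f, hf, hfu, hfv, -⟩ := exists_common hQ h7 (hli3 hli hwS) hu hv hw
    obtain ⟨g, hg, -⟩ := hmk hu hv hf hfu hfv
    exact ⟨g, hg⟩
  -- the section
  let Good' : V → (Γ ⧸ M) → Prop := fun v P => Over v P ∧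
    ∀ w, Q w = 0 → LinearIndependent F ![x0, w] → LinearIndependent F ![w, v] →
      ∀ a b, Move x0 w a → Move w v b → b • a • P0 = P
  have hli2 : ∀ {w v u : V}, u ≠ 0 → w ∉ Submodule.span F (Set.range ![u, v]) →
      LinearIndependent F ![u, w] := by
    intro w v u hu0 hw
    rw [LinearIndependent.pair_iff' hu0]
    intro c hcw
    exact hw (hcw ▸ Submodule.smul_mem _ c (Submodule.subset_span ⟨0, rfl⟩))
  have hli2' : ∀ {w v u : V}, v ≠ 0 → w ∉ Submodule.span F (Set.range ![u, v]) →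
      LinearIndependent F ![w, v] := by
    intro w v u hv0 hw
    have := hli2 (u := v) (v := u) hv0 (by
      rwa [show Set.range ![v, u] = Set.range ![u, v] by
        simp [Matrix.range_cons, Matrix.range_empty, Set.pair_comm]])
    exact LinearIndependent.pair_symm_iff.1 this
  have hq0 : Q x0 = 0 := fr.qx
  have huniq : ∀ {v : V} {P P' : Γ ⧸ M}, v ≠ 0 → Q v = 0 → Good' v P → Good' v P' → P = P' := by
    intro v P P' hv0 hv hP hP'
    obtain ⟨w, hw, hwS⟩ := hthird ![x0, v] (by omega)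
    obtain ⟨a, ha⟩ := hex hq0 hw (hli2 hx00 hwS)
    obtain ⟨b, hb⟩ := hex hw hv (hli2' hv0 hwS)
    rw [← hP.2 w hw (hli2 hx00 hwS) (hli2' hv0 hwS) a b ha hb,
      hP'.2 w hw (hli2 hx00 hwS) (hli2' hv0 hwS) a b ha hb]
  have hgood : ∀ {v : V}, v ≠ 0 → Q v = 0 → ∃ P, Good' v P := by
    intro v hv0 hv
    obtain ⟨w, hw, hwS⟩ := hthird ![x0, v] (by omega)
    obtain ⟨a, ha⟩ := hex hq0 hw (hli2 hx00 hwS)
    obtain ⟨b, hb⟩ := hex hw hv (hli2' hv0 hwS)
    refine ⟨b • a • P0, ?_, fun w' hw' hli1 hli' a' b' ha' hb' => ?_⟩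
    · have h1 := hover_mul b (hover_mul a hover0)
      rwa [ha.2.1, hb.2.1] at h1
    · obtain ⟨z, hz, hzS⟩ := hthird ![x0, w, w', v] (by omega)
      have hmem : ∀ i : Fin 4, (![x0, w, w', v] i) ∈ Submodule.span F (Set.range ![x0, w, w', v]) :=
        fun i => Submodule.subset_span ⟨i, rfl⟩
      have hout : ∀ i j : Fin 4, z ∉ Submodule.span F
          (Set.range ![![x0, w, w', v] i, ![x0, w, w', v] j]) := fun i j h => hzS
        (Submodule.span_le.2 (by rintro _ ⟨k, rfl⟩; fin_cases k <;> [exact hmem i; exact hmem j]) h)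
      obtain ⟨az, haz⟩ := hex hq0 hz (hli2 hx00 (v := w) (hout 0 1))
      obtain ⟨bz, hbz⟩ := hex hz hv (hli2' hv0 (u := x0) (hout 0 3))
      have key : ∀ {w : V} {a b : Γ}, Q w = 0 →
          LinearIndependent F ![x0, w] → LinearIndependent F ![w, v] →
          z ∉ Submodule.span F (Set.range ![x0, w]) → z ∉ Submodule.span F (Set.range ![w, v]) →
          Move x0 w a → Move w v b → b • a • P0 = bz • az • P0 := by
        intro w a b hw hew hwv hz1 hz2 ha hb
        obtain ⟨c, hcm⟩ := hex hw hz (hli2 (v := v) (hew.ne_zero 1) hz2)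
        have hw1 : LinearIndependent F ![x0, w, z] := hli3 hew hz1
        have hw2 : LinearIndependent F ![w, z, v] := by
          have h3 := hli3 hwv hz2
          have h4 := h3.comp ![0, 2, 1] (by decide)
          convert h4 using 1
          funext i; fin_cases i <;> rfl
        have hov : Over w (a • P0) := by
          have := hover_mul a hover0
          rwa [ha.2.1] at this
        rw [← htri hq0 hw hz hw1 hover0 ha hcm haz, htri hw hz hv hw2 hov hcm hbz hb]
      rw [key hw (hli2 hx00 hwS) (hli2' hv0 hwS) (hout 0 1) (hout 1 3) ha hb,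
        key hw' hli1 hli' (hout 0 2) (hout 2 3) ha' hb']
  have hcons : ∀ {u v : V} {P R : Γ ⧸ M} {c : Γ}, Q u = 0 → Q v = 0 →
      LinearIndependent F ![u, v] → Good' u P → Good' v R → Move u v c → c • P = R := by
    intro u v P R c hu hv hli hP hR hcm
    obtain ⟨w, hw, hwS⟩ := hthird ![x0, u, v] (by omega)
    have hsub : ∀ i j : Fin 3, w ∉ Submodule.span F (Set.range ![![x0, u, v] i, ![x0, u, v] j]) :=
      fun i j h => hwS (Submodule.span_mono
        (by rintro _ ⟨k, rfl⟩; fin_cases k <;> [exact ⟨i, rfl⟩; exact ⟨j, rfl⟩]) h)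
    have hu0 : u ≠ 0 := hli.ne_zero 0
    have hv0 : v ≠ 0 := hli.ne_zero 1
    have hew := hli2 (v := u) hx00 (hsub 0 1)
    obtain ⟨a, ha⟩ := hex hq0 hw hew
    have hwu := hli2' (u := x0) hu0 (hsub 0 1)
    have hwv := hli2' (u := x0) hv0 (hsub 0 2)
    obtain ⟨bu, hbu⟩ := hex hw hu hwu
    obtain ⟨bv, hbv⟩ := hex hw hv hwv
    have hw3 : LinearIndependent F ![w, u, v] := by
      have h3 := (hli3 hli (hsub 1 2)).comp ![2, 0, 1] (by decide)
      convert h3 using 1
      funext i; fin_cases i <;> rfl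
    have hov : Over w (a • P0) := by
      have := hover_mul a hover0
      rwa [ha.2.1] at this
    rw [← hP.2 w hw hew hwu a bu ha hbu, ← hR.2 w hw hew hwv a bv ha hbv]
    exact htri hw hu hv hw3 hov hbu hcm hbv
  have hgood0 : Good' x0 P0 := by
    refine ⟨hover0, fun w hw hew _ a b ha hb => ?_⟩
    obtain ⟨hap, hae, f, hf, hef, haf⟩ := ha
    have hwf : polB Q w f ≠ 0 := by
      rw [polB_comm, ← hae, ← hpx haf hf, polB_comm]
      exact hef
    have hinv : Move w x0 a⁻¹ :=
      ⟨hap.imp fun k hk => by rw [inv_pow, hk, inv_one],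
        by rw [map_inv, ← hae]; exact orth_inv_apply_self (σ a).1 x0, f, hf, hwf,
        by rw [map_inv]; exact inv_mem haf⟩
    have hov : Over w (a • P0) := by
      have := hover_mul a hover0
      rwa [hae] at this
    rw [hWD (hew.ne_zero 1) hw hov hb hinv, inv_smul_smul]
  -- lifts of root elements preserve the section
  set T := {t : Γ | IsPEl p t ∧ ∃ a b : V, Q a = 0 ∧ Q b = 0 ∧ polB Q a b = 0 ∧ σ t = el Q a b}
    with hT
  have hpres : ∀ t ∈ T, ∀ (u : V) (P : Γ ⧸ M), u ≠ 0 →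
      Q u = 0 → Good' u P → Good' ((σ t).1.1 u) (t • P) := by
    rintro t ⟨htp, a, b, ha, hb, hab, hte⟩ u P hu0 hu hP
    have hte' : (σ t).1 = eichler Q a b := by rw [hte, coe_el hQ h5 ha hab]
    by_cases hfixu : (σ t).1.1 u = u
    · rw [hfixu, hfix t hP.1 (mem_liftGrp p σ htp hfixu)]
      exact hP
    obtain ⟨f, hf, huf, htf⟩ : ∃ f, Q f = 0 ∧ polB Q u f ≠ 0 ∧ σ t ∈ radU Q f := by
      by_cases hua : polB Q u a = 0
      · refine ⟨b, hb, fun hub => hfixu ?_, ?_⟩
        · rw [hte', eichler_fix ha hab hua hub]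
        · show (σ t).1 ∈ radO Q b
          rw [hte', eichler_rev ha hb hab]
          exact eichler_mem_radO (by simp [polB_comm b a, hab])
      · exact ⟨a, ha, hua, hte ▸ el_mem_radU hQ h5 ha hab⟩
    set v := (σ t).1.1 u with hvdef
    have hv : Q v = 0 := by rw [hvdef, orth_qmap, hu]
    have hv0 : v ≠ 0 := fun h => hu0 ((σ t).1.1.injective (h.trans (map_zero _).symm))
    have hli : LinearIndependent F ![u, v] := by
      rw [LinearIndependent.pair_iff' hu0]
      intro c hcv
      refine hfixu ?_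
      have h1 := hpx htf hf (v := u)
      rw [← hvdef, ← hcv, map_smul, smul_eq_mul, eq_comm] at h1
      have hc1 : c = 1 := mul_left_eq_self₀.1 h1 |>.resolve_right (fun h0 => huf (by rw [polB_comm]; exact h0))
      rw [← hcv, hc1, one_smul]
    obtain ⟨R, hR⟩ := hgood hv0 hv
    rw [hcons hu hv hli hP hR ⟨htp, hvdef.symm, f, hf, huf, htf⟩]
    exact hR
  have hTinv : ∀ t ∈ T, t⁻¹ ∈ T := by
    rintro t ⟨htp, a, b, ha, hb, hab, hte⟩
    refine ⟨htp.imp fun k hk => by rw [inv_pow, hk, inv_one], a, -b, ha, by rw [qmap_neg, hb],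
      by simp [hab], Subtype.ext ?_⟩
    rw [map_inv, hte]
    show (el Q a b).1⁻¹ = _
    rw [coe_el hQ h5 ha hab, coe_el hQ h5 ha (by simp [hab]), eichler_inv ha hab]
  set K := Subgroup.closure T
  have hK : ∀ g ∈ K, ∀ (u : V) (P : Γ ⧸ M), u ≠ 0 →
      Q u = 0 → Good' u P → Good' ((σ g).1.1 u) (g • P) := by
    intro g hg
    induction hg using Subgroup.closure_induction'' with
    | one => intro u P _ _ hP; rwa [map_one, one_smul]
    | mem t ht => exact hpres t ht
    | inv_mem t ht => exact hpres _ (hTinv t ht)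
    | mul a b _ _ ha hb =>
      intro u P hu0 hu hP
      rw [map_mul, mul_smul]
      exact ha _ _ (fun h => hu0 ((σ b).1.1.injective (h.trans (map_zero _).symm)))
        ((orth_qmap (σ b).1 u).trans hu) (hb u P hu0 hu hP)
  have hKA : ∀ g ∈ K, σ g = 1 → g = 1 := by
    intro g hg h1
    have h2 := hK g hg x0 P0 hx00 hq0 hgood0
    rw [h1] at h2
    exact hfree g h1 (huniq hx00 hq0 h2 hgood0)
  have hKs : ∀ x : Om Q, ∃ k ∈ K, σ k = x := by
    intro x
    induction closure_el hQ h5 x using Subgroup.closure_induction with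
    | mem A hA =>
      obtain ⟨a, b, ha, hb, hab, rfl⟩ := hA
      obtain ⟨g, hg, hgA⟩ := exists_pEl p σ hc hcop hs (isPEl_el (p := p) hQ h5 ha hab)
      exact ⟨g, Subgroup.subset_closure ⟨hg, a, b, ha, hb, hab, hgA⟩, hgA⟩
    | one => exact ⟨1, one_mem _, map_one _⟩
    | mul a b _ _ ha hb =>
      obtain ⟨g, hg, rfl⟩ := ha
      obtain ⟨g', hg', rfl⟩ := hb
      exact ⟨g * g', mul_mem hg hg', map_mul _ _ _⟩
    | inv a _ ha =>
      obtain ⟨g, hg, rfl⟩ := ha
      exact ⟨g⁻¹, inv_mem hg, map_inv _ _⟩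
  refine eq_bot_iff.2 fun g ⟨hg, hgk⟩ => Subgroup.mem_bot.2 (hKA g ?_ hgk)
  refine (Subgroup.closure_le _).2 ?_ hg
  rintro y ⟨⟨j, hj⟩, -⟩
  obtain ⟨k, hk, hky⟩ := hKs (σ y)
  set z := k⁻¹ * y
  have hz : σ z = 1 := by rw [map_mul, map_inv, hky, inv_mul_cancel]
  have hcz : Commute k z := Subgroup.mem_center_iff.1 (hc hz) k
  have h1 : k ^ p ^ j * z ^ p ^ j = 1 := by rw [← hcz.mul_pow, mul_inv_cancel_left, hj]
  have h2 : z ^ p ^ j = 1 := hKA _
    (by rw [eq_inv_of_mul_eq_one_right h1]; exact inv_mem (pow_mem hk _))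
    (by rw [map_pow, hz, one_pow])
  show y ∈ K
  rwa [show y = k from (inv_mul_eq_one.1 (ker_pEl_eq_one p σ hcop hz ⟨j, h2⟩)).symm]

omit [Finite Γ] hs hc hcop in
/-- Reduction of the bound to the complement of a hyperbolic pair. -/
theorem bd_step (h7 : 7 ≤ Module.finrank F V) {g : ℕ} (hind : Bd.{u, v, w'} p Q' g) :
    Bd.{u, v, w} p Q g := by
  intro Γ _ _ σ hs hc hcop
  classical
  haveI : Finite (Om Q) := Finite.of_surjective σ hs
  have hdim := fr.finrank_eq
  have hW5 : 5 ≤ Module.finrank F W := by omega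
  set R := fr.extOm.range
  set Z := liftGrp p σ R ⊓ σ.ker with hZ
  have hZc : Z ≤ Subgroup.center Γ := inf_le_right.trans hc
  haveI : Z.Normal := ⟨fun a ha b => by
    rw [Subgroup.mem_center_iff.1 (hZc ha) b, mul_inv_cancel_right]; exact ha⟩
  have hcard : Nat.card Z ∣ g :=
    card_range_dvd σ hs hc hcop fr.extOm fr.extOm_inj g (fun σ0 a b c => hind _ σ0 a b c)
  let σ' : Γ ⧸ Z →* Om Q := QuotientGroup.lift Z σ fun a ha => ha.2
  have hs' : Function.Surjective σ' := fun b => by
    obtain ⟨a, rfl⟩ := hs b; exact ⟨QuotientGroup.mk' Z a, rfl⟩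
  have hc' : σ'.ker ≤ Subgroup.center _ := fun a ha => by
    obtain ⟨a, rfl⟩ := QuotientGroup.mk'_surjective Z a
    rw [Subgroup.mem_center_iff]
    intro b
    obtain ⟨b, rfl⟩ := QuotientGroup.mk'_surjective Z b
    rw [← map_mul, ← map_mul, Subgroup.mem_center_iff.1 (hc (show a ∈ σ.ker from ha)) b]
  have hcop' : ¬ p ∣ Nat.card σ'.ker := by
    intro h
    refine hcop (h.trans ?_)
    have hk : σ'.ker = σ.ker.map (QuotientGroup.mk' Z) := QuotientGroup.ker_lift _ _ _
    rw [hk]
    exact Subgroup.card_map_dvd _ _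
  have hR : Split p σ' R := by
    refine eq_bot_iff.2 fun a ⟨ha, hka⟩ => Subgroup.mem_bot.2 ?_
    have hle : liftGrp p σ' R ≤ (liftGrp p σ R).map (QuotientGroup.mk' Z) := by
      refine (Subgroup.closure_le _).2 fun b ⟨hb, hbR⟩ => ?_
      obtain ⟨c, hcp, hcs⟩ := exists_pEl p σ hc hcop hs (x := σ' b) (hb.map p σ')
      refine ⟨c, mem_liftGrp p σ hcp (hcs.symm ▸ hbR), ?_⟩
      exact pEl_inj p σ' hc' hcop' (hcp.map p _) hb hcs
    obtain ⟨b, hb, rfl⟩ := hle ha
    exact (QuotientGroup.eq_one_iff b).2 ⟨hb, hka⟩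
  have hall := split_top fr σ' hs' hc' hcop' h7 hR
  refine (Subgroup.card_dvd_of_le ?_).trans hcard
  rintro a ⟨ha, hka⟩
  rw [← QuotientGroup.eq_one_iff]
  refine hall.eq_one p σ' ?_ hka
  have hmap : (liftGrp p σ (⊤ : Subgroup (Om Q))).map (QuotientGroup.mk' Z) ≤ liftGrp p σ' ⊤ := by
    rw [liftGrp, MonoidHom.map_closure]
    refine Subgroup.closure_mono ?_
    rintro _ ⟨b, ⟨hb, -⟩, rfl⟩
    exact ⟨hb.map p _, trivial⟩
  exact hmap ⟨a, ha, rfl⟩

end step

end H50.Or
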