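import Cfsg.Agent.H43.Omega
import Cfsg.Agent.H43.Eichler
import Cfsg.Agent.H76.CoverLift

/-!
A double cover of `Ω` in odd characteristic inside the units of the Clifford algebra, and the lift
of `-1` for a space with a paired orthogonal basis.
-/

set_option autoImplicit false

namespace H50.Or

open H43
open scoped commutatorElement

universe u

variable {F : Type u} [Field F] {V : Type u} [AddCommGroup V] [Module F V] [FiniteDimensional F V]
  {Q : QuadraticForm F V}

/-- Mutually orthogonal pairs of orthogonal vectors of equal non-zero value. -/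
inductive Paired (Q : QuadraticForm F V) : List (V × V) → Prop
  | nil : Paired Q []
  | cons {v v' : V} {L : List (V × V)} : Q v ≠ 0 → Q v' = Q v → polB Q v v' = 0 →
      (∀ q ∈ L, polB Q v q.1 = 0 ∧ polB Q v q.2 = 0 ∧ polB Q v' q.1 = 0 ∧ polB Q v' q.2 = 0) →
      Paired Q L → Paired Q ((v, v') :: L)

/-- `k` such pairs with nothing orthogonal to all of them. -/
def PairBasis (Q : QuadraticForm F V) (k : ℕ) : Prop :=
  ∃ L : List (V × V), L.length = k ∧ Paired Q L ∧
    ∀ u, (∀ q ∈ L, polB Q u q.1 = 0 ∧ polB Q u q.2 = 0) → u = 0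

namespace Spin

open CliffordAlgebra (ι)

variable (Q) in
/-- Clifford units with the orthogonal maps they induce. -/
def pinGrp : Subgroup ((CliffordAlgebra Q)ˣ × orthGroup Q) where
  carrier := {a | ∀ x, (a.1 : CliffordAlgebra Q) * ι Q x * ((a.1⁻¹ : (CliffordAlgebra Q)ˣ) :
      CliffordAlgebra Q) = ι Q ((detHom Q a.2 : F) • a.2.1 x)}
  one_mem' := by
    intro x
    simp
  mul_mem' := by
    intro a b ha hb x
    have h : (a.1 : CliffordAlgebra Q) * (b.1 * ι Q x * ((b.1⁻¹ : (CliffordAlgebra Q)ˣ) :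
        CliffordAlgebra Q)) * ((a.1⁻¹ : (CliffordAlgebra Q)ˣ) : CliffordAlgebra Q) =
        ι Q ((detHom Q (a.2 * b.2) : F) • (a.2 * b.2).1 x) := by
      rw [hb, ha, map_mul, Units.val_mul, orth_mul_apply, map_smul a.2.1, smul_smul]
    simpa [mul_assoc] using h
  inv_mem' := by
    intro a ha x
    have h := ha ((detHom Q a.2⁻¹ : F) • (a.2⁻¹).1 x)
    rw [map_smul a.2.1, orth_apply_inv_self, smul_smul, ← Units.val_mul, ← map_mul, mul_inv_cancel,
      map_one, Units.val_one, one_smul] at h
    simp only [Prod.fst_inv, Prod.snd_inv, inv_inv]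
    rw [← h]
    simp [mul_assoc]

variable (Q) in
/-- The projection to the orthogonal group. -/
def proj : pinGrp Q →* orthGroup Q :=
  (MonoidHom.snd (CliffordAlgebra Q)ˣ (orthGroup Q)).comp (pinGrp Q).subtype

/-- An anisotropic vector as a unit. -/
def unitVec {v : V} (hv : Q v ≠ 0) : (CliffordAlgebra Q)ˣ where
  val := ι Q v
  inv := ι Q ((Q v)⁻¹ • v)
  val_inv := by
    rw [map_smul, mul_smul_comm, CliffordAlgebra.ι_sq_scalar, Algebra.algebraMap_eq_smul_one,
      smul_smul, inv_mul_cancel₀ hv, one_smul]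
  inv_val := by
    rw [map_smul, smul_mul_assoc, CliffordAlgebra.ι_sq_scalar, Algebra.algebraMap_eq_smul_one,
      smul_smul, inv_mul_cancel₀ hv, one_smul]

/-- The element over a reflection. -/
def rl {v : V} (hv : Q v ≠ 0) : pinGrp Q :=
  ⟨(unitVec hv, refl Q v), fun x => by
    show ι Q v * ι Q x * ι Q ((Q v)⁻¹ • v) = _
    rw [map_smul, mul_smul_comm, CliffordAlgebra.ι_mul_ι_mul_ι, ← map_smul, detHom_refl hv]
    congr 1
    show (Q v)⁻¹ • (polB Q v x • v - Q v • x) = ((-1 : Fˣ) : F) • (refl Q v).1 x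
    rw [refl_apply, Units.val_neg, Units.val_one, polB_comm x v, smul_sub, smul_smul, smul_smul,
      inv_mul_cancel₀ hv, one_smul]
    module⟩

theorem proj_rl {v : V} (hv : Q v ≠ 0) : proj Q (rl hv) = refl Q v := rfl

theorem rl_congr {v v' : V} (hv : Q v ≠ 0) (hv' : Q v' ≠ 0) (h : v = v') : rl hv = rl hv' := by
  subst h; rfl

theorem rl_conj (X : pinGrp Q) (hd : detHom Q (proj Q X) = 1) {v : V} (hv : Q v ≠ 0) :
    X * rl hv * X⁻¹ = rl (v := (proj Q X).1 v) (by rw [orth_qmap]; exact hv) := by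
  refine Subtype.ext (Prod.ext (Units.ext ?_) (refl_conj (proj Q X) v))
  have h := X.2 v
  rw [show detHom Q X.1.2 = 1 from hd, Units.val_one, one_smul] at h
  exact h

theorem ker_proj_le : (proj Q).ker ≤ Subgroup.center (pinGrp Q) := by
  intro a ha
  have h2 : a.1.2 = 1 := ha
  have hι : ∀ x, Commute (a.1.1 : CliffordAlgebra Q) (ι Q x) := fun x => by
    have h := a.2 x
    rw [h2, map_one, Units.val_one, one_smul, orth_one_apply] at h
    have h' := congrArg (· * (a.1.1 : CliffordAlgebra Q)) h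
    simp only [Units.inv_mul_cancel_right] at h'
    exact h'
  have hall : ∀ c, Commute (a.1.1 : CliffordAlgebra Q) c := fun c => by
    induction c using CliffordAlgebra.induction with
    | algebraMap r => exact (Algebra.commutes r _).symm
    | ι x => exact hι x
    | mul b c hb hc => exact hb.mul_right hc
    | add b c hb hc => exact hb.add_right hc
  refine Subgroup.mem_center_iff.2 fun b => Subtype.ext (Prod.ext (Units.ext (hall _).symm.eq) ?_)
  show b.1.2 * a.1.2 = a.1.2 * b.1.2
  rw [h2, mul_one, one_mul]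

variable (Q) in
/-- The central element `-1`. -/
def negP : pinGrp Q :=
  ⟨((-1 : (CliffordAlgebra Q)ˣ), 1), fun x => by simp⟩

theorem proj_negP : proj Q (negP Q) = 1 := rfl

theorem negP_ne_one (h2 : (2 : F) ≠ 0) : negP Q ≠ 1 := by
  intro h
  haveI := invertibleOfNonzero h2
  have h' : (-1 : CliffordAlgebra Q) = 1 :=
    congrArg (fun a : pinGrp Q => (a.1.1 : CliffordAlgebra Q)) h
  refine h2 ((algebraMap F (CliffordAlgebra Q)).injective ?_)
  rw [map_ofNat, map_zero, ← one_add_one_eq_two]
  nth_rw 1 [← h']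
  rw [neg_add_cancel]

theorem negP_mul_self : negP Q * negP Q = 1 :=
  Subtype.ext (Prod.ext (by show (-1 : (CliffordAlgebra Q)ˣ) * -1 = 1; simp) (mul_one 1))

variable (Q) in
/-- The perfect cover of `Ω`. -/
def spinGrp : Subgroup (pinGrp Q) := ⁅commutator (pinGrp Q), commutator (pinGrp Q)⁆

section fin

variable [Finite F]

theorem finite_pinGrp (h2 : (2 : F) ≠ 0) : Finite (pinGrp Q) := by
  haveI := invertibleOfNonzero h2
  haveI : Module.Finite F (ExteriorAlgebra F V) :=
    Module.Finite.of_basis (Module.finBasis F V).ExteriorAlgebra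
  haveI : Finite (ExteriorAlgebra F V) := Module.finite_of_finite F
  haveI : Finite (CliffordAlgebra Q) :=
    Finite.of_equiv _ (CliffordAlgebra.equivExterior Q).symm.toEquiv
  haveI : Finite V := Module.finite_of_finite F
  haveI := finite_orthGroup (Q := Q)
  haveI : Finite (CliffordAlgebra Q)ˣ := Finite.of_injective _ Units.val_injective
  infer_instance

theorem proj_surjective (hQ : (polB Q).Nondegenerate) (h2 : (2 : F) ≠ 0) :
    Function.Surjective (proj Q) := by
  rw [← MonoidHom.range_eq_top, eq_top_iff, ← closure_reflSet hQ (reflGenerates_of_two_ne_zero h2),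
    Subgroup.closure_le]
  rintro _ ⟨v, hv, rfl⟩
  exact ⟨rl hv, proj_rl hv⟩

theorem map_commutator_pin (hQ : (polB Q).Nondegenerate) (h2 : (2 : F) ≠ 0) :
    (commutator (pinGrp Q)).map (proj Q) = commutator (orthGroup Q) := by
  rw [map_commutator_eq, MonoidHom.range_eq_top.2 (proj_surjective hQ h2), ← commutator_def]

theorem map_spinGrp (hQ : (polB Q).Nondegenerate) (h2 : (2 : F) ≠ 0)
    (h5 : 5 ≤ Module.finrank F V) : (spinGrp Q).map (proj Q) = commutator (orthGroup Q) := by
  rw [spinGrp, Subgroup.map_commutator, map_commutator_pin hQ h2, commutator_perfect hQ h5]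

theorem commutator_mem_spin (hQ : (polB Q).Nondegenerate) (h2 : (2 : F) ≠ 0) {A B : pinGrp Q}
    (hA : proj Q A ∈ commutator (orthGroup Q)) (hB : proj Q B ∈ commutator (orthGroup Q)) :
    ⁅A, B⁆ ∈ spinGrp Q := by
  rw [← map_commutator_pin hQ h2] at hA hB
  obtain ⟨a, ha, ea⟩ := hA
  obtain ⟨b, hb, eb⟩ := hB
  rw [H76.Cover.comm_congr (proj Q) ker_proj_le ea.symm eb.symm]
  exact Subgroup.commutator_mem_commutator ha hb

theorem spin_perfect (hQ : (polB Q).Nondegenerate) (h2 : (2 : F) ≠ 0)
    (h5 : 5 ≤ Module.finrank F V) : ⁅spinGrp Q, spinGrp Q⁆ = spinGrp Q := by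
  refine le_antisymm (Subgroup.commutator_le_self _) ?_
  conv_lhs => rw [spinGrp]
  rw [Subgroup.commutator_le]
  intro a ha b hb
  have hlift : ∀ c ∈ commutator (pinGrp Q), ∃ d ∈ spinGrp Q, proj Q d = proj Q c := by
    intro c hc
    have h : proj Q c ∈ (spinGrp Q).map (proj Q) := by
      rw [map_spinGrp hQ h2 h5, ← map_commutator_pin hQ h2]
      exact ⟨c, hc, rfl⟩
    exact h
  obtain ⟨a', ha', ea⟩ := hlift a ha
  obtain ⟨b', hb', eb⟩ := hlift b hb
  rw [H76.Cover.comm_congr (proj Q) ker_proj_le ea.symm eb.symm]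
  exact Subgroup.commutator_mem_commutator ha' hb'

/-- An anisotropic vector orthogonal to fewer than `dim` vectors of a given family. -/
theorem exists_aniso_orth (hQ : (polB Q).Nondegenerate) (h2 : (2 : F) ≠ 0) {k : ℕ} (f : Fin k → V)
    (hf : ∀ i j, i ≠ j → polB Q (f i) (f j) = 0) (hf0 : ∀ i, Q (f i) ≠ 0)
    (hk : k < Module.finrank F V) : ∃ u, Q u ≠ 0 ∧ ∀ i, polB Q u (f i) = 0 := by
  classical
  by_contra hno
  push Not at hno
  set U := (polB Q).orthogonal (Submodule.span F (Set.range f))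
  have hmem : ∀ u, u ∈ U ↔ ∀ i, polB Q u (f i) = 0 := fun u => by
    constructor
    · intro h i
      rw [polB_comm]
      exact h _ (Submodule.subset_span ⟨i, rfl⟩)
    · intro h s hs
      show polB Q s u = 0
      induction hs using Submodule.span_induction with
      | mem x hx => obtain ⟨i, rfl⟩ := hx; rw [polB_comm]; exact h i
      | zero => simp
      | add x y _ _ hx hy => simp [hx, hy]
      | smul t x _ hx => simp [hx]
  have hq : ∀ u ∈ U, Q u = 0 := fun u hu => by
    by_contra h
    obtain ⟨i, hi⟩ := hno u h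
    exact hi ((hmem u).1 hu i)
  have hbot : U = ⊥ := by
    refine eq_bot_iff.2 fun u hu => Submodule.mem_bot (R := F) |>.2 (hQ.1 u fun z => ?_)
    set c := ∑ i, (polB Q z (f i) / polB Q (f i) (f i)) • f i with hc
    have hP : z - c ∈ U := (hmem _).2 fun j => by
      rw [map_sub, LinearMap.sub_apply, hc, map_sum, LinearMap.sum_apply,
        Finset.sum_eq_single j (fun i _ hij => by simp [hf i j hij]) (by simp), map_smul,
        LinearMap.smul_apply, smul_eq_mul, div_mul_cancel₀ _ (by
          rw [polB_self]; exact mul_ne_zero h2 (hf0 j)), sub_self]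
    have h1 : polB Q u (z - c) = 0 := by
      have h := hq _ (U.add_mem hu hP)
      rwa [qmap_add, hq u hu, hq _ hP, zero_add, zero_add] at h
    have h3 : polB Q u c = 0 := by
      rw [hc, map_sum]
      exact Finset.sum_eq_zero fun i _ => by rw [map_smul, (hmem u).1 hu i, smul_zero]
    rw [map_sub, h3, sub_zero] at h1
    exact h1
  have h1 := finrank_orth_add hQ (Submodule.span F (Set.range f))
  have h4 := finrank_range_le_card (R := F) f
  rw [Set.finrank, Fintype.card_fin] at h4
  have h5 : Module.finrank F U = 0 := by rw [hbot, finrank_bot]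
  have h6 : Module.finrank F ((polB Q).orthogonal (Submodule.span F (Set.range f))) = 0 := h5
  omega

/-- Two orthogonal anisotropic vectors span a plane taking every value. -/
theorem exists_plane_value (h2 : (2 : F) ≠ 0) {a b : V} (hab : polB Q a b = 0) (ha : Q a ≠ 0)
    (hb : Q b ≠ 0) (t : F) : ∃ c d : F, Q (c • a + d • b) = t := by
  classical
  haveI := Fintype.ofFinite F
  have hodd : Fintype.card F % 2 = 1 := FiniteField.odd_card_of_char_ne_two fun h => h2 (by
    haveI := ringChar.of_eq h; exact CharTwo.two_eq_zero)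
  obtain ⟨c, d, h⟩ := FiniteField.exists_root_sum_quadratic
    (f := Polynomial.C (Q a) * Polynomial.X ^ 2)
    (g := Polynomial.C (Q b) * Polynomial.X ^ 2 - Polynomial.C t)
    (Polynomial.degree_C_mul_X_pow 2 ha)
    (by
      rw [Polynomial.degree_sub_eq_left_of_degree_lt, Polynomial.degree_C_mul_X_pow 2 hb]
      · rfl
      · rw [Polynomial.degree_C_mul_X_pow 2 hb]
        exact lt_of_le_of_lt Polynomial.degree_C_le (by decide))
    hodd
  refine ⟨c, d, ?_⟩
  simp only [Polynomial.eval_mul, Polynomial.eval_C, Polynomial.eval_pow, Polynomial.eval_X,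
    Polynomial.eval_sub] at h
  rw [qmap_add, qmap_smul, qmap_smul, map_smul, map_smul, LinearMap.smul_apply, hab]
  simp only [smul_zero, add_zero]
  linear_combination h

/-- The element over a product of two orthogonal reflections of equal value. -/
theorem pair_mem (hQ : (polB Q).Nondegenerate) (h2 : (2 : F) ≠ 0) (h5 : 5 ≤ Module.finrank F V)
    {v v' : V} (hv : Q v ≠ 0) (hv' : Q v' = Q v) (hvv : polB Q v v' = 0) :
    rl hv * (rl (v := v') (hv'.symm ▸ hv))⁻¹ ∈ spinGrp Q ∧
      rl hv * (rl (v := v') (hv'.symm ▸ hv))⁻¹ * (rl hv * (rl (v := v') (hv'.symm ▸ hv))⁻¹) =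
        negP Q := by
  classical
  have hv0' : Q v' ≠ 0 := hv'.symm ▸ hv
  have h0 : polB Q v' v = 0 := by rw [polB_comm]; exact hvv
  refine ⟨?_, ?_⟩
  · obtain ⟨c1, hc1, o1⟩ := exists_aniso_orth hQ h2 ![v, v'] (fun i j hij => by
      fin_cases i <;> fin_cases j <;> first | exact absurd rfl hij | exact hvv | exact h0)
      (fun i => by fin_cases i <;> [exact hv; exact hv0']) (by omega)
    have a1 : polB Q c1 v = 0 := o1 0
    have a2 : polB Q c1 v' = 0 := o1 1
    have b1 : polB Q v c1 = 0 := by rw [polB_comm]; exact a1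
    have b2 : polB Q v' c1 = 0 := by rw [polB_comm]; exact a2
    obtain ⟨c2, hc2, o2⟩ := exists_aniso_orth hQ h2 ![v, v', c1] (fun i j hij => by
      fin_cases i <;> fin_cases j <;>
        first | exact absurd rfl hij | exact hvv | exact h0 | exact a1 | exact a2 | exact b1 | exact b2)
      (fun i => by fin_cases i <;> [exact hv; exact hv0'; exact hc1]) (by omega)
    obtain ⟨r, s, he⟩ := exists_plane_value (Q := Q) (a := c1) (b := c2) h2
      (by rw [polB_comm]; exact o2 2) hc1 hc2 (2 * Q v)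
    set e := r • c1 + s • c2
    have e1 : polB Q e v = 0 := by simp [e, a1, show polB Q c2 v = 0 from o2 0]
    have e2 : polB Q e v' = 0 := by simp [e, a2, show polB Q c2 v' = 0 from o2 1]
    have f1 : polB Q v e = 0 := by rw [polB_comm]; exact e1
    have f2 : polB Q v' e = 0 := by rw [polB_comm]; exact e2
    have hQe : Q e ≠ 0 := by rw [he]; exact mul_ne_zero h2 hv
    obtain ⟨c3, hc3, o3⟩ := exists_aniso_orth hQ h2 ![v, v', e] (fun i j hij => by
      fin_cases i <;> fin_cases j <;>
        first | exact absurd rfl hij | exact hvv | exact h0 | exact e1 | exact e2 | exact f1 | exact f2)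
      (fun i => by fin_cases i <;> [exact hv; exact hv0'; exact hQe]) (by omega)
    have g1 : polB Q c3 v = 0 := o3 0
    have g2 : polB Q c3 v' = 0 := o3 1
    have g3 : polB Q c3 e = 0 := o3 2
    have k1 : polB Q v c3 = 0 := by rw [polB_comm]; exact g1
    have k2 : polB Q v' c3 = 0 := by rw [polB_comm]; exact g2
    have k3 : polB Q e c3 = 0 := by rw [polB_comm]; exact g3
    obtain ⟨c4, hc4, o4⟩ := exists_aniso_orth hQ h2 ![v, v', e, c3] (fun i j hij => by
      fin_cases i <;> fin_cases j <;>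
        first | exact absurd rfl hij | exact hvv | exact h0 | exact e1 | exact e2 | exact f1 | exact f2 | exact g1 | exact g2 | exact g3 | exact k1 | exact k2 | exact k3)
      (fun i => by fin_cases i <;> [exact hv; exact hv0'; exact hQe; exact hc3]) (by omega)
    obtain ⟨r', s', hw⟩ := exists_plane_value (Q := Q) (a := c3) (b := c4) h2
      (by rw [polB_comm]; exact o4 3) hc3 hc4 (Q v)
    set w := r' • c3 + s' • c4
    have w1 : polB Q w v = 0 := by simp [w, g1, show polB Q c4 v = 0 from o4 0]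
    have w2 : polB Q w v' = 0 := by simp [w, g2, show polB Q c4 v' = 0 from o4 1]
    have w3 : polB Q w e = 0 := by simp [w, g3, show polB Q c4 e = 0 from o4 2]
    have hQw : Q w ≠ 0 := by rw [hw]; exact hv
    have hqd : Q (v - v') = 2 * Q v := by rw [qmap_sub, hv', hvv]; ring
    have hd : Q (v - v') ≠ 0 := by rw [hqd]; exact mul_ne_zero h2 hv
    have hgen : ReflGenerates F V := reflGenerates_of_two_ne_zero h2
    have hA : proj Q (rl hv * rl hQw) ∈ commutator (orthGroup Q) := by
      rw [map_mul, proj_rl, proj_rl]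
      exact refl_mul_refl_mem_commutator hQ hgen (by omega) hv hQw (by rw [hw])
    have hB : proj Q (rl hd * rl hQe) ∈ commutator (orthGroup Q) := by
      rw [map_mul, proj_rl, proj_rl]
      exact refl_mul_refl_mem_commutator hQ hgen (by omega) hd hQe (by rw [hqd, he])
    have hdet : detHom Q (proj Q (rl hd * rl hQe)) = 1 := by
      rw [map_mul, proj_rl, proj_rl, map_mul, detHom_refl hd, detHom_refl hQe, neg_one_mul, neg_neg]
    have hbv : (proj Q (rl hd * rl hQe)).1 v = v' := by
      show (refl Q (v - v')).1 ((refl Q e).1 v) = v'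
      rw [refl_fix f1, refl_apply, hqd, map_sub, polB_self, hvv, sub_zero,
        inv_mul_cancel₀ (mul_ne_zero h2 hv), one_smul, sub_sub_cancel]
    have hbw : (proj Q (rl hd * rl hQe)).1 w = w := by
      show (refl Q (v - v')).1 ((refl Q e).1 w) = w
      rw [refl_fix w3, refl_fix (by rw [map_sub, w1, w2, sub_zero])]
    have h := commutator_mem_spin hQ h2 hA hB
    rw [commutatorElement_def, show rl hv * rl hQw * (rl hd * rl hQe) * (rl hv * rl hQw)⁻¹ *
        (rl hd * rl hQe)⁻¹ = rl hv * rl hQw * ((rl hd * rl hQe * rl hv * (rl hd * rl hQe)⁻¹) *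
          (rl hd * rl hQe * rl hQw * (rl hd * rl hQe)⁻¹))⁻¹ by group,
      rl_conj _ hdet, rl_conj _ hdet, rl_congr _ hv0' hbv, rl_congr _ hQw hbw,
      mul_inv_rev, ← mul_assoc, mul_inv_cancel_right] at h
    exact h
  · refine Subtype.ext (Prod.ext (Units.ext ?_) ?_)
    · show ι Q v * ι Q ((Q v')⁻¹ • v') * (ι Q v * ι Q ((Q v')⁻¹ • v')) = -1
      rw [map_smul, mul_smul_comm, smul_mul_assoc, mul_smul_comm, smul_smul, ← mul_assoc,
        CliffordAlgebra.ι_mul_ι_mul_ι, show QuadraticMap.polar Q v v' = 0 from hvv, zero_smul,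
        zero_sub, map_neg, map_smul, neg_mul, smul_mul_assoc, CliffordAlgebra.ι_sq_scalar,
        Algebra.algebraMap_eq_smul_one, smul_neg, smul_smul, smul_smul, hv']
      rw [show (Q v)⁻¹ * (Q v)⁻¹ * Q v * Q v = 1 by field_simp]
      rw [one_smul]
    · show refl Q v * (refl Q v')⁻¹ * (refl Q v * (refl Q v')⁻¹) = 1
      have hcomm : refl Q v' * refl Q v * (refl Q v')⁻¹ = refl Q v := by
        rw [refl_conj, refl_fix hvv]
      rw [refl_inv] at hcomm ⊢
      rw [show refl Q v * refl Q v' * (refl Q v * refl Q v') =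
        refl Q v * (refl Q v' * refl Q v * refl Q v') by group, hcomm, refl_sq]

/-- The lift of `-1` on the span of mutually orthogonal pairs. -/
theorem exists_lift_neg (hQ : (polB Q).Nondegenerate) (h2 : (2 : F) ≠ 0)
    (h5 : 5 ≤ Module.finrank F V) {L : List (V × V)} (hL : Paired Q L) :
    ∃ z ∈ spinGrp Q, detHom Q (proj Q z) = 1 ∧ z * z = negP Q ^ L.length ∧
      (∀ q ∈ L, (proj Q z).1 q.1 = -q.1 ∧ (proj Q z).1 q.2 = -q.2) ∧
      ∀ u, (∀ q ∈ L, polB Q u q.1 = 0 ∧ polB Q u q.2 = 0) → (proj Q z).1 u = u := by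
  induction hL with
  | nil => exact ⟨1, one_mem _, by simp, by simp, by simp, fun u _ => by simp [orth_one_apply]⟩
  | @cons v v' L hv hv' hvv hperp _ ih =>
    obtain ⟨z, hz, hdz, hzz, hneg, hfix⟩ := ih
    obtain ⟨hε, hεε⟩ := pair_mem hQ h2 h5 hv hv' hvv
    have hv0' : Q v' ≠ 0 := hv'.symm ▸ hv
    set ε := rl hv * (rl (v := v') hv0')⁻¹ with hεd
    have hpε : ∀ x, (proj Q ε).1 x = (refl Q v).1 ((refl Q v').1 x) := fun x => by
      show (refl Q v * (refl Q v')⁻¹).1 x = _
      rw [refl_inv, orth_mul_apply]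
    have hzv : (proj Q z).1 v = v := hfix v fun q hq => ⟨(hperp q hq).1, (hperp q hq).2.1⟩
    have hzv' : (proj Q z).1 v' = v' :=
      hfix v' fun q hq => ⟨(hperp q hq).2.2.1, (hperp q hq).2.2.2⟩
    have hcm : Commute z ε := by
      have h1 : z * rl hv * z⁻¹ = rl hv := by rw [rl_conj z hdz hv]; exact rl_congr _ _ hzv
      have h3 : z * rl hv0' * z⁻¹ = rl hv0' := by rw [rl_conj z hdz hv0']; exact rl_congr _ _ hzv'
      exact Commute.mul_right (mul_inv_eq_iff_eq_mul.1 h1 : z * rl hv = rl hv * z)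
        (Commute.inv_right (mul_inv_eq_iff_eq_mul.1 h3 : z * rl hv0' = rl hv0' * z))
    refine ⟨ε * z, mul_mem hε hz, ?_, ?_, ?_, ?_⟩
    · rw [map_mul, map_mul, hdz, mul_one, hεd, map_mul, map_inv, map_mul, map_inv, proj_rl,
        proj_rl, detHom_refl hv, detHom_refl hv0', mul_inv_cancel]
    · rw [show ε * z * (ε * z) = ε * (z * ε) * z by group, hcm.eq, ← mul_assoc, hεε,
        mul_assoc, hzz, List.length_cons, pow_succ']
    · intro q hq
      rw [map_mul, orth_mul_apply, orth_mul_apply, hpε, hpε]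
      rcases List.mem_cons.1 hq with rfl | hq
      · refine ⟨?_, ?_⟩
        · show (refl Q v).1 ((refl Q v').1 ((proj Q z).1 v)) = -v
          rw [hzv, refl_fix hvv, refl_self hv]
        · show (refl Q v).1 ((refl Q v').1 ((proj Q z).1 v')) = -v'
          rw [hzv', refl_self hv0', map_neg, refl_fix (by rw [polB_comm]; exact hvv)]
      · obtain ⟨p1, p2, p3, p4⟩ := hperp q hq
        refine ⟨?_, ?_⟩
        · rw [(hneg q hq).1, map_neg, map_neg, refl_fix (v := v') (x := q.1) (by rw [polB_comm]; exact p3),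
            refl_fix (v := v) (x := q.1) (by rw [polB_comm]; exact p1)]
        · rw [(hneg q hq).2, map_neg, map_neg, refl_fix (v := v') (x := q.2) (by rw [polB_comm]; exact p4),
            refl_fix (v := v) (x := q.2) (by rw [polB_comm]; exact p2)]
    · intro u hu
      obtain ⟨u1, u2⟩ := hu (v, v') List.mem_cons_self
      rw [map_mul, orth_mul_apply, hfix u fun q hq => hu q (List.mem_cons_of_mem _ hq), hpε,
        refl_fix u2, refl_fix u1]

/-- The double cover of `Ω` in odd characteristic. -/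
theorem exists_cover (hQ : (polB Q).Nondegenerate) (h2 : (2 : F) ≠ 0)
    (h5 : 5 ≤ Module.finrank F V) :
    ∃ (S : Type u) (_ : Group S) (_ : Finite S) (ψ : S →* commutator (orthGroup Q)),
      Function.Surjective ψ ∧ ψ.ker ≤ Subgroup.center S ∧ commutator S = ⊤ ∧ 2 ∣ Nat.card ψ.ker ∧
      ∀ k, PairBasis Q k → ∃ z : S, (ψ z).1 = negOrth Q ∧
        (Even k → z * z = 1) ∧ (Odd k → z * z ≠ 1) := by
  haveI := finite_pinGrp (Q := Q) h2
  have hmap := map_spinGrp hQ h2 h5
  let ψ : spinGrp Q →* commutator (orthGroup Q) :=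
    ((proj Q).comp (spinGrp Q).subtype).codRestrict _ fun x => hmap.le ⟨x, x.2, rfl⟩
  have hker : ∀ x : spinGrp Q, ψ x = 1 ↔ proj Q x.1 = 1 := fun x =>
    ⟨fun h => congrArg Subtype.val h, fun h => Subtype.ext h⟩
  have hψs : Function.Surjective ψ := fun y => by
    obtain ⟨x, hx, e⟩ := hmap.ge y.2
    exact ⟨⟨x, hx⟩, Subtype.ext e⟩
  -- the element `-1`
  have hneg : negP Q ∈ spinGrp Q := by
    obtain ⟨c1, hc1, -⟩ := exists_aniso_orth (Q := Q) hQ h2 (fun i : Fin 0 => i.elim0)
      (fun i => i.elim0) (fun i => i.elim0) (by omega)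
    obtain ⟨c2, hc2, o2⟩ := exists_aniso_orth hQ h2 ![c1] (fun i j hij => absurd (Subsingleton.elim i j) hij)
      (fun i => by fin_cases i; exact hc1) (by omega)
    have a1 : polB Q c2 c1 = 0 := o2 0
    have b1 : polB Q c1 c2 = 0 := by rw [polB_comm]; exact a1
    obtain ⟨c3, hc3, o3⟩ := exists_aniso_orth hQ h2 ![c1, c2] (fun i j hij => by
      fin_cases i <;> fin_cases j <;> first | exact absurd rfl hij | exact a1 | exact b1)
      (fun i => by fin_cases i <;> [exact hc1; exact hc2]) (by omega)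
    obtain ⟨r, s, he⟩ := exists_plane_value (Q := Q) (a := c2) (b := c3) h2
      (by rw [polB_comm]; exact o3 1) hc2 hc3 (Q c1)
    obtain ⟨hm, hsq⟩ := pair_mem hQ h2 h5 hc1 he
      (by simp [b1, show polB Q c1 c3 = 0 by rw [polB_comm]; exact o3 0])
    exact hsq ▸ mul_mem hm hm
  refine ⟨spinGrp Q, inferInstance, inferInstance, ψ, hψs, fun x hx => ?_, ?_, ?_, fun k hk => ?_⟩
  · exact Subgroup.mem_center_iff.2 fun y => Subtype.ext
      (Subgroup.mem_center_iff.1 (ker_proj_le ((hker x).1 hx)) y.1)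
  · apply Subgroup.map_injective (spinGrp Q).subtype_injective
    rw [Subgroup.map_subtype_commutator, ← MonoidHom.range_eq_map, Subgroup.range_subtype,
      spin_perfect hQ h2 h5]
  · have hord : orderOf (⟨⟨negP Q, hneg⟩, (hker _).2 proj_negP⟩ : ψ.ker) = 2 :=
      orderOf_eq_prime (Subtype.ext (Subtype.ext (by
        show negP Q ^ 2 = 1; rw [sq, negP_mul_self])))
        fun h => negP_ne_one h2 (congrArg (fun a : ψ.ker => a.1.1) h)
    exact hord ▸ orderOf_dvd_natCard _
  · obtain ⟨L, rfl, hL, hcomp⟩ := hk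
    obtain ⟨z, hz, -, hzz, hn, -⟩ := exists_lift_neg hQ h2 h5 hL
    refine ⟨⟨z, hz⟩, orth_ext fun y => ?_, fun he => Subtype.ext ?_, fun ho h => ?_⟩
    · show (proj Q z).1 y = (negOrth Q).1 y
      rw [negOrth_apply, eq_neg_iff_add_eq_zero]
      refine hcomp _ fun q hq => ?_
      have key : ∀ v, (proj Q z).1 v = -v → polB Q ((proj Q z).1 y + y) v = 0 := fun v hv => by
        have h := orth_polB_map (proj Q z) y v
        rw [hv, map_neg] at h
        rw [map_add, LinearMap.add_apply, ← h, add_neg_cancel]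
      exact ⟨key _ (hn q hq).1, key _ (hn q hq).2⟩
    · obtain ⟨j, hj⟩ := he
      show z * z = 1
      rw [hzz, hj, ← two_mul, pow_mul, sq, negP_mul_self, one_pow]
    · obtain ⟨j, hj⟩ := ho
      have h' : z * z = 1 := congrArg Subtype.val h
      rw [hzz, hj, pow_succ, pow_mul, sq, negP_mul_self, one_pow, one_mul] at h'
      exact negP_ne_one h2 h'

end fin

end Spin

end H50.Or
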