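import Cfsg.Agent.H50.OrPTrivial
import Cfsg.Agent.H50.OrCovering
import Cfsg.Agent.H50.OrSpin

/-!
The multiplier of `PΩ` from the two bounds and the double cover.
-/

set_option autoImplicit false

namespace H50.Or

open H43 H50.CExt
open scoped commutatorElement

universe u v w

section grp

variable {Γ S : Type*} [Group Γ] [Group S] (τ : Γ →* S)

/-- The preimage of a subgroup has order the product. -/
theorem card_comap_eq [Finite Γ] (hs : Function.Surjective τ) (H : Subgroup S) :
    Nat.card ↥(H.comap τ) = Nat.card τ.ker * Nat.card H := by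
  haveI : Finite S := Finite.of_surjective τ hs
  have h1 := (H.comap τ).card_mul_index
  rw [Subgroup.index_comap_of_surjective H hs, ← τ.ker.card_mul_index, Subgroup.index_ker,
    MonoidHom.range_eq_top.2 hs, Subgroup.card_top, ← H.card_mul_index, ← mul_assoc] at h1
  exact Nat.eq_of_mul_eq_mul_right (Nat.pos_of_ne_zero H.index_ne_zero_of_finite) h1

/-- A perfect central extension sends exactly its centre to the centre. -/
theorem mem_center_of_perfect (hperf : commutator Γ = ⊤) (hc : τ.ker ≤ Subgroup.center Γ) {x : Γ}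
    (hs : Function.Surjective τ) (hx : τ x ∈ Subgroup.center S) : x ∈ Subgroup.center Γ := by
  rw [Subgroup.mem_center_iff]
  have hk : ∀ a, ⁅x, a⁆ ∈ Subgroup.center Γ := fun a => hc (by
    rw [MonoidHom.mem_ker, map_commutatorElement, commutatorElement_eq_one_iff_commute]
    exact (Subgroup.mem_center_iff.1 hx (τ a)).symm)
  have key : ∀ a ∈ commutator Γ, Commute x a := by
    intro a ha
    rw [commutator_eq_closure] at ha
    induction ha using Subgroup.closure_induction with
    | mem y hy =>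
      obtain ⟨a, b, rfl⟩ := hy
      have hconj : ∀ c, x * c * x⁻¹ = ⁅x, c⁆ * c := fun c => by
        rw [commutatorElement_def, inv_mul_cancel_right]
      have h1 : x * ⁅a, b⁆ * x⁻¹ = ⁅a, b⁆ := by
        rw [conjugate_commutatorElement, hconj, hconj]
        refine H76.Cover.comm_congr (QuotientGroup.mk' (Subgroup.center Γ))
          (QuotientGroup.ker_mk' _).le ?_ ?_
        · rw [map_mul, show QuotientGroup.mk' (Subgroup.center Γ) ⁅x, a⁆ = 1 from
            (QuotientGroup.eq_one_iff _).2 (hk a), one_mul]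
        · rw [map_mul, show QuotientGroup.mk' (Subgroup.center Γ) ⁅x, b⁆ = 1 from
            (QuotientGroup.eq_one_iff _).2 (hk b), one_mul]
      exact mul_inv_eq_iff_eq_mul.1 h1
    | one => exact Commute.one_right _
    | mul a b _ _ ha hb => exact ha.mul_right hb
    | inv a _ ha => exact ha.inv_right
  intro a
  exact (key a (hperf ▸ Subgroup.mem_top a)).symm.eq

/-- Stem extensions of perfect groups are perfect. -/
theorem perfect_of_stem (hS : commutator S = ⊤) (hτ : Cfsg.IsStemExtension τ) :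
    commutator Γ = ⊤ := by
  refine eq_top_iff.2 fun a _ => ?_
  have h : τ a ∈ (commutator Γ).map τ := by
    rw [map_commutator_eq, MonoidHom.range_eq_top.2 hτ.1, ← commutator_def, hS]
    trivial
  obtain ⟨d, hd, e⟩ := h
  rw [show a = d * (d⁻¹ * a) by group]
  exact mul_mem hd (hτ.2.2 (by rw [MonoidHom.mem_ker, map_mul, map_inv, e, inv_mul_cancel]))

end grp

section bound

variable {F : Type u} [Field F] [Fintype F] {V : Type w} [AddCommGroup V] [Module F V]
  [FiniteDimensional F V] {Q : QuadraticForm F V} {p : ℕ} [Fact p.Prime] [CharP F p]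

/-- The kernel of a stem extension of `Ω` has order dividing the bound. -/
theorem stem_bound (hQ : (polB Q).Nondegenerate) (h7 : 7 ≤ Module.finrank F V) (hreg : Regular Q)
    {g : ℕ} (hbd : Bd.{u, v, w} p Q g) {Γ : Type v} [Group Γ] [Finite Γ] (σ : Γ →* Om Q)
    (hσ : Cfsg.IsStemExtension σ) : Nat.card σ.ker ∣ g := by
  obtain ⟨hs, hc, hd⟩ := hσ
  haveI : Finite (Om Q) := Finite.of_surjective σ hs
  have hcop : ¬ p ∣ Nat.card σ.ker := not_dvd_stem σ hs hc hQ h7 hreg hd
  have hgen := pGen_top (p := p) hQ (show 5 ≤ Module.finrank F V by omega)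
  have hcomm : commutator Γ ≤ liftGrp p σ ⊤ := by
    rw [commutator_def, Subgroup.commutator_le]
    intro a _ b _
    obtain ⟨k, hk, x, hx, rfl⟩ := exists_mul_ker p σ hc hcop hs hgen a
    obtain ⟨k', hk', y, hy, rfl⟩ := exists_mul_ker p σ hc hcop hs hgen b
    rw [H76.Cover.comm_congr σ hc (x' := k) (y' := k')
      (by rw [map_mul, show σ x = 1 from hx, mul_one])
      (by rw [map_mul, show σ y = 1 from hy, mul_one]), commutatorElement_def]
    exact mul_mem (mul_mem (mul_mem hk hk') (inv_mem hk)) (inv_mem hk')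
  exact (Subgroup.card_dvd_of_le (K := liftGrp p σ ⊤ ⊓ σ.ker) fun z hz => ⟨hcomm (hd hz), hz⟩).trans (hbd Γ σ hs hc hcop)

end bound

section mult

variable {F : Type u} [Field F] [Fintype F] {V : Type u} [AddCommGroup V] [Module F V]
  [FiniteDimensional F V] {Q : QuadraticForm F V} {p : ℕ} [Fact p.Prime] [CharP F p]

/-- The multiplier is the preimage of the centre in a cover as large as the bound. -/
theorem multiplier_of_cover (hQ : (polB Q).Nondegenerate) (h7 : 7 ≤ Module.finrank F V)
    (hreg : Regular Q) {g : ℕ} (hbd : Bd.{u, u, u} p Q g) {S : Type u} [Group S] [Finite S]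
    (ψ : S →* Om Q) (hψs : Function.Surjective ψ) (hψc : ψ.ker ≤ Subgroup.center S)
    (hperf : commutator S = ⊤) (hcard : Nat.card ψ.ker = g) {A : Type} [CommGroup A]
    (e : (Subgroup.center (Om Q)).comap ψ ≃* A) :
    Cfsg.HasSchurMultiplier (Om Q ⧸ Subgroup.center (Om Q)) A := by
  have hsplits : H76.Cover.Splits S := H76.Cover.splits_of_stem hperf fun Γ _ _ τ hτ => by
    have hΓ := perfect_of_stem τ hperf hτ
    have hstem : Cfsg.IsStemExtension (ψ.comp τ) := ⟨hψs.comp hτ.1, fun x hx =>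
      mem_center_of_perfect τ hΓ hτ.2.1 hτ.1 (hψc hx), hΓ ▸ le_top⟩
    have h := stem_bound (p := p) hQ h7 hreg hbd _ hstem
    rw [← MonoidHom.comap_ker, card_comap_eq τ hτ.1, hcard] at h
    refine Subgroup.eq_bot_of_card_eq _ (Nat.dvd_one.1 ?_)
    exact Nat.dvd_of_mul_dvd_mul_right (hcard ▸ Nat.card_pos : 0 < g) (by rwa [one_mul])
  let π : S →* Om Q ⧸ Subgroup.center (Om Q) := (QuotientGroup.mk' _).comp ψ
  have hker : π.ker = (Subgroup.center (Om Q)).comap ψ := by
    rw [← MonoidHom.comap_ker, QuotientGroup.ker_mk']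
  exact H76.Cover.hasSchurMultiplier π ⟨(QuotientGroup.mk'_surjective _).comp hψs,
    fun x hx => mem_center_of_perfect ψ hperf hψc hψs (hker.le hx), hperf ▸ le_top⟩ hsplits
    ((MulEquiv.subgroupCongr hker).trans e)

omit [Fintype F] in
theorem center_eq_bot [Finite F] (hQ : (polB Q).Nondegenerate) (h5 : 5 ≤ Module.finrank F V)
    (h : negOrth Q ∈ commutator (orthGroup Q) → negOrth Q = 1) :
    Subgroup.center (Om Q) = ⊥ := by
  refine eq_bot_iff.2 fun g hg => Subgroup.mem_bot.2 (Subtype.ext ?_)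
  rcases center_scalar hQ h5 g hg with hg' | hg'
  · exact hg'
  · exact hg'.trans (h (hg' ▸ g.2))

omit [Fintype F] in
theorem card_center_of_neg [Finite F] (hQ : (polB Q).Nondegenerate) (h2 : (2 : F) ≠ 0)
    (h5 : 5 ≤ Module.finrank F V) (h : negOrth Q ∈ commutator (orthGroup Q)) :
    Nat.card (Subgroup.center (Om Q)) = 2 := by
  rw [Nat.card_eq_two_iff]
  refine ⟨1, ⟨⟨negOrth Q, h⟩, scalar_mem_center _ (Or.inr rfl)⟩, fun e => ?_,
    Set.eq_univ_of_forall fun x => ?_⟩
  · have hneg : negOrth Q = 1 := (congrArg (fun x : Subgroup.center (Om Q) => x.1.1) e).symm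
    haveI : Nontrivial V := Module.nontrivial_of_finrank_pos (R := F) (by omega)
    obtain ⟨v, hv⟩ := exists_ne (0 : V)
    have h1 : -v = v := by rw [← negOrth_apply (Q := Q) v, hneg, orth_one_apply]
    exact hv (smul_eq_zero.1 (show (2 : F) • v = 0 by
      rw [two_smul]; nth_rw 1 [← h1]; exact neg_add_cancel v) |>.resolve_left h2)
  · rcases center_scalar hQ h5 x.1 x.2 with hx | hx
    · exact Or.inl (Subtype.ext (Subtype.ext hx))
    · exact Or.inr (Subtype.ext (Subtype.ext hx))

/-- Characteristic two. -/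
theorem multiplier_even (hQ : (polB Q).Nondegenerate) (h7 : 7 ≤ Module.finrank F V)
    (hreg : Regular Q) (hbd : Bd.{u, u, u} p Q 1) (h2 : (2 : F) = 0) :
    Cfsg.HasCyclicSchurMultiplier (Om Q ⧸ Subgroup.center (Om Q)) 1 := by
  haveI : Finite V := Module.finite_of_finite F
  haveI := finite_orthGroup (Q := Q)
  have h5 : 5 ≤ Module.finrank F V := by omega
  have hperf : commutator (Om Q) = ⊤ := by
    apply Subgroup.map_injective (commutator (orthGroup Q)).subtype_injective
    rw [Subgroup.map_subtype_commutator, ← MonoidHom.range_eq_map, Subgroup.range_subtype,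
      commutator_perfect hQ h5]
  have hker : (MonoidHom.id (Om Q)).ker = ⊥ := (MonoidHom.ker_eq_bot_iff _).2 fun a b h => h
  have hcard : Nat.card ((Subgroup.center (Om Q)).comap (MonoidHom.id _)) = 1 := by
    rw [Subgroup.comap_id, center_eq_bot hQ h5 fun _ => orth_ext fun x => ?_, Subgroup.card_bot]
    rw [negOrth_apply, orth_one_apply, neg_eq_iff_add_eq_zero, ← two_smul F, h2, zero_smul]
  haveI := (Nat.card_eq_one_iff_unique.1 hcard).1
  exact multiplier_of_cover hQ h7 hreg hbd (MonoidHom.id _) (fun a => ⟨a, rfl⟩)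
    (hker ▸ bot_le) hperf (by rw [hker, Subgroup.card_bot])
    (mulEquivOfCyclicCardEq (by rw [hcard]; simp))

/-- The double cover with the kernel of order two. -/
theorem exists_double_cover (hQ : (polB Q).Nondegenerate) (h7 : 7 ≤ Module.finrank F V)
    (hreg : Regular Q) (hbd : Bd.{u, u, u} p Q 2) (h2 : (2 : F) ≠ 0) :
    ∃ (S : Type u) (_ : Group S) (_ : Finite S) (ψ : S →* Om Q),
      Function.Surjective ψ ∧ ψ.ker ≤ Subgroup.center S ∧ commutator S = ⊤ ∧
        Nat.card ψ.ker = 2 ∧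
        ∀ k, PairBasis Q k → ∃ z : S, (ψ z).1 = negOrth Q ∧
          (Even k → z * z = 1) ∧ (Odd k → z * z ≠ 1) := by
  obtain ⟨S, _, _, ψ, hψs, hψc, hperf, hdvd, hz⟩ := Spin.exists_cover hQ h2 (by omega)
  refine ⟨S, inferInstance, inferInstance, ψ, hψs, hψc, hperf, Nat.dvd_antisymm ?_ hdvd, hz⟩
  exact stem_bound (p := p) hQ h7 hreg hbd ψ ⟨hψs, hψc, hperf ▸ le_top⟩

/-- Odd characteristic, `-1` outside `Ω`. -/
theorem multiplier_two (hQ : (polB Q).Nondegenerate) (h7 : 7 ≤ Module.finrank F V)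
    (hreg : Regular Q) (hbd : Bd.{u, u, u} p Q 2) (h2 : (2 : F) ≠ 0)
    (hneg : negOrth Q ∉ commutator (orthGroup Q)) :
    Cfsg.HasCyclicSchurMultiplier (Om Q ⧸ Subgroup.center (Om Q)) 2 := by
  obtain ⟨S, _, _, ψ, hψs, hψc, hperf, hcard, -⟩ := exists_double_cover hQ h7 hreg hbd h2
  have hK : Nat.card ((Subgroup.center (Om Q)).comap ψ) = 2 := by
    rw [card_comap_eq ψ hψs, hcard, center_eq_bot hQ (by omega) fun h => absurd h hneg,
      Subgroup.card_bot]
  haveI := Fact.mk Nat.prime_two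
  haveI := isCyclic_of_prime_card hK
  exact multiplier_of_cover hQ h7 hreg hbd ψ hψs hψc hperf hcard
    (mulEquivOfCyclicCardEq (by rw [hK]; simp))

/-- Odd characteristic, `-1` the product of an odd number of pairs. -/
theorem multiplier_four (hQ : (polB Q).Nondegenerate) (h7 : 7 ≤ Module.finrank F V)
    (hreg : Regular Q) (hbd : Bd.{u, u, u} p Q 2) (h2 : (2 : F) ≠ 0) {k : ℕ}
    (hpb : PairBasis Q k) (hk : Odd k) :
    Cfsg.HasCyclicSchurMultiplier (Om Q ⧸ Subgroup.center (Om Q)) 4 := by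
  obtain ⟨S, _, _, ψ, hψs, hψc, hperf, hcard, hz⟩ := exists_double_cover hQ h7 hreg hbd h2
  obtain ⟨z, hz1, -, hzo⟩ := hz k hpb
  have hneg : negOrth Q ∈ commutator (orthGroup Q) := hz1 ▸ (ψ z).2
  have hK : Nat.card ((Subgroup.center (Om Q)).comap ψ) = 4 := by
    rw [card_comap_eq ψ hψs, hcard, card_center_of_neg hQ h2 (by omega) hneg]
  have hsq : z * z ∈ ψ.ker := Subtype.ext (by
    rw [map_mul, Subgroup.coe_mul, hz1]
    exact orth_ext fun x => by rw [orth_mul_apply, negOrth_apply, negOrth_apply, neg_neg]; rfl)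
  haveI := Fact.mk Nat.prime_two
  haveI : IsCyclic ((Subgroup.center (Om Q)).comap ψ) := by
    refine isCyclic_of_orderOf_eq_card ⟨z, scalar_mem_center _ (Or.inr hz1)⟩ ?_
    rw [hK, ← Subgroup.orderOf_coe]
    refine orderOf_eq_prime_pow (p := 2) (n := 1) (by rw [pow_one, sq]; exact hzo hk) ?_
    rw [show (2 : ℕ) ^ (1 + 1) = 2 * 2 from rfl, pow_mul, sq z, ← hcard]
    exact congrArg Subtype.val (pow_card_eq_one' (x := (⟨z * z, hsq⟩ : ψ.ker)))
  exact multiplier_of_cover hQ h7 hreg hbd ψ hψs hψc hperf hcard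
    (mulEquivOfCyclicCardEq (by rw [hK]; simp))

/-- Odd characteristic, `-1` the product of an even number of pairs. -/
theorem multiplier_klein (hQ : (polB Q).Nondegenerate) (h7 : 7 ≤ Module.finrank F V)
    (hreg : Regular Q) (hbd : Bd.{u, u, u} p Q 2) (h2 : (2 : F) ≠ 0) {k : ℕ}
    (hpb : PairBasis Q k) (hk : Even k) :
    Cfsg.HasSchurMultiplier (Om Q ⧸ Subgroup.center (Om Q))
      (Multiplicative (ZMod 2 × ZMod 2)) := by
  obtain ⟨S, _, _, ψ, hψs, hψc, hperf, hcard, hz⟩ := exists_double_cover hQ h7 hreg hbd h2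
  obtain ⟨z, hz1, hze, -⟩ := hz k hpb
  have hneg : negOrth Q ∈ commutator (orthGroup Q) := hz1 ▸ (ψ z).2
  have hK : Nat.card ((Subgroup.center (Om Q)).comap ψ) = 4 := by
    rw [card_comap_eq ψ hψs, hcard, card_center_of_neg hQ h2 (by omega) hneg]
  have hinv : ∀ x ∈ (Subgroup.center (Om Q)).comap ψ, x ^ 2 = 1 := by
    intro x hx
    have hk1 : ∀ a ∈ ψ.ker, a ^ 2 = 1 := fun a ha => by
      rw [← hcard]
      exact congrArg Subtype.val (pow_card_eq_one' (x := (⟨a, ha⟩ : ψ.ker)))
    rcases center_scalar hQ (by omega) (ψ x) hx with h | h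
    · exact hk1 x (Subtype.ext h)
    · have ha : z⁻¹ * x ∈ ψ.ker := by
        rw [MonoidHom.mem_ker, map_mul, map_inv, inv_mul_eq_one]
        exact Subtype.ext (hz1.trans h.symm)
      have hc : Commute z (z⁻¹ * x) := Subgroup.mem_center_iff.1 (hψc ha) z
      rw [show x = z * (z⁻¹ * x) by group, hc.mul_pow, hk1 _ ha, sq, hze hk, mul_one]
  haveI : IsKleinFour ((Subgroup.center (Om Q)).comap ψ) := ⟨hK, by
    rcases Nat.prime_two.eq_one_or_self_of_dvd _ (Monoid.exponent_dvd_of_forall_pow_eq_one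
      fun x => Subtype.ext (hinv x.1 x.2)) with h | h
    · haveI := Monoid.exp_eq_one_iff.1 h
      rw [Nat.card_unique] at hK
      omega
    · exact h⟩
  obtain ⟨e⟩ := IsKleinFour.nonempty_mulEquiv (G₁ := (Subgroup.center (Om Q)).comap ψ)
    (G₂ := Multiplicative (ZMod 2 × ZMod 2))
  exact multiplier_of_cover hQ h7 hreg hbd ψ hψs hψc hperf hcard e

end mult

end H50.Or
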