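import Cfsg.Agent.H50.OrBase
import Cfsg.Agent.H50.OrMult
import Cfsg.Agent.H43.AutPO.Gamma
import Cfsg.Agent.H43.Disc
import Cfsg.Agent.H39.PSL2Multiplier
import Cfsg.Agent.H38.POmegaStd

/-!
The standard forms: pair bases for `-1`, the non-exceptional conditions, the multipliers.
-/

set_option autoImplicit false

namespace H50.Or

open H43

universe u

section pairs

variable {F : Type u} [Field F] {V W : Type u} [AddCommGroup V] [Module F V] [AddCommGroup W]
  [Module F W] [FiniteDimensional F V] [FiniteDimensional F W] {Q : QuadraticForm F V}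
  {Q' : QuadraticForm F W}

theorem Paired.map {x y : V} (fr : Frame Q x y Q') {L : List (W × W)} (h : Paired Q' L) :
    Paired Q (L.map (Prod.map fr.j fr.j)) := by
  induction h with
  | nil => exact Paired.nil
  | cons h1 h2 h3 h4 _ ih =>
    refine Paired.cons (by rwa [fr.form]) (by rw [fr.form, fr.form, h2]) (by rwa [fr.bform]) ?_ ih
    intro q hq
    obtain ⟨r, hr, rfl⟩ := List.mem_map.1 hq
    simpa [fr.bform] using h4 r hr

omit [FiniteDimensional F V] [FiniteDimensional F W] in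
theorem complete_of_orth {x y : V} (fr : Frame Q x y Q') {L : List (W × W)}
    (hL : ∀ a, (∀ q ∈ L, polB Q' a q.1 = 0 ∧ polB Q' a q.2 = 0) → a = 0) {z : V}
    (hx : polB Q z x = 0) (hy : polB Q z y = 0)
    (h : ∀ q ∈ L, polB Q z (fr.j q.1) = 0 ∧ polB Q z (fr.j q.2) = 0) : z = 0 := by
  have hP : fr.P z = 0 := hL _ fun q hq => by simpa [fr.b_P] using h q hq
  rw [fr.decomp z, hx, hy, hP, zero_smul, zero_smul, map_zero, add_zero, add_zero]

/-- One more pair, when `-1` is a square. -/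
theorem PairBasis.step_one (h2 : (2 : F) ≠ 0) {i : F} (hi : i * i = -1) {x y : V}
    (fr : Frame Q x y Q') {k : ℕ} (h : PairBasis Q' k) : PairBasis Q (k + 1) := by
  obtain ⟨L, rfl, hL, hcomp⟩ := h
  have hi0 : i ≠ 0 := fun h0 => by simp [h0] at hi
  have hxx : polB Q x x = 0 := by rw [polB_self, fr.pair.left, mul_zero]
  have hyy : polB Q y y = 0 := by rw [polB_self, fr.pair.right, mul_zero]
  have hQv : Q (x + y) = 1 := by rw [qmap_add, fr.pair.left, fr.pair.right, fr.pair.pair]; ring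
  refine ⟨(x + y, i • (x - y)) :: L.map (Prod.map fr.j fr.j), by simp, ?_, fun u hu => ?_⟩
  · refine Paired.cons (by rw [hQv]; exact one_ne_zero) ?_ ?_ (fun q hq => ?_) (hL.map fr)
    · rw [hQv, qmap_smul, qmap_sub, fr.pair.left, fr.pair.right, fr.pair.pair, hi]; ring
    · simp [hxx, hyy, fr.pair.pair, fr.pair.symm.pair]
    · obtain ⟨r, -, rfl⟩ := List.mem_map.1 hq
      simp [(fr.orth r.1).1, (fr.orth r.1).2, (fr.orth r.2).1, (fr.orth r.2).2]
  · obtain ⟨e1, e2⟩ := hu _ List.mem_cons_self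
    rw [map_add] at e1
    rw [map_smul, smul_eq_mul, map_sub, mul_eq_zero, or_iff_right hi0] at e2
    refine complete_of_orth fr hcomp
      ((mul_eq_zero.1 (by linear_combination e1 + e2 : (2 : F) * polB Q u x = 0)).resolve_left h2)
      ((mul_eq_zero.1 (by linear_combination e1 - e2 : (2 : F) * polB Q u y = 0)).resolve_left h2)
      fun q hq => ?_
    exact hu _ (List.mem_cons_of_mem _ (List.mem_map.2 ⟨q, hq, rfl⟩))

variable {U : Type u} [AddCommGroup U] [Module F U] [FiniteDimensional F U]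
  {Q'' : QuadraticForm F U}

/-- Two more pairs. -/
theorem PairBasis.step_two (h2 : (2 : F) ≠ 0) {r s : F} (hrs : r * r + s * s = -1) {x y : V}
    (fr : Frame Q x y Q') {x' y' : W} (fr' : Frame Q' x' y' Q'') {k : ℕ}
    (h : PairBasis Q'' k) : PairBasis Q (k + 2) := by
  obtain ⟨L, rfl, hL, hcomp⟩ := h
  have hxx : polB Q x x = 0 := by rw [polB_self, fr.pair.left, mul_zero]
  have hyy : polB Q y y = 0 := by rw [polB_self, fr.pair.right, mul_zero]
  have hxx' : polB Q' x' x' = 0 := by rw [polB_self, fr'.pair.left, mul_zero]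
  have hyy' : polB Q' y' y' = 0 := by rw [polB_self, fr'.pair.right, mul_zero]
  set v1 := x + y
  set v2 := fr.j (x' + y')
  set v3 := r • (x - y) + s • fr.j (x' - y')
  set v4 := (-s) • (x - y) + r • fr.j (x' - y')
  have hv1 : Q v1 = 1 := by
    rw [qmap_add, fr.pair.left, fr.pair.right, fr.pair.pair]; ring
  have hv2 : Q v2 = 1 := by
    rw [fr.form, qmap_add, fr'.pair.left, fr'.pair.right, fr'.pair.pair]; ring
  have hd : Q (x - y) = -1 := by rw [qmap_sub, fr.pair.left, fr.pair.right, fr.pair.pair]; ring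
  have hd' : Q (fr.j (x' - y')) = -1 := by
    rw [fr.form, qmap_sub, fr'.pair.left, fr'.pair.right, fr'.pair.pair]; ring
  have ho : polB Q (x - y) (fr.j (x' - y')) = 0 := by
    rw [map_sub, LinearMap.sub_apply, (fr.orth _).1, (fr.orth _).2, sub_zero]
  have hv3 : Q v3 = 1 := by
    rw [qmap_add, qmap_smul, qmap_smul, hd, hd', map_smul, map_smul, LinearMap.smul_apply, ho,
      smul_zero, smul_zero]
    linear_combination -hrs
  have hv4 : Q v4 = 1 := by
    rw [qmap_add, qmap_smul, qmap_smul, hd, hd', map_smul, map_smul, LinearMap.smul_apply, ho,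
      smul_zero, smul_zero]
    linear_combination -hrs
  refine ⟨(v1, v2) :: (v3, v4) :: (L.map (Prod.map fr'.j fr'.j)).map (Prod.map fr.j fr.j),
    by simp, ?_, fun u hu => ?_⟩
  · refine Paired.cons (by rw [hv1]; exact one_ne_zero) (by rw [hv1, hv2])
      (by simp [v1, v2, (fr.orth _).1, (fr.orth _).2]) (fun q hq => ?_)
      (Paired.cons (by rw [hv3]; exact one_ne_zero) (by rw [hv3, hv4]) ?_ (fun q hq => ?_)
        ((hL.map fr').map fr))
    · rcases List.mem_cons.1 hq with rfl | hq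
      · simp [v1, v2, v3, v4, hxx, hyy, hxx', hyy', fr.pair.pair, fr.pair.symm.pair, fr'.pair.pair,
          fr'.pair.symm.pair, (fr.orth _).1, (fr.orth _).2, (fr.orth' _).1, (fr.orth' _).2, fr.bform]
      · obtain ⟨a, ha, rfl⟩ := List.mem_map.1 hq
        obtain ⟨b, -, rfl⟩ := List.mem_map.1 ha
        simp [v1, v2, (fr.orth _).1, (fr.orth _).2, fr.bform, (fr'.orth _).1, (fr'.orth _).2]
    · simp [v3, v4, hxx, hyy, hxx', hyy', fr.pair.pair, fr.pair.symm.pair, fr'.pair.pair,
        fr'.pair.symm.pair, (fr.orth _).1, (fr.orth _).2, (fr.orth' _).1, (fr.orth' _).2, fr.bform]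
      ring
    · obtain ⟨a, ha, rfl⟩ := List.mem_map.1 hq
      obtain ⟨b, -, rfl⟩ := List.mem_map.1 ha
      simp [v3, v4, (fr.orth _).1, (fr.orth _).2, fr.bform, (fr'.orth _).1, (fr'.orth _).2]
  · obtain ⟨e1, e2⟩ := hu _ List.mem_cons_self
    obtain ⟨e3, e4⟩ := hu _ (List.mem_cons_of_mem _ List.mem_cons_self)
    simp only [v1, v2, v3, v4, map_add, map_sub, map_smul, smul_eq_mul, fr.b_P] at e1 e2 e3 e4
    have hab : polB Q u x - polB Q u y = 0 := by
      linear_combination (-r) * e3 + s * e4 + (polB Q u x - polB Q u y) * hrs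
    have hcd : polB Q' (fr.P u) x' - polB Q' (fr.P u) y' = 0 := by
      linear_combination (-s) * e3 + (-r) * e4 + (polB Q' (fr.P u) x' - polB Q' (fr.P u) y') * hrs
    have hc := (mul_eq_zero.1
      (by linear_combination e2 + hcd : (2 : F) * polB Q' (fr.P u) x' = 0)).resolve_left h2
    have hd0 := (mul_eq_zero.1
      (by linear_combination e2 - hcd : (2 : F) * polB Q' (fr.P u) y' = 0)).resolve_left h2
    refine complete_of_orth fr (L := (x', y') :: L.map (Prod.map fr'.j fr'.j)) (fun a ha => ?_)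
      ((mul_eq_zero.1 (by linear_combination e1 + hab : (2 : F) * polB Q u x = 0)).resolve_left h2)
      ((mul_eq_zero.1 (by linear_combination e1 - hab : (2 : F) * polB Q u y = 0)).resolve_left h2)
      fun q hq => ?_
    · obtain ⟨a1, a2⟩ := ha _ List.mem_cons_self
      exact complete_of_orth fr' hcomp a1 a2 fun q hq =>
        ha _ (List.mem_cons_of_mem _ (List.mem_map.2 ⟨q, hq, rfl⟩))
    · rcases List.mem_cons.1 hq with rfl | hq
      · simp [fr.b_P, hc, hd0]
      · exact hu _ (List.mem_cons_of_mem _ (List.mem_cons_of_mem _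
          (List.mem_map.2 ⟨q, hq, rfl⟩)))

end pairs

section models

variable {F : Type u} [Field F] [Fintype F]

theorem exists_two_squares : ∃ r s : F, r * r + s * s = -1 := by
  obtain ⟨p, hp⟩ := CharP.exists F
  haveI : NeZero p := ⟨(CharP.char_is_prime F p).ne_zero⟩
  obtain ⟨a, b, h⟩ := CharP.sq_add_sq F p (-1)
  exact ⟨a, b, by simpa [sq] using h⟩

/-- Pairs for the plus form. -/
theorem pairBasis_plus (h2 : (2 : F) ≠ 0) {r s : F} (hrs : r * r + s * s = -1) (j : ℕ)
    (m : ℕ) (h0 : PairBasis (qPlus m F) m) : PairBasis (qPlus (m + 2 * j) F) (m + 2 * j) := by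
  induction j with
  | zero => exact h0
  | succ j ih =>
    obtain ⟨fr'⟩ := exists_frame_plus (F := F) (m + 2 * j)
    obtain ⟨fr⟩ := exists_frame_plus (F := F) (m + 2 * j + 1)
    exact PairBasis.step_two h2 hrs fr fr' ih

omit [Fintype F] in
theorem pairBasis_plus_zero : PairBasis (qPlus 0 F) 0 :=
  ⟨[], rfl, Paired.nil, fun u _ => funext fun i => by rcases i with i | i <;> exact i.elim0⟩

/-- Pairs for the plus form when `-1` is a square. -/
theorem pairBasis_plus_one (h2 : (2 : F) ≠ 0) {i : F} (hi : i * i = -1) :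
    PairBasis (qPlus 1 F) 1 := by
  obtain ⟨fr⟩ := exists_frame_plus (F := F) 0
  exact PairBasis.step_one h2 hi fr pairBasis_plus_zero

omit [Fintype F] in
/-- The anisotropic plane as a pair. -/
theorem pairBasis_minus_zero (h2 : (2 : F) ≠ 0) {a b r : F} (hr : r * r = 4 * b - a * a)
    (hr0 : r ≠ 0) : PairBasis (qMinus 0 F a b) 1 := by
  classical
  let v : (Fin 0 ⊕ Fin 0) ⊕ Fin 2 → F := Pi.single (Sum.inr 0) 1
  let w : (Fin 0 ⊕ Fin 0) ⊕ Fin 2 → F := Sum.elim 0 ![-a / r, 2 / r]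
  have hv : qMinus 0 F a b v = 1 := by simp [v, coe_qMinus, Cfsg.quadFormMinus, Pi.single_apply]
  have hw : qMinus 0 F a b w = 1 := by
    simp [w, coe_qMinus, Cfsg.quadFormMinus]
    field_simp
    linear_combination -hr
  have hvw : polB (qMinus 0 F a b) v w = 0 := by
    simp [v, w, polB_qMinus, Pi.single_apply]
    ring
  refine ⟨[(v, w)], rfl, Paired.cons (by rw [hv]; exact one_ne_zero) (by rw [hv, hw]) hvw
    (by simp) Paired.nil, fun z hz => ?_⟩
  obtain ⟨e1, e2⟩ := hz _ List.mem_cons_self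
  simp [v, w, polB_qMinus, Pi.single_apply] at e1 e2
  field_simp at e2
  have h1 : z (Sum.inr 1) = 0 := (mul_eq_zero.1
    (by linear_combination e2 : (4 * b - a * a) * z (Sum.inr 1) = 0)).resolve_left
      (hr ▸ mul_ne_zero hr0 hr0)
  have h0 : z (Sum.inr 0) = 0 := (mul_eq_zero.1
    (by linear_combination e1 - a * h1 : (2 : F) * z (Sum.inr 0) = 0)).resolve_left h2
  funext i
  rcases i with (i | i) | i
  · exact i.elim0
  · exact i.elim0
  · fin_cases i <;> assumption

/-- Pairs for the minus form. -/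
theorem pairBasis_minus (h2 : (2 : F) ≠ 0) {r s : F} (hrs : r * r + s * s = -1) {a b : F}
    (hab : ∀ z₁ z₂ : F, z₁ ^ 2 + a * z₁ * z₂ + b * z₂ ^ 2 = 0 → z₁ = 0 ∧ z₂ = 0)
    (h0 : PairBasis (qMinus 0 F a b) 1) (j : ℕ) :
    PairBasis (qMinus (2 * j) F a b) (2 * j + 1) := by
  induction j with
  | zero => exact h0
  | succ j ih =>
    obtain ⟨fr'⟩ := exists_frame_minus (F := F) (2 * j) hab
    obtain ⟨fr⟩ := exists_frame_minus (F := F) (2 * j + 1) hab
    exact PairBasis.step_two h2 hrs fr fr' ih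

theorem two_or_two_ne : (2 : F) = 0 ∧ 2 ∣ Fintype.card F ∨ (2 : F) ≠ 0 ∧ Odd (Fintype.card F) := by
  by_cases h : (2 : F) = 0
  · exact Or.inl ⟨h, Nat.dvd_of_mod_eq_zero (FiniteField.even_card_of_char_two
      (CharP.ringChar_of_prime_eq_zero Nat.prime_two (by exact_mod_cast h)))⟩
  · exact Or.inr ⟨h, Nat.odd_iff.mpr (FiniteField.odd_card_of_char_ne_two fun h' => h (by
      have : CharP F 2 := ringChar.of_eq h'; exact CharTwo.two_eq_zero))⟩

theorem forall_zero_or_one (hq : Fintype.card F = 2) (c : F) : c = 0 ∨ c = 1 := by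
  classical
  by_contra hne
  push Not at hne
  have h := Finset.card_le_univ ({0, 1, c} : Finset F)
  rw [hq, Finset.card_insert_of_notMem (by simp [hne.1.symm]),
    Finset.card_insert_of_notMem (by simp [hne.2.symm]), Finset.card_singleton] at h
  omega

theorem regular_odd (hodd : Odd (Fintype.card F)) {m : ℕ} (hm : 3 ≤ m)
    (hexc : ¬ (m = 3 ∧ Fintype.card F = 3)) : Regular (qOdd m F) := by
  have h1 := Fintype.one_lt_card (α := F)
  obtain ⟨c, hc⟩ := hodd
  by_cases h4 : 4 ≤ Fintype.card F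
  · exact Or.inl h4
  · exact Or.inr (Or.inl ⟨by omega, by simp; omega⟩)

theorem regular_plus {m : ℕ} (hm : 4 ≤ m) (hexc : ¬ (m = 4 ∧ Fintype.card F = 2)) :
    Regular (qPlus m F) := by
  classical
  have h1 := Fintype.one_lt_card (α := F)
  by_cases h4 : 4 ≤ Fintype.card F
  · exact Or.inl h4
  rcases (show Fintype.card F = 2 ∨ Fintype.card F = 3 by omega) with h | h
  swap
  · exact Or.inr (Or.inl ⟨h, by simp; omega⟩)
  obtain ⟨k, rfl⟩ : ∃ k, m = k + 5 := ⟨m - 5, by omega⟩
  refine Or.inr (Or.inr ⟨h, by simp; omega, ?_, Or.inl (by simp; omega)⟩)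
  let e : Fin (k + 5) → (Fin (k + 5) ⊕ Fin (k + 5) → F) := fun i => Pi.single (Sum.inl i) 1
  let f : Fin (k + 5) → (Fin (k + 5) ⊕ Fin (k + 5) → F) := fun i => Pi.single (Sum.inr i) 1
  have he : ∀ i, qPlus (k + 5) F (e i) = 0 := fun i => by
    simp [e, coe_qPlus, Cfsg.quadFormPlus, Pi.single_apply]
  have hf : ∀ i, qPlus (k + 5) F (f i) = 0 := fun i => by
    simp [f, coe_qPlus, Cfsg.quadFormPlus, Pi.single_apply]
  have hee : ∀ i j, polB (qPlus (k + 5) F) (e i) (e j) = 0 := fun i j => by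
    simp [e, polB_qPlus, Pi.single_apply]
  have hff : ∀ i j, polB (qPlus (k + 5) F) (f i) (f j) = 0 := fun i j => by
    simp [f, polB_qPlus, Pi.single_apply]
  have hef : ∀ i j, polB (qPlus (k + 5) F) (e i) (f j) = if i = j then 1 else 0 := fun i j => by
    simp [e, f, polB_qPlus, Pi.single_apply, eq_comm]
  have hfe : ∀ i j, polB (qPlus (k + 5) F) (f j) (e i) = if i = j then 1 else 0 := fun i j => by
    rw [polB_comm]; exact hef i j
  have hne : ∀ i : Fin (k + 5), e i ≠ 0 := fun i h => by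
    simpa [e] using congrFun h (Sum.inl i)
  refine ⟨e ⟨0, by omega⟩, e ⟨1, by omega⟩, e ⟨2, by omega⟩, f ⟨2, by omega⟩,
    e ⟨3, by omega⟩ + f ⟨3, by omega⟩, e ⟨3, by omega⟩ + e ⟨4, by omega⟩ + f ⟨4, by omega⟩,
    ⟨hne _, hne _, fun h0 => by simpa [e, Fin.ext_iff] using congrFun h0 (Sum.inl ⟨0, by omega⟩)⟩,
    he _, he _, he _, hf _, by rw [hef, if_pos rfl], hee _ _, ?_, ?_, ?_, ?_, ?_, ?_⟩
  all_goals simp [qmap_add, he, hf, hee, hff, hef, hfe, Fin.ext_iff]

theorem regular_minus {m : ℕ} (hm : 3 ≤ m) (a b : F)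
    (hab : ∀ z₁ z₂ : F, z₁ ^ 2 + a * z₁ * z₂ + b * z₂ ^ 2 = 0 → z₁ = 0 ∧ z₂ = 0) :
    Regular (qMinus m F a b) := by
  classical
  have h1 := Fintype.one_lt_card (α := F)
  by_cases h4 : 4 ≤ Fintype.card F
  · exact Or.inl h4
  rcases (show Fintype.card F = 2 ∨ Fintype.card F = 3 by omega) with h | h
  swap
  · exact Or.inr (Or.inl ⟨h, by simp; omega⟩)
  have h01 := forall_zero_or_one h
  have hb : b = 1 := (h01 b).resolve_left fun hb => one_ne_zero (hab 0 1 (by rw [hb]; ring)).2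
  have h2 : (2 : F) = 0 := ((two_or_two_ne (F := F)).resolve_right fun ⟨_, hq⟩ => by
    rw [h] at hq; exact absurd hq (by decide)).1
  have ha : a = 1 := (h01 a).resolve_left fun ha =>
    one_ne_zero (hab 1 1 (by rw [ha, hb]; linear_combination h2)).1
  obtain ⟨k, rfl⟩ : ∃ k, m = k + 3 := ⟨m - 3, by omega⟩
  subst ha hb
  refine Or.inr (Or.inr ⟨h, by simp; omega, ?_, ?_⟩)
  · let e : Fin (k + 3) → ((Fin (k + 3) ⊕ Fin (k + 3)) ⊕ Fin 2 → F) := fun i =>
      Pi.single (Sum.inl (Sum.inl i)) 1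
    let f : Fin (k + 3) → ((Fin (k + 3) ⊕ Fin (k + 3)) ⊕ Fin 2 → F) := fun i =>
      Pi.single (Sum.inl (Sum.inr i)) 1
    let s : (Fin (k + 3) ⊕ Fin (k + 3)) ⊕ Fin 2 → F := Pi.single (Sum.inr 0) 1
    let t : (Fin (k + 3) ⊕ Fin (k + 3)) ⊕ Fin 2 → F := Pi.single (Sum.inr 1) 1
    have he : ∀ i, qMinus (k + 3) F 1 1 (e i) = 0 := fun i => by
      simp [e, coe_qMinus, Cfsg.quadFormMinus, Pi.single_apply]
    have hf : ∀ i, qMinus (k + 3) F 1 1 (f i) = 0 := fun i => by
      simp [f, coe_qMinus, Cfsg.quadFormMinus, Pi.single_apply]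
    have hs : qMinus (k + 3) F 1 1 s = 1 := by
      simp [s, coe_qMinus, Cfsg.quadFormMinus, Pi.single_apply]
    have ht : qMinus (k + 3) F 1 1 t = 1 := by
      simp [t, coe_qMinus, Cfsg.quadFormMinus, Pi.single_apply]
    have hee : ∀ i j, polB (qMinus (k + 3) F 1 1) (e i) (e j) = 0 := fun i j => by
      simp [e, polB_qMinus, Pi.single_apply]
    have hef : ∀ i j, polB (qMinus (k + 3) F 1 1) (e i) (f j) = if i = j then 1 else 0 :=
      fun i j => by simp [e, f, polB_qMinus, Pi.single_apply, eq_comm]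
    have hes : ∀ i, polB (qMinus (k + 3) F 1 1) (e i) s = 0 ∧
        polB (qMinus (k + 3) F 1 1) (e i) t = 0 := fun i => by
      simp [e, s, t, polB_qMinus, Pi.single_apply]
    have hfs : ∀ i, polB (qMinus (k + 3) F 1 1) (f i) s = 0 ∧
        polB (qMinus (k + 3) F 1 1) (f i) t = 0 := fun i => by
      simp [f, s, t, polB_qMinus, Pi.single_apply]
    have hst : polB (qMinus (k + 3) F 1 1) s t = 1 := by
      simp [s, t, polB_qMinus, Pi.single_apply]
    refine ⟨e ⟨0, by omega⟩, e ⟨1, by omega⟩, e ⟨2, by omega⟩, f ⟨2, by omega⟩, s, t,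
      ⟨fun h0 => ?_, fun h0 => ?_, fun h0 => ?_⟩, he _, he _, he _, hf _,
      by rw [hef, if_pos rfl], hee _ _,
      ⟨hee _ _, by rw [hef, if_neg (by simp [Fin.ext_iff])], hes _⟩,
      ⟨hee _ _, by rw [hef, if_neg (by simp [Fin.ext_iff])], hes _⟩,
      ⟨(hes _).1, (hes _).2, hfs _⟩, hs, ht, hst⟩
    · simpa [e] using congrFun h0 (Sum.inl (Sum.inl ⟨0, by omega⟩))
    · simpa [e] using congrFun h0 (Sum.inl (Sum.inl ⟨1, by omega⟩))
    · simpa [e, Fin.ext_iff] using congrFun h0 (Sum.inl (Sum.inl ⟨0, by omega⟩))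
  · rcases Nat.eq_zero_or_pos k with rfl | hk
    · exact Or.inr fun S hS => AutPO.finrank_le_qMinus hab S hS
    · exact Or.inl (by simp; omega)

/-- Membership of `-1` for the matrix group. -/
theorem exists_neg_matrix {ι : Type} [Fintype ι] [DecidableEq ι] (Q : QuadraticForm F (ι → F))
    (h : negOrth Q ∈ commutator (orthGroup Q)) :
    ∃ g : Cfsg.isometryGroup F ⇑Q, g ∈ Cfsg.Omega F ⇑Q ∧
      ((g : Matrix.GeneralLinearGroup ι F) : Matrix ι ι F) = -1 :=
  ⟨(toOrth Q).symm (negOrth Q), by rw [mem_Omega_iff, MulEquiv.apply_symm_apply]; exact h,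
    Matrix.toLin'.injective (LinearMap.ext fun x => by
      rw [Matrix.toLin'_apply, Matrix.toLin'_apply, ← toOrth_apply, MulEquiv.apply_symm_apply,
        negOrth_apply, Matrix.neg_mulVec, Matrix.one_mulVec])⟩

end models

end H50.Or
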