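import Cfsg.Agent.H50.CubicDual
import Cfsg.Agent.H50.DetCentralizer
import Cfsg.Agent.H40.SemisimpleClasses

/-! The primes dividing the order of a semisimple unitary matrix which centralises a non-trivial
unipotent element. -/

set_option autoImplicit false

namespace H50

universe u

open Matrix Polynomial Cfsg

theorem sq_dvd_charpoly {F : Type u} [Field F] {V : Type u} [AddCommGroup V] [Module F V]
    [Module.Finite F V] {f N : Module.End F V} (hf : H40.PrimeToChar f)
    (hcomm : ∀ v, N (f v) = f (N v)) (hN2 : ∀ v, N (N v) = 0) (hN0 : N ≠ 0) :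
    ∃ R : F[X], Irreducible R ∧ R.Monic ∧ R * R ∣ f.charpoly := by
  classical
  have hss := Module.End.isSemisimple_iff.1 (H40.semisimple_of_primeToChar hf)
  obtain ⟨C, hCi, hC⟩ := hss (LinearMap.ker N) (fun v hv => by
    show f v ∈ LinearMap.ker N
    rw [LinearMap.mem_ker] at hv ⊢
    rw [hcomm, hv, map_zero])
  have hfC : ∀ v ∈ C, f v ∈ C := fun v hv => hCi hv
  set W := C.map N
  have hfW : ∀ v ∈ W, f v ∈ W := by
    rintro _ ⟨c, hc, rfl⟩
    exact ⟨f c, hfC c hc, hcomm c⟩
  obtain ⟨D, hDi, hD⟩ := hss (C ⊔ W) (fun v hv => by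
    show f v ∈ C ⊔ W
    obtain ⟨a, ha, b, hb, rfl⟩ := Submodule.mem_sup.1 hv
    rw [map_add]
    exact Submodule.add_mem_sup (hfC a ha) (hfW b hb))
  have hfD : ∀ v ∈ D, f v ∈ D := fun v hv => hDi hv
  let ε₀ : ((C × C) × D) →ₗ[F] V :=
    (C.subtype.coprod (N ∘ₗ C.subtype)).coprod D.subtype
  have hε : ∀ c c' d, ε₀ ((c, c'), d) = (c : V) + N c' + d := fun c c' d => rfl
  have hinj : Function.Injective ε₀ := by
    rw [injective_iff_map_eq_zero]
    rintro ⟨⟨c, c'⟩, d⟩ h
    rw [hε] at h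
    have hd : (d : V) = 0 := by
      refine Submodule.disjoint_def.1 hD.disjoint _ ?_ d.2
      rw [eq_neg_of_add_eq_zero_right h]
      exact neg_mem (Submodule.add_mem_sup c.2 ⟨c', c'.2, rfl⟩)
    rw [hd, add_zero] at h
    have hc : (c : V) = 0 := by
      refine Submodule.disjoint_def.1 hC.disjoint _ ?_ c.2
      rw [eq_neg_of_add_eq_zero_left h]
      exact neg_mem (LinearMap.mem_ker.2 (hN2 _))
    rw [hc, zero_add] at h
    have hc' : (c' : V) = 0 := Submodule.disjoint_def.1 hC.disjoint _ (LinearMap.mem_ker.2 h) c'.2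
    exact Prod.ext (Prod.ext (Subtype.ext hc) (Subtype.ext hc')) (Subtype.ext hd)
  have hsurj : Function.Surjective ε₀ := by
    rw [← LinearMap.range_eq_top, eq_top_iff, ← hD.sup_eq_top]
    refine sup_le (sup_le ?_ ?_) ?_
    · intro v hv
      exact ⟨((⟨v, hv⟩, 0), 0), by simp [hε]⟩
    · rintro _ ⟨c, hc, rfl⟩
      exact ⟨((0, ⟨c, hc⟩), 0), by simp [hε]⟩
    · intro v hv
      exact ⟨((0, 0), ⟨v, hv⟩), by simp [hε]⟩
  let ε := LinearEquiv.ofBijective ε₀ ⟨hinj, hsurj⟩
  have hconj : f = ε.conj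
      (LinearMap.prodMap (LinearMap.prodMap (f.restrict hfC) (f.restrict hfC)) (f.restrict hfD)) := by
    refine LinearMap.ext fun v => ?_
    obtain ⟨⟨⟨c, c'⟩, d⟩, rfl⟩ := ε.surjective v
    rw [LinearEquiv.conj_apply_apply, LinearEquiv.symm_apply_apply]
    show f (ε₀ ((c, c'), d)) = ε₀ ((f.restrict hfC c, f.restrict hfC c'), f.restrict hfD d)
    rw [hε, hε, map_add, map_add, ← hcomm]
    rfl
  have hC0 : C ≠ ⊥ := by
    intro h
    rw [h] at hC
    exact hN0 (LinearMap.ker_eq_top.1 (by simpa using hC.sup_eq_top))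
  set fC := f.restrict hfC
  have hdeg : fC.charpoly.natDegree ≠ 0 := by
    rw [LinearMap.charpoly_natDegree]
    exact fun h => hC0 (Submodule.finrank_eq_zero.1 h)
  obtain ⟨R₀, hR, hdvd⟩ := WfDvdMonoid.exists_irreducible_factor
    (fun hu => hdeg (natDegree_eq_zero_of_isUnit hu)) (LinearMap.charpoly_monic fC).ne_zero
  refine ⟨normalize R₀, (associated_normalize R₀).irreducible hR, monic_normalize hR.ne_zero, ?_⟩
  rw [hconj, LinearEquiv.charpoly_conj, LinearMap.charpoly_prodMap, LinearMap.charpoly_prodMap]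
  exact (mul_dvd_mul (normalize_dvd_iff.2 hdvd) (normalize_dvd_iff.2 hdvd)).trans (dvd_mul_right _ _)

theorem minus_one_of_gcd {A : Type*} [Monoid A] [HasDistribNeg A] {x : A} {j e : ℕ} (hj : Odd j)
    (h1 : x ^ j = -1) (h2 : x ^ (2 * e) = 1) :
    Odd (Nat.gcd j e) ∧ x ^ Nat.gcd j e = -1 := by
  set g := Nat.gcd j e with hg
  obtain ⟨t, ht⟩ : g ∣ j := Nat.gcd_dvd_left _ _
  have hodd : Odd g := hj.of_dvd_nat (Nat.gcd_dvd_left _ _)
  have htodd : Odd t := hj.of_dvd_nat ⟨g, by rw [ht, mul_comm]⟩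
  have h2g : x ^ (2 * g) = 1 := by
    rw [hg, ← Nat.gcd_mul_left]
    exact pow_gcd_eq_one.2 ⟨by rw [mul_comm, pow_mul, h1, neg_one_sq], h2⟩
  refine ⟨hodd, ?_⟩
  obtain ⟨s, hs⟩ := htodd
  rw [← h1, ht, pow_mul, hs, pow_succ, pow_mul, ← pow_mul x g 2, mul_comm g 2, h2g, one_pow, one_mul]

variable {F : Type u} [Field F] [Fintype F] {q : ℕ} (hF : Fintype.card F = q ^ 2)
include hF

theorem eigen_dual {m : ℕ} {M : Matrix (Fin m) (Fin m) F} (hM : H51.adj hF M * M = 1) {K : Type*}
    [Field K] [Algebra F K] {a : K} (ha : M.charpoly.eval₂ (algebraMap F K) a = 0) :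
    M.charpoly.eval₂ (algebraMap F K) (a ^ q)⁻¹ = 0 := by
  classical
  set ι := algebraMap F K
  set T := M.map ι
  set Tq := (H51.adj hF M).map ι
  have key : ∀ b : K, M.charpoly.eval₂ ι b = (scalar (Fin m) b - T).det := fun b => by
    rw [← eval_map, ← Matrix.charpoly_map, Matrix.eval_charpoly]
  rw [key] at ha ⊢
  have h1 : (scalar (Fin m) (a ^ q) - Tq).det = 0 := by
    have h := congrArg (extFrob hF K) ha
    rw [map_zero, RingHom.map_det] at h
    rw [← Matrix.det_transpose, ← h]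
    congr 1
    ext i j
    rw [scalar_apply, scalar_apply]
    simp only [transpose_apply, RingHom.mapMatrix_apply, Matrix.map_apply, Matrix.sub_apply, map_sub,
      T, Tq, H51.adj_apply, map_pow, extFrob_apply]
    rcases eq_or_ne i j with rfl | hne
    · simp
    · simp [hne, hne.symm, q_ne_zero hF]
  obtain ⟨y, hy0, hy⟩ := Matrix.exists_mulVec_eq_zero_iff.2 h1
  have hTT : T * Tq = 1 := by
    rw [← Matrix.map_mul, mul_eq_one_comm.mp hM, Matrix.map_one _ (map_zero ι) (map_one ι)]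
  have hscal : ∀ (c : K) (z : Fin m → K), scalar (Fin m) c *ᵥ z = c • z := fun c z => by
    ext i; simp [scalar_apply, mulVec_diagonal]
  rw [sub_mulVec, hscal, sub_eq_zero] at hy
  have h2 : y = a ^ q • (T *ᵥ y) := by
    rw [← mulVec_smul, hy, mulVec_mulVec, hTT, one_mulVec]
  have haq : a ^ q ≠ 0 := fun h0 => hy0 (by rw [h2, h0, zero_smul])
  refine Matrix.exists_mulVec_eq_zero_iff.1 ⟨y, hy0, ?_⟩
  rw [sub_mulVec, hscal, sub_eq_zero]
  conv_lhs => rw [h2]
  rw [smul_smul, inv_mul_cancel₀ haq, one_smul]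

theorem centraliser_prime {m : ℕ} (hm : 4 ≤ m) {M : Matrix (Fin m) (Fin m) F}
    (hM : H51.adj hF M * M = 1) {r : ℕ} [Fact r.Prime] (hr : (r : F) ≠ 0) (hMr : M ^ r = 1)
    (hM1 : M ≠ 1) {N : Matrix (Fin m) (Fin m) F} (hN : N * M = M * N) (hN2 : N * N = 0) (hN0 : N ≠ 0)
    (hrq : ¬ r ∣ q ^ 2 - 1) :
    ∃ k : ℕ, 2 ≤ k ∧ k ≤ m - 2 ∧ r ∣ (if Even k then q ^ k - 1 else q ^ k + 1) := by
  classical
  have hq := two_le hF
  have hrp : r.Prime := Fact.out
  have hrq0 : ¬ r ∣ q := by
    intro h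
    apply hr
    obtain ⟨p, f, hp, hf, hc, rfl⟩ := exists_prime_pow hF
    rw [(Nat.prime_dvd_prime_iff_eq hrp hp).1 (hrp.dvd_of_dvd_pow h), CharP.cast_eq_zero]
  have hr1 : ¬ r ∣ q + 1 := fun h => hrq (h.trans ⟨q - 1, by rw [← Nat.sq_sub_sq, one_pow]⟩)
  set f := M.charpoly with hf
  have hfm : f.Monic := Matrix.charpoly_monic M
  have hfd : f.natDegree = m := by rw [hf, Matrix.charpoly_natDegree_eq_dim, Fintype.card_fin]
  -- a non-trivial irreducible factor
  obtain ⟨P, hP, hPm, hPf, hP1⟩ : ∃ P : F[X], Irreducible P ∧ P.Monic ∧ P ∣ f ∧ P ≠ X - 1 := by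
    by_contra hno
    push Not at hno
    apply hM1
    have hall : f = (X - 1) ^ m := by
      rw [← hfd]
      have : ∀ (d : ℕ) (g : F[X]), g.natDegree = d → g.Monic → g ∣ f → g = (X - 1) ^ d := by
        intro d
        induction d using Nat.strong_induction_on with
        | _ d ih =>
          intro g hg hgm hgf
          rcases Nat.eq_zero_or_pos d with rfl | hd
          · rw [pow_zero]; exact hgm.natDegree_eq_zero.1 hg
          obtain ⟨R₀, hR, hdvd⟩ := WfDvdMonoid.exists_irreducible_factor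
            (fun hu => (show g.natDegree ≠ 0 by omega) (natDegree_eq_zero_of_isUnit hu)) hgm.ne_zero
          have hRi := (associated_normalize R₀).irreducible hR
          have hRm := monic_normalize hR.ne_zero
          have hRdvd : normalize R₀ ∣ g := normalize_dvd_iff.2 hdvd
          rw [hno _ hRi hRm (hRdvd.trans hgf)] at hRdvd
          obtain ⟨h, rfl⟩ := hRdvd
          have hhm : h.Monic := Monic.of_mul_monic_left (monic_X_sub_C (1 : F)) (by simpa using hgm)
          have hd' : 1 + h.natDegree = d := by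
            rw [← hg, Monic.natDegree_mul (by simpa using monic_X_sub_C (1 : F)) hhm,
              show (X - 1 : F[X]) = X - C 1 by simp, natDegree_X_sub_C]
          rw [ih h.natDegree (by omega) h rfl hhm ((dvd_mul_left _ _).trans hgf), ← pow_succ',
            show h.natDegree + 1 = d by omega]
      exact this _ f rfl hfm dvd_rfl
    obtain ⟨C, hC, hCM⟩ := H40.exists_conj_matrix ⟨r, hr, hMr⟩ ⟨1, by simp, pow_one _⟩
      (show M.charpoly = (1 : Matrix (Fin m) (Fin m) F).charpoly by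
        rw [Matrix.charpoly_one, ← hf, hall, Fintype.card_fin])
    rw [one_mul] at hCM
    calc M = C⁻¹ * (C * M) := by
          rw [← mul_assoc, Matrix.nonsing_inv_mul _ (isUnit_iff_ne_zero.2 hC), one_mul]
      _ = 1 := by rw [hCM, Matrix.nonsing_inv_mul _ (isUnit_iff_ne_zero.2 hC)]
  haveI : Fact (Irreducible P) := ⟨hP⟩
  haveI : Module.Finite F (AdjoinRoot P) := hPm.finite_adjoinRoot
  haveI : Finite (AdjoinRoot P) := Module.finite_of_finite F
  haveI : Fintype (AdjoinRoot P) := Fintype.ofFinite _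
  set e := P.natDegree with he
  have he0 : 0 < e := hP.natDegree_pos
  have hK : Module.finrank F (AdjoinRoot P) = e := by
    rw [(AdjoinRoot.powerBasis hP.ne_zero).finrank, AdjoinRoot.powerBasis_dim]
  set ι := algebraMap F (AdjoinRoot P)
  set a : AdjoinRoot P := AdjoinRoot.root P
  have hPa : P.eval₂ ι a = 0 := AdjoinRoot.eval₂_root P
  have hfa : f.eval₂ ι a = 0 := eval₂_eq_zero_of_dvd_of_eval₂_eq_zero _ _ hPf hPa
  have har : a ^ r = 1 := by
    have hfr : ∃ x : Fin m → AdjoinRoot P, x ≠ 0 ∧ M.map ι *ᵥ x = a • x := by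
      rw [← eval_map, ← Matrix.charpoly_map, Matrix.eval_charpoly,
        ← Matrix.exists_mulVec_eq_zero_iff] at hfa
      obtain ⟨x, hx0, hx⟩ := hfa
      refine ⟨x, hx0, ?_⟩
      rw [sub_mulVec, sub_eq_zero] at hx
      rw [← hx]
      ext i
      simp [scalar_apply, mulVec_diagonal]
    obtain ⟨x, hx0, hx⟩ := hfr
    have hpow : ∀ i : ℕ, (M.map ι) ^ i *ᵥ x = a ^ i • x := by
      intro i
      induction i with
      | zero => simp
      | succ i ih => rw [pow_succ, ← mulVec_mulVec, hx, mulVec_smul, ih, smul_smul, ← pow_succ']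
    have h1 := hpow r
    rw [← RingHom.mapMatrix_apply, ← map_pow, hMr, map_one, one_mulVec] at h1
    exact smul_left_injective (AdjoinRoot P) hx0 (show a ^ r • x = (1 : AdjoinRoot P) • x by
      rw [one_smul, ← h1])
  have ha1 : a ≠ 1 := by
    intro h
    apply hP1
    have h1 : P.eval 1 = 0 := by
      apply ι.injective
      rw [map_zero, ← hPa, h]
      exact (Polynomial.eval₂_at_one ι).symm
    exact (eq_of_monic_of_associated (by simpa using monic_X_sub_C (1 : F)) hPm
      ((irreducible_X_sub_C 1).associated_of_dvd hP (dvd_iff_isRoot.2 h1) |>.trans (Associated.refl _) |>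
        fun h' => by simpa using h')).symm
  have hord : orderOf a = r := orderOf_eq_prime har ha1
  have hdvd : ∀ n, a ^ n = 1 → r ∣ n := fun n hn => hord ▸ orderOf_dvd_of_pow_eq_one hn
  have ha0 : a ≠ 0 := fun h => by rw [h, zero_pow hrp.ne_zero] at har; exact zero_ne_one har
  have hsub : ∀ d, a ^ ((q ^ 2) ^ d) = a → r ∣ q ^ (2 * d) - 1 := by
    intro d hd
    apply hdvd
    rw [pow_mul]
    apply mul_right_cancel₀ ha0
    rw [one_mul, ← pow_succ, Nat.sub_add_cancel (Nat.one_le_pow _ _ (by positivity)), hd]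
  have he2 : r ∣ q ^ (2 * e) - 1 := by
    apply hsub
    have h := FiniteField.pow_card a
    rwa [Module.card_eq_pow_finrank (K := F), hK, hF] at h
  -- the repeated factor
  obtain ⟨R, hR, hRm, hRR⟩ : ∃ R : F[X], Irreducible R ∧ R.Monic ∧ R * R ∣ f := by
    obtain ⟨R, h1, h2, h3⟩ := sq_dvd_charpoly (f := (Matrix.toLinAlgEquiv' M : Module.End F (Fin m → F)))
      (N := (Matrix.toLinAlgEquiv' N : Module.End F (Fin m → F)))
      ((H40.primeToChar_matrix_iff M).2 ⟨r, hr, hMr⟩)
      (fun v => by show N *ᵥ (M *ᵥ v) = M *ᵥ (N *ᵥ v); rw [mulVec_mulVec, mulVec_mulVec, hN])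
      (fun v => by show N *ᵥ (N *ᵥ v) = 0; rw [mulVec_mulVec, hN2, zero_mulVec])
      (fun h => hN0 (EmbeddingLike.map_eq_zero_iff.1 h))
    exact ⟨R, h1, h2, by rwa [H40.charpoly_toEnd] at h3⟩
  have hRd := hR.natDegree_pos
  have hco : ∀ {A B : F[X]}, Irreducible A → A.Monic → Irreducible B → B.Monic → A ≠ B →
      IsCoprime A B := fun hA hAm hB hBm hne => hA.coprime_iff_not_dvd.2 fun hd =>
    hne (eq_of_monic_of_associated hAm hBm (hA.associated_of_dvd hB hd))
  have hbound : ∀ g : F[X], g.Monic → g ∣ f → g.natDegree ≤ m := fun g _ hg =>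
    hfd ▸ natDegree_le_of_dvd hg hfm.ne_zero
  set b := (a ^ q)⁻¹ with hb
  have hfb : f.eval₂ ι b = 0 := eigen_dual hF hM hfa
  by_cases hbP : P.eval₂ ι b = 0
  · obtain ⟨φ, hφ⟩ : ∃ φ : AdjoinRoot P →ₐ[F] AdjoinRoot P, φ a = b :=
      ⟨AdjoinRoot.liftAlgHom P (Algebra.ofId F _) b hbP, AdjoinRoot.liftAlgHom_root _ _ _ _⟩
    obtain ⟨⟨i, hi⟩, hφi⟩ := (FiniteField.bijective_frobeniusAlgHom_pow F (AdjoinRoot P)).2 φ
    rw [hK] at hi
    have hba : a ^ ((q ^ 2) ^ i) * a ^ q = 1 := by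
      have h1 : b = a ^ ((q ^ 2) ^ i) := by
        rw [← hφ, ← hφi, ← hF]
        simp [AlgHom.coe_pow, FiniteField.coe_frobeniusAlgHom, pow_iterate]
      rw [← h1, hb, inv_mul_cancel₀ (pow_ne_zero _ ha0)]
    rcases i with _ | i
    · exfalso
      apply hr1
      apply hdvd
      rwa [pow_zero, pow_one, ← pow_succ'] at hba
    have hr' : r ∣ q ^ (2 * i + 1) + 1 := by
      refine (hrp.dvd_mul.1 ?_).resolve_left hrq0
      rw [mul_add, mul_one, ← pow_succ', show 2 * i + 1 + 1 = 2 * (i + 1) by ring, pow_mul]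
      exact hdvd _ (by rwa [pow_add])
    have hx : ((q : ZMod r)) ^ (2 * i + 1) = -1 := by
      rw [eq_neg_iff_add_eq_zero]
      exact_mod_cast (ZMod.natCast_eq_zero_iff _ r).2 hr'
    have hxe : ((q : ZMod r)) ^ (2 * e) = 1 := by
      have h := (ZMod.natCast_eq_zero_iff _ r).2 he2
      rw [Nat.cast_sub (Nat.one_le_pow _ _ (by omega)), sub_eq_zero] at h
      simpa using h
    obtain ⟨hgo, hg⟩ := minus_one_of_gcd ⟨i, rfl⟩ hx hxe
    set g := Nat.gcd (2 * i + 1) e
    have hge : g ≤ e := Nat.le_of_dvd he0 (Nat.gcd_dvd_right _ _)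
    have hrg : r ∣ q ^ g + 1 := by
      rw [← ZMod.natCast_eq_zero_iff]
      push_cast
      rw [hg, neg_add_cancel]
    have hg2 : 2 ≤ g := by
      by_contra h
      have hg1 : g = 1 := by rcases hgo with ⟨c, hc⟩; omega
      rw [hg1, pow_one] at hrg
      exact hr1 hrg
    refine ⟨g, hg2, hge.trans ?_, by rw [if_neg (Nat.not_even_iff_odd.2 hgo)]; exact hrg⟩
    by_cases hRP : R = P
    · have := hbound _ (hRm.mul hRm) hRR
      rw [hRm.natDegree_mul hRm, hRP, ← he] at this
      omega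
    · have hd : P * (R * R) ∣ f :=
        ((hco hP hPm hR hRm (Ne.symm hRP)).mul_right (hco hP hPm hR hRm (Ne.symm hRP))).mul_dvd hPf hRR
      have := hbound _ (hPm.mul (hRm.mul hRm)) hd
      rw [hPm.natDegree_mul (hRm.mul hRm), hRm.natDegree_mul hRm, ← he] at this
      omega
  · -- the second factor
    have hbint : IsIntegral F b := IsIntegral.of_finite F b
    set Q := minpoly F b with hQ
    have hQi : Irreducible Q := minpoly.irreducible hbint
    have hQm : Q.Monic := minpoly.monic hbint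
    have hQf : Q ∣ f := minpoly.dvd F b (by rw [aeval_def]; exact hfb)
    have hPQ : P ≠ Q := fun h => hbP (by
      have h' := minpoly.aeval F b
      rwa [← hQ, ← h, aeval_def] at h')
    haveI : Fact (Irreducible Q) := ⟨hQi⟩
    haveI : Module.Finite F (AdjoinRoot Q) := hQm.finite_adjoinRoot
    haveI : Finite (AdjoinRoot Q) := Module.finite_of_finite F
    haveI : Fintype (AdjoinRoot Q) := Fintype.ofFinite _
    set e' := Q.natDegree with he'
    have hK' : Module.finrank F (AdjoinRoot Q) = e' := by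
      rw [(AdjoinRoot.powerBasis hQi.ne_zero).finrank, AdjoinRoot.powerBasis_dim]
    have hle : e' ≤ e := hK ▸ minpoly.natDegree_le b
    let ψ : AdjoinRoot Q →ₐ[F] AdjoinRoot P :=
      AdjoinRoot.liftAlgHom Q (Algebra.ofId F _) b (minpoly.aeval F b)
    have hψ : ψ (AdjoinRoot.root Q) = b := AdjoinRoot.liftAlgHom_root _ _ _ _
    have hbQ : b ^ ((q ^ 2) ^ e') = b := by
      have h := congrArg ψ (FiniteField.pow_card (AdjoinRoot.root Q))
      rwa [map_pow, hψ, Module.card_eq_pow_finrank (K := F), hK', hF] at h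
    have hr' : r ∣ q ^ (2 * e') - 1 := by
      apply hsub
      rw [hb, inv_pow, _root_.inv_inj, pow_right_comm] at hbQ
      exact ext_pow_q_inj hF hbQ
    have he'0 : 0 < e' := hQi.natDegree_pos
    have he'2 : 2 ≤ e' := by
      by_contra h
      have : e' = 1 := by omega
      rw [this, mul_one] at hr'
      exact hrq hr'
    refine ⟨2 * e', by omega, ?_, by rw [if_pos (even_two_mul e')]; exact hr'⟩
    have hPQc := hco hP hPm hQi hQm hPQ
    by_cases hRP : R = P
    · subst hRP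
      have := hbound _ ((hRm.mul hRm).mul hQm) ((hPQc.mul_left hPQc).mul_dvd hRR hQf)
      rw [(hRm.mul hRm).natDegree_mul hQm, hRm.natDegree_mul hRm] at this
      omega
    by_cases hRQ : R = Q
    · subst hRQ
      have := hbound _ (hPm.mul (hRm.mul hRm)) ((hPQc.mul_right hPQc).mul_dvd hPf hRR)
      rw [hPm.natDegree_mul (hRm.mul hRm), hRm.natDegree_mul hRm] at this
      omega
    have c1 := hco hP hPm hR hRm (Ne.symm hRP)
    have c2 := hco hQi hQm hR hRm (Ne.symm hRQ)
    have hd : P * Q * (R * R) ∣ f :=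
      ((c1.mul_left c2).mul_right (c1.mul_left c2)).mul_dvd (hPQc.mul_dvd hPf hQf) hRR
    have := hbound _ ((hPm.mul hQm).mul (hRm.mul hRm)) hd
    rw [(hPm.mul hQm).natDegree_mul (hRm.mul hRm), hPm.natDegree_mul hQm, hRm.natDegree_mul hRm] at this
    omega

end H50
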