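import Cfsg.Agent.H50.DetCentralizer

/-! The determinant on the unitary centraliser of an involution in characteristic two. -/

set_option autoImplicit false

namespace H50

universe u

open Matrix Cfsg

variable {F : Type u} [Field F] [Fintype F] {n q : ℕ} (hF : Fintype.card F = q ^ 2)
include hF

omit hF in
/-- In characteristic two `q` is even, so norm one elements are squares of norm one elements. -/
theorem exists_sq_norm_one (hev : Even q) {l : F} (hl : l ^ (q + 1) = 1) :
    ∃ a : F, a ^ (q + 1) = 1 ∧ a ^ 2 = l := by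
  obtain ⟨k, rfl⟩ := hev
  refine ⟨l ^ (k + 1), ?_, ?_⟩
  · rw [← pow_mul, mul_comm, pow_mul, hl, one_pow]
  · rw [← pow_mul, show (k + 1) * 2 = (k + k + 1) + 1 by omega, pow_succ, hl, one_mul]

theorem q_even [CharP F 2] : Even q := by
  have h : ((q ^ 2 : ℕ) : F) = 0 := by rw [← hF, Nat.cast_card_eq_zero]
  rw [CharP.cast_eq_zero_iff F 2] at h
  exact even_iff_two_dvd.2 (Nat.prime_two.dvd_of_dvd_pow h)

theorem exists_commuting_unitary_det_nilp (hev : Even q) {N : Matrix (Fin n) (Fin n) F}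
    (hN : H51.adj hF N = N) (hN2 : N * N = 0) (hN0 : N ≠ 0) {l : F} (hl : l ^ (q + 1) = 1) :
    ∃ Y : Matrix (Fin n) (Fin n) F, H51.adj hF Y * Y = 1 ∧ Y * N = N * Y ∧ Y.det = l := by
  obtain ⟨a, ha, hal⟩ := exists_sq_norm_one hev hl
  have hNh : ∀ u v, hermForm n F q (N *ᵥ u) v = hermForm n F q u (N *ᵥ v) := fun u v => by
    rw [h_mulVec_left hF, hN]
  obtain ⟨y, hy⟩ : ∃ y, hermForm n F q (N *ᵥ y) y ≠ 0 := by
    by_contra hno
    push Not at hno
    apply hN0
    refine matrix_eq_of_h hF fun u v => ?_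
    rw [zero_mulVec, h_zero_left]
    by_contra hne
    obtain ⟨θ, ht, -⟩ := H51.exists_theta hF
    set c := hermForm n F q (N *ᵥ u) v
    have hsum := hno ((θ / c) • u + v)
    rw [mulVec_add, mulVec_smul, h_add_left, h_add_right hF, h_add_right hF, h_smul_left,
      h_smul_left, h_smul_right hF, h_smul_right hF, hno u, hno v, hNh v u,
      h_symm hF (N *ᵥ u) v] at hsum
    have hcu : θ / c * c = θ := div_mul_cancel₀ θ hne
    apply ht
    rw [← hcu, mul_pow]
    linear_combination hsum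
  let U : Matrix (Fin n) (Fin 2) F := Matrix.of fun k j => ![y, N *ᵥ y] j k
  let J : Matrix (Fin 2) (Fin 2) F := !![0, 0; 1, 0]
  have hUJ : N * U = U * J := by
    ext k j
    fin_cases j
    · simp [Matrix.mul_apply, U, J, mulVec, dotProduct]
    · have h := congrFun (congrArg (fun A : Matrix (Fin n) (Fin n) F => A *ᵥ y) hN2) k
      simp only [← mulVec_mulVec, zero_mulVec, Pi.zero_apply] at h
      simp [Matrix.mul_apply, U, J, mulVec, dotProduct] at h ⊢
      exact h
  set G := H51.adj hF U * U with hG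
  have hGe : ∀ i j, G i j = hermForm n F q (![y, N *ᵥ y] j) (![y, N *ᵥ y] i) := by
    intro i j
    simp only [hG, Matrix.mul_apply, H51.adj_apply, U, Matrix.of_apply, hermForm]
    exact Finset.sum_congr rfl fun k _ => mul_comm _ _
  have hGd : IsUnit G.det := by
    have h11 : hermForm n F q (N *ᵥ y) (N *ᵥ y) = 0 := by
      rw [hNh, mulVec_mulVec, hN2, zero_mulVec, h_zero_right hF]
    rw [isUnit_iff_ne_zero, det_fin_two, hGe, hGe, hGe, hGe]
    simp only [cons_val_zero, cons_val_one]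
    rw [h11, mul_zero, zero_sub, neg_ne_zero]
    exact mul_ne_zero hy (fun h => hy ((h_eq_zero_comm hF).1 h))
  have hGs : H51.adj hF G = G := by rw [hG, H51.adj_mul, H51.adj_adj]
  have hGi : H51.adj hF G⁻¹ = G⁻¹ := by
    have h1 : H51.adj hF G⁻¹ * G = 1 := by
      conv_lhs => arg 2; rw [← hGs]
      rw [← H51.adj_mul, Matrix.mul_nonsing_inv _ hGd, H51.adj_one]
    exact (Matrix.inv_eq_left_inv h1).symm
  set P := U * G⁻¹ * H51.adj hF U with hP
  have hPs : H51.adj hF P = P := by
    rw [hP, H51.adj_mul, H51.adj_mul, H51.adj_adj, hGi, Matrix.mul_assoc]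
  have hPP : P * P = P :=
    calc P * P = U * (G⁻¹ * (H51.adj hF U * U)) * G⁻¹ * H51.adj hF U := by
          simp only [hP, Matrix.mul_assoc]
      _ = P := by rw [← hG, Matrix.nonsing_inv_mul _ hGd, Matrix.mul_one, hP]
  have hPN : P * N = N * P := by
    have hJG : G * J = H51.adj hF J * G := by
      calc G * J = H51.adj hF U * (N * U) := by rw [hUJ, hG, Matrix.mul_assoc]
        _ = H51.adj hF (N * U) * U := by rw [H51.adj_mul, hN, Matrix.mul_assoc]
        _ = H51.adj hF J * G := by rw [hUJ, H51.adj_mul, hG, Matrix.mul_assoc]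
    have hJG' : G⁻¹ * H51.adj hF J = J * G⁻¹ :=
      calc G⁻¹ * H51.adj hF J = G⁻¹ * (H51.adj hF J * G) * G⁻¹ := by
            rw [Matrix.mul_assoc, Matrix.mul_assoc, Matrix.mul_nonsing_inv _ hGd, Matrix.mul_one]
        _ = J * G⁻¹ := by
            rw [← hJG, ← Matrix.mul_assoc, Matrix.nonsing_inv_mul _ hGd, Matrix.one_mul]
    calc P * N = U * G⁻¹ * H51.adj hF (N * U) := by
          rw [hP, H51.adj_mul, hN, Matrix.mul_assoc]
      _ = U * (G⁻¹ * H51.adj hF J) * H51.adj hF U := by
          rw [hUJ, H51.adj_mul]; simp only [Matrix.mul_assoc]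
      _ = (U * J) * G⁻¹ * H51.adj hF U := by rw [hJG']; simp only [Matrix.mul_assoc]
      _ = N * P := by rw [← hUJ, hP]; simp only [Matrix.mul_assoc]
  refine ⟨1 + (a - 1) • P, ?_, ?_, ?_⟩
  · have hadj : H51.adj hF (1 + (a - 1) • P) = 1 + (a ^ q - 1) • P := by
      rw [H51.adj_add, H51.adj_one, H51.adj_smul, hPs, H51.sub_pow_q hF, one_pow]
    have hs : (a - 1) + (a ^ q - 1) + (a ^ q - 1) * (a - 1) = 0 := by
      linear_combination ha
    calc H51.adj hF (1 + (a - 1) • P) * (1 + (a - 1) • P)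
        = (1 + (a ^ q - 1) • P) * (1 + (a - 1) • P) := by rw [hadj]
      _ = 1 + ((a - 1) + (a ^ q - 1) + (a ^ q - 1) * (a - 1)) • P := by
          rw [add_mul, one_mul, mul_add, mul_one, smul_mul_smul_comm, hPP, add_smul,
            add_smul]
          abel
      _ = 1 := by rw [hs, zero_smul, add_zero]
  · rw [add_mul, mul_add, one_mul, mul_one, smul_mul_assoc, mul_smul_comm, hPN]
  · have h1 : ((a - 1) • P) = ((a - 1) • (U * G⁻¹)) * H51.adj hF U := by
      rw [Matrix.smul_mul, hP]
    have h2 : (1 : Matrix (Fin 2) (Fin 2) F) + H51.adj hF U * ((a - 1) • (U * G⁻¹)) = a • 1 := by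
      rw [Matrix.mul_smul, ← Matrix.mul_assoc, ← hG, Matrix.mul_nonsing_inv _ hGd, sub_smul,
        one_smul, add_sub_cancel]
    rw [h1, Matrix.det_one_add_mul_comm, h2, Matrix.det_smul, Matrix.det_one, mul_one,
      Fintype.card_fin, hal]

end H50
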