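import Mathlib

/-! A kernel-cheap model of the field with 9 elements: the code `a + 3b` stands for `a + b i`. -/

set_option autoImplicit false

namespace H50.Nine

/-- addition of codes -/
def a9 (x y : ℕ) : ℕ := (x % 3 + y % 3) % 3 + 3 * ((x / 3 + y / 3) % 3)

/-- product of codes -/
def m9 (x y : ℕ) : ℕ :=
  (x % 3 * (y % 3) + 2 * (x / 3 * (y / 3))) % 3 + 3 * ((x % 3 * (y / 3) + x / 3 * (y % 3)) % 3)

/-- inverse of codes -/
def i9 (x : ℕ) : ℕ := ([0, 1, 2, 6, 5, 4, 3, 8, 7] : List ℕ).getD (x % 9) 0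

/-- The field with 9 elements. -/
structure F where
  /-- The code. -/
  v : Fin 9
deriving DecidableEq

namespace F

/-- Codes are elements. -/
def equivFin : F ≃ Fin 9 := ⟨F.v, F.mk, fun _ => rfl, fun _ => rfl⟩

instance : Fintype F := Fintype.ofEquiv _ equivFin.symm

/-- The element with a given code. -/
def ofN (a : ℕ) : F := ⟨⟨a % 9, Nat.mod_lt _ (by norm_num)⟩⟩

instance : Zero F := ⟨ofN 0⟩
instance : One F := ⟨ofN 1⟩
instance : Add F := ⟨fun a b => ofN (a9 a.v b.v)⟩
instance : Neg F := ⟨fun a => ofN (a9 a.v a.v)⟩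
instance : Mul F := ⟨fun a b => ofN (m9 a.v b.v)⟩
instance : Inv F := ⟨fun a => ofN (i9 a.v)⟩

theorem f9_assoc : ∀ a b c : F, a + b + c = a + (b + c) := by decide +kernel
theorem f9_mul_assoc : ∀ a b c : F, a * b * c = a * (b * c) := by decide +kernel
theorem f9_distrib : ∀ a b c : F, a * (b + c) = a * b + a * c := by decide +kernel

instance : Field F :=
  Field.ofMinimalAxioms F f9_assoc (by decide +kernel) (by decide +kernel) f9_mul_assoc
    (by decide +kernel) (by decide +kernel) (by decide +kernel) (by decide +kernel) f9_distrib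
    ⟨0, 1, by decide +kernel⟩

theorem card_eq : Fintype.card F = 3 ^ 2 := by
  rw [Fintype.card_congr equivFin, Fintype.card_fin]; norm_num

end F

end H50.Nine
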