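import Cfsg.Agent.H50.LSChar
import Cfsg.Agent.H50.Simple

/-! Characters of root groups in complex representations of `SU n`. -/

set_option autoImplicit false

namespace H50.LS

open Matrix Cfsg

variable {F : Type*} [Field F] {n q : ℕ}

/-- Restriction of a representation to an invariant subspace. -/
def subRep {H : Type*} [Monoid H] {E : Type*} [AddCommGroup E] [Module ℂ E]
    (ρ : H →* Module.End ℂ E) (W : Submodule ℂ E) (hW : ∀ g, ∀ x ∈ W, ρ g x ∈ W) :
    H →* Module.End ℂ W where
  toFun g := (ρ g).restrict (hW g)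
  map_one' := LinearMap.ext fun x => Subtype.ext (by simp)
  map_mul' a b := LinearMap.ext fun x => Subtype.ext (by simp)

@[simp] theorem subRep_apply {H : Type*} [Monoid H] {E : Type*} [AddCommGroup E] [Module ℂ E]
    (ρ : H →* Module.End ℂ E) (W : Submodule ℂ E) (hW : ∀ g, ∀ x ∈ W, ρ g x ∈ W) (g : H) (x : W) :
    ((subRep ρ W hW g x : W) : E) = ρ g x := rfl

variable [Fintype F] (hF : Fintype.card F = q ^ 2)

noncomputable instance kerFintype : Fintype (traceHom hF).ker := Fintype.ofFinite _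

include hF

theorem card_ker : Fintype.card (traceHom hF).ker = q := by
  rw [← Nat.card_eq_fintype_card, card_trace_ker hF]

theorem mul_ker {t c : F} (ht : t ^ q = t) (hc : c + c ^ q = 0) : t * c + (t * c) ^ q = 0 := by
  rw [mul_pow, ht]; linear_combination t * hc

/-- Multiplication of trace-zero scalars by a fixed scalar. -/
def mulK (t : {x : F // x ^ q = x}) : (traceHom hF).ker →+ (traceHom hF).ker where
  toFun c := ⟨t.1 * c.1, mul_ker hF t.2 (traceKer_eq hF c)⟩
  map_zero' := Subtype.ext (by simp)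
  map_add' a b := Subtype.ext (by simp [mul_add])

/-- The scaled character. -/
noncomputable def chScale (t : {x : F // x ^ q = x}) (χ : AddChar (traceHom hF).ker ℂ) :
    AddChar (traceHom hF).ker ℂ :=
  χ.compAddMonoidHom (mulK hF t)

theorem chScale_apply (t : {x : F // x ^ q = x}) (χ : AddChar (traceHom hF).ker ℂ)
    (c : (traceHom hF).ker) :
    chScale hF t χ c = χ ⟨t.1 * c.1, mul_ker hF t.2 (traceKer_eq hF c)⟩ := rfl

theorem chScale_one (t : {x : F // x ^ q = x}) (ht : t.1 = 1)
    (χ : AddChar (traceHom hF).ker ℂ) : chScale hF t χ = χ := by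
  refine DFunLike.ext _ _ fun c => ?_
  rw [chScale_apply]
  exact congrArg χ (Subtype.ext (by simp [ht]))

theorem chScale_injective {χ : AddChar (traceHom hF).ker ℂ} (hχ : χ ≠ 0) :
    Function.Injective fun t => chScale hF t χ := by
  intro t s hts
  by_contra hne
  have hd : t.1 - s.1 ≠ 0 := sub_ne_zero.2 fun h => hne (Subtype.ext h)
  have hdq : ((t.1 - s.1)⁻¹) ^ q = (t.1 - s.1)⁻¹ := by rw [inv_pow, sub_pow_q hF, t.2, s.2]
  refine hχ (DFunLike.ext _ _ fun c => ?_)
  set d : (traceHom hF).ker := ⟨(t.1 - s.1)⁻¹ * c.1, mul_ker hF hdq (traceKer_eq hF c)⟩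
  have h : χ (mulK hF t d) = χ (mulK hF s d) := DFunLike.congr_fun hts d
  have hc : mulK hF t d = mulK hF s d + c := Subtype.ext (by
    show t.1 * ((t.1 - s.1)⁻¹ * c.1) = s.1 * ((t.1 - s.1)⁻¹ * c.1) + c.1
    rw [← sub_eq_iff_eq_add', ← sub_mul, ← mul_assoc, mul_inv_cancel₀ hd, one_mul])
  rw [hc, AddChar.map_add_eq_mul] at h
  have h0 : χ (mulK hF s d) ≠ 0 := (AddChar.val_isUnit χ _).ne_zero
  rw [AddChar.zero_apply]
  exact mul_left_cancel₀ h0 (h.trans (mul_one _).symm)

theorem exists_chScale {χ : AddChar (traceHom hF).ker ℂ} (hχ : χ ≠ 0)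
    (ψ : AddChar (traceHom hF).ker ℂ) : ∃ t, chScale hF t χ = ψ := by
  classical
  have hbij : Function.Bijective fun t => chScale hF t χ := by
    rw [Fintype.bijective_iff_injective_and_card, AddChar.card_eq, card_ker hF,
      ← Nat.card_eq_fintype_card, card_fixed hF]
    exact ⟨chScale_injective hF hχ, rfl⟩
  exact hbij.2 ψ

/-- The norm of `l`. -/
def nrm (l : F) : {x : F // x ^ q = x} :=
  ⟨l * l ^ q, by rw [mul_pow, pow_q_pow_q hF, mul_comm]⟩

/-- Any two non-trivial characters differ by a norm. -/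
theorem exists_chScale_norm {χ ψ : AddChar (traceHom hF).ker ℂ} (hχ : χ ≠ 0) (hψ : ψ ≠ 0) :
    ∃ l : F, l ≠ 0 ∧ chScale hF (nrm hF l) χ = ψ := by
  obtain ⟨t, ht⟩ := exists_chScale hF hχ ψ
  obtain ⟨l, hl⟩ := exists_norm_eq hF t.2
  have hlt : nrm hF l = t := Subtype.ext (by show l * l ^ q = t.1; rw [← hl, pow_succ'])
  refine ⟨l, ?_, hlt ▸ ht⟩
  rintro rfl
  refine hψ (DFunLike.ext _ _ fun c => ?_)
  rw [← ht, ← hlt, chScale_apply, AddChar.zero_apply, ← AddChar.map_zero_eq_one χ]
  exact congrArg χ (Subtype.ext (by simp [nrm]))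

theorem tv_conj' (g : SU n F q) {v w : Fin n → F} (l : F) (hgv : suMat g *ᵥ v = l • w)
    (hv : hermForm n F q v v = 0) (hw : hermForm n F q w w = 0) {c d : F} (hc : c + c ^ q = 0)
    (hd : d + d ^ q = 0) (hdc : d = l * l ^ q * c) :
    tv hF w d hw hd * g = g * tv hF v c hv hc := by
  refine suMat_ext fun x => ?_
  rw [suMat_mulVec_mul, suMat_mulVec_mul, tv_mulVec, tv_mulVec, mulVec_add, mulVec_smul, hgv,
    hdc, ← suMat_h g x v, hgv, h_smul_right hF]
  module

variable {E : Type*} [AddCommGroup E] [Module ℂ E] (ρ : SU n F q →* Module.End ℂ E)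

/-- A representation restricted to a root group. -/
noncomputable def rootRep (v : Fin n → F) (hv : hermForm n F q v v = 0) :
    Multiplicative (traceHom hF).ker →* Module.End ℂ E :=
  ρ.comp (rootHom hF v hv)

theorem rootRep_apply (v : Fin n → F) (hv : hermForm n F q v v = 0) (c : (traceHom hF).ker)
    (x : E) : rootRep hF ρ v hv (Multiplicative.ofAdd c) x =
      ρ (tv hF v c.1 hv (traceKer_eq hF c)) x := rfl

theorem rho_injective (g : SU n F q) : Function.Injective (ρ g) := fun x y h => by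
  have := congrArg (ρ g⁻¹) h
  rwa [← Module.End.mul_apply, ← Module.End.mul_apply, ← map_mul, inv_mul_cancel, map_one] at this

theorem map_eigSp {g : SU n F q} {v w : Fin n → F} {l : F} (hl : l ≠ 0)
    (hgv : suMat g *ᵥ v = l • w) {hv : hermForm n F q v v = 0} {hw : hermForm n F q w w = 0}
    {χ : AddChar (traceHom hF).ker ℂ} {x : E}
    (hx : x ∈ eigSp (rootRep hF ρ v hv) (chScale hF (nrm hF l) χ)) :
    ρ g x ∈ eigSp (rootRep hF ρ w hw) χ := by
  intro c
  set t : F := l * l ^ q with ht
  have ht0 : t ≠ 0 := mul_ne_zero hl (pow_ne_zero _ hl)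
  have htq : t⁻¹ ^ q = t⁻¹ := by rw [inv_pow]; exact congrArg Inv.inv (nrm hF l).2
  set c' : (traceHom hF).ker := ⟨t⁻¹ * c.1, mul_ker hF htq (traceKer_eq hF c)⟩
  have hcc : c.1 = t * c'.1 := by
    show c.1 = t * (t⁻¹ * c.1)
    rw [← mul_assoc, mul_inv_cancel₀ ht0, one_mul]
  rw [rootRep_apply, ← Module.End.mul_apply, ← map_mul,
    tv_conj' hF g l hgv hv hw (traceKer_eq hF c') (traceKer_eq hF c) hcc,
    map_mul, Module.End.mul_apply, ← rootRep_apply, hx c', map_smul, chScale_apply]
  congr 2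
  exact Subtype.ext hcc.symm

theorem finrank_eigSp_le [FiniteDimensional ℂ E] {g : SU n F q} {v w : Fin n → F} {l : F}
    (hl : l ≠ 0) (hgv : suMat g *ᵥ v = l • w) {hv : hermForm n F q v v = 0}
    {hw : hermForm n F q w w = 0} (χ : AddChar (traceHom hF).ker ℂ) :
    Module.finrank ℂ (eigSp (rootRep hF ρ v hv) (chScale hF (nrm hF l) χ)) ≤
      Module.finrank ℂ (eigSp (rootRep hF ρ w hw) χ) :=
  LinearMap.finrank_le_finrank_of_injective
    (f := (ρ g).restrict (fun _ hx => map_eigSp hF ρ hl hgv hx))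
    fun x y h => Subtype.ext (rho_injective hF ρ g (congrArg Subtype.val h))

theorem map_eigSp_one {g : SU n F q} {v w : Fin n → F} (hgv : suMat g *ᵥ v = w)
    {hv : hermForm n F q v v = 0} {hw : hermForm n F q w w = 0}
    {χ : AddChar (traceHom hF).ker ℂ} {x : E} (hx : x ∈ eigSp (rootRep hF ρ v hv) χ) :
    ρ g x ∈ eigSp (rootRep hF ρ w hw) χ :=
  map_eigSp hF ρ one_ne_zero (by rw [one_smul, hgv])
    (by rwa [chScale_one hF _ (by simp [nrm])])

theorem map_eigSp_zero {g : SU n F q} {v w : Fin n → F} {l : F} (hl : l ≠ 0)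
    (hgv : suMat g *ᵥ v = l • w) {hv : hermForm n F q v v = 0} {hw : hermForm n F q w w = 0}
    {x : E} (hx : x ∈ eigSp (rootRep hF ρ v hv) 0) : ρ g x ∈ eigSp (rootRep hF ρ w hw) 0 :=
  map_eigSp hF ρ hl hgv (by
    rwa [show chScale hF (nrm hF l) (0 : AddChar (traceHom hF).ker ℂ) = 0 from DFunLike.ext _ _ fun _ => rfl])

omit ρ in
/-- All non-trivial characters occur equally often: the count. -/
theorem count_bound [FiniteDimensional ℂ E]
    (R : Multiplicative (traceHom hF).ker →* Module.End ℂ E) (hR : R ≠ 1)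
    (heq : ∀ χ ψ : AddChar (traceHom hF).ker ℂ, χ ≠ 0 → ψ ≠ 0 →
      Module.finrank ℂ (eigSp R χ) ≤ Module.finrank ℂ (eigSp R ψ))
    {m : ℕ} (hm : ∀ χ, χ ≠ 0 → eigSp R χ ≠ ⊥ → m ≤ Module.finrank ℂ (eigSp R χ)) :
    (q - 1) * m + Module.finrank ℂ (eigSp R 0) ≤ Module.finrank ℂ E := by
  classical
  obtain ⟨χ, hχ, hne⟩ := exists_nontriv_eigSp hR
  rw [← sum_finrank_eigSp R, ← Finset.add_sum_erase _ _ (Finset.mem_univ 0), add_comm]
  refine Nat.add_le_add le_rfl (le_trans ?_ (Finset.card_nsmul_le_sum _ _ m fun ψ hψ => ?_))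
  · rw [Finset.card_erase_of_mem (Finset.mem_univ _), Finset.card_univ, AddChar.card_eq,
      card_ker hF, smul_eq_mul]
  · exact (hm χ hχ hne).trans (heq χ ψ hχ (Finset.ne_of_mem_erase hψ))

/-- Each non-trivial eigenspace of a root group is at least as large as the Heisenberg group
demands. -/
theorem pow_le_finrank_eigSp [FiniteDimensional ℂ E] {e f : Fin n → F} (hef : IsHyp q e f)
    {χ : AddChar (traceHom hF).ker ℂ} (hχ : χ ≠ 0) (hne : eigSp (rootRep hF ρ e hef.1) χ ≠ ⊥) :
    q ^ (n - 2) ≤ Module.finrank ℂ (eigSp (rootRep hF ρ e hef.1) χ) := by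
  classical
  set U := eigSp (rootRep hF ρ e hef.1) χ
  haveI : Nontrivial U := Submodule.nontrivial_iff_ne_bot.2 hne
  set W := LinearMap.ker (coords q ![e, f])
  have hWe : ∀ w : W, hermForm n F q w.1 e = 0 := fun w => congrFun w.2 0
  have hWf : ∀ w : W, hermForm n F q w.1 f = 0 := fun w => congrFun w.2 1
  have hcard : Fintype.card W = (q ^ (n - 2)) ^ 2 := by
    have h1 : Module.finrank F W = n - 2 := by
      have := LinearMap.finrank_range_add_finrank_ker (coords q ![e, f])
      rw [LinearMap.range_eq_top.2 (coords_surjective hF (GramND.linearIndependent hF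
        (hef.gramND hF))), finrank_top, Module.finrank_pi, Module.finrank_pi,
        Fintype.card_fin, Fintype.card_fin] at this
      show Module.finrank F (LinearMap.ker (coords q ![e, f])) = n - 2
      omega
    rw [Module.card_eq_pow_finrank (K := F), hF, h1, ← pow_mul, ← pow_mul, mul_comm]
  have hex : ∀ w : W, ∃ a : F, a + a ^ q + hermForm n F q w.1 w.1 = 0 := fun w => by
    obtain ⟨a, ha⟩ := exists_trace_eq hF (c := -hermForm n F q w.1 w.1)
      (by rw [neg_pow_q hF, h_self_fixed hF])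
    exact ⟨a, by linear_combination ha⟩
  choose a ha using hex
  let El : W → SU n F q := fun w => eich hF e w.1 (a w) hef.1 (hWe w) (ha w)
  have hEe : ∀ w, suMat (El w) *ᵥ e = e := fun w => by
    simp [El, suMat_eich, hef.1, (h_eq_zero_comm hF).1 (hWe w)]
  let M : W → Module.End ℂ U := fun w =>
    (ρ (El w)).restrict fun x hx => map_eigSp_one hF ρ (hEe w) hx
  let N : W → Module.End ℂ U := fun w =>
    (ρ (El w)⁻¹).restrict fun x hx => map_eigSp_one hF ρ (suMat_inv_fix (hEe w)) hx
  have hNM : ∀ w, N w * M w = 1 := fun w => LinearMap.ext fun x => Subtype.ext (by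
    show ρ (El w)⁻¹ (ρ (El w) x.1) = x.1
    rw [← Module.End.mul_apply, ← map_mul, inv_mul_cancel, map_one, Module.End.one_apply])
  have hMN : ∀ w, M w * N w = 1 := fun w => LinearMap.ext fun x => Subtype.ext (by
    show ρ (El w) (ρ (El w)⁻¹ x.1) = x.1
    rw [← Module.End.mul_apply, ← map_mul, mul_inv_cancel, map_one, Module.End.one_apply])
  let κ : W → W → (traceHom hF).ker := fun u w =>
    ⟨hermForm n F q u.1 w.1 - hermForm n F q w.1 u.1, by
      show hermForm n F q u.1 w.1 - hermForm n F q w.1 u.1 +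
        (hermForm n F q u.1 w.1 - hermForm n F q w.1 u.1) ^ q = 0
      rw [sub_pow_q hF, ← h_symm hF, ← h_symm hF]
      ring⟩
  have hcomm : ∀ u w, El u * El w = tv hF e (κ u w).1 hef.1 (traceKer_eq hF _) * (El w * El u) := by
    intro u w
    refine suMat_ext fun x => ?_
    simp only [El, κ, suMat_mulVec_mul, suMat_eich, tv_mulVec, h_add_left, h_smul_left, hef.1,
      hWe u, hWe w, (h_eq_zero_comm hF).1 (hWe u), (h_eq_zero_comm hF).1 (hWe w)]
    module
  have hMM : ∀ u w, M u * M w = χ (κ u w) • (M w * M u) := by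
    intro u w
    refine LinearMap.ext fun x => Subtype.ext ?_
    show ρ (El u) (ρ (El w) x.1) = χ (κ u w) • ρ (El w) (ρ (El u) x.1)
    rw [← Module.End.mul_apply, ← map_mul, hcomm, map_mul, map_mul, Module.End.mul_apply,
      Module.End.mul_apply]
    exact ((M w * M u) x).2 (κ u w)
  have hMNc : ∀ u v, N v * M u = χ (κ u v) • (M u * N v) := by
    intro u v
    calc N v * M u = N v * (M u * M v) * N v := by rw [mul_assoc, mul_assoc, hMN, mul_one]
      _ = χ (κ u v) • (N v * M v * M u * N v) := by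
        rw [hMM, mul_smul_comm, smul_mul_assoc, ← mul_assoc (N v) (M v) (M u)]
      _ = χ (κ u v) • (M u * N v) := by rw [hNM, one_mul]
  have htr : ∀ v w, v ≠ w → LinearMap.trace ℂ U (N v * M w) = 0 := by
    intro v w hvw
    obtain ⟨u, hu⟩ : ∃ u : W, χ (κ u w) ≠ χ (κ u v) := by
      obtain ⟨c, hc⟩ : ∃ c, χ c ≠ 1 := by
        by_contra h
        push Not at h
        exact hχ (DFunLike.ext _ _ fun c => by rw [h c, AddChar.zero_apply])
      set z : W := w - v with hz
      have hz0 : z.1 ≠ 0 := fun h => hvw (sub_eq_zero.1 (Subtype.ext h : z = 0)).symm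
      obtain ⟨x, hx⟩ : ∃ x, hermForm n F q x z.1 ≠ 0 := by
        by_contra h
        push Not at h
        exact hz0 (eq_zero_of_h_right hF h)
      set u0 := x - hermForm n F q x f • e - hermForm n F q x e • f with hu0
      have hu0W : u0 ∈ W := by
        funext i
        fin_cases i
        · simp [hu0, h_sub_left, h_smul_left, hef.1, (hef.symm hF).2.2]
        · simp [hu0, h_sub_left, h_smul_left, hef.2.1, hef.2.2]
      have hu0z : hermForm n F q u0 z.1 = hermForm n F q x z.1 := by
        simp [hu0, h_sub_left, h_smul_left, (h_eq_zero_comm hF).1 (hWe z),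
          (h_eq_zero_comm hF).1 (hWf z)]
      obtain ⟨d, hd0, hd⟩ := exists_trace_zero_ne_zero hF
      obtain ⟨r, hr⟩ : ∃ r : F, r - r ^ q = c.1 := by
        have hcd : (c.1 / d) ^ q = c.1 / d := by
          rw [div_pow, show c.1 ^ q = -c.1 by linear_combination traceKer_eq hF c,
            show d ^ q = -d by linear_combination hd, neg_div_neg_eq]
        obtain ⟨r, hr⟩ := exists_trace_eq hF hcd
        refine ⟨d * r, ?_⟩
        rw [mul_pow, show d ^ q = -d by linear_combination hd]
        field_simp at hr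
        linear_combination hr
      refine ⟨⟨(r / hermForm n F q x z.1) • u0, W.smul_mem _ hu0W⟩, fun h => hc ?_⟩
      set u : W := ⟨(r / hermForm n F q x z.1) • u0, W.smul_mem _ hu0W⟩
      have hκ : κ u w = κ u v + c := Subtype.ext (by
        show hermForm n F q u.1 w.1 - hermForm n F q w.1 u.1 =
          hermForm n F q u.1 v.1 - hermForm n F q v.1 u.1 + c.1
        have huz : hermForm n F q u.1 z.1 = r := by
          show hermForm n F q ((r / hermForm n F q x z.1) • u0) z.1 = r
          rw [h_smul_left, hu0z, div_mul_cancel₀ _ hx]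
        have hzu : hermForm n F q z.1 u.1 = r ^ q := by rw [h_symm hF u.1 z.1, huz]
        rw [show z.1 = w.1 - v.1 from rfl, h_sub_right hF] at huz
        rw [show z.1 = w.1 - v.1 from rfl, h_sub_left] at hzu
        linear_combination huz - hzu + hr)
      rw [hκ, AddChar.map_add_eq_mul] at h
      exact mul_left_cancel₀ (AddChar.val_isUnit χ _).ne_zero (h.trans (mul_one _).symm)
    have hconj : LinearMap.trace ℂ U (M u * (N v * M w) * N u) =
        LinearMap.trace ℂ U (N v * M w) := by
      rw [LinearMap.trace_mul_comm, ← mul_assoc, hNM, one_mul]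
    have key : χ (κ u v) • (M u * (N v * M w)) = χ (κ u w) • (N v * M w * M u) := by
      rw [← mul_assoc, ← smul_mul_assoc, ← hMNc, mul_assoc (N v), hMM, mul_smul_comm, mul_assoc]
    have key2 := congrArg (fun T => LinearMap.trace ℂ U (T * N u)) key
    simp only [smul_mul_assoc, map_smul, smul_eq_mul] at key2
    rw [hconj, mul_assoc (N v * M w), hMN, mul_one] at key2
    by_contra h0
    exact hu (mul_right_cancel₀ h0 key2.symm)
  have h := card_le_of_trace M N hNM htr
  rw [hcard] at h
  exact le_of_pow_le_pow_left₀ two_ne_zero (Nat.zero_le _) h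

end H50.LS
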