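import Cfsg.Agent.H50.LSBase
import Cfsg.Agent.H50.Parabolic

/-! The lower bound for non-trivial complex representations of `SU n`. -/

set_option autoImplicit false

namespace H50.LS

open Matrix Cfsg

variable {F : Type*} [Field F] {n q : ℕ}

variable [Fintype F] (hF : Fintype.card F = q ^ 2)
include hF

/-- The product of root elements at two orthogonal isotropic vectors and of the Eichler element
joining them. -/
noncomputable def twoRoot {e u : Fin n → F} (he : hermForm n F q e e = 0)
    (hu : hermForm n F q u u = 0) (hue : hermForm n F q u e = 0) :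
    Multiplicative ((traceHom hF).ker × (traceHom hF).ker × F) →* SU n F q where
  toFun p := tv hF e p.toAdd.1.1 he (traceKer_eq hF _) *
    (tv hF u p.toAdd.2.1.1 hu (traceKer_eq hF _) *
      eich hF e (p.toAdd.2.2 • u) 0 he (by rw [h_smul_left, hue, mul_zero])
        (by simp [h_smul_left, h_smul_right hF, hu, zero_pow (q_ne_zero hF)]))
  map_one' := suMat_ext fun x => by
    rw [suMat_mulVec_mul, suMat_mulVec_mul, tv_mulVec, tv_mulVec, suMat_eich, suMat_one]
    simp [h_smul_right hF, h_zero_right hF, zero_pow (q_ne_zero hF)]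
  map_mul' a b := suMat_ext fun x => by
    beta_reduce
    have heu : hermForm n F q e u = 0 := (h_eq_zero_comm hF).1 hue
    simp only [suMat_mulVec_mul, tv_mulVec, suMat_eich, toAdd_mul, Prod.fst_add, Prod.snd_add,
      AddSubgroup.coe_add, h_smul_right hF, h_add_left, h_smul_left, he, hu, hue, heu,
      add_pow_q hF]
    module

theorem twoRoot_mulVec {e u : Fin n → F} (he : hermForm n F q e e = 0)
    (hu : hermForm n F q u u = 0) (hue : hermForm n F q u e = 0) (c d : (traceHom hF).ker) (s : F)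
    (x : Fin n → F) :
    suMat (twoRoot hF he hu hue (Multiplicative.ofAdd (c, d, s))) *ᵥ x =
      x + (c.1 * hermForm n F q x e - s ^ q * hermForm n F q x u) • e +
        (d.1 * hermForm n F q x u + s * hermForm n F q x e) • u := by
  have heu : hermForm n F q e u = 0 := (h_eq_zero_comm hF).1 hue
  simp only [twoRoot, MonoidHom.coe_mk, OneHom.coe_mk, toAdd_ofAdd, suMat_mulVec_mul, tv_mulVec,
    suMat_eich, h_smul_right hF, h_add_left, h_smul_left, he, hu, hue, heu]
  module

variable {E : Type*} [AddCommGroup E] [Module ℂ E] (ρ : SU n F q →* Module.End ℂ E)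

/-- In a non-zero representation some root group of an isotropic vector fixes a vector, given two
independent orthogonal isotropic vectors. -/
theorem exists_root_fixed [Nontrivial E] {e u : Fin n → F} (he : hermForm n F q e e = 0)
    (hu : hermForm n F q u u = 0) (hue : hermForm n F q u e = 0)
    (hli : LinearIndependent F ![e, u]) :
    ∃ v, ∃ hv : hermForm n F q v v = 0, v ≠ 0 ∧ eigSp (rootRep hF ρ v hv) 0 ≠ ⊥ := by
  classical
  obtain ⟨χ, hne⟩ := exists_eigSp_ne_bot (ρ.comp (twoRoot hF he hu hue))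
  obtain ⟨x, hx, hx0⟩ := Submodule.exists_mem_ne_zero_of_ne_bot hne
  have he0 : e ≠ 0 := hli.ne_zero 0
  have hu0 : u ≠ 0 := hli.ne_zero 1
  let χ1 : AddChar (traceHom hF).ker ℂ := χ.compAddMonoidHom (AddMonoidHom.inl _ _)
  let χ2 : AddChar (traceHom hF).ker ℂ :=
    χ.compAddMonoidHom ((AddMonoidHom.inr _ _).comp (AddMonoidHom.inl _ _))
  let χ3 : AddChar F ℂ :=
    χ.compAddMonoidHom ((AddMonoidHom.inr _ _).comp (AddMonoidHom.inr _ _))
  have hsplit : ∀ (c d : (traceHom hF).ker) (s : F), χ (c, d, s) = χ1 c * (χ2 d * χ3 s) := by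
    intro c d s
    show _ = χ (c, 0, 0) * (χ (0, d, 0) * χ (0, 0, s))
    rw [← AddChar.map_add_eq_mul, ← AddChar.map_add_eq_mul]
    simp
  by_cases hχ2 : χ2 = 0
  · refine ⟨u, hu, hu0, (Submodule.ne_bot_iff _).2 ⟨x, mem_eigSp_zero.2 fun d => ?_, hx0⟩⟩
    have h := hx (0, d, 0)
    rw [MonoidHom.comp_apply, show twoRoot hF he hu hue (Multiplicative.ofAdd (0, d, 0)) =
      tv hF u d.1 hu (traceKer_eq hF d) from suMat_ext fun y => by
        rw [twoRoot_mulVec, tv_mulVec]; simp [zero_pow (q_ne_zero hF)]] at h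
    rw [rootRep_apply, h, hsplit, hχ2, AddChar.map_zero_eq_one, AddChar.zero_apply,
      AddChar.map_zero_eq_one, one_mul, one_mul, one_smul]
  · obtain ⟨t0, ht0⟩ := exists_chScale hF hχ2 χ1
    obtain ⟨c0, hc00, hc0⟩ := exists_trace_zero_ne_zero hF
    have hc0q : c0 ^ q = -c0 := by linear_combination hc0
    let L : F → F → F := fun β z => β ^ q * z + β * z ^ q
    have hL : ∀ β z, L β z ^ q = L β z := fun β z => by
      simp only [L, add_pow_q hF, mul_pow, pow_q_pow_q hF]; ring
    let Φ : F → AddChar F ℂ := fun β => χ2.compAddMonoidHom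
      { toFun := fun s => ⟨L β (s / c0) * c0, mul_ker hF (hL β _) hc0⟩
        map_zero' := Subtype.ext (by simp [L, zero_pow (q_ne_zero hF)])
        map_add' := fun a b => Subtype.ext (by
          simp only [L, AddSubgroup.coe_add, add_div, add_pow_q hF]; ring) }
    have hΦ : Function.Injective Φ := by
      intro β β' hββ
      by_contra hne'
      refine hχ2 (DFunLike.ext _ _ fun c => ?_)
      obtain ⟨w, hw⟩ := exists_trace_ne_zero hF
      set δ := β - β' with hδ
      have hδ0 : δ ≠ 0 := sub_ne_zero.2 hne'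
      set τ := δ ^ q * δ * (w + w ^ q) with hτ
      have hτ0 : τ ≠ 0 := mul_ne_zero (mul_ne_zero (pow_ne_zero _ hδ0) hδ0) hw
      have hτq : τ ^ q = τ := by
        rw [hτ, mul_pow, mul_pow, pow_q_pow_q hF, trace_fixed hF]; ring
      set r := c.1 / c0 / τ with hr
      have hrq : r ^ q = r := by
        rw [hr, div_pow, div_pow, hτq, hc0q,
          show c.1 ^ q = -c.1 by linear_combination traceKer_eq hF c, neg_div_neg_eq]
      have hLr : L δ (r * (δ * w)) * c0 = c.1 := by
        simp only [L, mul_pow, hrq]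
        calc (δ ^ q * (r * (δ * w)) + δ * (r * (δ ^ q * w ^ q))) * c0 = r * τ * c0 := by
              rw [hτ]; ring
          _ = c.1 := by rw [hr, div_mul_cancel₀ _ hτ0, div_mul_cancel₀ _ hc00]
      set s := r * (δ * w) * c0 with hs
      have hsd : s / c0 = r * (δ * w) := by rw [hs, mul_div_cancel_right₀ _ hc00]
      set k : (traceHom hF).ker := ⟨L β' (s / c0) * c0, mul_ker hF (hL _ _) hc0⟩
      have h : χ2 ⟨L β (s / c0) * c0, mul_ker hF (hL _ _) hc0⟩ = χ2 k := DFunLike.congr_fun hββ s
      have hk : (⟨L β (s / c0) * c0, mul_ker hF (hL _ _) hc0⟩ : (traceHom hF).ker) = k + c :=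
        Subtype.ext (by
          show L β (s / c0) * c0 = L β' (s / c0) * c0 + c.1
          rw [hsd, ← hLr, hδ]
          simp only [L, sub_pow_q hF]
          ring)
      rw [hk, AddChar.map_add_eq_mul] at h
      rw [AddChar.zero_apply]
      exact mul_left_cancel₀ (AddChar.val_isUnit χ2 k).ne_zero (h.trans (mul_one _).symm)
    have hΦs : Function.Surjective Φ :=
      ((Fintype.bijective_iff_injective_and_card Φ).2 ⟨hΦ, by rw [AddChar.card_eq]⟩).2
    obtain ⟨β, hβ⟩ := hΦs χ3
    obtain ⟨y, hy⟩ := exists_norm_eq hF (c := β ^ q * β - t0.1)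
      (by rw [sub_pow_q hF, t0.2, mul_pow, pow_q_pow_q hF, mul_comm])
    set b := y - β with hb
    have hsum : t0.1 + b * b ^ q + L β b = 0 := by
      simp only [L, hb, sub_pow_q hF]
      rw [pow_succ'] at hy
      linear_combination hy
    have hv : hermForm n F q (e + b • u) (e + b • u) = 0 := by
      simp [h_add_left, h_add_right hF, h_smul_left, h_smul_right hF, he, hu, hue,
        (h_eq_zero_comm hF).1 hue]
    have hv0 : e + b • u ≠ 0 := fun h => by
      have h2 := LinearIndependent.pair_iff.1 hli 1 b (by rwa [one_smul])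
      exact one_ne_zero h2.1
    refine ⟨_, hv, hv0, (Submodule.ne_bot_iff _).2 ⟨x, mem_eigSp_zero.2 fun c => ?_, hx0⟩⟩
    have hct : (c.1 / c0) ^ q = c.1 / c0 := by
      rw [div_pow, hc0q, show c.1 ^ q = -c.1 by linear_combination traceKer_eq hF c, neg_div_neg_eq]
    set d : (traceHom hF).ker := ⟨b * b ^ q * c.1, mul_ker hF (nrm hF b).2 (traceKer_eq hF c)⟩
    have h := hx (c, d, c.1 * b)
    rw [MonoidHom.comp_apply, show twoRoot hF he hu hue (Multiplicative.ofAdd (c, d, c.1 * b)) =
      tv hF (e + b • u) c.1 hv (traceKer_eq hF c) from suMat_ext fun y => by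
        rw [twoRoot_mulVec, tv_mulVec, h_add_right hF, h_smul_right hF, mul_pow,
          show c.1 ^ q = -c.1 by linear_combination traceKer_eq hF c]
        module] at h
    rw [rootRep_apply, h, hsplit, ← ht0, ← hβ, chScale_apply]
    show (χ2 _ * (χ2 d * χ2 _)) • x = x
    rw [← AddChar.map_add_eq_mul, ← AddChar.map_add_eq_mul]
    conv_rhs => rw [← one_smul ℂ x, ← AddChar.map_zero_eq_one χ2]
    congr 2
    refine Subtype.ext ?_
    show t0.1 * c.1 + (b * b ^ q * c.1 + L β (c.1 * b / c0) * c0) = 0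
    have hLc : L β (c.1 * b / c0) * c0 = L β b * c.1 := by
      rw [show c.1 * b / c0 = c.1 / c0 * b by ring]
      simp only [L, mul_pow, hct]
      field_simp
    rw [hLc]
    linear_combination c.1 * hsum

omit E ρ in
/-- An element fixing `e` and moving the line of `u`. -/
theorem exists_fix_move {e u : Fin n → F} (hu : hermForm n F q u u = 0)
    (heu : hermForm n F q e u = 0) (hli : LinearIndependent F ![e, u]) :
    ∃ g : SU n F q, suMat g *ᵥ e = e ∧ ∀ a : F, a • u ≠ suMat g *ᵥ u := by
  obtain ⟨v0, hv0⟩ := exists_coords_eq hF hli ![0, 1]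
  have hv0e : hermForm n F q v0 e = 0 := hv0 0
  have hv0u : hermForm n F q v0 u = 1 := hv0 1
  have huv0 : hermForm n F q u v0 = 1 := by rw [h_symm hF v0 u, hv0u, one_pow]
  obtain ⟨a, ha⟩ := exists_trace_eq hF (c := -hermForm n F q v0 v0)
    (by rw [neg_pow_q hF, h_self_fixed hF])
  set v := v0 + a • u with hv
  have hvv : hermForm n F q v v = 0 := by
    simp only [hv, h_add_left, h_add_right hF, h_smul_left, h_smul_right hF, hu, hv0u, huv0]
    linear_combination ha
  have hev : hermForm n F q e v = 0 := by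
    simp [hv, h_add_right hF, h_smul_right hF, heu, (h_eq_zero_comm hF).1 hv0e]
  have huv : hermForm n F q u v = 1 := by simp [hv, h_add_right hF, h_smul_right hF, hu, huv0]
  obtain ⟨d, hd0, hd⟩ := exists_trace_zero_ne_zero hF
  refine ⟨tv hF v d hvv hd, by simp [tv_mulVec, hev], fun b hb => ?_⟩
  rw [tv_mulVec, huv, mul_one] at hb
  have h2 := congrArg (fun z => hermForm n F q z u) hb
  have hvu : hermForm n F q v u = 1 := by rw [h_symm hF u v, huv, one_pow]
  simp [h_smul_left, h_add_left, hu, hvu, hd0.symm] at h2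

/-- Over the fixed space of one root group a second, orthogonal one acts non-trivially. -/
theorem root_nontriv [FiniteDimensional ℂ E] (hn : 4 ≤ n)
    (hfix : ∀ x, (∀ g, ρ g x = x) → x = 0) {e u : Fin n → F} (he : hermForm n F q e e = 0)
    (hu : hermForm n F q u u = 0) (hue : hermForm n F q u e = 0)
    (hli : LinearIndependent F ![e, u]) (hne : eigSp (rootRep hF ρ e he) 0 ≠ ⊥) :
    ∃ c, ∃ x ∈ eigSp (rootRep hF ρ e he) 0, rootRep hF ρ u hu c x ≠ x := by
  by_contra hcon
  push Not at hcon
  set V0 := eigSp (rootRep hF ρ e he) 0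
  have he0 : e ≠ 0 := hli.ne_zero 0
  have hu0 : u ≠ 0 := hli.ne_zero 1
  have hn3 : 3 ≤ n := by omega
  have hle : V0 ≤ eigSp (rootRep hF ρ u hu) 0 := fun x hx => mem_eigSp_zero.2 fun c => hcon _ x hx
  have hrank : Module.finrank ℂ (eigSp (rootRep hF ρ u hu) 0) ≤ Module.finrank ℂ V0 := by
    obtain ⟨g, -, hg⟩ := reach_isotropic hF hn3 hu0 hu he0 he
    refine LinearMap.finrank_le_finrank_of_injective
      (f := (ρ g).restrict (fun y hy => map_eigSp_zero hF ρ one_ne_zero (w := e)
        (by rw [one_smul, hg]) hy))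
      fun a b h => Subtype.ext (rho_injective hF ρ g (congrArg Subtype.val h))
  have heq : V0 = eigSp (rootRep hF ρ u hu) 0 := Submodule.eq_of_le_of_finrank_le hle hrank
  let H : Subgroup (SU n F q) :=
    { carrier := {g | (∀ x ∈ V0, ρ g x ∈ V0) ∧ ∀ x ∈ V0, ρ g⁻¹ x ∈ V0}
      one_mem' := by simp
      mul_mem' := fun {a b} ha hb => ⟨fun x hx => by
          rw [map_mul, Module.End.mul_apply]; exact ha.1 _ (hb.1 x hx), fun x hx => by
          rw [_root_.mul_inv_rev, map_mul, Module.End.mul_apply]; exact hb.2 _ (ha.2 x hx)⟩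
      inv_mem' := fun {a} ha => ⟨ha.2, fun x hx => by rw [inv_inv]; exact ha.1 x hx⟩ }
  haveI := isoPt_preprimitive hF hn3
  set pe := IsoPt.mk e he0 he
  set pu := IsoPt.mk u hu0 hu
  haveI : Nontrivial (IsoPt n q F) := ⟨pe, pu, fun h => by
    obtain ⟨a, ha⟩ := IsoPt.mk_eq_mk.1 h
    have h2 := LinearIndependent.pair_iff.1 hli 1 (-a) (by rw [one_smul, neg_smul, ha, add_neg_cancel])
    exact one_ne_zero h2.1⟩
  have hstab : ∀ (v : Fin n → F) (hv0 : v ≠ 0) (hv : hermForm n F q v v = 0),
      V0 = eigSp (rootRep hF ρ v hv) 0 →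
        MulAction.stabilizer (SU n F q) (IsoPt.mk v hv0 hv) ≤ H := by
    intro v hv0 hv hV g hg
    have key : ∀ g ∈ MulAction.stabilizer (SU n F q) (IsoPt.mk v hv0 hv),
        ∀ x ∈ V0, ρ g x ∈ V0 := by
      intro g hg x hx
      rw [MulAction.mem_stabilizer_iff, smul_isoPt_eq] at hg
      obtain ⟨a, ha⟩ := hg
      have ha0 : a ≠ 0 := by
        rintro rfl
        rw [zero_smul] at ha
        exact hv0 (suMat_injective g (by simpa using ha.symm))
      rw [hV] at hx ⊢
      exact map_eigSp_zero hF ρ ha0 ha.symm hx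
    exact ⟨key g hg, key g⁻¹ (inv_mem hg)⟩
  have hHe := hstab e he0 he rfl
  have hHu := hstab u hu0 hu heq
  have htop : H = ⊤ := by
    refine (MulAction.IsPreprimitive.isCoatom_stabilizer_of_isPreprimitive (G := SU n F q) pe).2 H
      (lt_of_le_of_ne hHe fun heq' => ?_)
    obtain ⟨g, hge, hgu⟩ := exists_fix_move hF hu ((h_eq_zero_comm hF).1 hue) hli
    haveI := isoPt_pretransitive hF hn3
    have hco := MulAction.IsPreprimitive.isCoatom_stabilizer_of_isPreprimitive (G := SU n F q) pu
    have hmem : g ∈ MulAction.stabilizer (SU n F q) pe :=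
      smul_isoPt_eq.2 ⟨1, by rw [one_smul, hge]⟩
    have hsub : MulAction.stabilizer (SU n F q) pu ≤ MulAction.stabilizer (SU n F q) pe := by
      rw [heq']; exact hHu
    have hlt : MulAction.stabilizer (SU n F q) pu < MulAction.stabilizer (SU n F q) pe :=
      lt_of_le_of_ne hsub fun h => by
        rw [← h] at hmem
        obtain ⟨a, ha⟩ := smul_isoPt_eq.1 hmem
        exact hgu a ha
    exact (MulAction.IsPreprimitive.isCoatom_stabilizer_of_isPreprimitive (G := SU n F q) pe).1 (hco.2 _ hlt)
  refine hne ((Submodule.eq_bot_iff _).2 fun x hx => hfix x fun g => ?_)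
  have hT : transSub n q F = ⊤ := transSub_eq_top hF n (by omega) (by omega)
  have hg : g ∈ transSub n q F := by rw [hT]; trivial
  induction hg using Subgroup.closure_induction with
  | one => simp
  | mul a b _ _ ha hb => rw [map_mul, Module.End.mul_apply, hb, ha]
  | inv a _ ha =>
    conv_lhs => rw [← ha]
    rw [← Module.End.mul_apply, ← map_mul, inv_mul_cancel, map_one, Module.End.one_apply]
  | mem A hA =>
    obtain ⟨v, c, hv, hA⟩ := hA
    by_cases hv0 : v = 0
    · have : A = 1 := suMat_ext fun z => by rw [hA, ut_mulVec, hv0, suMat_one]; simp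
      rw [this, map_one, Module.End.one_apply]
    obtain ⟨k, -, hk⟩ := reach_isotropic hF hn3 he0 he hv0 hv
    have hkH : k ∈ H := by rw [htop]; trivial
    have hx' : x ∈ eigSp (rootRep hF ρ v hv) 0 := by
      have := map_eigSp_zero hF ρ one_ne_zero (w := v) (hw := hv) (by rw [one_smul, hk])
        (hkH.2 x hx)
      rwa [← Module.End.mul_apply, ← map_mul, mul_inv_cancel, map_one, Module.End.one_apply] at this
    by_cases hc : c + c ^ q = 0
    · have : A = tv hF v c hv hc := suMat_ext fun z => by rw [hA, tv_mulVec, ut_mulVec]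
      rw [this]
      exact mem_eigSp_zero.1 hx' ⟨c, hc⟩
    · exfalso
      have hiso : IsIso q (unitaryTransvection n q v c) := by rw [← hA]; exact SU_isIso A
      exact hc (by simpa [hv] using (ut_isIso_iff hF hv0).1 hiso)

end H50.LS
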