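import Mathlib

/-! Simultaneous eigenspaces of a finite abelian group acting on a complex space, and a trace
criterion for the independence of operators. -/

set_option autoImplicit false

namespace H50.LS

variable {A : Type*} [AddCommGroup A] {E : Type*} [AddCommGroup E] [Module ℂ E]

/-- The eigenspace of the character `χ`. -/
def eigSp (R : Multiplicative A →* Module.End ℂ E) (χ : AddChar A ℂ) : Submodule ℂ E where
  carrier := {x | ∀ a, R (Multiplicative.ofAdd a) x = χ a • x}
  zero_mem' a := by simp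
  add_mem' {x y} hx hy a := by rw [map_add, hx a, hy a, smul_add]
  smul_mem' c x hx a := by rw [map_smul, hx a, smul_comm]

theorem mem_eigSp {R : Multiplicative A →* Module.End ℂ E} {χ : AddChar A ℂ} {x : E} :
    x ∈ eigSp R χ ↔ ∀ a, R (Multiplicative.ofAdd a) x = χ a • x := Iff.rfl

theorem mem_eigSp_zero {R : Multiplicative A →* Module.End ℂ E} {x : E} :
    x ∈ eigSp R 0 ↔ ∀ a, R (Multiplicative.ofAdd a) x = x := by
  simp [mem_eigSp]

variable [Fintype A]

/-- The projection onto the eigenspace of `χ`. -/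
noncomputable def eigProj (R : Multiplicative A →* Module.End ℂ E) (χ : AddChar A ℂ) :
    Module.End ℂ E :=
  (Fintype.card A : ℂ)⁻¹ • ∑ a, χ (-a) • R (Multiplicative.ofAdd a)

theorem eigProj_mem (R : Multiplicative A →* Module.End ℂ E) (χ : AddChar A ℂ) (x : E) :
    eigProj R χ x ∈ eigSp R χ := by
  intro b
  simp only [eigProj, LinearMap.smul_apply, LinearMap.sum_apply, map_smul, map_sum]
  rw [smul_comm (χ b)]
  congr 1
  rw [Finset.smul_sum]
  refine Fintype.sum_equiv (Equiv.addLeft b) _ _ fun a => ?_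
  rw [Equiv.coe_addLeft, smul_smul, ← Module.End.mul_apply, ← map_mul, ← ofAdd_add, neg_add,
    AddChar.map_add_eq_mul, ← mul_assoc, ← AddChar.map_add_eq_mul, add_neg_cancel,
    AddChar.map_zero_eq_one, one_mul]

theorem sum_eigProj (R : Multiplicative A →* Module.End ℂ E) (x : E) :
    ∑ χ : AddChar A ℂ, eigProj R χ x = x := by
  classical
  simp only [eigProj, LinearMap.smul_apply, LinearMap.sum_apply]
  rw [← Finset.smul_sum, Finset.sum_comm]
  simp only [← Finset.sum_smul, AddChar.sum_apply_eq_ite, neg_eq_zero, ite_smul, zero_smul,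
    Finset.sum_ite_eq', Finset.mem_univ, if_true, ofAdd_zero, map_one, Module.End.one_apply,
    smul_smul]
  rw [inv_mul_cancel₀ (Nat.cast_ne_zero.2 Fintype.card_ne_zero), one_smul]

theorem eigProj_of_mem (R : Multiplicative A →* Module.End ℂ E) {χ ψ : AddChar A ℂ} {x : E}
    (hx : x ∈ eigSp R ψ) [Decidable (χ = ψ)] : eigProj R χ x = if χ = ψ then x else 0 := by
  classical
  simp only [eigProj, LinearMap.smul_apply, LinearMap.sum_apply, hx _, smul_smul]
  rw [← Finset.sum_smul, smul_smul]
  have hterm : ∀ a, χ (-a) * ψ a = (χ⁻¹ * ψ) a := fun a => by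
    rw [AddChar.mul_apply, AddChar.inv_apply]
  simp only [hterm, AddChar.sum_eq_ite]
  by_cases h : χ = ψ
  · subst h
    rw [if_pos (by rw [inv_mul_cancel]; rfl), if_pos rfl,
      inv_mul_cancel₀ (Nat.cast_ne_zero.2 Fintype.card_ne_zero), one_smul]
  · rw [if_neg (fun h0 : χ⁻¹ * ψ = 0 => h (inv_mul_eq_one.1 (h0.trans AddChar.one_eq_zero.symm))), if_neg h, mul_zero, zero_smul]

theorem exists_eigSp_ne_bot [Nontrivial E] (R : Multiplicative A →* Module.End ℂ E) :
    ∃ χ, eigSp R χ ≠ ⊥ := by
  by_contra h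
  push Not at h
  obtain ⟨x, hx⟩ := exists_ne (0 : E)
  refine hx ?_
  rw [← sum_eigProj R x]
  exact Finset.sum_eq_zero fun χ _ => (Submodule.eq_bot_iff _).1 (h χ) _ (eigProj_mem R χ x)

theorem sum_finrank_eigSp [FiniteDimensional ℂ E] (R : Multiplicative A →* Module.End ℂ E) :
    ∑ χ : AddChar A ℂ, Module.finrank ℂ (eigSp R χ) = Module.finrank ℂ E := by
  classical
  let f : E →ₗ[ℂ] ((χ : AddChar A ℂ) → eigSp R χ) :=
    LinearMap.pi fun χ => (eigProj R χ).codRestrict _ (eigProj_mem R χ)
  have hf : Function.Bijective f := by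
    constructor
    · intro x y hxy
      rw [← sum_eigProj R x, ← sum_eigProj R y]
      refine Finset.sum_congr rfl fun χ _ => ?_
      exact congrArg Subtype.val (congrFun hxy χ)
    · intro y
      refine ⟨∑ χ, (y χ : E), funext fun χ => Subtype.ext ?_⟩
      show eigProj R χ (∑ ψ, (y ψ : E)) = _
      rw [map_sum, Finset.sum_congr rfl fun ψ _ => eigProj_of_mem R (χ := χ) (y ψ).2,
        Finset.sum_ite_eq, if_pos (Finset.mem_univ χ)]
  rw [← Module.finrank_pi_fintype ℂ]
  exact (LinearEquiv.ofBijective f hf).finrank_eq.symm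

/-- If the group acts non-trivially, some non-trivial character occurs. -/
theorem exists_nontriv_eigSp {R : Multiplicative A →* Module.End ℂ E} (hR : R ≠ 1) :
    ∃ χ, χ ≠ 0 ∧ eigSp R χ ≠ ⊥ := by
  by_contra h
  push Not at h
  refine hR (MonoidHom.ext fun a => LinearMap.ext fun x => ?_)
  have hx : x ∈ eigSp R 0 := by
    rw [← sum_eigProj R x]
    refine Submodule.sum_mem _ fun χ _ => ?_
    by_cases hχ : χ = 0
    · subst hχ; exact eigProj_mem R 0 x
    · rw [(Submodule.eq_bot_iff _).1 (h χ hχ) _ (eigProj_mem R χ x)]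
      exact zero_mem _
  exact mem_eigSp_zero.1 hx a.toAdd

omit [AddCommGroup A] [Fintype A] in
/-- Invertible operators that are orthogonal for the trace form are independent. -/
theorem card_le_of_trace [FiniteDimensional ℂ E] [Nontrivial E] {ι : Type*} [Fintype ι]
    (M N : ι → Module.End ℂ E) (hNM : ∀ i, N i * M i = 1)
    (htr : ∀ i j, i ≠ j → LinearMap.trace ℂ E (N i * M j) = 0) :
    Fintype.card ι ≤ Module.finrank ℂ E ^ 2 := by
  classical
  have hli : LinearIndependent ℂ M := by
    rw [Fintype.linearIndependent_iff]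
    intro g hg i
    have h := congrArg (fun T => LinearMap.trace ℂ E (N i * T)) hg
    simp only [Finset.mul_sum, mul_smul_comm, map_sum, map_smul, mul_zero, map_zero] at h
    rw [Finset.sum_eq_single i (fun j _ hji => by rw [htr i j hji.symm, smul_zero])
      (fun h0 => absurd (Finset.mem_univ i) h0), hNM, LinearMap.trace_one, smul_eq_mul] at h
    exact (mul_eq_zero.1 h).resolve_right (Nat.cast_ne_zero.2 Module.finrank_pos.ne')
  refine hli.fintype_card_le_finrank.trans ?_
  rw [Module.finrank_linearMap, sq]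

end H50.LS
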