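import Cfsg.Agent.H50.LSBound

/-! The induction for the smallest degree of a non-trivial complex representation of `SU n`. -/

set_option autoImplicit false

namespace H50.LS

open Matrix Cfsg

variable {F : Type*} [Field F] [Fintype F] {n q : ℕ} (hF : Fintype.card F = q ^ 2)
include hF

section
variable {E : Type*} [AddCommGroup E] [Module ℂ E] (ρ : SU n F q →* Module.End ℂ E)

theorem rootRep_ne_one (hn : 3 ≤ n) {v : Fin n → F} {c : F} {hv : hermForm n F q v v = 0}
    {hc : c + c ^ q = 0} (hne : ρ (tv hF v c hv hc) ≠ 1) {e : Fin n → F} (he0 : e ≠ 0)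
    (he : hermForm n F q e e = 0) : rootRep hF ρ e he ≠ 1 := by
  intro h1
  refine hne (LinearMap.ext fun x => ?_)
  by_cases hv0 : v = 0
  · have : tv hF v c hv hc = 1 := suMat_ext fun z => by rw [tv_mulVec, hv0, suMat_one]; simp
    rw [this, map_one]
  · obtain ⟨k, -, hk⟩ := reach_isotropic hF hn he0 he hv0 hv
    have hall : ρ k⁻¹ x ∈ eigSp (rootRep hF ρ e he) 0 :=
      mem_eigSp_zero.2 fun d => by rw [h1]; rfl
    have h2 := map_eigSp_zero hF ρ one_ne_zero (w := v) (hw := hv) (by rw [one_smul, hk]) hall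
    rw [← Module.End.mul_apply, ← map_mul, mul_inv_cancel, map_one, Module.End.one_apply] at h2
    exact mem_eigSp_zero.1 h2 ⟨c, hc⟩

/-- The eigenspaces for non-trivial characters of one root group. -/
theorem step [FiniteDimensional ℂ E] (hn : 3 ≤ n) {e : Fin n → F} (he0 : e ≠ 0)
    (he : hermForm n F q e e = 0) (hne : rootRep hF ρ e he ≠ 1) :
    (q - 1) * q ^ (n - 2) + Module.finrank ℂ (eigSp (rootRep hF ρ e he) 0) ≤
      Module.finrank ℂ E := by
  obtain ⟨f, hef⟩ := exists_hyp_partner hF he0 he
  refine count_bound hF _ hne (fun χ ψ hχ hψ => ?_)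
    (fun χ hχ hb => pow_le_finrank_eigSp hF ρ hef hχ hb)
  obtain ⟨l, hl, hlψ⟩ := exists_chScale_norm hF hψ hχ
  obtain ⟨g, -, hg⟩ := reach_smul hF hn he0 he hl
  rw [← hlψ]
  exact finrank_eigSp_le hF ρ hl hg ψ

theorem exists_fixed_at (hn : 3 ≤ n) [Nontrivial E] {e u : Fin n → F}
    (he : hermForm n F q e e = 0) (hu : hermForm n F q u u = 0) (hue : hermForm n F q u e = 0)
    (hli : LinearIndependent F ![e, u]) : eigSp (rootRep hF ρ e he) 0 ≠ ⊥ := by
  obtain ⟨v, hv, hv0, hne⟩ := exists_root_fixed hF ρ he hu hue hli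
  obtain ⟨x, hx, hx0⟩ := Submodule.exists_mem_ne_zero_of_ne_bot hne
  obtain ⟨k, -, hk⟩ := reach_isotropic hF hn hv0 hv (hli.ne_zero 0) he
  exact (Submodule.ne_bot_iff _).2 ⟨_, map_eigSp_zero hF ρ one_ne_zero
    (by rw [one_smul]; exact hk) hx, fun h => hx0 (rho_injective hF ρ k (by rw [h, map_zero]))⟩

end

/-- In dimension four: an element acting on two orthogonal isotropic vectors by `l⁻¹` and `l`. -/
theorem exists_torus {e u : Fin 4 → F} (he : hermForm 4 F q e e = 0)
    (hu : hermForm 4 F q u u = 0) (hue : hermForm 4 F q u e = 0)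
    (hli : LinearIndependent F ![e, u]) {l : F} (hl : l ≠ 0) :
    ∃ g : SU 4 F q, suMat g *ᵥ e = l⁻¹ • e ∧ suMat g *ᵥ u = l • u := by
  have hee : ∀ i j, hermForm 4 F q (![e, u] i) (![e, u] j) = 0 := by
    intro i j
    fin_cases i <;> fin_cases j <;> simp [he, hu, hue, (h_eq_zero_comm hF).1 hue]
  obtain ⟨f, hef, hff⟩ := exists_hyp_completion hF hli hee
  have hnd := hypFrame_gramND hF hee hef hff
  let c : Fin 2 ⊕ Fin 2 → F := Sum.elim ![l⁻¹, l] ![l ^ q, (l ^ q)⁻¹]
  have hfe : ∀ i j, hermForm 4 F q (f i) (![e, u] j) = if i = j then 1 else 0 := fun i j => by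
    rw [h_symm hF, hef]
    by_cases h : i = j <;> simp [h, eq_comm (a := j), zero_pow (q_ne_zero hF)]
  obtain ⟨M, hM, hMb, hdet⟩ := exists_iso_diag hF (by simp) (GramND.linearIndependent hF hnd) c (by
    rintro (i | i) (j | j) h
    · exact absurd (hee i j) h
    · have hij : i = j := by
        by_contra h'
        exact h (by rw [Sum.elim_inl, Sum.elim_inr, hef, if_neg h'])
      subst hij
      fin_cases i <;> simp [c, inv_pow, pow_q_pow_q hF, hl]
    · have hij : i = j := by
        by_contra h'
        exact h (by rw [Sum.elim_inl, Sum.elim_inr, hfe, if_neg h'])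
      subst hij
      fin_cases i <;> simp [c, inv_pow, pow_q_pow_q hF, hl, q_ne_zero hF]
    · exact absurd (hff i j) h)
  refine ⟨mkSU M hM ?_, hMb (Sum.inl 0), hMb (Sum.inl 1)⟩
  rw [hdet, Fintype.prod_sum_type, Fin.prod_univ_two, Fin.prod_univ_two]
  simp [c, hl]

/-- The constant in the formula for the smallest degree. -/
def excess (n q : ℕ) : ℕ := if Odd n then q else 1

omit [Field F] [Fintype F] hF in
theorem excess_add_two (m : ℕ) : excess (m + 2) q = excess m q := by
  simp [excess, parity_simps]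

/-- The bound in the absence of fixed vectors. -/
theorem bound_of_no_fixed (hn : 4 ≤ n)
    (IH : ∀ m, m + 2 = n → 3 ≤ m → ∀ (V : Type) [AddCommGroup V] [Module ℂ V] [FiniteDimensional ℂ V]
      (ρ : SU m F q →* Module.End ℂ V) (v : Fin m → F) (c : F) (hv : hermForm m F q v v = 0)
      (hc : c + c ^ q = 0), ρ (tv hF v c hv hc) ≠ 1 →
        q ^ m ≤ Module.finrank ℂ V * (q + 1) + excess m q)
    {V : Type} [AddCommGroup V] [Module ℂ V] [FiniteDimensional ℂ V]
    (ρ : SU n F q →* Module.End ℂ V) (hfix : ∀ x, (∀ g, ρ g x = x) → x = 0)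
    {v : Fin n → F} {c : F} {hv : hermForm n F q v v = 0} {hc : c + c ^ q = 0}
    (hne : ρ (tv hF v c hv hc) ≠ 1) :
    q ^ n ≤ Module.finrank ℂ V * (q + 1) + excess n q := by
  haveI : Nontrivial V := by
    by_contra h
    rw [not_nontrivial_iff_subsingleton] at h
    exact hne (Subsingleton.elim _ _)
  obtain ⟨m, rfl⟩ : ∃ m, n = m + 2 := ⟨n - 2, by omega⟩
  obtain ⟨μ, hμ⟩ := exists_norm_eq hF (c := -1) (by rw [neg_pow_q hF, one_pow])
  set e : Fin (m + 2) → F := Fin.cons 1 (Fin.cons μ 0)
  have he : hermForm (m + 2) F q e e = 0 := by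
    simp only [e, h_cons, h_zero_left, one_pow, one_mul, add_zero]
    rw [← pow_succ', hμ, add_neg_cancel]
  have he0 : e ≠ 0 := fun h => one_ne_zero (α := F) (congrFun h 0)
  obtain ⟨w, hw0, hw⟩ := exists_isotropic (F := F) hF (n := m) (by omega)
  set u : Fin (m + 2) → F := Fin.cons 0 (Fin.cons 0 w)
  have hu : hermForm (m + 2) F q u u = 0 := by simp [u, h_cons, hw]
  have hue : hermForm (m + 2) F q u e = 0 := by simp [u, e, h_cons, h_zero_right hF]
  have hli : LinearIndependent F ![e, u] := by
    rw [LinearIndependent.pair_iff]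
    intro s t hst
    have h0 := congrFun hst 0
    simp [e, u] at h0
    refine ⟨h0, ?_⟩
    by_contra ht
    refine hw0 (funext fun i => ?_)
    have h2 := congrFun hst i.succ.succ
    simp [e, u, h0, ht] at h2
    exact h2
  have hV0 := exists_fixed_at hF ρ (by omega) he hu hue hli
  obtain ⟨d, x, hx, hdx⟩ := root_nontriv hF ρ hn hfix he hu hue hli hV0
  have hstep := step hF ρ (by omega) he0 he (rootRep_ne_one hF ρ (by omega) hne he0 he)
  rw [Nat.add_sub_cancel] at hstep
  set V0 := eigSp (rootRep hF ρ e he) 0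
  obtain ⟨r, hr⟩ : ∃ r, q = r + 2 := ⟨q - 2, by have := two_le hF; omega⟩
  rw [excess_add_two]
  rcases (show m = 2 ∨ 3 ≤ m by omega) with hm | hm
  · subst hm
    -- the second root group has all non-trivial characters on `V0`
    have hinv : ∀ c', ∀ y ∈ V0, rootRep hF ρ u hu c' y ∈ V0 := fun c' y hy =>
      map_eigSp_one hF ρ (by
        show suMat (tv hF u c'.toAdd.1 hu (traceKer_eq hF _)) *ᵥ e = e
        rw [tv_mulVec, (h_eq_zero_comm hF).1 hue]; simp) hy
    set R := subRep (rootRep hF ρ u hu) V0 hinv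
    have hR : R ≠ 1 := fun h1 => hdx (congrArg Subtype.val
      (LinearMap.congr_fun (DFunLike.congr_fun h1 d) ⟨x, hx⟩))
    have hcount := count_bound hF R hR (m := 1) (fun χ ψ hχ hψ => by
      obtain ⟨l, hl, hlψ⟩ := exists_chScale_norm hF hψ hχ
      obtain ⟨g, hge, hgu⟩ := exists_torus hF he hu hue hli hl
      have hgV0 : ∀ y ∈ V0, ρ g y ∈ V0 := fun y hy =>
        map_eigSp_zero hF ρ (inv_ne_zero hl) hge hy
      refine LinearMap.finrank_le_finrank_of_injective
        (f := ((ρ g).restrict hgV0).restrict (p := eigSp R χ) (q := eigSp R ψ)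
          fun y hy => ?_)
        fun a b h => Subtype.ext (Subtype.ext (rho_injective hF ρ g
          (congrArg (fun z : eigSp R ψ => z.1.1) h)))
      intro c'
      refine Subtype.ext ?_
      refine map_eigSp hF ρ hl hgu (hv := hu) (hw := hu) (χ := ψ) (x := y.1) (fun c'' => ?_) c'
      rw [hlψ]
      exact congrArg Subtype.val (hy c''))
      (fun χ _ hb => Submodule.one_le_finrank_iff.2 hb)
    have hexc : excess 2 q = 1 := by simp [excess]
    rw [hexc]
    subst hr
    simp only [show r + 2 - 1 = r + 1 by omega] at hstep hcount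
    have h' : (r + 1) * ((r + 2) ^ 2 + 1) ≤ Module.finrank ℂ V := by linarith
    have h'' := Nat.mul_le_mul_right (r + 3) h'
    ring_nf at h'' ⊢
    linarith
  · have hinv : ∀ k : SU m F q, ∀ y ∈ V0,
        ρ (((liftSU (n := m + 1)).comp (liftSU (n := m))) k) y ∈ V0 := fun k y hy =>
      map_eigSp_one hF ρ (by
        rw [MonoidHom.comp_apply, liftSU_mulVec, liftSU_mulVec, mulVec_zero]) hy
    have hiota : ((liftSU (n := m + 1)).comp (liftSU (n := m)))
        (tv hF w d.toAdd.1 hw (traceKer_eq hF _)) = rootHom hF u hu d := by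
      refine SU_ext ?_
      show borderMat (borderMat (unitaryTransvection m q w _)) = _
      rw [borderMat_ut hF, borderMat_ut hF]
      rfl
    have h := IH m rfl hm V0
      (subRep (ρ.comp ((liftSU (n := m + 1)).comp (liftSU (n := m)))) V0 hinv) w d.toAdd.1 hw
      (traceKer_eq hF _) (fun h1 => hdx (by
        have h2 := congrArg Subtype.val (LinearMap.congr_fun h1 ⟨x, hx⟩)
        rw [subRep_apply, MonoidHom.comp_apply, hiota] at h2
        exact h2))
    generalize excess m q = ex at h ⊢
    subst hr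
    simp only [show r + 2 - 1 = r + 1 by omega] at hstep
    have hpow : (r + 2) ^ (m + 2) = (r + 2) ^ m * (r + 2) ^ 2 := pow_add _ _ _
    nlinarith [Nat.mul_le_mul_right (r + 3) hstep]

/-- A representation that is non-trivial on some transvection has large degree. -/
theorem degree_bound : ∀ n, 3 ≤ n → ∀ (V : Type) [AddCommGroup V] [Module ℂ V] [FiniteDimensional ℂ V]
    (ρ : SU n F q →* Module.End ℂ V) (v : Fin n → F) (c : F) (hv : hermForm n F q v v = 0)
    (hc : c + c ^ q = 0), ρ (tv hF v c hv hc) ≠ 1 →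
      q ^ n ≤ Module.finrank ℂ V * (q + 1) + excess n q := by
  intro n
  induction n using Nat.strong_induction_on with
  | _ n IH =>
  intro hn V _ _ _ ρ v c hv hc hne
  classical
  rcases (show n = 3 ∨ 4 ≤ n by omega) with rfl | hn4
  · obtain ⟨e, he0, he⟩ := exists_isotropic (F := F) hF (n := 3) (by norm_num)
    have h := step hF ρ le_rfl he0 he (rootRep_ne_one hF ρ le_rfl hne he0 he)
    rw [show excess 3 q = q from if_pos (by decide)]
    obtain ⟨r, hr⟩ : ∃ r, q = r + 2 := ⟨q - 2, by have := two_le hF; omega⟩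
    subst hr
    simp only [show r + 2 - 1 = r + 1 by omega, show (3 : ℕ) - 2 = 1 by rfl, pow_one] at h
    nlinarith [Nat.mul_le_mul_right (r + 3) h]
  · haveI : Fintype (SU n F q) := Fintype.ofFinite _
    let P : Module.End ℂ V := (Fintype.card (SU n F q) : ℂ)⁻¹ • ∑ g, ρ g
    have hP : ∀ k, P * ρ k = P := fun k => by
      simp only [P, smul_mul_assoc, Finset.sum_mul, ← map_mul]
      congr 1
      exact Fintype.sum_equiv (Equiv.mulRight k) _ _ fun g => rfl
    have hP2 : ∀ k, ρ k * P = P := fun k => by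
      simp only [P, mul_smul_comm, Finset.mul_sum, ← map_mul]
      congr 1
      exact Fintype.sum_equiv (Equiv.mulLeft k) _ _ fun g => rfl
    have hPfix : ∀ x, (∀ g, ρ g x = x) → P x = x := fun x hx => by
      simp only [P, LinearMap.smul_apply, LinearMap.sum_apply, hx, Finset.sum_const,
        Finset.card_univ]
      rw [← Nat.cast_smul_eq_nsmul ℂ, smul_smul,
        inv_mul_cancel₀ (Nat.cast_ne_zero.2 Fintype.card_ne_zero), one_smul]
    have hinv : ∀ k, ∀ x ∈ LinearMap.ker P, ρ k x ∈ LinearMap.ker P := fun k x hx => by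
      rw [LinearMap.mem_ker, ← Module.End.mul_apply, hP]
      exact hx
    refine le_trans (bound_of_no_fixed hF hn4 (fun m hm => IH m (by omega))
      (subRep ρ _ hinv) ?_ (v := v) (c := c) (hv := hv) (hc := hc) ?_)
      (Nat.add_le_add_right (Nat.mul_le_mul_right _ (Submodule.finrank_le _)) _)
    · intro x hx
      refine Subtype.ext ?_
      rw [← hPfix x.1 fun g => congrArg Subtype.val (hx g)]
      exact x.2
    · intro h1
      refine hne (LinearMap.ext fun y => ?_)
      have hy : y - P y ∈ LinearMap.ker P := by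
        rw [LinearMap.mem_ker, map_sub, hPfix (P y) fun g => by
          rw [← Module.End.mul_apply, hP2], sub_self]
      have h2 := congrArg Subtype.val (LinearMap.congr_fun h1 ⟨_, hy⟩)
      rw [subRep_apply, map_sub, ← Module.End.mul_apply (ρ _) P, hP2] at h2
      simpa using h2

/-- The degree of an irreducible representation. -/
theorem irreducible_bound (hn : 3 ≤ n) (h32 : ¬(n = 3 ∧ q = 2)) {k : ℕ}
    (ρ : Representation ℂ (SU n F q) (Fin k → ℂ)) (hρ : ρ.IsIrreducible) (hk : 2 ≤ k) :
    (q ^ n - excess n q) / (q + 1) ≤ k := by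
  by_cases htv : ∃ (v : Fin n → F) (c : F) (hv : hermForm n F q v v = 0) (hc : c + c ^ q = 0),
      ρ (tv hF v c hv hc) ≠ 1
  · obtain ⟨v, c, hv, hc, hne⟩ := htv
    have h := degree_bound hF n hn (Fin k → ℂ) ρ v c hv hc hne
    rw [Module.finrank_fin_fun] at h
    rw [Nat.div_le_iff_le_mul (by omega)]
    omega
  · exfalso
    push Not at htv
    have htriv : ∀ g, ρ g = 1 := by
      intro g
      have hg : g ∈ transSub n q F := by rw [transSub_eq_top hF n (by omega) h32]; trivial
      induction hg using Subgroup.closure_induction with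
      | one => rw [map_one]
      | mul a b _ _ ha hb => rw [map_mul, ha, hb, one_mul]
      | inv a _ ha =>
        have := map_mul ρ a⁻¹ a
        rwa [inv_mul_cancel, map_one, ha, mul_one, eq_comm] at this
      | mem A hA =>
        obtain ⟨v, c, hv, hA⟩ := hA
        by_cases hv0 : v = 0
        · have : A = 1 := suMat_ext fun z => by rw [hA, ut_mulVec, hv0, suMat_one]; simp
          rw [this, map_one]
        · have hiso : IsIso q (unitaryTransvection n q v c) := by rw [← hA]; exact SU_isIso A
          have hc : c + c ^ q = 0 := by simpa [hv] using (ut_isIso_iff hF hv0).1 hiso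
          rw [show A = tv hF v c hv hc from suMat_ext fun z => by rw [hA, tv_mulVec, ut_mulVec]]
          exact htv v c hv hc
    let i : Fin k := ⟨0, by omega⟩
    let x : Fin k → ℂ := Pi.single i 1
    let L : Subrepresentation ρ :=
      { toSubmodule := Submodule.span ℂ {x}
        apply_mem_toSubmodule := fun g y hy => by rw [htriv]; exact hy }
    rcases hρ.eq_bot_or_eq_top L with h | h
    · have hx : x ∈ L.toSubmodule := Submodule.mem_span_singleton_self x
      rw [h] at hx
      exact (Pi.single_ne_zero_iff (i := i)).2 (one_ne_zero (α := ℂ)) hx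
    · have h1 := finrank_span_singleton (K := ℂ) (v := x)
        (fun h0 => one_ne_zero (α := ℂ) (by simpa [x] using congrFun h0 i))
      rw [show Submodule.span ℂ {x} = (⊤ : Submodule ℂ (Fin k → ℂ)) from
        congrArg Subrepresentation.toSubmodule h, finrank_top, Module.finrank_fin_fun] at h1
      omega

end H50.LS
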