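import Cfsg.Agent.H50.McLRecStab

/-!
An action of `PSU(4,3)` on 112 points is the action on the totally isotropic lines.
-/

set_option autoImplicit false
set_option Elab.async false
set_option linter.style.haveILetI false

namespace H50
namespace McLRec

open Cfsg H50.LeechU

variable {Ω : Type*} [Fintype Ω] [DecidableEq Ω]

/-- `pt` labels an orbit of the stabiliser of `a` by the lines, compatibly with `psi`. -/
structure LineModel (G : Subgroup (Equiv.Perm Ω)) (a b : Ω) where
  /-- the labelling -/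
  pt : Fin 112 → Ω
  inj : Function.Injective pt
  range_eq : Set.range pt = MulAction.orbit (MulAction.stabilizer G a) b
  fwd : ∀ s : MulAction.stabilizer G a, ∃ g : G0, ∀ j, s • pt j = pt (psi g j)
  bwd : ∀ g : G0, ∃ s : MulAction.stabilizer G a, ∀ j, s • pt j = pt (psi g j)

theorem sylow_part {S : Type*} [Group S] [Finite S] {R : Subgroup S} (hR : IsPGroup 3 R)
    (hne : R ≠ ⊥) {T : Type*} [Group T] [Finite T] (π : T →* S) (hsurj : Function.Surjective π)
    (hker : π.ker ≤ Subgroup.center T) :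
    ∃ R' : Subgroup T, IsPGroup 3 R' ∧ R' ≠ ⊥ ∧ R' ≤ R.comap π ∧
      ∀ x ∈ R.comap π, (∃ k : ℕ, x ^ 3 ^ k = 1) → x ∈ R' := by
  haveI : Fact (Nat.Prime 3) := ⟨Nat.prime_three⟩
  set Q := R.comap π
  let πQ : Q →* R :=
    { toFun := fun x => ⟨π x, x.2⟩
      map_one' := Subtype.ext (map_one π)
      map_mul' := fun x y => Subtype.ext (map_mul π _ _) }
  have hkerQ : πQ.ker ≤ Subgroup.center Q := fun x hx => by
    rw [Subgroup.mem_center_iff]
    intro y
    have h1 : (x : T) ∈ π.ker := congrArg Subtype.val (MonoidHom.mem_ker.1 hx)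
    exact Subtype.ext (Subgroup.mem_center_iff.1 (hker h1) y)
  haveI : Group.IsNilpotent R := hR.isNilpotent
  haveI : Group.IsNilpotent Q := Subgroup.isNilpotent_of_ker_le_center πQ hkerQ
  obtain ⟨P⟩ := (inferInstance : Nonempty (Sylow 3 Q))
  have hPn : (P : Subgroup Q).Normal := by
    have h := (Group.isNilpotent_of_finite_tfae (G := Q)).out 0 3
    exact h.1 ‹_› 3 inferInstance P
  refine ⟨(P : Subgroup Q).map Q.subtype, P.isPGroup'.map _, ?_, Subgroup.map_subtype_le _, ?_⟩
  · intro h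
    rw [Subgroup.map_eq_bot_iff_of_injective _ Q.subtype_injective] at h
    have hsurjQ : Function.Surjective πQ := fun ⟨r, hr⟩ => by
      obtain ⟨x, rfl⟩ := hsurj r
      exact ⟨⟨x, hr⟩, rfl⟩
    have h3 : 3 ∣ Nat.card R := by
      obtain ⟨k, hk⟩ := IsPGroup.iff_card.1 hR
      rw [hk]
      refine dvd_pow_self 3 fun h0 => hne (Subgroup.card_eq_one.1 ?_)
      rw [hk, h0, pow_zero]
    have h3Q : 3 ∣ Nat.card Q := h3.trans (Subgroup.card_dvd_of_surjective πQ hsurjQ)
    obtain ⟨x, hx⟩ := exists_prime_orderOf_dvd_card' (G := Q) 3 h3Q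
    have hxP : IsPGroup 3 (Subgroup.zpowers x) := IsPGroup.of_card (n := 1) (by rw [Nat.card_zpowers, hx, pow_one])
    obtain ⟨P', hP'⟩ := hxP.exists_le_sylow
    have := Sylow.unique_of_normal P hPn
    rw [Subsingleton.elim P' P, h, le_bot_iff, Subgroup.zpowers_eq_bot] at hP'
    rw [hP', orderOf_one] at hx
    norm_num at hx
  · rintro x hx ⟨k, hk⟩
    refine ⟨⟨x, hx⟩, ?_, rfl⟩
    have hxP : IsPGroup 3 (Subgroup.zpowers (⟨x, hx⟩ : Q)) := by
      intro ⟨y, hy⟩
      obtain ⟨i, rfl⟩ := Subgroup.mem_zpowers_iff.1 hy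
      refine ⟨k, Subtype.ext ?_⟩
      show ((⟨x, hx⟩ : Q) ^ i) ^ 3 ^ k = 1
      rw [← zpow_natCast, ← zpow_mul, mul_comm, zpow_mul, zpow_natCast]
      rw [show (⟨x, hx⟩ : Q) ^ 3 ^ k = 1 from Subtype.ext hk, one_zpow]
    obtain ⟨P', hP'⟩ := hxP.exists_le_sylow
    have := Sylow.unique_of_normal P hPn
    rw [Subsingleton.elim P' P] at hP'
    exact hP' (Subgroup.mem_zpowers _)

set_option maxHeartbeats 2000000 in
theorem exists_model {G : Subgroup (Equiv.Perm Ω)} {a b : Ω}
    (e : MulAction.stabilizer G a ≃* PSU 4 K 3)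
    (hb : (MulAction.orbit (MulAction.stabilizer G a) b).ncard = 112) :
    Nonempty (LineModel G a b) := by
  set U := MulAction.stabilizer G a
  haveI : Finite G0 := Finite.of_injective (fun g : G0 => suMat g) fun _ _ e => SU_ext e
  let π : G0 →* U := e.symm.toMonoidHom.comp (QuotientGroup.mk' (Subgroup.center G0))
  have hsurj : Function.Surjective π := e.symm.surjective.comp (QuotientGroup.mk'_surjective _)
  have hker : π.ker ≤ Subgroup.center G0 := fun x hx => by
    have : (QuotientGroup.mk' (Subgroup.center G0)) x = 1 := e.symm.injective (by rw [map_one]; exact hx)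
    exact (QuotientGroup.eq_one_iff x).1 this
  set Sb := MulAction.stabilizer U b with hSb
  have hUcard : Nat.card U = 3265920 := (Nat.card_congr e.toEquiv).trans McLU4.card_PSU
  have hidx : Sb.index = 112 := by rw [hSb, MulAction.index_stabilizer, hb]
  have hSbcard : Nat.card Sb = 29160 := by
    have := Sb.card_mul_index
    rw [hidx, hUcard] at this
    omega
  obtain ⟨R, hRn, hR, hRne⟩ := ThreeCore.exists_normal_three hSbcard
  have hR0 : R.map Sb.subtype ≠ ⊥ := fun h =>
    hRne ((Subgroup.map_eq_bot_iff_of_injective _ Sb.subtype_injective).1 h)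
  obtain ⟨R', hR', hR'ne, hR'le, hR'mem⟩ := sylow_part (hR.map _) hR0 π hsurj hker
  set S := Sb.comap π with hS
  have hSidx : S.index = 112 := by rw [hS, Subgroup.index_comap_of_surjective _ hsurj, hidx]
  have hle : R' ≤ S := fun x hx => Subgroup.map_subtype_le R (hR'le hx)
  obtain ⟨k, hk⟩ := exists_line hSidx hle (fun s hs r hr => by
    refine hR'mem _ ?_ ?_
    · obtain ⟨r0, hr0, hr0'⟩ := hR'le hr
      refine ⟨⟨π s, hs⟩ * r0 * ⟨π s, hs⟩⁻¹, hRn.conj_mem r0 hr0 _, ?_⟩
      have hr0' : (r0 : U) = π r := hr0'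
      rw [Subgroup.coe_subtype, Subgroup.coe_mul, Subgroup.coe_mul, Subgroup.coe_inv, hr0', map_mul,
        map_mul, map_inv]
    · obtain ⟨m, hm⟩ := hR' ⟨r, hr⟩
      have hm : r ^ 3 ^ m = 1 := congrArg Subtype.val hm
      exact ⟨m, by rw [conj_pow, hm, mul_one, mul_inv_cancel]⟩) hR' hR'ne
  letI actL : MulAction G0 (Fin 112) := MulAction.compHom _ psi
  have horbL : MulAction.orbit G0 k = Set.univ := by
    refine Set.eq_univ_of_forall fun j => ?_
    obtain ⟨g, hg⟩ := psi_transitive j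
    obtain ⟨g', hg'⟩ := psi_transitive k
    refine ⟨g * g'⁻¹, ?_⟩
    show psi (g * g'⁻¹) k = j
    rw [map_mul, map_inv, Equiv.Perm.mul_apply, ← hg', Equiv.Perm.coe_inv, Equiv.symm_apply_apply, hg]
  have hStab : MulAction.stabilizer G0 k = S := by
    refine (Subgroup.eq_of_le_of_card_ge (fun s hs => hk s hs) ?_).symm
    have h1 := (MulAction.stabilizer G0 k).card_mul_index
    have h2 := S.card_mul_index
    rw [MulAction.index_stabilizer, horbL, Set.ncard_univ, Nat.card_fin] at h1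
    rw [hSidx] at h2
    omega
  have key : ∀ g g' : G0, π g • b = π g' • b ↔ psi g k = psi g' k := fun g g' => by
    have h1 : π g • b = π g' • b ↔ g'⁻¹ * g ∈ S := by
      rw [hS, Subgroup.mem_comap, hSb, MulAction.mem_stabilizer_iff, map_mul, map_inv, mul_smul,
        inv_smul_eq_iff]
    have h2 : psi g k = psi g' k ↔ g'⁻¹ * g ∈ MulAction.stabilizer G0 k := by
      rw [MulAction.mem_stabilizer_iff]
      show _ ↔ psi (g'⁻¹ * g) k = k
      rw [map_mul, map_inv, Equiv.Perm.mul_apply, Equiv.Perm.inv_eq_iff_eq]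
    rw [h1, h2, hStab]
  have hrep : ∀ j : Fin 112, ∃ g : G0, psi g k = j := fun j => by
    have h : j ∈ MulAction.orbit G0 k := horbL ▸ Set.mem_univ j
    exact h
  choose rep hrep using hrep
  have hpt : ∀ g j, π g • (π (rep j) • b) = π (rep (psi g j)) • b := fun g j => by
    rw [← mul_smul, ← map_mul, key, map_mul, Equiv.Perm.mul_apply, hrep, hrep]
  refine ⟨⟨fun j => π (rep j) • b, fun i j h => ?_, ?_, fun s => ?_, fun g => ⟨π g, hpt g⟩⟩⟩
  · have := (key _ _).1 h
    rwa [hrep, hrep] at this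
  · refine Set.Subset.antisymm (Set.range_subset_iff.2 fun j => MulAction.mem_orbit _ _) ?_
    rintro _ ⟨u, rfl⟩
    obtain ⟨g, rfl⟩ := hsurj u
    exact ⟨psi g k, (key _ _).2 (hrep _)⟩
  · obtain ⟨g, rfl⟩ := hsurj s
    exact ⟨g, hpt g⟩

end McLRec
end H50
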