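import Cfsg.Agent.H50.McLRecLines

/-!
The graph of lines, its automorphism bound, and the hemisystems invariant under an element of
order 7.
-/

set_option autoImplicit false
set_option maxRecDepth 100000
set_option Elab.async false
set_option linter.style.haveILetI false

namespace H50
namespace McLRec

open Finset H50.LeechU

/-- two lines meet -/
def madj (j k : Fin 112) : Bool := Nat.testBit (adjMasks.getD j.val 0) k.val

/-- a point lies on a line -/
def inc (p : Fin 280) (j : Fin 112) : Bool := (linePts.getD j.val []).contains p.val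

/-- a set of lines with two lines on each point -/
def Hemi (M : Finset (Fin 112)) : Prop := ∀ p : Fin 280, (M.filter fun j => inc p j = true).card = 2

theorem madj_psi_gen : ∀ (i : Fin 4) (j k : Fin 112), madj (plF i j) (plF i k) = madj j k := by
  decide +kernel

theorem madj_psi (g : G0) : ∀ j k, madj (psi g j) (psi g k) = madj j k :=
  psi_induction (P := fun p => ∀ j k, madj (p j) (p k) = madj j k) (fun _ _ => rfl)
    (fun p p' h h' j k => by rw [Equiv.Perm.mul_apply, Equiv.Perm.mul_apply, h, h'])
    (fun i j k => by rw [psi_gen, psi_gen, madj_psi_gen]) g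

theorem madj_facts : ∀ j : Fin 112, madj j j = false ∧
    (univ.filter fun k => madj j k = true).card = 30 := by decide +kernel

theorem madj_symm : ∀ j k : Fin 112, madj j k = madj k j := by decide +kernel

theorem common_ok : ∀ k : Fin 112, madj 0 k = true →
    (univ.filter fun t => madj 0 t = true ∧ madj k t = true).card = 2 := by decide +kernel

theorem linePts_ok : ∀ j : Fin 112, (linePts.getD j.val []).Nodup ∧
    ((linePts.getD j.val []).all fun p => decide (p < 280)) = true := by decide +kernel

theorem share_ok : ∀ j k : Fin 112,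
    ((linePts.getD j.val []).filter fun p => (linePts.getD k.val []).contains p).length
      = if j = k then 10 else if madj j k then 1 else 0 := by decide +kernel

theorem card_share (j k : Fin 112) :
    (univ.filter fun p : Fin 280 => inc p j = true ∧ inc p k = true).card
      = if j = k then 10 else if madj j k then 1 else 0 := by
  rw [← share_ok j k]
  set l := (linePts.getD j.val []).filter fun p => (linePts.getD k.val []).contains p with hl
  have hn : l.Nodup := (linePts_ok j).1.filter _
  rw [← List.toFinset_card_of_nodup hn]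
  refine Finset.card_bij (fun p _ => p.val) ?_ (fun a _ b _ h => Fin.ext h) ?_
  · intro p hp
    simp only [mem_filter, mem_univ, true_and] at hp
    rw [List.mem_toFinset, hl, List.mem_filter]
    exact ⟨List.contains_iff_mem.1 hp.1, hp.2⟩
  · intro p hp
    rw [List.mem_toFinset, hl, List.mem_filter] at hp
    have hlt : p < 280 := of_decide_eq_true (List.all_eq_true.1 (linePts_ok j).2 p hp.1)
    refine ⟨⟨p, hlt⟩, ?_, rfl⟩
    simp only [mem_filter, mem_univ, true_and]
    exact ⟨List.contains_iff_mem.2 hp.1, hp.2⟩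

/-- words fixing the first line -/
def stabF (i : ℕ) (j : Fin 112) : Fin 112 := wordF (stabWords.getD i []) j

theorem stab_fix : ∀ i : Fin 2, stabF i.val 0 = 0 := by decide +kernel

/-- check of a tree under the stabiliser -/
def treeStabB (t : List (ℕ × ℕ × ℕ)) : Bool :=
  (List.range t.length).all fun m => m == 0 ||
    decide ((t.getD m (0, 0, 0)).2.2 < 2 ∧
      stabF (t.getD m (0, 0, 0)).2.2 (Fin.ofNat 112 (t.getD m (0, 0, 0)).2.1) =
        Fin.ofNat 112 (t.getD m (0, 0, 0)).1) &&
    (List.range m).any fun q => (t.getD q (0, 0, 0)).1 == (t.getD m (0, 0, 0)).2.1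

theorem meet_tree_ok : treeStabB meetTree = true := by decide +kernel

theorem miss_tree_ok : treeStabB missTree = true := by decide +kernel

theorem tree_cover : ∀ k : Fin 112, k ≠ 0 →
    (if madj 0 k then (meetTree.any fun e => e.1 == k.val) else (missTree.any fun e => e.1 == k.val))
      = true := by decide +kernel

theorem stab_reach {t : List (ℕ × ℕ × ℕ)} (ht : treeStabB t = true) {m : ℕ} (hm : m < t.length) :
    ∃ g : G0, psi g 0 = 0 ∧
      psi g (Fin.ofNat 112 (t.getD 0 (0, 0, 0)).1) = Fin.ofNat 112 (t.getD m (0, 0, 0)).1 := by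
  induction m using Nat.strong_induction_on with
  | _ m ih =>
    rcases Nat.eq_zero_or_pos m with rfl | hpos
    · exact ⟨1, by rw [map_one]; rfl, by rw [map_one]; rfl⟩
    · have h := List.all_eq_true.1 ht m (List.mem_range.2 hm)
      simp only [Bool.or_eq_true, Bool.and_eq_true, decide_eq_true_eq, beq_iff_eq,
        List.any_eq_true] at h
      rcases h with h | ⟨⟨h1, h2⟩, q, hq, h3⟩
      · omega
      obtain ⟨g, g0, g1⟩ := ih q (List.mem_range.1 hq) ((List.mem_range.1 hq).trans hm)
      refine ⟨wordG (stabWords.getD (t.getD m (0, 0, 0)).2.2 []) * g, ?_, ?_⟩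
      · rw [map_mul, Equiv.Perm.mul_apply, g0, psi_word]
        exact stab_fix ⟨_, h1⟩
      · rw [map_mul, Equiv.Perm.mul_apply, g1, psi_word, h3]
        exact h2

theorem stab_transitive {k l : Fin 112} (hk : k ≠ 0) (hl : l ≠ 0) (h : madj 0 k = madj 0 l) :
    ∃ g : G0, psi g 0 = 0 ∧ psi g k = l := by
  have key : ∀ (t : List (ℕ × ℕ × ℕ)), treeStabB t = true → ∀ {x : Fin 112},
      (t.any fun e => e.1 == x.val) = true →
      ∃ g : G0, psi g 0 = 0 ∧ psi g (Fin.ofNat 112 (t.getD 0 (0, 0, 0)).1) = x := by
    intro t ht x hx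
    obtain ⟨e, he, hex⟩ := List.any_eq_true.1 hx
    obtain ⟨m, hm, rfl⟩ := List.mem_iff_getElem.1 he
    obtain ⟨g, g0, g1⟩ := stab_reach ht hm
    refine ⟨g, g0, g1.trans ?_⟩
    rw [List.getD_eq_getElem _ _ hm]
    rw [beq_iff_eq] at hex
    rw [hex]
    exact Fin.ext (Nat.mod_eq_of_lt x.isLt)
  have main : ∀ (t : List (ℕ × ℕ × ℕ)), treeStabB t = true →
      (t.any fun e => e.1 == k.val) = true → (t.any fun e => e.1 == l.val) = true →
      ∃ g : G0, psi g 0 = 0 ∧ psi g k = l := by
    intro t ht a b
    obtain ⟨g, g0, g1⟩ := key t ht a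
    obtain ⟨g', g0', g1'⟩ := key t ht b
    refine ⟨g' * g⁻¹, ?_, ?_⟩
    · rw [map_mul, map_inv, Equiv.Perm.mul_apply, Equiv.Perm.inv_eq_iff_eq.2 g0.symm, g0']
    · rw [map_mul, map_inv, Equiv.Perm.mul_apply, Equiv.Perm.inv_eq_iff_eq.2 g1.symm, g1']
  have a := tree_cover k hk
  have b := tree_cover l hl
  rw [← h] at b
  cases hh : madj 0 k
  · rw [hh] at a b; exact main _ miss_tree_ok a b
  · rw [hh] at a b; exact main _ meet_tree_ok a b

/-! ### the bound on automorphisms -/

/-- automorphisms of the graph of lines -/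
def lineAut : Subgroup (Equiv.Perm (Fin 112)) where
  carrier := {p | ∀ j k, madj (p j) (p k) = madj j k}
  one_mem' := fun _ _ => rfl
  mul_mem' := fun {p p'} h h' j k => by rw [Equiv.Perm.mul_apply, Equiv.Perm.mul_apply, h, h']
  inv_mem' := fun {p} h j k => by
    conv_rhs => rw [← p.apply_symm_apply j, ← p.apply_symm_apply k, h]
    rfl

/-- automorphisms fixing a list -/
def fixList (l : List (Fin 112)) : Subgroup (Equiv.Perm (Fin 112)) :=
  lineAut ⊓ ⨅ b ∈ l, MulAction.stabilizer (Equiv.Perm (Fin 112)) b

theorem mem_fixList {l : List (Fin 112)} {p : Equiv.Perm (Fin 112)} :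
    p ∈ fixList l ↔ p ∈ lineAut ∧ ∀ b ∈ l, p b = b := by
  simp [fixList, Subgroup.mem_iInf]

/-- candidates for an image -/
def cand (pre : List (Fin 112)) (b : Fin 112) : Finset (Fin 112) :=
  univ.filter fun j => (pre.all fun x => decide (x = j) == decide (x = b) && madj x j == madj x b) = true

/-- product of candidate counts along a list -/
def candProd : List (Fin 112) → List (Fin 112) → ℕ
  | _, [] => 1
  | pre, b :: rest => (cand pre b).card * candProd (pre ++ [b]) rest

theorem card_fixList_le : ∀ (pre rest : List (Fin 112)),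
    Nat.card (fixList pre) ≤ candProd pre rest * Nat.card (fixList (pre ++ rest))
  | pre, [] => by simp [candProd]
  | pre, b :: rest => by
    have ih := card_fixList_le (pre ++ [b]) rest
    set A := fixList pre
    have hmul := (MulAction.stabilizer A b).card_mul_index
    rw [MulAction.index_stabilizer] at hmul
    have horb : (MulAction.orbit A b).ncard ≤ (cand pre b).card := by
      rw [← Set.ncard_coe_finset]
      refine Set.ncard_le_ncard ?_ (Finset.finite_toSet _)
      rintro _ ⟨⟨p, hp⟩, rfl⟩
      obtain ⟨hA, hfix⟩ := mem_fixList.1 hp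
      show p b ∈ (cand pre b : Set (Fin 112))
      simp only [cand, Finset.coe_filter, mem_univ, true_and, Set.mem_setOf_eq, List.all_eq_true,
        Bool.and_eq_true, beq_iff_eq, decide_eq_decide]
      intro x hx
      refine ⟨⟨fun h => ?_, fun h => by rw [← h, hfix x hx]⟩, ?_⟩
      · exact p.injective ((hfix x hx).trans h)
      · have := hA x b
        rwa [hfix x hx] at this
    have hst : Nat.card (MulAction.stabilizer A b) ≤ Nat.card (fixList (pre ++ [b])) := by
      refine Nat.card_le_card_of_injective (fun s => ⟨(s : A).1, ?_⟩) ?_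
      · refine mem_fixList.2 ⟨(mem_fixList.1 (s : A).2).1, fun x hx => ?_⟩
        rcases List.mem_append.1 hx with hx | hx
        · exact (mem_fixList.1 (s : A).2).2 x hx
        · rw [List.mem_singleton] at hx
          subst hx
          exact s.2
      · intro s t h
        exact Subtype.ext (Subtype.ext (congrArg Subtype.val h :))
    have e : pre ++ b :: rest = pre ++ [b] ++ rest := by simp
    rw [e, ← hmul]
    calc Nat.card (MulAction.stabilizer A b) * (MulAction.orbit A b).ncard
        ≤ Nat.card (fixList (pre ++ [b])) * (cand pre b).card := Nat.mul_le_mul hst horb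
      _ ≤ (candProd (pre ++ [b]) rest * Nat.card (fixList (pre ++ [b] ++ rest))) *
          (cand pre b).card := Nat.mul_le_mul_right _ ih
      _ = _ := by rw [candProd]; ring

/-- the base -/
def base : List (Fin 112) := autBase.map (Fin.ofNat 112)

theorem base_separates : ∀ j k : Fin 112,
    (base.all fun x => decide (x = j) == decide (x = k) && madj x j == madj x k) = true → j = k := by
  decide +kernel

theorem base_prod : candProd [] base < 275 * 3265920 := by decide +kernel

theorem card_lineAut_lt : Nat.card lineAut < 275 * 3265920 := by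
  have h := card_fixList_le [] base
  have h1 : fixList [] = lineAut := by ext p; simp [mem_fixList]
  have h2 : fixList ([] ++ base) = ⊥ := by
    refine (Subgroup.eq_bot_iff_forall _).2 fun p hp => Equiv.ext fun j => ?_
    obtain ⟨hA, hfix⟩ := mem_fixList.1 hp
    refine base_separates _ _ (List.all_eq_true.2 fun x hx => ?_)
    have hx' := hfix x (by simpa using hx)
    simp only [Bool.and_eq_true, beq_iff_eq, decide_eq_decide]
    refine ⟨⟨fun h => ?_, fun h => ?_⟩, ?_⟩
    · exact p.injective (hx'.trans h) |>.trans rfl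
    · rw [Equiv.Perm.one_apply] at *
      rw [← h, hx']
    · have := hA x j
      rwa [hx'] at this
  rw [h1, h2, Subgroup.card_bot, mul_one] at h
  exact h.trans_lt base_prod

/-! ### twists -/

/-- permutations normalising the image of `psi` and preserving meeting -/
def twistGrp : Submonoid (Equiv.Perm (Fin 112)) where
  carrier := {p | p ∈ lineAut ∧ ∀ g : G0, ∃ g' : G0, ∀ j, p (psi g j) = psi g' (p j)}
  one_mem' := ⟨one_mem _, fun g => ⟨g, fun _ => rfl⟩⟩
  mul_mem' := fun {p p'} h h' => ⟨mul_mem h.1 h'.1, fun g => by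
    obtain ⟨g1, e1⟩ := h'.2 g
    obtain ⟨g2, e2⟩ := h.2 g1
    exact ⟨g2, fun j => by rw [Equiv.Perm.mul_apply, e1, e2, Equiv.Perm.mul_apply]⟩⟩

theorem psi_mem_twist (g : G0) : psi g ∈ twistGrp :=
  ⟨madj_psi g, fun g' => ⟨g * g' * g⁻¹, fun j => by
    rw [map_mul, map_mul, map_inv, Equiv.Perm.mul_apply, Equiv.Perm.mul_apply, Equiv.Perm.coe_inv,
      Equiv.symm_apply_apply]⟩⟩

/-- the diagonal isometry on lines -/
def dF (j : Fin 112) : Fin 112 := at112 diagPerm j

theorem dF_surj : ∀ k, ∃ j, dF j = k := by decide +kernel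

/-- the diagonal isometry as a permutation -/
noncomputable def dP : Equiv.Perm (Fin 112) :=
  Equiv.ofBijective dF (Finite.surjective_iff_bijective.1 dF_surj)

/-- the diagonal isometry -/
def dV (v : W) : W := fun t => if t = 0 then Nine.F.ofN 3 * v t else v t

theorem dV_iso : ∀ i, Cfsg.hermForm 4 K 3 (dV (McLU4.rt i)) (dV (McLU4.rt i)) = 0 := by decide +kernel

theorem dF_adj : ∀ j k, madj (dF j) (dF k) = madj j k := by decide +kernel

theorem dF_tbl : ∀ i, tblOK (dV (McLU4.rt i)) (plF i) dF = true := by decide +kernel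

theorem dP_mem : dP ∈ twistGrp := by
  refine ⟨dF_adj, fun g => ?_⟩
  obtain ⟨g', hg'⟩ := psi_induction
    (P := fun p => ∃ g' : G0, ∀ j, dP (p j) = psi g' (dP j))
    ⟨1, fun j => by rw [map_one]; rfl⟩
    (fun p p' ⟨a, ha⟩ ⟨b, hb⟩ => ⟨a * b, fun j => by
      rw [Equiv.Perm.mul_apply, ha, hb, map_mul, Equiv.Perm.mul_apply]⟩)
    (fun i => ⟨H50.tv McLU4.hK (dV (McLU4.rt i)) McLU4.c0 (dV_iso i) McLU4.c0_ok.1, fun j => by
      rw [psi_gen]
      refine (L_injective ?_).symm
      rw [← psi_spec]
      exact mapS_eq_of_le (mapS_le_of_tblOK (v := dV (McLU4.rt i)) (p := plF i) (c := dF) _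
        (H50.tv_mulVec McLU4.hK _ _ (dV_iso i) McLU4.c0_ok.1) (dF_tbl i) j)⟩) g
  exact ⟨g', hg'⟩

/-- the `k`-th twist -/
noncomputable def twist (k : ℕ) : Equiv.Perm (Fin 112) :=
  psi (wordG (twists.getD k ([], 0)).1) * dP ^ (twists.getD k ([], 0)).2

theorem twist_mem (k : ℕ) : twist k ∈ twistGrp :=
  mul_mem (psi_mem_twist _) (pow_mem dP_mem _)

theorem twist_symm {p : Equiv.Perm (Fin 112)} (h : p ∈ twistGrp) : p⁻¹ ∈ twistGrp := by
  have h1 : p ^ (orderOf p - 1) = p⁻¹ := by
    rw [eq_inv_iff_mul_eq_one, ← pow_succ, Nat.sub_add_cancel (orderOf_pos p), pow_orderOf_eq_one]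
  exact h1 ▸ pow_mem h _

/-! ### the family and the invariant hemisystems -/

/-- membership in the family -/
def inM (k : Fin 162) (j : Fin 112) : Bool := Nat.testBit (hemi.getD k.val 0) j.val

/-- the family -/
def famM (k : Fin 162) : Finset (Fin 112) := univ.filter fun j => inM k j = true

/-- the moves on the family -/
def hmF (i : Fin 4) (k : Fin 162) : Fin 162 := Fin.ofNat 162 ((hemiMoves.getD i.val []).getD k.val 0)

theorem hm_ok : ∀ (i : Fin 4) (k : Fin 162) (j : Fin 112), inM (hmF i k) (plF i j) = inM k j := by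
  decide +kernel

theorem hemi_nodup : hemi.Nodup ∧ hemi.length = 162 ∧ (hemi.all fun m => decide (m < 2 ^ 112)) = true := by
  decide +kernel

theorem hemi_tree : ∀ k : Fin 162, 0 < k.val →
    (hemiPar.getD k.val (0, 0)).1 < k.val ∧
      hmF (Fin.ofNat 4 (hemiPar.getD k.val (0, 0)).2) (Fin.ofNat 162 (hemiPar.getD k.val (0, 0)).1) = k := by
  decide +kernel

theorem mem_famM {k : Fin 162} {j : Fin 112} : j ∈ famM k ↔ inM k j = true := by
  simp [famM]

theorem famM_injective : Function.Injective famM := by
  intro k l h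
  have hlen := hemi_nodup.2.1
  have hk : k.val < hemi.length := by omega
  have hl : l.val < hemi.length := by omega
  have he : hemi.getD k.val 0 = hemi.getD l.val 0 := by
    refine Nat.eq_of_testBit_eq fun i => ?_
    by_cases hi : i < 112
    · have h1 := Finset.ext_iff.1 h ⟨i, hi⟩
      rw [mem_famM, mem_famM] at h1
      exact Bool.eq_iff_iff.2 h1
    · have hb : ∀ m : Fin 162, hemi.getD m.val 0 < 2 ^ i := fun m => by
        have hm : m.val < hemi.length := by omega
        rw [List.getD_eq_getElem _ _ hm]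
        exact (of_decide_eq_true (List.all_eq_true.1 hemi_nodup.2.2 _ (List.getElem_mem hm))).trans_le
          (Nat.pow_le_pow_right (by norm_num) (by omega))
      rw [Nat.testBit_lt_two_pow (hb k), Nat.testBit_lt_two_pow (hb l)]
  rw [List.getD_eq_getElem _ _ hk, List.getD_eq_getElem _ _ hl] at he
  exact Fin.ext ((hemi_nodup.1.getElem_inj_iff).1 he)

theorem famM_move (g : G0) (k : Fin 162) : ∃ l, (famM k).image (psi g) = famM l :=
  psi_induction (P := fun p => ∀ k, ∃ l, (famM k).image p = famM l)
    (fun k => ⟨k, by simp⟩)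
    (fun p p' h h' k => by
      obtain ⟨l, hl⟩ := h' k
      obtain ⟨m, hm⟩ := h l
      exact ⟨m, by rw [← hm, ← hl, Finset.image_image]; rfl⟩)
    (fun i k => ⟨hmF i k, by
      ext j
      simp only [mem_image, famM, mem_filter, mem_univ, true_and]
      constructor
      · rintro ⟨x, hx, rfl⟩; rw [psi_gen, hm_ok]; exact hx
      · intro hj
        refine ⟨(psi (McLU4.g i)).symm j, ?_, Equiv.apply_symm_apply _ _⟩
        rw [← hm_ok i k, ← psi_gen, Equiv.apply_symm_apply]
        exact hj⟩) g k

theorem famM_transitive (k : Fin 162) : ∃ g, (famM 0).image (psi g) = famM k := by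
  obtain ⟨k, hk⟩ := k
  induction k using Nat.strong_induction_on with
  | _ k ih =>
    rcases Nat.eq_zero_or_pos k with rfl | hpos
    · exact ⟨1, by simp⟩
    · obtain ⟨h1, h2⟩ := hemi_tree ⟨k, hk⟩ hpos
      obtain ⟨g, hg⟩ := ih _ h1 (h1.trans hk)
      refine ⟨McLU4.g (Fin.ofNat 4 (hemiPar.getD k (0, 0)).2) * g, ?_⟩
      have e : (⟨(hemiPar.getD k (0, 0)).1, h1.trans hk⟩ : Fin 162) =
          Fin.ofNat 162 (hemiPar.getD k (0, 0)).1 := Fin.ext (Nat.mod_eq_of_lt (h1.trans hk)).symm
      rw [map_mul, Equiv.Perm.coe_mul, ← Finset.image_image, hg, e]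
      conv_rhs => rw [← h2]
      ext j
      simp only [mem_image, famM, mem_filter, mem_univ, true_and]
      constructor
      · rintro ⟨x, hx, rfl⟩; rw [psi_gen, hm_ok]; exact hx
      · intro hj
        refine ⟨(psi (McLU4.g _)).symm j, ?_, Equiv.apply_symm_apply _ _⟩
        rw [← hm_ok, ← psi_gen, Equiv.apply_symm_apply]
        exact hj

theorem meet_count : ((List.range 162).countP fun k =>
    decide (((List.range 112).countP fun j => Nat.testBit (hemi.getD 0 0) j &&
      Nat.testBit (hemi.getD k 0) j) ≤ 30)) = 56 := by decide +kernel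

/-- the element of order 7 on lines -/
def sigF (j : Fin 112) : Fin 112 := wordF sigmaWord j

/-- the orbit of a line -/
def oiF (j : Fin 112) : ℕ := sigmaIdx.getD j.val 0

theorem sig_facts : ∀ j : Fin 112, oiF j < 16 ∧ (sigF^[7]) j = j ∧
    ∃ m : Fin 7, (sigF^[m.val]) (Fin.ofNat 112 (orbitRep.getD (oiF j) 0)) = j := by decide +kernel

theorem sig_move : sigF 0 ≠ 0 ∨ sigF 1 ≠ 1 := by decide +kernel

/-- no other choice of orbits -/
def solB (n : ℕ) : Bool :=
  !(orbitQuads.all fun q => (q.countP fun o => Nat.testBit n o) == 2) || sigmaSols.contains n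

theorem sols_ok : ((List.range 256).all fun a => (List.range 256).all fun b => solB (256 * a + b))
    = true := by decide +kernel

theorem quads_ok : (orbitQuads.all fun q => (List.range 280).any fun p =>
    ((ptLines.getD p []).map fun j => sigmaIdx.getD j 0) == q) = true := by decide +kernel

theorem ptLines_ok : ∀ p : Fin 280, (ptLines.getD p.val []).Nodup ∧
    ((ptLines.getD p.val []).all fun j => decide (j < 112)) = true ∧
    ∀ j : Fin 112, inc p j = (ptLines.getD p.val []).contains j.val := by decide +kernel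

theorem twist_ok : ∀ (i : Fin 4) (j : Fin 112),
    Nat.testBit (sigmaSols.getD i.val 0)
      (oiF (wordF (twists.getD i.val ([], 0)).1 ((dF^[(twists.getD i.val ([], 0)).2]) j))) = inM 0 j := by
  decide +kernel

theorem sols_length : sigmaSols.length = 4 := by decide +kernel

theorem count_filter {M : Finset (Fin 112)} {b : ℕ → Bool} (hb : ∀ j : Fin 112, j ∈ M ↔ b j.val = true)
    (p : Fin 280) :
    (M.filter fun j => inc p j = true).card = (ptLines.getD p.val []).countP b := by
  obtain ⟨hn, hlt, hinc⟩ := ptLines_ok p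
  rw [List.countP_eq_length_filter, ← List.toFinset_card_of_nodup (hn.filter _)]
  refine Finset.card_bij (fun j _ => j.val) ?_ (fun a _ c _ h => Fin.ext h) ?_
  · intro j hj
    rw [mem_filter, hinc] at hj
    rw [List.mem_toFinset, List.mem_filter]
    exact ⟨List.contains_iff_mem.1 hj.2, (hb j).1 hj.1⟩
  · intro j hj
    rw [List.mem_toFinset, List.mem_filter] at hj
    have h112 : j < 112 := of_decide_eq_true (List.all_eq_true.1 hlt j hj.1)
    refine ⟨⟨j, h112⟩, ?_, rfl⟩
    rw [mem_filter, hinc]
    exact ⟨(hb _).2 hj.2, List.contains_iff_mem.2 hj.1⟩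

theorem classify_invariant {M : Finset (Fin 112)} (hM : Hemi M)
    (hσ : ∀ j, sigF j ∈ M ↔ j ∈ M) : ∃ p ∈ twistGrp, M = (famM 0).image p := by
  let r : Fin 16 → Bool := fun o => decide ((Fin.ofNat 112 (orbitRep.getD o.val 0)) ∈ M)
  set n := Nat.ofBits r
  have hn : n < 65536 := Nat.ofBits_lt_two_pow r
  have hiter : ∀ m j, (sigF^[m]) j ∈ M ↔ j ∈ M := by
    intro m
    induction m with
    | zero => exact fun j => Iff.rfl
    | succ m ih => intro j; rw [Function.iterate_succ_apply', hσ, ih]
  have hmem : ∀ j : Fin 112, j ∈ M ↔ Nat.testBit n (oiF j) = true := fun j => by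
    obtain ⟨hlt, -, m, hm⟩ := sig_facts j
    rw [Nat.testBit_ofBits_lt r _ hlt]
    simp only [r, decide_eq_true_eq]
    conv_lhs => rw [← hm]
    exact hiter _ _
  have hs := List.all_eq_true.1 (List.all_eq_true.1 sols_ok (n / 256) (List.mem_range.2 (by omega)))
    (n % 256) (List.mem_range.2 (Nat.mod_lt _ (by norm_num)))
  rw [Nat.div_add_mod] at hs
  simp only [solB, Bool.or_eq_true, Bool.not_eq_true', List.contains_iff_mem] at hs
  rcases hs with hs | hs
  · exfalso
    rw [List.all_eq_false] at hs
    obtain ⟨q, hq, hne⟩ := hs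
    obtain ⟨p, hp, hpq⟩ := List.any_eq_true.1 (List.all_eq_true.1 quads_ok q hq)
    rw [beq_iff_eq] at hpq
    have h2 := hM ⟨p, List.mem_range.1 hp⟩
    rw [count_filter (b := fun j => Nat.testBit n (sigmaIdx.getD j 0)) hmem] at h2
    refine hne ?_
    rw [beq_iff_eq, ← hpq, List.countP_map]
    exact h2
  · obtain ⟨i, hi, hin⟩ := List.mem_iff_getElem.1 hs
    have hi4 : i < 4 := sols_length ▸ hi
    refine ⟨twist i, twist_mem i, ?_⟩
    ext j
    rw [hmem, mem_image]
    have happ : ∀ x, twist i x = wordF (twists.getD i ([], 0)).1 ((dF^[(twists.getD i ([], 0)).2]) x) :=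
      fun x => by
        rw [twist, Equiv.Perm.mul_apply, psi_word, Equiv.Perm.coe_pow]
        rfl
    have hx : ∀ x, Nat.testBit n (oiF (twist i x)) = inM 0 x := fun x => by
      rw [happ, ← hin, ← List.getD_eq_getElem _ 0 hi]
      exact twist_ok ⟨i, hi4⟩ x
    constructor
    · intro hj
      refine ⟨(twist i).symm j, ?_, Equiv.apply_symm_apply _ _⟩
      simp only [famM, mem_filter, mem_univ, true_and]
      rw [← hx, Equiv.apply_symm_apply]
      exact hj
    · rintro ⟨x, hxm, rfl⟩
      simp only [famM, mem_filter, mem_univ, true_and] at hxm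
      rw [hx]
      exact hxm

end McLRec
end H50
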