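import Cfsg.Agent.H50.McLRecAct
import Cfsg.Agent.H50.McLRecComb

/-!
The orbital graph of a rank three action of degree 275 with subdegrees 1, 112, 162 and point
stabiliser of order 3265920: every point outside the first neighbourhood gives a hemisystem.
-/

set_option autoImplicit false
set_option Elab.async false
set_option maxRecDepth 100000
set_option linter.style.haveILetI false
set_option linter.unusedSectionVars false

noncomputable section

namespace H50
namespace McLRec

open Finset MulAction

variable {Ω : Type*} [Fintype Ω] [DecidableEq Ω]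

/-- the hypotheses on the action -/
structure Setup (G : Subgroup (Equiv.Perm Ω)) (a b c : Ω) : Prop where
  card : Fintype.card Ω = 275
  trans : MulAction.IsPretransitive G Ω
  stab : Nat.card (stabilizer G a) = 3265920
  hb : (orbit (stabilizer G a) b).ncard = 112
  hc : (orbit (stabilizer G a) c).ncard = 162

variable (G : Subgroup (Equiv.Perm Ω)) (a b : Ω)

/-- the orbital graph -/
def adj (x y : Ω) : Prop := ∃ g : G, g • x = a ∧ g • y ∈ orbit (stabilizer G a) b

open Classical in
/-- the neighbours -/
def nb (x : Ω) : Finset Ω := univ.filter fun y => adj G a b x y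

/-- the closed neighbourhood -/
def ball (x : Ω) : Finset Ω := insert x (nb G a b x)

open Classical in
/-- the second suborbit -/
def far (c : Ω) : Finset Ω := univ.filter fun y => y ∈ orbit (stabilizer G a) c

variable {G a b} {c : Ω}

theorem mem_nb {x y : Ω} : y ∈ nb G a b x ↔ adj G a b x y := by simp [nb]

theorem mem_far {y : Ω} : y ∈ far G a c ↔ y ∈ orbit (stabilizer G a) c := by simp [far]

theorem stab_fix_pt (k : stabilizer G a) : (k : G) • a = a := k.2

theorem orbit_self_eq : orbit (stabilizer G a) a = {a} := by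
  ext x
  refine ⟨fun ⟨k, hk⟩ => hk ▸ stab_fix_pt k, fun h => ?_⟩
  rw [Set.mem_singleton_iff] at h
  rw [h]
  exact mem_orbit_self a

section setup
variable (S : Setup G a b c)
include S

theorem a_not_one : a ∉ orbit (stabilizer G a) b := fun h => by
  have := S.hb
  rw [← (orbit_eq_iff.mpr h), orbit_self_eq, Set.ncard_singleton] at this; omega

theorem a_not_two : a ∉ orbit (stabilizer G a) c := fun h => by
  have := S.hc
  rw [← (orbit_eq_iff.mpr h), orbit_self_eq, Set.ncard_singleton] at this; omega

theorem one_two {x : Ω} (h1 : x ∈ orbit (stabilizer G a) b) : x ∉ orbit (stabilizer G a) c :=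
  fun h2 => by
    have e1 := S.hb
    have e2 := S.hc
    rw [← orbit_eq_iff.mpr h1] at e1
    rw [← orbit_eq_iff.mpr h2] at e2
    omega

theorem cover (x : Ω) :
    x = a ∨ x ∈ orbit (stabilizer G a) b ∨ x ∈ orbit (stabilizer G a) c := by
  by_contra h
  simp only [not_or] at h
  set O2 := orbit (stabilizer G a) b
  set O7 := orbit (stabilizer G a) c
  have hd : Disjoint O2 O7 := Set.disjoint_left.2 fun y hy => one_two S hy
  have hu : ({a} ∪ O2 ∪ O7 : Set Ω).ncard = 275 := by
    rw [Set.ncard_union_eq (Set.disjoint_union_left.mpr ⟨by simpa using a_not_two S, hd⟩)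
      (Set.toFinite _) (Set.toFinite _), Set.ncard_union_eq (by simpa using a_not_one S)
      (Set.toFinite _) (Set.toFinite _), Set.ncard_singleton, S.hb, S.hc]
  have := Set.eq_of_subset_of_ncard_le (Set.subset_univ _)
    (le_of_eq (by rw [hu, Set.ncard_univ, Nat.card_eq_fintype_card, S.card])) (Set.toFinite _)
  have hx := this.ge (Set.mem_univ x)
  simp [h.1, h.2.1, h.2.2] at hx

theorem paired {g : G} (hg : g • a ∈ orbit (stabilizer G a) b) :
    g⁻¹ • a ∈ orbit (stabilizer G a) b := by
  rcases cover S (g⁻¹ • a) with h | h | h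
  · rw [inv_smul_eq_iff] at h
    exact absurd (by rw [← h] at hg; exact hg) (a_not_one S)
  · exact h
  · exfalso
    have n1 : Nat.card (stabilizer (stabilizer G a) (g • a)) * 112 = 3265920 := by
      rw [← S.hb, ← orbit_eq_iff.mpr hg, ← index_stabilizer, Subgroup.card_mul_index, S.stab]
    have n2 : Nat.card (stabilizer (stabilizer G a) (g⁻¹ • a)) * 162 = 3265920 := by
      rw [← S.hc, ← orbit_eq_iff.mpr h, ← index_stabilizer, Subgroup.card_mul_index, S.stab]
    have e : Nat.card (stabilizer (stabilizer G a) (g • a)) =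
        Nat.card (stabilizer (stabilizer G a) (g⁻¹ • a)) := by
      refine Nat.card_congr
        { toFun := fun k => ⟨⟨g⁻¹ * k.1.1 * g, ?_⟩, ?_⟩
          invFun := fun k => ⟨⟨g * k.1.1 * g⁻¹, ?_⟩, ?_⟩
          left_inv := fun k => Subtype.ext (Subtype.ext (by simp [mul_assoc]))
          right_inv := fun k => Subtype.ext (Subtype.ext (by simp [mul_assoc])) }
      · show (g⁻¹ * k.1.1 * g) • a = a
        rw [mul_smul, mul_smul, show k.1.1 • (g • a) = g • a from k.2, inv_smul_smul]
      · show (g⁻¹ * k.1.1 * g) • (g⁻¹ • a) = g⁻¹ • a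
        rw [mul_smul, mul_smul, smul_inv_smul, show k.1.1 • a = a from k.1.2]
      · show (g * k.1.1 * g⁻¹) • a = a
        rw [mul_smul, mul_smul, show k.1.1 • (g⁻¹ • a) = g⁻¹ • a from k.2, smul_inv_smul]
      · show (g * k.1.1 * g⁻¹) • (g • a) = g • a
        rw [mul_smul, mul_smul, inv_smul_smul, show k.1.1 • a = a from k.1.2]
    omega

theorem adj_symm {x y : Ω} (h : adj G a b x y) : adj G a b y x := by
  haveI := S.trans
  obtain ⟨g, hgx, hgy⟩ := h
  obtain ⟨k, hk⟩ := exists_smul_eq G (g • y) a
  refine ⟨k * g, by rw [mul_smul, hk], ?_⟩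
  rw [mul_smul, hgx]
  have e : k⁻¹ • a = g • y := inv_smul_eq_iff.2 hk.symm
  have := paired S (g := k⁻¹) (e.symm ▸ hgy)
  rwa [inv_inv] at this

theorem adj_ne {x y : Ω} (h : adj G a b x y) : x ≠ y := by
  obtain ⟨g, h1, h2⟩ := h
  rintro rfl
  exact a_not_one S (h1 ▸ h2)

omit S

theorem adj_move (g : G) {x y : Ω} (h : adj G a b x y) : adj G a b (g • x) (g • y) := by
  obtain ⟨k, h1, h2⟩ := h
  exact ⟨k * g⁻¹, by rw [mul_smul, inv_smul_smul, h1],
    by rw [mul_smul, inv_smul_smul]; exact h2⟩

theorem adj_smul_iff (g : G) (x y : Ω) : adj G a b (g • x) (g • y) ↔ adj G a b x y :=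
  ⟨fun h => by simpa using adj_move g⁻¹ h, adj_move g⟩

theorem adj_base {y : Ω} : adj G a b a y ↔ y ∈ orbit (stabilizer G a) b := by
  refine ⟨fun ⟨g, h1, h2⟩ => ?_, fun h => ⟨1, one_smul _ _, by rwa [one_smul]⟩⟩
  obtain ⟨k, hk⟩ := h2
  refine ⟨(⟨g, h1⟩ : stabilizer G a)⁻¹ * k, ?_⟩
  show ((⟨g, h1⟩ : stabilizer G a)⁻¹ * k) • b = y
  rw [mul_smul, inv_smul_eq_iff]
  exact hk

theorem image_nb (g : G) (x : Ω) : (nb G a b x).image (g • ·) = nb G a b (g • x) := by
  ext y
  simp only [mem_image, mem_nb]
  refine ⟨fun ⟨z, hz, e⟩ => e ▸ adj_move g hz, fun h => ⟨g⁻¹ • y, ?_, smul_inv_smul g y⟩⟩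
  rw [← adj_smul_iff g, smul_inv_smul]
  exact h

theorem common_move (g : G) (x y : Ω) :
    (nb G a b (g • x) ∩ nb G a b (g • y)).card = (nb G a b x ∩ nb G a b y).card := by
  rw [← image_nb, ← image_nb, ← image_inter _ _ (MulAction.injective g),
    card_image_of_injective _ (MulAction.injective g)]

theorem image_ball (g : G) (x : Ω) : (ball G a b x).image (g • ·) = ball G a b (g • x) := by
  rw [ball, ball, image_insert, image_nb]

include S

theorem card_nb (x : Ω) : (nb G a b x).card = 112 := by
  haveI := S.trans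
  obtain ⟨g, rfl⟩ := exists_smul_eq G a x
  rw [← image_nb, card_image_of_injective _ (MulAction.injective g), ← S.hb,
    ← Set.ncard_coe_finset]
  congr 1
  ext y
  rw [mem_coe, mem_nb, adj_base]

theorem card_far : (far G a c).card = 162 := by
  rw [← S.hc, ← Set.ncard_coe_finset]
  congr 1
  ext y
  rw [mem_coe, mem_far]

theorem common_one {x y : Ω} (h : adj G a b x y) :
    (nb G a b x ∩ nb G a b y).card = (nb G a b a ∩ nb G a b b).card := by
  obtain ⟨g, h1, k, hk⟩ := h
  rw [← common_move g, h1, ← common_move (k : G) a b, stab_fix_pt k]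
  rw [show (k : G) • b = g • y from hk]

theorem common_two {z : Ω} (h : z ∈ far G a c) :
    (nb G a b a ∩ nb G a b z).card = (nb G a b a ∩ nb G a b c).card := by
  obtain ⟨k, rfl⟩ := mem_far.1 h
  show (nb G a b a ∩ nb G a b ((k : G) • c)).card = _
  have := common_move (b := b) (a := a) (k : G) a c
  rwa [stab_fix_pt k] at this

theorem split_nb {y : Ω} (hy : adj G a b a y) :
    open Classical in
    112 = 1 + (nb G a b a ∩ nb G a b y).card + ((far G a c).filter (adj G a b y)).card := by
  classical
  have e : nb G a b y =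
      insert a ((nb G a b a ∩ nb G a b y) ∪ (far G a c).filter (adj G a b y)) := by
    ext w
    simp only [mem_insert, mem_union, mem_inter, mem_filter, mem_nb, mem_far]
    constructor
    · intro hw
      rcases cover S w with h | h | h
      · exact Or.inl h
      · exact Or.inr (Or.inl ⟨adj_base.2 h, hw⟩)
      · exact Or.inr (Or.inr ⟨h, hw⟩)
    · rintro (rfl | h | h)
      · exact adj_symm S hy
      · exact h.2
      · exact h.2
  have h := card_nb S y
  rw [e, card_insert_of_notMem, card_union_of_disjoint] at h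
  · omega
  · rw [Finset.disjoint_left]
    intro w hw hw'
    rw [mem_inter, mem_nb, adj_base] at hw
    exact one_two S hw.1 (mem_far.1 (mem_filter.1 hw').1)
  · simp only [mem_union, mem_inter, mem_filter, mem_nb, mem_far, not_or]
    exact ⟨fun h => adj_ne S h.1 rfl, fun h => a_not_two S h.1⟩

theorem mu_eq :
    112 * (111 - (nb G a b a ∩ nb G a b b).card) = 162 * (nb G a b a ∩ nb G a b c).card := by
  classical
  have h := sum_card_bipartiteAbove_eq_sum_card_bipartiteBelow (r := adj G a b)
    (s := nb G a b a) (t := far G a c)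
  have h1 : ∀ y ∈ nb G a b a, ((far G a c).bipartiteAbove (adj G a b) y).card
      = 111 - (nb G a b a ∩ nb G a b b).card := fun y hy => by
    have := split_nb S (mem_nb.1 hy)
    rw [common_one S (mem_nb.1 hy)] at this
    have e : ((far G a c).bipartiteAbove (adj G a b) y) = (far G a c).filter (adj G a b y) := by
      ext w; simp [mem_bipartiteAbove]
    rw [e]
    omega
  have h2 : ∀ z ∈ far G a c, ((nb G a b a).bipartiteBelow (adj G a b) z).card
      = (nb G a b a ∩ nb G a b c).card := fun z hz => by
    rw [← common_two S hz]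
    congr 1
    ext y
    simp only [mem_bipartiteBelow, mem_inter, mem_nb]
    exact ⟨fun h => ⟨h.1, adj_symm S h.2⟩, fun h => ⟨h.1, adj_symm S h.2⟩⟩
  rw [sum_congr rfl h1, sum_congr rfl h2, sum_const, sum_const, card_nb S, card_far S] at h
  simpa using h

theorem lam_ne : (nb G a b a ∩ nb G a b b).card ≠ 111 := by
  intro hl
  haveI := S.trans
  have hcard : ∀ x, (ball G a b x).card = 113 := fun x => by
    rw [ball, card_insert_of_notMem, card_nb S]
    exact fun h => adj_ne S (mem_nb.1 h) rfl
  have base : ∀ y, adj G a b a y → ball G a b y = ball G a b a := by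
    intro y hy
    refine (eq_of_subset_of_card_le ?_ (by rw [hcard, hcard])).symm
    have he : nb G a b a ∩ nb G a b y = (nb G a b a).erase y := by
      refine eq_of_subset_of_card_le (fun w hw => ?_) ?_
      · rw [mem_inter, mem_nb, mem_nb] at hw
        rw [mem_erase, mem_nb]
        exact ⟨(adj_ne S hw.2).symm, hw.1⟩
      · rw [card_erase_of_mem (mem_nb.2 hy), card_nb S, common_one S hy, hl]
    intro w hw
    rw [ball, mem_insert] at hw ⊢
    rcases hw with rfl | hw
    · exact Or.inr (mem_nb.2 (adj_symm S hy))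
    · by_cases hwy : w = y
      · exact Or.inl hwy
      · have : w ∈ nb G a b a ∩ nb G a b y := he ▸ mem_erase.2 ⟨hwy, hw⟩
        exact Or.inr (mem_inter.1 this).2
  have gen : ∀ x y, y ∈ ball G a b x → ball G a b y = ball G a b x := by
    intro x y hy
    rcases mem_insert.1 hy with rfl | hy
    · rfl
    · obtain ⟨g, hg⟩ := exists_smul_eq G x a
      have h' := (adj_smul_iff g x y).2 (mem_nb.1 hy)
      rw [hg] at h'
      exact image_injective (MulAction.injective g) (by rw [image_ball, image_ball, base _ h', hg])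
  have h := card_eq_sum_card_image (ball G a b) (univ : Finset Ω)
  have hf : ∀ s ∈ univ.image (ball G a b),
      (univ.filter fun y => ball G a b y = s).card = 113 := by
    intro s hs
    obtain ⟨x, -, rfl⟩ := mem_image.1 hs
    rw [← hcard x]
    congr 1
    ext y
    simp only [mem_filter, mem_univ, true_and]
    exact ⟨fun e => e ▸ mem_insert_self _ _, gen x y⟩
  rw [sum_congr rfl hf, sum_const, card_univ, S.card, smul_eq_mul] at h
  omega

end setup

/-- the number of chosen lines on a point -/
def hitCount (M : Finset (Fin 112)) (p : Fin 280) : ℕ := (M.filter fun j => inc p j = true).card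

/-- the ordered pairs of meeting lines -/
def adjPairs (M : Finset (Fin 112)) : ℕ := ∑ j ∈ M, ∑ k ∈ M, if madj j k = true then 1 else 0

theorem sum_two_mem {α : Type*} [Fintype α] [DecidableEq α] (M : Finset α) (f : α → α → ℕ) :
    ∑ j ∈ M, ∑ k ∈ M, f j k = ∑ j, ∑ k, if j ∈ M ∧ k ∈ M then f j k else 0 := by
  simp [ite_and, sum_ite_mem]

theorem adjPairs_eq (M : Finset (Fin 112)) : adjPairs M =
    ∑ j, ∑ k, if j ∈ M ∧ k ∈ M then (if madj j k = true then 1 else 0) else 0 :=
  sum_two_mem M _

theorem four_mul_le (n : ℕ) : 4 * n ≤ n * n + 4 := by nlinarith [sq_nonneg ((n : ℤ) - 2)]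

theorem eq_two_of_four_mul {n : ℕ} (h : 4 * n = n * n + 4) : n = 2 := by
  have : ((n : ℤ) - 2) ^ 2 = 0 := by
    have : (4 : ℤ) * n = (n : ℤ) * n + 4 := by exact_mod_cast h
    linarith
  have := eq_zero_of_pow_eq_zero this
  omega

theorem sum_hit (M : Finset (Fin 112)) : ∑ p, hitCount M p = M.card * 10 := by
  simp only [hitCount, card_filter]
  rw [sum_comm, sum_congr rfl (g := fun _ => 10) fun j _ => ?_, sum_const, smul_eq_mul]
  rw [← card_filter]
  have := card_share j j
  simp only [if_true, and_self] at this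
  exact this

theorem share_split (j k : Fin 112) : (∑ p : Fin 280, (if inc p j = true then 1 else 0) *
    (if inc p k = true then 1 else 0)) =
    (if j = k then 10 else 0) + (if madj j k = true then 1 else 0) := by
  have e : ∀ p : Fin 280, (if inc p j = true then 1 else 0) * (if inc p k = true then 1 else 0)
      = if inc p j = true ∧ inc p k = true then 1 else 0 := fun p => by
    by_cases h : inc p j = true <;> simp [h]
  rw [sum_congr rfl fun p _ => e p, ← card_filter, card_share]
  by_cases hjk : j = k
  · subst hjk; simp [(madj_facts j).1]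
  · simp [hjk]

theorem sum_hit_sq (M : Finset (Fin 112)) :
    ∑ p, hitCount M p * hitCount M p = M.card * 10 + adjPairs M := by
  simp only [hitCount, card_filter, sum_mul_sum]
  rw [sum_comm, adjPairs]
  have : ∀ j ∈ M, (∑ p : Fin 280, ∑ k ∈ M, (if inc p j = true then 1 else 0) *
      (if inc p k = true then 1 else 0)) =
      10 + ∑ k ∈ M, (if madj j k = true then 1 else 0) := fun j hj => by
    rw [sum_comm, sum_congr rfl fun k _ => share_split j k, sum_add_distrib, sum_ite_eq, if_pos hj]
  rw [sum_congr rfl this, sum_add_distrib, sum_const, smul_eq_mul]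

theorem common_lines {j k : Fin 112} (h : madj j k = true) :
    (univ.filter fun t => madj j t = true ∧ madj k t = true).card = 2 := by
  obtain ⟨g, rfl⟩ := psi_transitive j
  have hk : k = psi g ((psi g).symm k) := (Equiv.apply_symm_apply _ _).symm
  rw [hk] at h ⊢
  rw [madj_psi] at h
  rw [← common_ok _ h]
  refine (card_equiv (psi g) fun t => ?_).symm
  simp only [mem_filter, mem_univ, true_and, madj_psi]

namespace LineModel

variable (m : LineModel G a b)

theorem pt_adj (j : Fin 112) : adj G a b a (m.pt j) :=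
  adj_base.2 (m.range_eq ▸ Set.mem_range_self j)

theorem exists_pt {y : Ω} (h : adj G a b a y) : ∃ j, m.pt j = y := by
  have h' := adj_base.1 h
  rw [← m.range_eq] at h'
  exact h'

theorem adj_pt_smul {g : G0} {s : stabilizer G a} (hs : ∀ j, s • m.pt j = m.pt (psi g j))
    (j k : Fin 112) :
    adj G a b (m.pt (psi g j)) (m.pt (psi g k)) ↔ adj G a b (m.pt j) (m.pt k) := by
  rw [← hs, ← hs]
  exact adj_smul_iff (s : G) _ _

/-- the lines seen from a point -/
def lines (z : Ω) : Finset (Fin 112) :=
  open Classical in univ.filter fun j => adj G a b z (m.pt j)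

theorem mem_lines {z : Ω} {j : Fin 112} : j ∈ m.lines z ↔ adj G a b z (m.pt j) := by
  simp [lines]

theorem lines_move {g : G0} {s : stabilizer G a} (hs : ∀ j, s • m.pt j = m.pt (psi g j)) (z : Ω) :
    m.lines (s • z) = (m.lines z).image (psi g) := by
  ext j
  rw [mem_image, mem_lines]
  have key : ∀ x, adj G a b (s • z) (m.pt (psi g x)) ↔ adj G a b z (m.pt x) := fun x => by
    rw [← hs]
    exact adj_smul_iff (s : G) _ _
  constructor
  · intro h
    refine ⟨(psi g).symm j, ?_, Equiv.apply_symm_apply _ _⟩
    rw [mem_lines, ← key, Equiv.apply_symm_apply]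
    exact h
  · rintro ⟨x, hx, rfl⟩
    exact (key x).2 (m.mem_lines.1 hx)

theorem image_lines {z : Ω} : (m.lines z).image m.pt = nb G a b a ∩ nb G a b z := by
  ext y
  simp only [mem_image, mem_lines, mem_inter, mem_nb]
  constructor
  · rintro ⟨j, hj, rfl⟩; exact ⟨m.pt_adj j, hj⟩
  · rintro ⟨h1, h2⟩
    obtain ⟨j, rfl⟩ := m.exists_pt h1
    exact ⟨j, h2, rfl⟩

theorem card_lines_eq (z : Ω) : (m.lines z).card = (nb G a b a ∩ nb G a b z).card := by
  rw [← image_lines, card_image_of_injective _ m.inj]

variable (S : Setup G a b c)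
include S

theorem lam_mu : (∀ k, adj G a b (m.pt 0) (m.pt k) ↔ madj 0 k = true) ∧
    (nb G a b a ∩ nb G a b b).card = 30 ∧ (nb G a b a ∩ nb G a b c).card = 56 := by
  classical
  have inv : ∀ k l, k ≠ 0 → l ≠ 0 → madj 0 k = madj 0 l →
      adj G a b (m.pt 0) (m.pt k) → adj G a b (m.pt 0) (m.pt l) := by
    intro k l hk hl h hkl
    obtain ⟨g, g0, g1⟩ := stab_transitive hk hl h
    obtain ⟨s, hs⟩ := m.bwd g
    rw [← g0, ← g1, adj_pt_smul m hs]
    exact hkl
  let t1 : Bool := decide (∃ k, madj 0 k = true ∧ adj G a b (m.pt 0) (m.pt k))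
  let t2 : Bool := decide (∃ k, k ≠ 0 ∧ madj 0 k = false ∧ adj G a b (m.pt 0) (m.pt k))
  have hS : ∀ k, adj G a b (m.pt 0) (m.pt k) ↔
      (k ≠ 0 ∧ (if madj 0 k then t1 else t2) = true) := by
    intro k
    constructor
    · intro h
      have hk : k ≠ 0 := fun e => adj_ne S h (by rw [e])
      refine ⟨hk, ?_⟩
      cases hh : madj 0 k
      · simp only [Bool.false_eq_true, if_false, t2, decide_eq_true_eq]
        exact ⟨k, hk, hh, h⟩
      · simp only [if_true, t1, decide_eq_true_eq]
        exact ⟨k, hh, h⟩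
    · rintro ⟨hk, h⟩
      cases hh : madj 0 k <;> rw [hh] at h
      · simp only [Bool.false_eq_true, if_false, t2, decide_eq_true_eq] at h
        obtain ⟨l, hl, hl', hl''⟩ := h
        exact inv l k hl hk (by rw [hl', hh]) hl''
      · simp only [if_true, t1, decide_eq_true_eq] at h
        obtain ⟨l, hl', hl''⟩ := h
        have hl : l ≠ 0 := fun e => by rw [e, (madj_facts 0).1] at hl'; exact Bool.noConfusion hl'
        exact inv l k hl hk (by rw [hl', hh]) hl''
  have hlam : (nb G a b a ∩ nb G a b b).card
      = (univ.filter fun k : Fin 112 => k ≠ 0 ∧ (if madj 0 k then t1 else t2) = true).card := by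
    rw [← common_one S (m.pt_adj 0), ← card_lines_eq m]
    congr 1
    ext k
    rw [mem_lines, mem_filter, hS]
    simp
  have cnt : ∀ u1 u2 : Bool,
      (univ.filter fun k : Fin 112 => k ≠ 0 ∧ (if madj 0 k then u1 else u2) = true).card
        = (if u1 then 30 else 0) + (if u2 then 81 else 0) := by
    decide +kernel
  have hμ := mu_eq S
  have hne := lam_ne S
  rw [hlam, cnt] at hμ hne
  have ht : t1 = true ∧ t2 = false := by
    revert hμ hne
    cases t1 <;> cases t2 <;> simp <;> omega
  have h30 : (nb G a b a ∩ nb G a b b).card = 30 := by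
    rw [hlam, cnt, ht.1, ht.2]; rfl
  refine ⟨fun k => ?_, h30, ?_⟩
  · rw [hS, ht.1, ht.2]
    constructor
    · rintro ⟨-, h⟩
      cases hh : madj 0 k
      · rw [hh] at h; simp at h
      · rfl
    · intro h
      refine ⟨fun e => ?_, by rw [h]; rfl⟩
      rw [e, (madj_facts 0).1] at h
      exact Bool.noConfusion h
  · have := mu_eq S
    omega

theorem adj_pt (j k : Fin 112) : adj G a b (m.pt j) (m.pt k) ↔ madj j k = true := by
  obtain ⟨g, rfl⟩ := psi_transitive j
  obtain ⟨s, hs⟩ := m.bwd g
  have hk : k = psi g ((psi g).symm k) := (Equiv.apply_symm_apply _ _).symm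
  rw [hk, adj_pt_smul m hs, (lam_mu m S).1, madj_psi]

theorem pair_far {j k : Fin 112} (h : madj j k = true) :
    open Classical in
    ((far G a c).filter fun z => j ∈ m.lines z ∧ k ∈ m.lines z).card = 27 := by
  classical
  have hadj := (adj_pt m S j k).2 h
  have hcard := common_one S hadj
  rw [(lam_mu m S).2.1] at hcard
  have e : nb G a b (m.pt j) ∩ nb G a b (m.pt k) =
      insert a (((univ.filter fun t => madj j t = true ∧ madj k t = true).image m.pt) ∪
        (far G a c).filter fun z => j ∈ m.lines z ∧ k ∈ m.lines z) := by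
    ext w
    simp only [mem_insert, mem_union, mem_inter, mem_filter, mem_nb, mem_image, mem_univ, true_and,
      mem_lines]
    constructor
    · rintro ⟨h1, h2⟩
      rcases cover S w with e | e | e
      · exact Or.inl e
      · obtain ⟨t, rfl⟩ := m.exists_pt (adj_base.2 e)
        exact Or.inr (Or.inl ⟨t, ⟨(adj_pt m S _ _).1 h1, (adj_pt m S _ _).1 h2⟩, rfl⟩)
      · exact Or.inr (Or.inr ⟨mem_far.2 e, adj_symm S h1, adj_symm S h2⟩)
    · rintro (rfl | ⟨t, ⟨h1, h2⟩, rfl⟩ | ⟨-, h1, h2⟩)
      · exact ⟨adj_symm S (m.pt_adj j), adj_symm S (m.pt_adj k)⟩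
      · exact ⟨(adj_pt m S _ _).2 h1, (adj_pt m S _ _).2 h2⟩
      · exact ⟨adj_symm S h1, adj_symm S h2⟩
  rw [e, card_insert_of_notMem, card_union_of_disjoint, card_image_of_injective _ m.inj,
    common_lines h] at hcard
  · omega
  · rw [Finset.disjoint_left]
    intro w hw hw'
    obtain ⟨t, -, rfl⟩ := mem_image.1 hw
    exact one_two S (adj_base.1 (m.pt_adj t)) (mem_far.1 (mem_filter.1 hw').1)
  · simp only [mem_union, mem_image, mem_filter, not_or, not_exists, not_and, mem_far]
    exact ⟨fun t _ => (adj_ne S (m.pt_adj t)).symm, fun h _ => absurd h (a_not_two S)⟩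

theorem card_lines {z : Ω} (hz : z ∈ far G a c) : (m.lines z).card = 56 := by
  rw [card_lines_eq, common_two S hz, (lam_mu m S).2.2]

theorem lines_hemi {z : Ω} (hz : z ∈ far G a c) : Hemi (m.lines z) := by
  classical
  have h1 : ∀ w ∈ far G a c, ∑ p, hitCount (m.lines w) p = 560 := fun w hw => by
    rw [sum_hit, card_lines m S hw]
  have h2 : ∀ w ∈ far G a c, ∑ p, hitCount (m.lines w) p * hitCount (m.lines w) p
      = 560 + adjPairs (m.lines w) := fun w hw => by
    rw [sum_hit_sq, card_lines m S hw]
  have h3 : ∑ w ∈ far G a c, adjPairs (m.lines w) = 90720 := by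
    simp only [adjPairs_eq]
    rw [sum_comm]
    have hjk : ∀ j k : Fin 112, (∑ w ∈ far G a c,
        if j ∈ m.lines w ∧ k ∈ m.lines w then (if madj j k = true then 1 else 0) else 0) =
        27 * (if madj j k = true then 1 else 0) := fun j k => by
      by_cases h : madj j k = true
      · rw [if_pos h, mul_one, ← card_filter]
        exact pair_far m S h
      · rw [if_neg h, mul_zero]
        exact sum_eq_zero fun w _ => ite_self _
    have hj : ∀ j : Fin 112, (∑ w ∈ far G a c, ∑ k,
        if j ∈ m.lines w ∧ k ∈ m.lines w then (if madj j k = true then 1 else 0) else 0) = 810 :=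
      fun j => by
        rw [sum_comm, sum_congr rfl fun k _ => hjk j k, ← mul_sum, ← card_filter, (madj_facts j).2]; rfl
    rw [sum_congr rfl fun j _ => hj j, sum_const, card_univ, Fintype.card_fin, smul_eq_mul]
  have hle : ∀ w ∈ far G a c, ∑ p, 4 * hitCount (m.lines w) p
      ≤ ∑ p, (hitCount (m.lines w) p * hitCount (m.lines w) p + 4) :=
    fun w _ => sum_le_sum fun p _ => four_mul_le _
  have htot : ∑ w ∈ far G a c, ∑ p, 4 * hitCount (m.lines w) p
      = ∑ w ∈ far G a c, ∑ p, (hitCount (m.lines w) p * hitCount (m.lines w) p + 4) := by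
    have e1 : ∑ w ∈ far G a c, ∑ p, 4 * hitCount (m.lines w) p = 162 * (4 * 560) := by
      rw [sum_congr rfl fun w hw => by rw [← mul_sum, h1 w hw], sum_const, card_far S, smul_eq_mul]
    have e2 : ∑ w ∈ far G a c, ∑ p, (hitCount (m.lines w) p * hitCount (m.lines w) p + 4)
        = 162 * 560 + 90720 + 162 * (280 * 4) := by
      rw [sum_congr rfl fun w hw => by rw [sum_add_distrib, h2 w hw], sum_add_distrib,
        sum_add_distrib, h3, sum_const, sum_const, card_far S, sum_const, card_univ,
        Fintype.card_fin]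
      simp only [smul_eq_mul]
    rw [e1, e2]
  have hz' := (sum_eq_sum_iff_of_le hle).1 htot z hz
  intro p
  exact eq_two_of_four_mul ((sum_eq_sum_iff_of_le fun p _ => four_mul_le _).1 hz' p (mem_univ p))

end LineModel

end McLRec
end H50
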