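import Cfsg.Agent.H50.McLU4
import Cfsg.Agent.H50.McLRecData

/-!
The action of `SU(4,3)` on the 112 totally isotropic lines, as permutations of `Fin 112`.
-/

set_option autoImplicit false
set_option maxRecDepth 100000
set_option Elab.async false

namespace H50
namespace McLRec

open Cfsg Matrix H50.LeechU

abbrev K : Type := McLU4.K
abbrev W : Type := McLU4.W
abbrev G0 : Type := SU 4 K 3

/-- basis of a line -/
def lineB (j : ℕ) : List W := (lineBasis.getD j []).map McLU4.dec

/-- a line -/
def L (j : Fin 112) : Submodule K W := spanL (lineB j.val)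

/-- entry of a table -/
def at112 (l : List ℕ) (j : Fin 112) : Fin 112 := Fin.ofNat 112 (l.getD j.val 0)

/-- the image of a submodule -/
noncomputable def mapS (g : G0) (M : Submodule K W) : Submodule K W :=
  M.map (Matrix.mulVecLin (suMat g))

theorem mapS_mul (g g' : G0) (M : Submodule K W) : mapS (g * g') M = mapS g (mapS g' M) := by
  rw [mapS, mapS, mapS, ← Submodule.map_comp]
  congr 1
  exact LinearMap.ext fun x => by simp [suMat_mulVec_mul]

theorem mapS_one (M : Submodule K W) : mapS 1 M = M := by
  have : Matrix.mulVecLin (suMat (1 : G0)) = LinearMap.id :=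
    LinearMap.ext fun x => by simp [suMat_one]
  rw [mapS, this, Submodule.map_id]

theorem mulVec_injective (g : G0) : Function.Injective (fun x : W => suMat g *ᵥ x) :=
  fun x y h => by
    have : suMat g⁻¹ *ᵥ (suMat g *ᵥ x) = suMat g⁻¹ *ᵥ (suMat g *ᵥ y) := congrArg _ h
    rwa [suMat_inv_mulVec, suMat_inv_mulVec] at this

theorem mem_mapS {g : G0} {M : Submodule K W} {x : W} (hx : x ∈ M) : suMat g *ᵥ x ∈ mapS g M :=
  ⟨x, hx, rfl⟩

/-- lines determine their indices -/
def distinctB (j k : Fin 112) : Bool :=
  decide (j = k) || (lineB j.val).any fun a => (lineB k.val).any fun b =>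
    decide (hermForm 4 K 3 a b ≠ 0)

theorem lines_iso_ok : ∀ j : Fin 112, ((lineB j.val).all fun a => (lineB j.val).all fun b =>
    decide (hermForm 4 K 3 a b = 0)) = true := by
  decide +kernel

theorem lines_iso (j : Fin 112) : ∀ a ∈ lineB j.val, ∀ b ∈ lineB j.val, hermForm 4 K 3 a b = 0 :=
  fun a ha b hb => of_decide_eq_true
    (List.all_eq_true.1 (List.all_eq_true.1 (lines_iso_ok j) a ha) b hb)

theorem lines_distinct : ∀ j k : Fin 112, distinctB j k = true := by decide +kernel

theorem herm_span_zero {B : List W} (hB : ∀ a ∈ B, ∀ b ∈ B, hermForm 4 K 3 a b = 0) {x y : W}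
    (hx : x ∈ spanL B) (hy : y ∈ spanL B) : hermForm 4 K 3 x y = 0 := by
  induction hx using Submodule.span_induction with
  | mem a ha =>
    induction hy using Submodule.span_induction with
    | mem b hb => exact hB a ha b hb
    | zero => simp [hermForm]
    | add b b' _ _ e e' => rw [h_add_right McLU4.hK, e, e', add_zero]
    | smul c b _ e => rw [h_smul_right McLU4.hK, e, mul_zero]
  | zero => simp [hermForm]
  | add a a' _ _ e e' => rw [h_add_left, e, e', add_zero]
  | smul c a _ e => rw [h_smul_left, e, mul_zero]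

theorem L_iso {j : Fin 112} {x y : W} (hx : x ∈ L j) (hy : y ∈ L j) : hermForm 4 K 3 x y = 0 :=
  herm_span_zero (lines_iso j) hx hy

theorem L_injective : Function.Injective L := by
  intro j k h
  by_contra hne
  have := lines_distinct j k
  simp only [distinctB, Bool.or_eq_true, decide_eq_true_eq, List.any_eq_true] at this
  obtain h' | ⟨a, ha, b, hb, h'⟩ := this
  · exact hne h'
  · exact h' (L_iso (j := k) (h ▸ (Submodule.subset_span ha : a ∈ L j)) (Submodule.subset_span hb))

/-- a table of images of lines under a transvection -/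
def tblOK (v : W) (p : Fin 112 → Fin 112) (c : Fin 112 → Fin 112) : Bool :=
  (List.finRange 112).all fun j => (lineB (c j).val).all fun a =>
    inSpan (tvv 3 v McLU4.c0 a) (lineB (c (p j)).val)

theorem mapS_le_of_tblOK {v : W} {p c : Fin 112 → Fin 112} (g : G0)
    (hg : ∀ x, suMat g *ᵥ x = tvv 3 v McLU4.c0 x) (h : tblOK v p c = true) (j : Fin 112) :
    mapS g (L (c j)) ≤ L (c (p j)) := by
  rw [mapS, L, spanL, Submodule.map_span_le]
  intro a ha
  show suMat g *ᵥ a ∈ _
  rw [hg]
  exact mem_of_inSpan (List.all_eq_true.1 (List.all_eq_true.1 h j (List.mem_finRange j)) a ha)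

theorem finrank_mapS (g : G0) (M : Submodule K W) :
    Module.finrank K (mapS g M) = Module.finrank K M :=
  ((Submodule.equivMapOfInjective (Matrix.mulVecLin (suMat g)) (mulVec_injective g) M).finrank_eq).symm

/-- the lines are planes -/
def rankB (j : Fin 112) : Bool :=
  match lineBasis.getD j.val [] with
  | [a, b] => decide (McLU4.dec b ≠ 0 ∧ McLU4.dec a ≠ coef (McLU4.dec a) (McLU4.dec b) • McLU4.dec b)
  | _ => false

theorem rank_ok : ∀ j, rankB j = true := by decide +kernel

theorem coef_smul (x b : W) (c : K) (hb : x = c • b)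
    (h1 : ∀ i, (List.finRange 4).find? (fun i => decide (b i ≠ 0)) = some i → b i = 1) :
    x = coef x b • b := by
  unfold coef
  cases hf : (List.finRange 4).find? (fun i => decide (b i ≠ 0)) with
  | none =>
    have : b = 0 := funext fun i => by
      simpa using List.find?_eq_none.1 hf i (List.mem_finRange i)
    rw [hb, this]; simp
  | some i =>
    show x = x i • b
    rw [hb, Pi.smul_apply, h1 i hf, smul_eq_mul, mul_one]

theorem lead_one_ok : ∀ j : Fin 112, ((lineB j.val).all fun b => decide (∀ i : Fin 4,
    (List.finRange 4).find? (fun i => decide (b i ≠ 0)) = some i → b i = 1)) = true := by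
  decide +kernel

theorem lead_one (j : Fin 112) : ∀ b ∈ lineB j.val, ∀ i : Fin 4,
    (List.finRange 4).find? (fun i => decide (b i ≠ 0)) = some i → b i = 1 :=
  fun b hb => of_decide_eq_true (List.all_eq_true.1 (lead_one_ok j) b hb)

theorem finrank_L (j : Fin 112) : Module.finrank K (L j) = 2 := by
  have h := rank_ok j
  unfold rankB at h
  split at h
  · rename_i a b e
    simp only [decide_eq_true_eq] at h
    have e' : lineB j.val = [McLU4.dec a, McLU4.dec b] := by rw [lineB, e]; rfl
    have hli : LinearIndependent K ![McLU4.dec a, McLU4.dec b] := by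
      refine LinearIndependent.pair_iff.2 fun s t hst => ?_
      rcases eq_or_ne s 0 with rfl | hs
      · refine ⟨rfl, ?_⟩
        simpa [h.1] using hst
      · exfalso
        refine h.2 (coef_smul _ _ (-(t / s)) ?_ (lead_one j _ (by rw [e']; simp)))
        have := congrArg (fun z => s⁻¹ • z) hst
        simp only [smul_add, smul_smul, inv_mul_cancel₀ hs, one_smul, smul_zero] at this
        rw [eq_neg_of_add_eq_zero_left this, div_eq_inv_mul, neg_smul]
    have hcard := finrank_span_eq_card hli
    have hset : {x | x ∈ lineB j.val} = Set.range ![McLU4.dec a, McLU4.dec b] := by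
      rw [e']
      ext x
      simp [eq_comm, or_comm]
    rw [L, spanL, hset, hcard, Fintype.card_fin]
  · simp at h

theorem mapS_eq_of_le {g : G0} {j k : Fin 112} (h : mapS g (L j) ≤ L k) : mapS g (L j) = L k :=
  Submodule.eq_of_le_of_finrank_eq h (by rw [finrank_mapS, finrank_L, finrank_L])

/-- the generators on lines -/
def plF (i : Fin 4) (j : Fin 112) : Fin 112 := at112 (genPerms.getD i.val []) j

theorem pl_ok : ∀ i, tblOK (McLU4.rt i) (plF i) id = true := by decide +kernel

theorem mapS_gen (i : Fin 4) (j : Fin 112) : mapS (McLU4.g i) (L j) = L (plF i j) :=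
  mapS_eq_of_le (mapS_le_of_tblOK (c := id) _ (McLU4.g_apply i) (pl_ok i) j)

theorem act (g : G0) : ∀ j, ∃ k, mapS g (L j) = L k := by
  haveI : Finite G0 := Finite.of_injective (fun g : G0 => suMat g) fun _ _ e => SU_ext e
  have hg : g ∈ Subgroup.closure (Set.range McLU4.g) := by rw [McLU4.closure_g]; trivial
  rw [← Subgroup.mem_toSubmonoid, Subgroup.closure_toSubmonoid_of_finite] at hg
  induction hg using Submonoid.closure_induction with
  | mem x hx => obtain ⟨i, rfl⟩ := hx; exact fun j => ⟨_, mapS_gen i j⟩
  | one => exact fun j => ⟨j, mapS_one _⟩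
  | mul x y _ _ ex ey =>
    intro j
    obtain ⟨k, hk⟩ := ey j
    obtain ⟨l, hl⟩ := ex k
    exact ⟨l, by rw [mapS_mul, hk, hl]⟩

/-- the image of a line -/
noncomputable def psiF (g : G0) (j : Fin 112) : Fin 112 := Classical.choose (act g j)

theorem psiF_spec (g : G0) (j : Fin 112) : mapS g (L j) = L (psiF g j) :=
  Classical.choose_spec (act g j)

/-- the action on lines -/
noncomputable def psi : G0 →* Equiv.Perm (Fin 112) where
  toFun g :=
    { toFun := psiF g
      invFun := psiF g⁻¹
      left_inv := fun j => L_injective (by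
        rw [← psiF_spec, ← psiF_spec, ← mapS_mul, inv_mul_cancel, mapS_one])
      right_inv := fun j => L_injective (by
        rw [← psiF_spec, ← psiF_spec, ← mapS_mul, mul_inv_cancel, mapS_one]) }
  map_one' := Equiv.ext fun j => L_injective (by
    show L (psiF 1 j) = L j
    rw [← psiF_spec, mapS_one])
  map_mul' := fun g g' => Equiv.ext fun j => L_injective (by
    show L (psiF (g * g') j) = L (psiF g (psiF g' j))
    rw [← psiF_spec, ← psiF_spec, ← psiF_spec, mapS_mul])

theorem psi_spec (g : G0) (j : Fin 112) : mapS g (L j) = L (psi g j) := psiF_spec g j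

theorem psi_gen (i : Fin 4) (j : Fin 112) : psi (McLU4.g i) j = plF i j :=
  L_injective (by rw [← psi_spec, mapS_gen])

/-- a word acting on lines -/
def wordF (w : List ℕ) (j : Fin 112) : Fin 112 := w.foldr (fun i k => plF (Fin.ofNat 4 i) k) j

/-- a word in the generators -/
noncomputable def wordG (w : List ℕ) : G0 := (w.map fun i => McLU4.g (Fin.ofNat 4 i)).prod

theorem psi_word (w : List ℕ) (j : Fin 112) : psi (wordG w) j = wordF w j := by
  induction w with
  | nil => simp [wordG, wordF]
  | cons i w ih =>
    rw [wordG, List.map_cons, List.prod_cons, map_mul, Equiv.Perm.mul_apply, ← wordG, psi_gen, ih]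
    rfl

/-- induction over the group along the generators -/
theorem psi_induction {P : Equiv.Perm (Fin 112) → Prop} (h1 : P 1)
    (hmul : ∀ p p', P p → P p' → P (p * p')) (hgen : ∀ i, P (psi (McLU4.g i))) (g : G0) :
    P (psi g) := by
  haveI : Finite G0 := Finite.of_injective (fun g : G0 => suMat g) fun _ _ e => SU_ext e
  have hg : g ∈ Subgroup.closure (Set.range McLU4.g) := by rw [McLU4.closure_g]; trivial
  rw [← Subgroup.mem_toSubmonoid, Subgroup.closure_toSubmonoid_of_finite] at hg
  induction hg using Submonoid.closure_induction with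
  | mem x hx => obtain ⟨i, rfl⟩ := hx; exact hgen i
  | one => rwa [map_one]
  | mul x y _ _ ex ey => rw [map_mul]; exact hmul _ _ ex ey

theorem line_tree : ∀ j : Fin 112, 0 < j.val →
    (lineOrd.getD j.val 0) < 112 ∧
      plF (Fin.ofNat 4 (linePar.getD j.val (0, 0)).2) (Fin.ofNat 112 (linePar.getD j.val (0, 0)).1)
        = Fin.ofNat 112 (lineOrd.getD j.val 0) ∧
      ∃ i < j.val, lineOrd.getD i 0 = (linePar.getD j.val (0, 0)).1 := by decide +kernel

theorem line_cover : ∀ k : Fin 112, ∃ j : Fin 112, lineOrd.getD j.val 0 = k.val := by decide +kernel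

theorem line_root : lineOrd.getD 0 0 = 0 := by decide +kernel

theorem psi_transitive (k : Fin 112) : ∃ g, psi g 0 = k := by
  have key : ∀ j, j < 112 → ∃ g, psi g 0 = Fin.ofNat 112 (lineOrd.getD j 0) := by
    intro j
    induction j using Nat.strong_induction_on with
    | _ j ih =>
      intro hj
      rcases Nat.eq_zero_or_pos j with rfl | hpos
      · exact ⟨1, by rw [map_one, line_root]; rfl⟩
      · obtain ⟨-, h2, i, hi, h3⟩ := line_tree ⟨j, hj⟩ hpos
        obtain ⟨g, hg⟩ := ih i hi (hi.trans hj)
        refine ⟨McLU4.g (Fin.ofNat 4 (linePar.getD j (0, 0)).2) * g, ?_⟩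
        rw [map_mul, Equiv.Perm.mul_apply, hg, psi_gen, h3]
        exact h2
  obtain ⟨j, hj⟩ := line_cover k
  obtain ⟨g, hg⟩ := key j.val j.isLt
  exact ⟨g, by rw [hg, hj]; exact Fin.ext (Nat.mod_eq_of_lt k.isLt)⟩

end McLRec
end H50
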