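import Cfsg.Agent.H50.McLRecStd
import Cfsg.Agent.H95.McLRank3
import Cfsg.Prelude.Def_Spor_Conway

/-!
Recognition of the McLaughlin group as a rank three group of degree 275.
-/

set_option autoImplicit false
set_option Elab.async false
set_option linter.style.haveILetI false
set_option linter.unusedSectionVars false

noncomputable section

namespace H50
namespace McLRec

open MulAction Cfsg H50.LeechU

theorem exists_std_of_iso {Ω : Type*} [Fintype Ω] [DecidableEq Ω] (hΩ : Fintype.card Ω = 275)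
    (G : Subgroup (Equiv.Perm Ω)) [IsPretransitive G Ω] (a b c : Ω)
    (e : stabilizer G a ≃* PSU 4 K 3) (hb : (orbit (stabilizer G a) b).ncard = 112)
    (hc : (orbit (stabilizer G a) c).ncard = 162) :
    ∃ H : Subgroup (Equiv.Perm Pt), Good H ∧ Nonempty (G ≃* H) :=
  exists_std ⟨hΩ, ‹_›, (Nat.card_congr e.toEquiv).trans McLU4.card_PSU, hb, hc⟩ (exists_model e hb)

/-- the model -/
abbrev MG : Subgroup Co0 := H95.pvU.group

/-- the 275 points of the model -/
abbrev MPt : Type := ↥(H95.mclSet H95.uBase H95.pvU.w)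

theorem base_norm : H95.ldot H95.uBase H95.uBase = 48 := H95.uBase_norm

theorem base_dot : H95.ldot H95.uBase H95.pvU.w = 24 := by
  show H95.ldot (-Spor.leechV) H95.pvU.w = 24
  rw [H95.leechLike.neg_left, H95.pvU_dot]; norm_num

theorem fix_base (g : MG) : (g : Co0) • H95.uBase = H95.uBase ∧ (g : Co0) • H95.pvU.w = H95.pvU.w := by
  refine ⟨?_, g.2.2⟩
  show (g : Co0) • (-Spor.leechV) = -Spor.leechV
  rw [H95.co0_neg, show (g : Co0) • Spor.leechV = Spor.leechV from g.2.1]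

theorem fix_iff (g : Co0) : g • H95.uBase = H95.uBase ∧ g • H95.pvU.w = H95.pvU.w ↔ g ∈ MG := by
  refine ⟨fun ⟨h1, h2⟩ => ⟨?_, h2⟩, fun h => fix_base ⟨g, h⟩⟩
  have h1 : g • (-Spor.leechV) = -Spor.leechV := h1
  rw [H95.co0_neg, neg_inj] at h1
  exact h1

theorem smul_mem_set (g : MG) (y : MPt) :
    (g : Co0) • (y : leechLattice) ∈ H95.mclSet H95.uBase H95.pvU.w := by
  have h := H95.smul_mclSet (g := (g : Co0)) y.2
  rwa [(fix_base g).1, (fix_base g).2] at h

instance instActMPt : MulAction MG MPt where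
  smul g y := ⟨(g : Co0) • (y : leechLattice), smul_mem_set g y⟩
  one_smul y := Subtype.ext (one_smul Co0 (y : leechLattice))
  mul_smul g h y := Subtype.ext (mul_smul (g : Co0) (h : Co0) (y : leechLattice))

theorem coe_act (g : MG) (y : MPt) :
    ((g • y : MPt) : leechLattice) = (g : Co0) • (y : leechLattice) := rfl

theorem model_iso_McL : Nonempty (MG ≃* Spor.McL) := by
  refine ⟨MulEquiv.trans (Subgroup.equivMapOfInjective _ Co0.subtype Subtype.val_injective)
    (MulEquiv.subgroupCongr ?_)⟩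
  ext f
  constructor
  · rintro ⟨g, ⟨h1, h2⟩, rfl⟩
    exact ⟨⟨g.2, h1⟩, h2⟩
  · rintro ⟨⟨h0, h1⟩, h2⟩
    exact ⟨⟨f, h0⟩, ⟨h1, h2⟩, rfl⟩

theorem model_std : ∃ H : Subgroup (Equiv.Perm Pt), Good H ∧ Nonempty (H ≃* Spor.McL) := by
  classical
  have hcard := H95.ncard_mclSet base_norm H95.pvU.norm base_dot
  have hfin : (H95.mclSet H95.uBase H95.pvU.w).Finite := Set.finite_of_ncard_ne_zero (by omega)
  haveI : Fintype MPt := hfin.fintype
  have hΩ : Fintype.card MPt = 275 := by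
    rw [← Nat.card_eq_fintype_card, Nat.card_coe_set_eq, hcard]
  haveI : Nonempty MPt := Fintype.card_pos_iff.1 (by omega)
  obtain ⟨a⟩ := (inferInstance : Nonempty MPt)
  let f : MG →* Equiv.Perm MPt := MulAction.toPermHom MG MPt
  have htrans : ∀ y : MPt, ∃ g : MG, g • a = y := fun y => by
    obtain ⟨g, g1, g2, g3⟩ := H95.mclSet_transitive base_norm H95.pvU.norm base_dot a.2 y.2
    exact ⟨⟨g, (fix_iff g).1 ⟨g1, g2⟩⟩, Subtype.ext g3⟩
  have hinj : Function.Injective f := by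
    haveI := H95.mcl_simple H95.m22_simple
    rw [← MonoidHom.ker_eq_bot_iff]
    refine ((inferInstance : f.ker.Normal).eq_bot_or_eq_top).resolve_right fun h => ?_
    obtain ⟨y, hy⟩ := Fintype.exists_ne_of_one_lt_card (by omega) a
    obtain ⟨g, hg⟩ := htrans y
    have : f g = 1 := MonoidHom.mem_ker.1 (h ▸ Subgroup.mem_top g)
    exact hy (hg ▸ Equiv.congr_fun this a)
  let G := f.range
  haveI : IsPretransitive G MPt := ⟨fun x y => by
    obtain ⟨g, hg⟩ := htrans x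
    obtain ⟨g', hg'⟩ := htrans y
    refine ⟨⟨f (g' * g⁻¹), _, rfl⟩, ?_⟩
    show (g' * g⁻¹) • x = y
    rw [← hg, mul_smul, inv_smul_smul, hg']⟩
  let T : Subgroup Co0 := stabilizer Co0 H95.uBase ⊓ stabilizer Co0 H95.pvU.w ⊓
    stabilizer Co0 (a : leechLattice)
  let θ : T →* stabilizer G a :=
    { toFun := fun t => ⟨⟨f ⟨t, (fix_iff _).1 t.2.1⟩, _, rfl⟩, Subtype.ext t.2.2⟩
      map_one' := Subtype.ext (Subtype.ext (map_one f))
      map_mul' := fun s t => Subtype.ext (Subtype.ext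
        (map_mul f ⟨s, (fix_iff _).1 s.2.1⟩ ⟨t, (fix_iff _).1 t.2.1⟩)) }
  have hθ : Function.Bijective θ := by
    refine ⟨fun s t h => ?_, fun ⟨⟨_, g, rfl⟩, hs⟩ => ?_⟩
    · refine Subtype.ext ?_
      have h' := hinj (congrArg (fun q : stabilizer G a => (q : G).1) h)
      exact congrArg (fun q : MG => (q : Co0)) h' 
    · exact ⟨⟨g, (fix_iff _).2 g.2, congrArg Subtype.val hs⟩, rfl⟩
  obtain ⟨ES⟩ := McLU4.stab_iso H95.uBase H95.pvU.w a base_norm H95.pvU.norm base_dot a.2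
  let e : stabilizer G a ≃* PSU 4 K 3 := (MulEquiv.ofBijective θ hθ).symm.trans ES
  obtain ⟨h112, h162, hr⟩ := H95.rank3 base_norm H95.pvU.norm base_dot a.2
  have horb : ∀ (y : MPt), (y : leechLattice) ≠ a →
      (orbit (stabilizer G a) y).ncard =
        {z | z ∈ H95.mclSet H95.uBase H95.pvU.w ∧ z ≠ (a : leechLattice) ∧
          H95.ldot (a : leechLattice) z = H95.ldot (a : leechLattice) y}.ncard := by
    intro y hy
    rw [← Set.ncard_image_of_injective _ Subtype.val_injective]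
    congr 1
    ext z
    constructor
    · rintro ⟨_, ⟨s, rfl⟩, rfl⟩
      obtain ⟨t, rfl⟩ := hθ.2 s
      have ha : (t : Co0) • (a : leechLattice) = a := t.2.2
      show (t : Co0) • (y : leechLattice) ∈ _
      refine ⟨smul_mem_set ⟨t, (fix_iff _).1 t.2.1⟩ y, fun h => hy ?_, ?_⟩
      · exact MulAction.injective (t : Co0) (h.trans ha.symm)
      · conv_lhs => rw [← ha]
        exact H95.co0_dot _ _ _
    · rintro ⟨hz, -, hd⟩
      obtain ⟨g, g1, g2, g3, g4⟩ := hr y y.2 z hz hy hd.symm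
      exact ⟨_, ⟨θ ⟨g, ⟨g1, g2⟩, g3⟩, rfl⟩, g4⟩
  have haa : H95.ldot (a : leechLattice) a = 32 := a.2.1
  obtain ⟨y, hy, hy8⟩ := Set.nonempty_of_ncard_ne_zero (s := {y | y ∈ H95.mclSet H95.uBase H95.pvU.w ∧
    H95.ldot (a : leechLattice) y = 8}) (by omega)
  obtain ⟨z, hz, hza, hz16⟩ := Set.nonempty_of_ncard_ne_zero (s := {y | y ∈ H95.mclSet H95.uBase H95.pvU.w ∧
    y ≠ (a : leechLattice) ∧ H95.ldot (a : leechLattice) y = 16}) (by omega)
  have hya : y ≠ (a : leechLattice) := fun h => by rw [h, haa] at hy8; norm_num at hy8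
  obtain ⟨H, hH, ⟨i⟩⟩ := exists_std_of_iso hΩ G a ⟨y, hy⟩ ⟨z, hz⟩ e
    (by
      rw [horb ⟨y, hy⟩ hya, ← h112]
      congr 1
      ext w
      refine ⟨fun h => ⟨h.1, h.2.2.trans hy8⟩, fun h => ⟨h.1, fun e => ?_, h.2.trans hy8.symm⟩⟩
      have h2 : H95.ldot (a : leechLattice) w = 8 := h.2
      rw [e, haa] at h2
      norm_num at h2)
    (by
      rw [horb ⟨z, hz⟩ hza, ← h162]
      congr 1
      ext w
      exact ⟨fun h => ⟨h.1, h.2.1, h.2.2.trans hz16⟩, fun h => ⟨h.1, h.2.1, h.2.2.trans hz16.symm⟩⟩)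
  obtain ⟨E⟩ := model_iso_McL
  exact ⟨H, hH, ⟨(i.symm.trans (MonoidHom.ofInjective hinj).symm).trans E⟩⟩

theorem mcl_recognition {Ω : Type*} [Fintype Ω] [DecidableEq Ω] (hΩ : Fintype.card Ω = 275)
    (G : Subgroup (Equiv.Perm Ω)) [IsPretransitive G Ω] (a : Ω) (F : Type) [Field F] [Fintype F]
    (hF : Fintype.card F = 9) (e : stabilizer G a ≃* PSU 4 F 3) (b c : Ω)
    (hb : (orbit (stabilizer G a) b).ncard = 112) (hc : (orbit (stabilizer G a) c).ncard = 162) :
    Spor.IsoMcL G := by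
  obtain ⟨t⟩ := psu_transport (K := F) (F := K) 4 3 (by rw [hF, McLU4.hK]; norm_num)
  obtain ⟨H, hH, ⟨i⟩⟩ := exists_std_of_iso hΩ G a b c (e.trans t) hb hc
  obtain ⟨H', hH', ⟨j⟩⟩ := model_std
  exact ⟨i.trans ((MulEquiv.subgroupCongr (good_unique hH hH')).trans j)⟩

end McLRec
end H50
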