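import Mathlib

/-!
A group of order `29160 = 2^3 · 3^6 · 5` has a nontrivial normal subgroup of order a power of 3.
-/

set_option autoImplicit false
set_option linter.style.haveILetI false

namespace H50.ThreeCore

open Subgroup

variable {S : Type*} [Group S] [Finite S]

/-- a subgroup of index at most ten with a large normal 3-subgroup -/
theorem exists_of_index_le (hS : Nat.card S = 29160) {N D : Subgroup S} (hN : N.index ≤ 10)
    (hn : N ≤ normalizer (D : Set S)) {k : ℕ} (hk : 5 ≤ k)
    (hD : Nat.card D = 3 ^ k) : ∃ R : Subgroup S, R.Normal ∧ IsPGroup 3 R ∧ R ≠ ⊥ := by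
  haveI : Fintype (S ⧸ N) := Fintype.ofFinite _
  set K := N.normalCore with hK
  by_cases hKD : K ⊓ D = ⊥
  · exfalso
    have hKidx : K.index ∣ (N.index).factorial := by
      rw [hK, Subgroup.normalCore_eq_ker, Subgroup.index_ker]
      refine (Subgroup.card_subgroup_dvd_card _).trans ?_
      rw [Nat.card_perm, Subgroup.index_eq_card]
    have h3 : K.index ∣ Nat.factorial 10 := hKidx.trans (Nat.factorial_dvd_factorial hN)
    have hmul := K.card_mul_index
    rw [hS] at hmul
    haveI hKn : K.Normal := N.normalCore_normal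
    have hcard : Nat.card K * Nat.card D = Nat.card ↥(D ⊔ K) := by
      have h1 := Subgroup.card_mul_index (K.subgroupOf (D ⊔ K))
      rw [Nat.card_congr (Subgroup.subgroupOfEquivOfLe (le_sup_right : K ≤ D ⊔ K)).toEquiv,
        show (K.subgroupOf (D ⊔ K)).index = K.relIndex (D ⊔ K) from rfl,
        Subgroup.relIndex_sup_right, ← Subgroup.inf_relIndex_right, hKD,
        Subgroup.relIndex_bot_left] at h1
      exact h1
    have hd : Nat.card K * 3 ^ k ∣ 29160 := by
      rw [← hD, hcard, ← hS]
      exact Subgroup.card_subgroup_dvd_card _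
    have h6 : Nat.card K * 243 ∣ 29160 :=
      (mul_dvd_mul_left _ (pow_dvd_pow 3 hk)).trans hd
    have h7 : Nat.card K ∣ 120 := Nat.dvd_of_mul_dvd_mul_right (by norm_num : 0 < 243) h6
    have h8 : 29160 ∣ 120 * Nat.factorial 10 := hmul ▸ mul_dvd_mul h7 h3
    norm_num [Nat.factorial] at h8
  · -- the largest normal 3-subgroup of the core
    haveI : Fact (Nat.Prime 3) := ⟨Nat.prime_three⟩
    haveI hKn : K.Normal := N.normalCore_normal
    set D' := (K ⊓ D).subgroupOf K with hD'
    haveI hD'n : D'.Normal := by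
      rw [hD', Subgroup.inf_subgroupOf_left]
      exact Subgroup.normal_subgroupOf_of_le_normalizer ((N.normalCore_le).trans hn)
    have hp : IsPGroup 3 D' := by
      refine IsPGroup.of_equiv ?_ (Subgroup.subgroupOfEquivOfLe inf_le_left).symm
      exact IsPGroup.to_le (IsPGroup.of_card hD) inf_le_right
    set M : Subgroup K := ⨅ P : Sylow 3 K, (P : Subgroup K) with hM
    have hD'M : D' ≤ M := le_iInf fun P => by
      obtain ⟨Q, hQ⟩ := hp.exists_le_sylow
      obtain ⟨x, hx⟩ := MulAction.exists_smul_eq K Q P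
      rw [← hx]
      intro d hd
      refine Subgroup.mem_map.2 ⟨x⁻¹ * d * x, hQ ?_, ?_⟩
      · simpa using hD'n.conj_mem d hd x⁻¹
      · show x * (x⁻¹ * d * x) * x⁻¹ = d
        group
    haveI : M.Characteristic := by
      refine Subgroup.characteristic_iff_map_le.2 fun φ => ?_
      refine le_iInf fun P => ?_
      let P' : Sylow 3 K := P.comapOfInjective φ.toMonoidHom φ.injective (by
        intro x _; exact ⟨φ.symm x, φ.apply_symm_apply x⟩)
      rintro _ ⟨x, hx, rfl⟩
      have := (iInf_le (fun P : Sylow 3 K => (P : Subgroup K)) P') hx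
      simpa [P'] using this
    refine ⟨M.map K.subtype, inferInstance, ?_, fun h => ?_⟩
    · obtain ⟨P⟩ := (inferInstance : Nonempty (Sylow 3 K))
      exact (P.isPGroup'.to_le (iInf_le _ P)).map _
    · rw [Subgroup.map_eq_bot_iff_of_injective _ K.subtype_injective] at h
      rw [h, le_bot_iff, hD', Subgroup.subgroupOf_eq_bot, disjoint_iff, inf_assoc,
        inf_comm D K, ← inf_assoc, inf_idem] at hD'M
      exact hKD hD'M

theorem exists_normal_three (hS : Nat.card S = 29160) :
    ∃ R : Subgroup S, R.Normal ∧ IsPGroup 3 R ∧ R ≠ ⊥ := by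
  haveI : Fact (Nat.Prime 3) := ⟨Nat.prime_three⟩
  obtain ⟨P⟩ := (inferInstance : Nonempty (Sylow 3 S))
  have hP : Nat.card (P : Subgroup S) = 3 ^ 6 := by
    rw [P.card_eq_multiplicity, hS,
      Nat.factorization_def _ Nat.prime_three]
    have : (29160 : ℕ) = 3 ^ 6 * 40 := by norm_num
    rw [this, padicValNat.mul (by norm_num) (by norm_num), padicValNat.prime_pow,
      padicValNat.eq_zero_of_not_dvd (by norm_num : ¬ (3 ∣ 40)), add_zero]
  have hn40 : Nat.card (Sylow 3 S) ∣ 40 := by
    have h1 := P.card_dvd_index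
    have h2 := (P : Subgroup S).card_mul_index
    rw [hP, hS] at h2
    have : (P : Subgroup S).index = 40 := by omega
    rwa [this] at h1
  have hn1 : Nat.card (Sylow 3 S) ≡ 1 [MOD 3] := card_sylow_modEq_one 3 S
  by_cases h10 : Nat.card (Sylow 3 S) ≤ 10
  · exact exists_of_index_le hS (N := normalizer ((P : Subgroup S) : Set S))
      (P.card_eq_index_normalizer ▸ h10) le_rfl
      (by norm_num) hP
  have h40 : Nat.card (Sylow 3 S) = 40 := by
    obtain ⟨t, ht⟩ := hn40
    rcases Nat.lt_or_ge t 4 with h | h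
    · interval_cases t
      · simp at ht
      · omega
      · have : Nat.card (Sylow 3 S) = 20 := by omega
        rw [this] at hn1; exact absurd hn1 (by decide)
      · omega
    · nlinarith
  -- an orbit of length three
  obtain ⟨Q, hQ⟩ : ∃ Q : Sylow 3 S, Nat.card (MulAction.orbit (P : Subgroup S) Q) = 3 := by
    classical
    by_contra hne
    push Not at hne
    haveI := Fintype.ofFinite (Sylow 3 S)
    haveI := Fintype.ofFinite (Quotient (MulAction.orbitRel (P : Subgroup S) (Sylow 3 S)))
    have key : ∀ Q : Sylow 3 S, Q ≠ P → 9 ∣ Nat.card (MulAction.orbit (P : Subgroup S) Q) := by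
      intro Q hQP
      obtain ⟨j, hj⟩ := (IsPGroup.of_card hP).card_orbit Q
      rw [hj]
      rcases Nat.lt_or_ge j 2 with h | h
      · exfalso
        interval_cases j
        · rw [pow_zero] at hj
          have hfix : ∀ x : (P : Subgroup S), x • Q = Q := fun x => by
            have hs : Subsingleton (MulAction.orbit (P : Subgroup S) Q) :=
              (Nat.card_eq_one_iff_unique.1 hj).1
            exact congrArg Subtype.val (hs.elim ⟨x • Q, MulAction.mem_orbit _ _⟩
              ⟨Q, MulAction.mem_orbit_self _⟩)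
          have hle : (P : Subgroup S) ≤ normalizer ((Q : Subgroup S) : Set S) := fun x hx =>
            Sylow.smul_eq_iff_mem_normalizer.1 (hfix ⟨x, hx⟩)
          refine hQP (Sylow.ext ?_).symm
          have h2 := P.isPGroup'.inf_normalizer_sylow Q
          have h2 : (P : Subgroup S) = (P : Subgroup S) ⊓ (Q : Subgroup S) :=
            ((inf_eq_left.2 hle).symm.trans h2)
          rw [left_eq_inf] at h2
          exact Subgroup.eq_of_le_of_card_ge h2
            (le_of_eq (by rw [Q.card_eq_multiplicity, P.card_eq_multiplicity]))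
        · exact hne Q (by rw [hj, pow_one])
      · exact pow_dvd_pow 3 h
    have hsum := Nat.card_congr (MulAction.selfEquivSigmaOrbits (P : Subgroup S) (Sylow 3 S))
    rw [Nat.card_sigma, h40] at hsum
    have hmain : ∀ ω : Quotient (MulAction.orbitRel (P : Subgroup S) (Sylow 3 S)),
        ω ≠ ⟦P⟧ → 9 ∣ Nat.card (MulAction.orbit (P : Subgroup S) ω.out) := by
      intro ω hω
      refine key _ fun e => hω ?_
      exact (Quotient.out_eq ω).symm.trans (congrArg (Quotient.mk _) e)
    rw [← Finset.add_sum_erase _ _ (Finset.mem_univ ⟦P⟧)] at hsum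
    have h9 : 9 ∣ ∑ ω ∈ Finset.univ.erase ⟦P⟧,
        Nat.card (MulAction.orbit (P : Subgroup S) (Quotient.out ω)) :=
      Finset.dvd_sum fun ω hω => hmain ω (Finset.ne_of_mem_erase hω)
    have h1 : Nat.card (MulAction.orbit (P : Subgroup S)
        (Quotient.out (⟦P⟧ : Quotient (MulAction.orbitRel (P : Subgroup S) (Sylow 3 S))))) = 1 := by
      have ho := MulAction.orbit_eq_iff.2 (Quotient.mk_out (s := MulAction.orbitRel (P : Subgroup S) (Sylow 3 S)) P)
      rw [ho, Nat.card_eq_one_iff_unique]
      refine ⟨⟨fun a b => ?_⟩, ⟨⟨P, MulAction.mem_orbit_self _⟩⟩⟩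
      obtain ⟨a, x, rfl⟩ := a
      obtain ⟨b, y, rfl⟩ := b
      apply Subtype.ext
      show x • P = y • P
      rw [Sylow.smul_eq_iff_mem_normalizer.2 (Subgroup.le_normalizer x.2) |> (fun h => show x • P = P from h),
        Sylow.smul_eq_iff_mem_normalizer.2 (Subgroup.le_normalizer y.2) |> (fun h => show y • P = P from h)]
    rw [h1] at hsum
    omega
  have hQP : Q ≠ P := by
    intro e
    subst e
    have : MulAction.orbit (Q : Subgroup S) Q = {Q} := by
      ext z
      refine ⟨?_, fun h => h ▸ MulAction.mem_orbit_self _⟩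
      rintro ⟨x, rfl⟩
      exact Sylow.smul_eq_iff_mem_normalizer.2 (Subgroup.le_normalizer x.2)
    rw [this] at hQ
    simp at hQ
  set D : Subgroup S := (P : Subgroup S) ⊓ Q with hDdef
  have hstab : MulAction.stabilizer (P : Subgroup S) Q = D.subgroupOf P := by
    ext x
    rw [MulAction.mem_stabilizer_iff, Subgroup.mem_subgroupOf, hDdef, Subgroup.mem_inf]
    constructor
    · intro h
      have hx : (x : S) ∈ normalizer ((Q : Subgroup S) : Set S) := Sylow.smul_eq_iff_mem_normalizer.1 h
      have := P.isPGroup'.inf_normalizer_sylow Q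
      exact ⟨x.2, (this ▸ Subgroup.mem_inf.2 ⟨x.2, hx⟩ : (x : S) ∈ (P : Subgroup S) ⊓ Q).2⟩
    · intro h
      exact Sylow.smul_eq_iff_mem_normalizer.2 (Subgroup.le_normalizer h.2)
  have hidxP : (D.subgroupOf P).index = 3 := by
    rw [← hstab, MulAction.index_stabilizer, ← Nat.card_coe_set_eq]
    exact hQ
  have hD : Nat.card D = 3 ^ 5 := by
    have h1 := (D.subgroupOf P).card_mul_index
    rw [hidxP, Nat.card_congr (Subgroup.subgroupOfEquivOfLe inf_le_left).toEquiv, hP] at h1
    show Nat.card ↥((P : Subgroup S) ⊓ (Q : Subgroup S)) = 3 ^ 5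
    norm_num at h1 ⊢
    omega
  have hidxQ : (D.subgroupOf Q).index = 3 := by
    have h1 := (D.subgroupOf Q).card_mul_index
    rw [Nat.card_congr (Subgroup.subgroupOfEquivOfLe inf_le_right).toEquiv, hD,
      Sylow.card_eq_multiplicity Q, ← Sylow.card_eq_multiplicity P, hP] at h1
    omega
  have hnP : (P : Subgroup S) ≤ normalizer (D : Set S) := by
    haveI : (D.subgroupOf P).Normal := by
      refine Subgroup.normal_of_index_eq_minFac_card ?_
      rw [hidxP, hP]; norm_num
    exact Subgroup.le_normalizer_of_normal_subgroupOf inf_le_left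
  have hnQ : (Q : Subgroup S) ≤ normalizer (D : Set S) := by
    haveI : (D.subgroupOf Q).Normal := by
      refine Subgroup.normal_of_index_eq_minFac_card ?_
      rw [hidxQ, Sylow.card_eq_multiplicity Q, ← Sylow.card_eq_multiplicity P, hP]; norm_num
    exact Subgroup.le_normalizer_of_normal_subgroupOf inf_le_right
  set N := normalizer (D : Set S) with hN
  refine exists_of_index_le hS (N := N) ?_ le_rfl le_rfl hD
  -- the index
  let P' : Sylow 3 N := P.subtype hnP
  let Q' : Sylow 3 N := Q.subtype hnQ
  have hne : P' ≠ Q' := fun e => hQP (Sylow.subtype_injective e).symm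
  haveI : Nontrivial (Sylow 3 N) := ⟨⟨P', Q', hne⟩⟩
  have h4 : 4 ≤ Nat.card (Sylow 3 N) := by
    have h1 : 1 < Nat.card (Sylow 3 N) := Finite.one_lt_card
    have h2 : Nat.card (Sylow 3 N) % 3 = 1 := card_sylow_modEq_one 3 N
    omega
  have h5 : Nat.card (Sylow 3 N) ∣ (P' : Subgroup N).index := P'.card_dvd_index
  have h6 := (P' : Subgroup N).card_mul_index
  have h7 : Nat.card (P' : Subgroup N) = 729 := by
    show Nat.card ((P : Subgroup S).subgroupOf N) = 729
    rw [Nat.card_congr (Subgroup.subgroupOfEquivOfLe hnP).toEquiv, hP]; norm_num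
  rw [h7] at h6
  have h8 := N.card_mul_index
  rw [hS, ← h6] at h8
  have hpos : 0 < (P' : Subgroup N).index := Nat.pos_of_ne_zero Subgroup.index_ne_zero_of_finite
  have := Nat.le_of_dvd hpos h5
  nlinarith

end H50.ThreeCore
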