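import Cfsg.Agent.H50.McLRecLines
import Cfsg.Agent.H50.ThreeCore29160

/-!
A transitive action of `SU(4,3)` on 112 points with the scalars in the kernel is the action on
totally isotropic lines.
-/

set_option autoImplicit false
set_option maxRecDepth 100000
set_option Elab.async false
set_option linter.style.haveILetI false

namespace H50
namespace McLRec

open Cfsg Matrix H50.LeechU

/-- a point of the tree -/
def pv (j : ℕ) : W := McLU4.dec (ptCodes.getD j 0)

/-- position of a vector -/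
def posOf (c : ℕ) : ℕ := Nat.land (Nat.shiftRight ptPos (16 * c)) 65535

theorem pv_pos : ∀ j : Fin 280, pv j.val ≠ 0 ∧
    ∀ c : K, c ≠ 0 → posOf (McLU4.enc (c • pv j.val)) = j.val + 1 := by decide +kernel

/-- a check of the cover -/
def ptCoverB (c : ℕ) : Bool :=
  let x := McLU4.dec c
  let j := posOf c
  !decide (hermForm 4 K 3 x x = 0 ∧ x ≠ 0) ||
    decide (1 ≤ j ∧ j ≤ 280 ∧ x = coef x (pv (j - 1)) • pv (j - 1))

theorem pt_cover_ok : (List.range 6561).all ptCoverB = true := by decide +kernel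

theorem enc_lt (v : W) : McLU4.enc v < 6561 := by
  have h0 := (v 0).v.isLt
  have h1 := (v 1).v.isLt
  have h2 := (v 2).v.isLt
  have h3 := (v 3).v.isLt
  unfold McLU4.enc; omega

theorem exists_pv {x : W} (hx : hermForm 4 K 3 x x = 0) (h0 : x ≠ 0) :
    ∃ (j : Fin 280) (c : K), c ≠ 0 ∧ x = c • pv j.val := by
  have h := List.all_eq_true.1 pt_cover_ok _ (List.mem_range.2 (enc_lt x))
  simp only [ptCoverB, McLU4.dec_enc, Bool.or_eq_true, Bool.not_eq_true', decide_eq_false_iff_not,
    decide_eq_true_eq] at h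
  rcases h with h | ⟨h1, h2, h3⟩
  · exact absurd ⟨hx, h0⟩ h
  · refine ⟨⟨posOf (McLU4.enc x) - 1, by omega⟩, _, fun hc => ?_, h3⟩
    rw [hc, zero_smul] at h3
    exact h0 h3

theorem pt_tree : ∀ j : Fin 280, 0 < j.val →
    (ptPar.getD j.val (0, 0)).1 < j.val ∧
      coef (tvv 3 (McLU4.rt (Fin.ofNat 4 (ptPar.getD j.val (0, 0)).2)) McLU4.c0
        (pv (ptPar.getD j.val (0, 0)).1)) (pv j.val) ≠ 0 ∧
      tvv 3 (McLU4.rt (Fin.ofNat 4 (ptPar.getD j.val (0, 0)).2)) McLU4.c0
        (pv (ptPar.getD j.val (0, 0)).1) =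
        coef (tvv 3 (McLU4.rt (Fin.ofNat 4 (ptPar.getD j.val (0, 0)).2)) McLU4.c0
          (pv (ptPar.getD j.val (0, 0)).1)) (pv j.val) • pv j.val := by decide +kernel

theorem exists_move_pv (j : Fin 280) :
    ∃ (g : G0) (c : K), c ≠ 0 ∧ suMat g *ᵥ pv 0 = c • pv j.val := by
  have key : ∀ j, j < 280 → ∃ (g : G0) (c : K), c ≠ 0 ∧ suMat g *ᵥ pv 0 = c • pv j := by
    intro j
    induction j using Nat.strong_induction_on with
    | _ j ih =>
      intro hj
      rcases Nat.eq_zero_or_pos j with rfl | hpos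
      · exact ⟨1, 1, one_ne_zero, by rw [suMat_one, one_mulVec, one_smul]⟩
      · obtain ⟨h1, h2, h3⟩ := pt_tree ⟨j, hj⟩ hpos
        obtain ⟨g, c, hc, hg⟩ := ih _ h1 (h1.trans hj)
        refine ⟨McLU4.g (Fin.ofNat 4 (ptPar.getD j (0, 0)).2) * g, _, mul_ne_zero hc h2, ?_⟩
        rw [suMat_mulVec_mul, hg, mulVec_smul, McLU4.g_apply, mul_smul]
        congr 1
  exact key j.val j.isLt

/-- perpendicular points of the first point -/
def perpB (c : ℕ) : Bool :=
  let w := McLU4.dec c
  !decide (hermForm 4 K 3 w w = 0 ∧ hermForm 4 K 3 w (pv 0) = 0) ||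
    decide (w = coef w (pv 0) • pv 0) ||
    (List.finRange 4).any fun i => inSpan w (lineB ((ptLines.getD 0 []).getD i.val 0))

theorem perp_ok : (List.range 6561).all perpB = true := by decide +kernel

/-- the four lines at the first point -/
def l0 (i : Fin 4) : Fin 112 := Fin.ofNat 112 ((ptLines.getD 0 []).getD i.val 0)

theorem l0_val : ∀ i : Fin 4, (l0 i).val = (ptLines.getD 0 []).getD i.val 0 := by decide +kernel

/-- every vector off the first point spans its line with it -/
def spanB (i : Fin 4) : Bool :=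
  let B := lineB (l0 i).val
  decide (∀ a b : K,
    let w := a • B.getD 0 0 + b • B.getD 1 0
    w = coef w (pv 0) • pv 0 ∨
      (B.all fun x => decide (∃ c d : K, x = c • pv 0 + d • w)) = true)

theorem span_ok : ∀ i, spanB i = true := by decide +kernel

/-- perpendicular isotropic vectors of a line -/
def closedB (i : Fin 4) : Bool :=
  (List.range 6561).all fun c =>
    let w := McLU4.dec c
    let B := lineB (l0 i).val
    !decide (hermForm 4 K 3 w (B.getD 0 0) = 0) || !decide (hermForm 4 K 3 w (B.getD 1 0) = 0) ||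
      !decide (hermForm 4 K 3 w w = 0) || inSpan w B

theorem closed_ok : ∀ i, closedB i = true := by decide +kernel

theorem lineB_two_ok : ∀ i : Fin 4, ((lineB (l0 i).val).all fun x => decide
    (x = (lineB (l0 i).val).getD 0 0 ∨ x = (lineB (l0 i).val).getD 1 0)) = true := by decide +kernel

theorem lineB_two (i : Fin 4) : ∀ x ∈ lineB (l0 i).val,
    x = (lineB (l0 i).val).getD 0 0 ∨ x = (lineB (l0 i).val).getD 1 0 :=
  fun x hx => of_decide_eq_true (List.all_eq_true.1 (lineB_two_ok i) x hx)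

theorem lineB_mem : ∀ i : Fin 4, (lineB (l0 i).val).getD 0 0 ∈ lineB (l0 i).val ∧
    (lineB (l0 i).val).getD 1 0 ∈ lineB (l0 i).val := by decide +kernel

/-- a totally isotropic subspace at the first point is the point or a line -/
theorem point_or_line {M : Submodule K W} (hM : ∀ x ∈ M, ∀ y ∈ M, hermForm 4 K 3 x y = 0)
    (h0 : pv 0 ∈ M) : M = Submodule.span K {pv 0} ∨ ∃ k, M = L k := by
  by_cases hle : M ≤ Submodule.span K {pv 0}
  · exact Or.inl (le_antisymm hle ((Submodule.span_singleton_le_iff_mem _ _).2 h0))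
  obtain ⟨w, hw, hw'⟩ := SetLike.not_le_iff_exists.1 hle
  have hp := List.all_eq_true.1 perp_ok _ (List.mem_range.2 (enc_lt w))
  simp only [perpB, McLU4.dec_enc, Bool.or_eq_true, Bool.not_eq_true', decide_eq_false_iff_not,
    decide_eq_true_eq, List.any_eq_true] at hp
  rcases hp with (hp | hp) | ⟨i, -, hp⟩
  · exact absurd ⟨hM w hw w hw, hM w hw _ h0⟩ hp
  · exact absurd (hp ▸ Submodule.smul_mem _ _ (Submodule.mem_span_singleton_self _)) hw'
  refine Or.inr ⟨l0 i, ?_⟩
  rw [← l0_val] at hp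
  set B := lineB (l0 i).val with hB
  have hwB : w ∈ spanL B := mem_of_inSpan hp
  have hwB' : ∃ a b : K, a • B.getD 0 0 + b • B.getD 1 0 = w := by
    refine Submodule.mem_span_pair.1 (Submodule.span_mono ?_ hwB)
    intro x hx
    rcases lineB_two i x hx with h | h
    · exact Or.inl h
    · exact Or.inr h
  obtain ⟨a, b, hab⟩ := hwB'
  have hs := span_ok i
  simp only [spanB, decide_eq_true_eq] at hs
  have hBM : ∀ x ∈ B, x ∈ M := by
    intro x hx
    rcases hs a b with h | h
    · exact absurd (by rw [← hab, h]; exact Submodule.smul_mem _ _ (Submodule.mem_span_singleton_self _)) hw'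
    · obtain ⟨c, d, hcd⟩ := of_decide_eq_true (List.all_eq_true.1 h x hx)
      rw [hcd]
      rw [hab]
      exact add_mem (M.smul_mem c h0) (M.smul_mem d hw)
  refine le_antisymm (fun y hy => ?_) (by
    rw [L, spanL, Submodule.span_le]; exact hBM)
  have hc := List.all_eq_true.1 (closed_ok i) _ (List.mem_range.2 (enc_lt y))
  simp only [McLU4.dec_enc, Bool.or_eq_true, Bool.not_eq_true', decide_eq_false_iff_not] at hc
  rcases hc with ((hc | hc) | hc) | hc
  · exact absurd (hM y hy _ (hBM _ (lineB_mem i).1)) hc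
  · exact absurd (hM y hy _ (hBM _ (lineB_mem i).2)) hc
  · exact absurd (hM y hy y hy) hc
  · exact mem_of_inSpan hc

/-- the orbit of a point is everything -/
theorem index_point_stab {S : Subgroup G0} (hS : S.index = 112) {v : W}
    (hv : hermForm 4 K 3 v v = 0) (hv0 : v ≠ 0) :
    ∃ g ∈ S, mapS g (Submodule.span K {v}) ≠ Submodule.span K {v} := by
  by_contra hne
  push Not at hne
  haveI : Finite G0 := Finite.of_injective (fun g : G0 => suMat g) fun _ _ e => SU_ext e
  let F : G0 ⧸ S → Submodule K W := Quotient.lift (fun g => mapS g (Submodule.span K {v})) (by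
    intro a b hab
    have h : a⁻¹ * b ∈ S := QuotientGroup.leftRel_apply.1 hab
    show mapS a _ = mapS b _
    conv_rhs => rw [show b = a * (a⁻¹ * b) by group, mapS_mul, hne _ h])
  have hmap : ∀ (g : G0) (u : W), mapS g (Submodule.span K {u}) = Submodule.span K {suMat g *ᵥ u} :=
    fun g u => by rw [mapS, Submodule.map_span, Set.image_singleton]; rfl
  obtain ⟨i, c, hc, hi⟩ := exists_pv hv hv0
  obtain ⟨gi, ci, hci, hgi⟩ := exists_move_pv i
  have hex : ∀ j : Fin 280, ∃ q : G0 ⧸ S, F q = Submodule.span K {pv j.val} := by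
    intro j
    obtain ⟨gj, cj, hcj, hgj⟩ := exists_move_pv j
    refine ⟨QuotientGroup.mk (gj * gi⁻¹), ?_⟩
    show mapS (gj * gi⁻¹) _ = _
    rw [mapS_mul, hmap, hmap, hi]
    have e : suMat gi⁻¹ *ᵥ (c • pv i.val) = (c * ci⁻¹) • pv 0 := by
      have h1 : pv i.val = ci⁻¹ • (suMat gi *ᵥ pv 0) := by
        rw [hgi, smul_smul, inv_mul_cancel₀ hci, one_smul]
      rw [h1, smul_smul, mulVec_smul, suMat_inv_mulVec]
    rw [e, mulVec_smul, hgj, smul_smul]
    exact Submodule.span_singleton_smul_eq (isUnit_iff_ne_zero.2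
      (mul_ne_zero (mul_ne_zero hc (inv_ne_zero hci)) hcj)) _
  choose q hq using hex
  have hinj : Function.Injective q := by
    intro j k e
    have h := (hq j).symm.trans (e ▸ hq k)
    obtain ⟨d, hd⟩ := Submodule.mem_span_singleton.1
      (h ▸ Submodule.mem_span_singleton_self (pv j.val) : pv j.val ∈ Submodule.span K {pv k.val})
    have hd0 : d ≠ 0 := fun e0 => (pv_pos j).1 (by rw [← hd, e0, zero_smul])
    have h1 := (pv_pos k).2 d hd0
    rw [hd] at h1
    have h2 := (pv_pos j).2 1 one_ne_zero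
    rw [one_smul, h1] at h2
    exact Fin.ext (by omega)
  have := Nat.card_le_card_of_injective q hinj
  rw [Nat.card_fin, ← Subgroup.index_eq_card, hS] at this
  omega

/-- common fixed vectors -/
def fixV (R : Subgroup G0) : Submodule K W where
  carrier := {x | ∀ r ∈ R, suMat r *ᵥ x = x}
  zero_mem' r _ := mulVec_zero _
  add_mem' ha hb r hr := by rw [mulVec_add, ha r hr, hb r hr]
  smul_mem' c x hx r hr := by rw [mulVec_smul, hx r hr]

theorem exists_fixed {R : Subgroup G0} (hR : IsPGroup 3 R) (M : Submodule K W)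
    (hM : ∀ r ∈ R, ∀ x ∈ M, suMat r *ᵥ x ∈ M) (hne : M ≠ ⊥) :
    ∃ x ∈ M, x ≠ 0 ∧ ∀ r ∈ R, suMat r *ᵥ x = x := by
  haveI : Finite G0 := Finite.of_injective (fun g : G0 => suMat g) fun _ _ e => SU_ext e
  letI act : MulAction R M :=
    { smul := fun r x => ⟨suMat (r : G0) *ᵥ (x : W), hM r r.2 x x.2⟩
      one_smul := fun x => Subtype.ext (by
        show suMat (1 : G0) *ᵥ (x : W) = x; rw [suMat_one, one_mulVec])
      mul_smul := fun r r' x => Subtype.ext (suMat_mulVec_mul _ _ _) }
  haveI : Fact (Nat.Prime 3) := ⟨Nat.prime_three⟩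
  have h3 : 3 ∣ Nat.card M := by
    haveI : Fintype M := Fintype.ofFinite M
    rw [Nat.card_eq_fintype_card, Module.card_eq_pow_finrank (K := K) (V := M), McLU4.hK]
    have : 0 < Module.finrank K M :=
      Module.finrank_pos_iff.2 ((Submodule.nontrivial_iff_ne_bot).2 hne)
    exact (dvd_pow_self 3 two_ne_zero).trans (dvd_pow_self _ this.ne')
  have h0 : (0 : M) ∈ MulAction.fixedPoints R M := fun r => Subtype.ext (by show suMat (r : G0) *ᵥ (0 : W) = 0; exact mulVec_zero _)
  obtain ⟨x, hx, hx0⟩ := hR.exists_fixed_point_of_prime_dvd_card_of_fixed_point M h3 h0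
  exact ⟨x, x.2, fun e => hx0 (Subtype.ext e.symm), fun r hr => congrArg Subtype.val (hx ⟨r, hr⟩)⟩

/-- the perpendicular of a proper subspace is not trivial -/
theorem exists_perp {F : Type} [Field F] [Fintype F] {n q : ℕ} (hF : Fintype.card F = q ^ 2)
    (C : Submodule F (Fin n → F)) (hC : C ≠ ⊤) :
    ∃ x : Fin n → F, x ≠ 0 ∧ ∀ y ∈ C, hermForm n F q x y = 0 := by
  let b := Module.finBasis F C
  let f : (Fin n → F) →ₗ[F] (Fin (Module.finrank F C) → F) :=
    { toFun := fun x i => hermForm n F q x (b i : Fin n → F)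
      map_add' := fun x y => funext fun i => h_add_left _ _ _
      map_smul' := fun c x => funext fun i => h_smul_left _ _ _ }
  have hlt : Module.finrank F (Fin (Module.finrank F C) → F) <
      Module.finrank F (Fin n → F) := by
    rw [Module.finrank_fin_fun]
    exact Submodule.finrank_lt hC
  obtain ⟨x, hx, hx0⟩ := Submodule.exists_mem_ne_zero_of_ne_bot
    (f.ker_ne_bot_of_finrank_lt hlt)
  refine ⟨x, hx0, fun y hy => ?_⟩
  have key : ∀ z ∈ Submodule.span F (Set.range b), hermForm n F q x (z : Fin n → F) = 0 := by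
    intro z hz
    induction hz using Submodule.span_induction with
    | mem z hz => obtain ⟨i, rfl⟩ := hz; exact congrFun (LinearMap.mem_ker.1 hx) i
    | zero => rw [Submodule.coe_zero, h_zero_right hF]
    | add a c _ _ e e' => rw [Submodule.coe_add, h_add_right hF, e, e', add_zero]
    | smul c a _ e => rw [Submodule.coe_smul, h_smul_right hF, e, mul_zero]
  exact key ⟨y, hy⟩ (by rw [b.span_eq]; trivial)

set_option maxHeartbeats 1000000 in
/-- a subgroup of index 112 with a normal 3-subgroup stabilises a line -/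
theorem exists_line {S : Subgroup G0} (hS : S.index = 112) {R : Subgroup G0} (hRS : R ≤ S)
    (hn : ∀ s ∈ S, ∀ r ∈ R, s * r * s⁻¹ ∈ R) (hR : IsPGroup 3 R) (hne : R ≠ ⊥) :
    ∃ k, ∀ s ∈ S, psi s k = k := by
  haveI : Finite G0 := Finite.of_injective (fun g : G0 => suMat g) fun _ _ e => SU_ext e
  set C := fixV R with hC
  have hCtop : C ≠ ⊤ := fun e => hne ((Subgroup.eq_bot_iff_forall _).2 fun r hr => suMat_ext fun x => by
    rw [suMat_one, one_mulVec]; exact (e ▸ Submodule.mem_top : x ∈ C) r hr)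
  have hCinv : ∀ s ∈ S, ∀ x ∈ C, suMat s *ᵥ x ∈ C := fun s hs x hx r hr => by
    have h1 := hx _ (hn s⁻¹ (inv_mem hs) r hr)
    rw [inv_inv, suMat_mulVec_mul, suMat_mulVec_mul] at h1
    have := congrArg (fun z => suMat s *ᵥ z) h1
    rwa [← suMat_mulVec_mul, mul_inv_cancel, suMat_one, one_mulVec] at this
  let P : Submodule K W :=
    { carrier := {x | ∀ y ∈ C, hermForm 4 K 3 x y = 0}
      zero_mem' := fun y _ => by simp [hermForm]
      add_mem' := fun ha hb y hy => by rw [h_add_left, ha y hy, hb y hy, add_zero]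
      smul_mem' := fun c x hx y hy => by rw [h_smul_left, hx y hy, mul_zero] }
  have hPinv : ∀ s ∈ S, ∀ x ∈ P, suMat s *ᵥ x ∈ P := fun s hs x hx y hy => by
    have e : y = suMat s *ᵥ (suMat s⁻¹ *ᵥ y) := by
      rw [← suMat_mulVec_mul, mul_inv_cancel, suMat_one, one_mulVec]
    rw [e, suMat_h]
    exact hx _ (hCinv _ (inv_mem hs) y hy)
  have hPne : P ≠ ⊥ := by
    obtain ⟨x, hx, hx'⟩ := exists_perp McLU4.hK C hCtop
    intro hP
    have : x ∈ P := hx'
    rw [hP, Submodule.mem_bot] at this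
    exact hx this
  obtain ⟨x0, hx0, hx0', hfix⟩ := exists_fixed hR P (fun r hr => hPinv r (hRS hr)) hPne
  set M := C ⊓ P with hM
  have hMiso : ∀ x ∈ M, ∀ y ∈ M, hermForm 4 K 3 x y = 0 := fun x hx y hy => hx.2 y hy.1
  have hMinv : ∀ s ∈ S, ∀ x ∈ M, suMat s *ᵥ x ∈ M := fun s hs x hx =>
    ⟨hCinv s hs x hx.1, hPinv s hs x hx.2⟩
  have hx0M : x0 ∈ M := ⟨hfix, hx0⟩
  obtain ⟨j, c, hc, hj⟩ := exists_pv (hMiso _ hx0M _ hx0M) hx0'
  obtain ⟨g, d, hd, hg⟩ := exists_move_pv j
  set M' := mapS g⁻¹ M with hM'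
  have hp : pv 0 ∈ M' := by
    refine ⟨suMat g *ᵥ pv 0, ?_, suMat_inv_mulVec g _⟩
    rw [hg]
    have : pv j.val = c⁻¹ • x0 := by rw [hj, smul_smul, inv_mul_cancel₀ hc, one_smul]
    rw [this]
    exact M.smul_mem _ (M.smul_mem _ hx0M)
  have hM'iso : ∀ x ∈ M', ∀ y ∈ M', hermForm 4 K 3 x y = 0 := by
    rintro _ ⟨x, hx, rfl⟩ _ ⟨y, hy, rfl⟩
    exact (suMat_h _ x y).trans (hMiso x hx y hy)
  have hMmap : ∀ s ∈ S, mapS s M = M := fun s hs => le_antisymm
    (by rintro _ ⟨x, hx, rfl⟩; exact hMinv s hs x hx)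
    (fun x hx => ⟨suMat s⁻¹ *ᵥ x, hMinv _ (inv_mem hs) x hx, by
      show suMat s *ᵥ _ = x
      rw [← suMat_mulVec_mul, mul_inv_cancel, suMat_one, one_mulVec]⟩)
  have hMM : mapS g M' = M := by rw [hM', ← mapS_mul, mul_inv_cancel, mapS_one]
  rcases point_or_line hM'iso hp with h | ⟨k, hk⟩
  · exfalso
    have e : M = Submodule.span K {suMat g *ᵥ pv 0} := by
      rw [← hMM, h, mapS, Submodule.map_span, Set.image_singleton]; rfl
    obtain ⟨s, hs, hs'⟩ := index_point_stab hS (v := suMat g *ᵥ pv 0)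
      (by rw [suMat_h]; exact hM'iso _ hp _ hp)
      (fun e0 => (pv_pos 0).1 (mulVec_injective g (e0.trans (mulVec_zero _).symm)))
    exact hs' (e ▸ hMmap s hs)
  · refine ⟨psi g k, fun s hs => L_injective ?_⟩
    have e : L (psi g k) = M := by rw [← psi_spec, ← hk, hMM]
    rw [← psi_spec, e, hMmap s hs]

end McLRec
end H50
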