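import Cfsg.Agent.H50.McLRecGraph

/-!
A rank three group of degree 275 with these subdegrees and stabiliser is conjugate to one group
of automorphisms of a fixed graph.
-/

set_option autoImplicit false
set_option Elab.async false
set_option maxRecDepth 100000
set_option linter.style.haveILetI false
set_option linter.unusedSectionVars false

noncomputable section

namespace H50
namespace McLRec

open Finset MulAction Cfsg H50.LeechU

/-- the points of the fixed graph -/
abbrev Pt : Type := Option (Fin 112 ⊕ Fin 162)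

/-- a line as a point -/
abbrev ln (j : Fin 112) : Pt := some (Sum.inl j)

/-- a hemisystem as a point -/
abbrev fr (k : Fin 162) : Pt := some (Sum.inr k)

/-- the fixed graph -/
def adjStd : Pt → Pt → Prop
  | none, some (Sum.inl _) => True
  | some (Sum.inl _), none => True
  | some (Sum.inl i), some (Sum.inl j) => madj i j = true
  | some (Sum.inl j), some (Sum.inr k) => j ∈ famM k
  | some (Sum.inr k), some (Sum.inl j) => j ∈ famM k
  | some (Sum.inr k), some (Sum.inr l) => (famM k ∩ famM l).card ≤ 30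
  | _, _ => False

/-- its automorphisms -/
def stdAut : Subgroup (Equiv.Perm Pt) where
  carrier := {p | ∀ x y, adjStd (p x) (p y) ↔ adjStd x y}
  one_mem' := fun _ _ => Iff.rfl
  mul_mem' := fun {p q} h h' x y => by
    rw [Equiv.Perm.mul_apply, Equiv.Perm.mul_apply, h, h']
  inv_mem' := fun {p} h x y => by
    conv_rhs => rw [← p.apply_symm_apply x, ← p.apply_symm_apply y, h]
    rfl

theorem famM_overlap : ∀ l : Fin 162,
    famM 0 ∩ famM l = univ.filter fun j => (inM 0 j && inM l j) = true := fun l => by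
  ext j
  simp [mem_famM]

theorem overlap_zero : (univ.filter fun l : Fin 162 =>
    (univ.filter fun j : Fin 112 => (inM 0 j && inM l j) = true).card ≤ 30).card = 56 := by
  decide +kernel

theorem overlap_count (k : Fin 162) :
    (univ.filter fun l => (famM k ∩ famM l).card ≤ 30).card = 56 := by
  obtain ⟨g, hg⟩ := famM_transitive k
  choose f hf using famM_move g
  have hfi : Function.Injective f := fun x y h => famM_injective
    (image_injective (psi g).injective (by rw [hf x, hf y, h]))
  rw [← overlap_zero]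
  refine (card_equiv (Equiv.ofBijective f (Finite.injective_iff_bijective.1 hfi)) fun l => ?_).symm
  simp only [mem_filter, mem_univ, true_and, Equiv.ofBijective_apply]
  rw [← hg, ← hf, ← image_inter _ _ (psi g).injective,
    card_image_of_injective _ (psi g).injective, famM_overlap]

/-! ### automorphisms fixing the first point -/

theorem lines_of_fix {p : Equiv.Perm Pt} (hp : p ∈ stdAut) (h0 : p none = none) :
    ∃ r ∈ lineAut, ∀ j, p (ln j) = ln (r j) := by
  have hl : ∀ j, ∃ i, p (ln j) = ln i := fun j => by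
    have h : adjStd none (p (ln j)) := by
      have := (hp none (ln j)).2 trivial
      rwa [h0] at this
    rcases hx : p (ln j) with _ | i | k <;> rw [hx] at h
    · exact h.elim
    · exact ⟨i, rfl⟩
    · exact h.elim
  choose f hf using hl
  have hi : Function.Injective f := fun i j h => by
    have := p.injective ((hf i).trans ((congrArg ln h).trans (hf j).symm))
    simpa using this
  refine ⟨Equiv.ofBijective f (Finite.injective_iff_bijective.1 hi), fun i j => ?_, hf⟩
  have := hp (ln i) (ln j)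
  rw [hf, hf] at this
  exact Bool.eq_iff_iff.2 this

theorem far_of_fix {p : Equiv.Perm Pt} (hp : p ∈ stdAut) (h0 : p none = none)
    {r : Equiv.Perm (Fin 112)} (hr : ∀ j, p (ln j) = ln (r j)) (k : Fin 162) :
    ∃ l, p (fr k) = fr l ∧ (famM k).image r = famM l := by
  rcases hx : p (fr k) with _ | i | l
  · have := p.injective (hx.trans h0.symm)
    simp at this
  · have h := hp none (fr k)
    rw [h0, hx] at h
    exact (h.1 trivial).elim
  · refine ⟨l, rfl, ?_⟩
    ext j
    have h := hp (ln (r.symm j)) (fr k)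
    rw [hr, Equiv.apply_symm_apply, hx] at h
    rw [mem_image]
    refine ⟨?_, fun hj => ⟨r.symm j, h.1 hj, Equiv.apply_symm_apply _ _⟩⟩
    rintro ⟨i, hi, rfl⟩
    rw [Equiv.symm_apply_apply] at h
    exact h.2 hi

theorem ext_of_fix {p q : Equiv.Perm Pt} (hp : p ∈ stdAut) (hq : q ∈ stdAut) (hp0 : p none = none)
    (hq0 : q none = none) (h : ∀ j, p (ln j) = q (ln j)) : p = q := by
  obtain ⟨r, -, hr⟩ := lines_of_fix hp hp0
  have hr' : ∀ j, q (ln j) = ln (r j) := fun j => (h j).symm.trans (hr j)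
  refine Equiv.ext fun x => ?_
  rcases x with _ | j | k
  · rw [hp0, hq0]
  · exact h j
  · obtain ⟨l, e, hl⟩ := far_of_fix hp hp0 hr k
    obtain ⟨l', e', hl'⟩ := far_of_fix hq hq0 hr' k
    show p (fr k) = q (fr k)
    rw [e, e', famM_injective (hl.symm.trans hl')]

theorem card_stdAut_lt : Nat.card stdAut < 275 * (275 * 3265920) := by
  have h := (stabilizer stdAut (none : Pt)).card_mul_index
  rw [index_stabilizer] at h
  have h1 : (orbit stdAut (none : Pt)).ncard ≤ 275 := by
    refine (Set.ncard_le_ncard (Set.subset_univ _) Set.finite_univ).trans ?_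
    rw [Set.ncard_univ, Nat.card_eq_fintype_card]
    simp [Pt]
  have h2 : Nat.card (stabilizer stdAut (none : Pt)) ≤ Nat.card lineAut := by
    choose r hr hr' using fun p : stabilizer stdAut (none : Pt) => lines_of_fix (p : stdAut).2 p.2
    refine Nat.card_le_card_of_injective (fun p => (⟨r p, hr p⟩ : lineAut)) fun p q e => ?_
    refine Subtype.ext (Subtype.ext (ext_of_fix (p : stdAut).2 (q : stdAut).2 p.2 q.2 fun j => ?_))
    rw [hr' p, hr' q, show r p = r q from congrArg Subtype.val e]
  have h3 := card_lineAut_lt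
  rw [← h]
  calc _ ≤ Nat.card lineAut * 275 := Nat.mul_le_mul h2 h1
    _ < _ := by omega

/-- the automorphisms inducing an element of the unitary group on the lines -/
def InU (p : Equiv.Perm Pt) : Prop :=
  p ∈ stdAut ∧ p none = none ∧ ∃ g : G0, ∀ j, p (ln j) = ln (psi g j)

/-- the groups in question -/
structure Good (H : Subgroup (Equiv.Perm Pt)) : Prop where
  le : H ≤ stdAut
  card : Nat.card H = 275 * 3265920
  trans : ∀ x, ∃ h ∈ H, h none = x
  stab : ∀ p, p ∈ H ∧ p none = none ↔ InU p
  realize : ∀ g : G0, ∃ p, InU p ∧ ∀ j, p (ln j) = ln (psi g j)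

theorem Good.card_stab {H : Subgroup (Equiv.Perm Pt)} (h : Good H) :
    Nat.card (stabilizer H (none : Pt)) = 3265920 := by
  have e := (stabilizer H (none : Pt)).card_mul_index
  rw [index_stabilizer] at e
  have : (orbit H (none : Pt)) = Set.univ := Set.eq_univ_of_forall fun x => by
    obtain ⟨p, hp, hx⟩ := h.trans x
    exact ⟨⟨p, hp⟩, hx⟩
  rw [this, Set.ncard_univ, Nat.card_eq_fintype_card (α := Pt), h.card] at e
  rw [show Fintype.card Pt = 275 by simp] at e
  omega

theorem inter_card {A : Type*} [Group A] [Finite A] (X Y : Subgroup A) :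
    Nat.card X * Nat.card Y ≤ Nat.card (X ⊓ Y : Subgroup A) * Nat.card A := by
  have h1 := X.card_mul_index
  have h2 := Y.card_mul_index
  have h3 := (X ⊓ Y).card_mul_index
  have h4 : (X ⊓ Y).index ≤ X.index * Y.index := Subgroup.index_inf_le
  have hA : 0 < Nat.card A := Nat.card_pos
  refine Nat.le_of_mul_le_mul_left ?_ hA
  calc Nat.card A * (Nat.card X * Nat.card Y)
      = (Nat.card (X ⊓ Y : Subgroup A) * (X ⊓ Y).index) * (Nat.card X * Nat.card Y) := by rw [h3]
    _ ≤ (Nat.card (X ⊓ Y : Subgroup A) * (X.index * Y.index)) * (Nat.card X * Nat.card Y) :=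
        Nat.mul_le_mul_right _ (Nat.mul_le_mul_left _ h4)
    _ = Nat.card (X ⊓ Y : Subgroup A) *
        ((Nat.card X * X.index) * (Nat.card Y * Y.index)) := by ring
    _ = Nat.card A * (Nat.card (X ⊓ Y : Subgroup A) * Nat.card A) := by rw [h1, h2]; ring

theorem good_unique {H H' : Subgroup (Equiv.Perm Pt)} (h : Good H) (h' : Good H') : H = H' := by
  classical
  obtain ⟨D, hD0⟩ : ∃ D, H ⊓ H' = D := ⟨_, rfl⟩
  have hDl : D ≤ H := hD0 ▸ inf_le_left
  have hDr : D ≤ H' := hD0 ▸ inf_le_right
  have hmem : ∀ p, InU p → p ∈ D ∧ p none = none := fun p hp =>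
    ⟨hD0 ▸ ⟨((h.stab p).2 hp).1, ((h'.stab p).2 hp).1⟩, hp.2.1⟩
  have hbig : 3265920 < Nat.card D := by
    have hi := inter_card (H.subgroupOf stdAut) (H'.subgroupOf stdAut)
    have e1 := Nat.card_congr (Subgroup.subgroupOfEquivOfLe h.le).toEquiv
    have e2 := Nat.card_congr (Subgroup.subgroupOfEquivOfLe h'.le).toEquiv
    have e3 : (H.subgroupOf stdAut ⊓ H'.subgroupOf stdAut : Subgroup stdAut) = D.subgroupOf stdAut :=
      hD0 ▸ (Subgroup.comap_inf _ _ _).symm
    have e4 := Nat.card_congr
      (Subgroup.subgroupOfEquivOfLe (hDl.trans h.le : D ≤ stdAut)).toEquiv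
    rw [e1, e2, e3, e4, h.card, h'.card] at hi
    have hA := card_stdAut_lt
    by_contra hle
    have : Nat.card D * Nat.card stdAut ≤ 3265920 * Nat.card stdAut :=
      Nat.mul_le_mul_right _ (not_lt.1 hle)
    omega
  have hst : Nat.card (stabilizer D (none : Pt)) = 3265920 := by
    rw [← h.card_stab]
    refine Nat.card_congr
      { toFun := fun p => ⟨⟨(p : D).1, hDl (p : D).2⟩, p.2⟩
        invFun := fun p => ⟨⟨(p : H).1,
          (hmem _ ((h.stab _).1 ⟨(p : H).2, p.2⟩)).1⟩, p.2⟩
        left_inv := fun p => Subtype.ext (Subtype.ext rfl)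
        right_inv := fun p => Subtype.ext (Subtype.ext rfl) }
  set O := orbit D (none : Pt)
  have hD := (stabilizer D (none : Pt)).card_mul_index
  rw [index_stabilizer, hst] at hD
  have hDH : Nat.card D ∣ 275 * 3265920 := h.card ▸ Subgroup.card_dvd_of_le hDl
  rw [← hD, mul_comm 275 3265920] at hDH
  have hdiv : O.ncard ∣ 275 := Nat.dvd_of_mul_dvd_mul_left (by norm_num) hDH
  have hgt : 1 < O.ncard := by
    have : 3265920 * 1 < 3265920 * O.ncard := by rw [hD]; omega
    exact Nat.lt_of_mul_lt_mul_left this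
  have hclosed : ∀ p, InU p → ∀ x ∈ O, p x ∈ O := fun p hp x hx => by
    obtain ⟨d, rfl⟩ := hx
    exact ⟨⟨p, (hmem p hp).1⟩ * d, mul_smul _ _ _⟩
  have hlines : ∀ i j, ln i ∈ O → ln j ∈ O := fun i j hi => by
    obtain ⟨g, hg⟩ := psi_transitive i
    obtain ⟨g', hg'⟩ := psi_transitive j
    obtain ⟨p, hp, hp'⟩ := h.realize (g' * g⁻¹)
    have := hclosed p hp _ hi
    rwa [hp', map_mul, map_inv, Equiv.Perm.mul_apply, Equiv.Perm.inv_eq_iff_eq.2 hg.symm, hg'] at this
  have hfars : ∀ k l, fr k ∈ O → fr l ∈ O := fun k l hk => by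
    obtain ⟨g, hg⟩ := famM_transitive k
    obtain ⟨g', hg'⟩ := famM_transitive l
    obtain ⟨p, hp, hp'⟩ := h.realize (g' * g⁻¹)
    obtain ⟨l', e, hl'⟩ := far_of_fix hp.1 hp.2.1 hp' k
    have := hclosed p hp _ hk
    rw [e] at this
    have hl : l' = l := famM_injective (by
      rw [← hl', ← hg, ← hg', map_mul, map_inv, image_image]
      congr 1
      funext x
      simp)
    rwa [hl] at this
  have hsplit : O.ncard = 1 + (if ∃ i, ln i ∈ O then 112 else 0) + (if ∃ k, fr k ∈ O then 162 else 0) := by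
    have hO : O = ↑(univ.filter fun x : Pt => x = none ∨ (match x with
        | none => True
        | some (Sum.inl _) => ∃ i, ln i ∈ O
        | some (Sum.inr _) => ∃ k, fr k ∈ O)) := by
      ext x
      simp only [coe_filter, mem_univ, true_and, Set.mem_ofPred_eq]
      rcases x with _ | j | k
      · exact iff_of_true (mem_orbit_self _) (Or.inl rfl)
      · simp only [reduceCtorEq, false_or]
        exact ⟨fun hx => ⟨j, hx⟩, fun ⟨i, hi⟩ => hlines i j hi⟩
      · simp only [reduceCtorEq, false_or]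
        exact ⟨fun hx => ⟨k, hx⟩, fun ⟨i, hi⟩ => hfars i k hi⟩
    conv_lhs => rw [hO, Set.ncard_coe_finset]
    rw [card_filter, Fintype.sum_option, Fintype.sum_sum_type]
    simp only [reduceCtorEq, false_or, true_or, if_true, sum_const, card_univ, Fintype.card_fin,
      smul_eq_mul, mul_ite, mul_one, mul_zero]
    omega
  have hall : O.ncard = 275 := by
    rw [hsplit] at hdiv hgt ⊢
    split_ifs at hdiv hgt ⊢ <;> first | rfl | omega | (norm_num at hdiv)
  rw [hall] at hD
  have eH : D = H := Subgroup.eq_of_le_of_card_ge hDl (by rw [h.card]; omega)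
  have eH' : D = H' := Subgroup.eq_of_le_of_card_ge hDr (by rw [h'.card]; omega)
  exact eH.symm.trans eH'

/-! ### the normal form -/

variable {Ω : Type*} [Fintype Ω] [DecidableEq Ω] {G : Subgroup (Equiv.Perm Ω)} {a b c : Ω}

namespace LineModel

variable (m : LineModel G a b)

/-- the action of the stabiliser on the lines -/
def theta : stabilizer G a →* Equiv.Perm (Fin 112) where
  toFun s := psi (Classical.choose (m.fwd s))
  map_one' := Equiv.ext fun j => m.inj (by
    rw [← Classical.choose_spec (m.fwd 1) j, one_smul]; rfl)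
  map_mul' := fun s t => Equiv.ext fun j => m.inj (by
    rw [← Classical.choose_spec (m.fwd (s * t)) j, Equiv.Perm.mul_apply,
      ← Classical.choose_spec (m.fwd s), ← Classical.choose_spec (m.fwd t), mul_smul])

theorem theta_spec (s : stabilizer G a) (j : Fin 112) : s • m.pt j = m.pt (m.theta s j) :=
  Classical.choose_spec (m.fwd s) j

theorem theta_range : m.theta.range = psi.range := by
  ext r
  constructor
  · rintro ⟨s, rfl⟩; exact ⟨_, rfl⟩
  · rintro ⟨g, rfl⟩
    obtain ⟨s, hs⟩ := m.bwd g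
    exact ⟨s, Equiv.ext fun j => m.inj (by rw [← theta_spec, hs])⟩

theorem theta_lines (s : stabilizer G a) (z : Ω) :
    m.lines (s • z) = (m.lines z).image (m.theta s) := by
  obtain ⟨g, hg⟩ : ∃ g, psi g = m.theta s := ⟨_, rfl⟩
  rw [← hg]
  exact m.lines_move (fun j => by rw [hg]; exact m.theta_spec s j) z

/-- relabelling by a twist -/
def relabel (p : Equiv.Perm (Fin 112)) (hp : p ∈ twistGrp) : LineModel G a b where
  pt j := m.pt (p j)
  inj := m.inj.comp p.injective
  range_eq := by
    rw [← m.range_eq]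
    exact p.surjective.range_comp m.pt
  fwd s := by
    obtain ⟨g, hg⟩ := m.fwd s
    obtain ⟨g', hg'⟩ := (twist_symm hp).2 g
    refine ⟨g', fun j => ?_⟩
    rw [hg]
    congr 1
    have := hg' (p j)
    rw [Equiv.Perm.coe_inv, Equiv.symm_apply_apply, Equiv.symm_apply_eq] at this
    exact this
  bwd g := by
    obtain ⟨g', hg'⟩ := hp.2 g
    obtain ⟨s, hs⟩ := m.bwd g'
    exact ⟨s, fun j => by rw [hs, hg']⟩

theorem relabel_lines (p : Equiv.Perm (Fin 112)) (hp : p ∈ twistGrp) (z : Ω) :
    ((m.relabel p hp).lines z).image p = m.lines z := by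
  ext j
  rw [mem_image]
  refine ⟨fun ⟨i, hi, e⟩ => by
    subst e
    exact (mem_lines m).2 ((mem_lines (m.relabel p hp)).1 hi), fun h => ⟨p.symm j, ?_, p.apply_symm_apply j⟩⟩
  rw [mem_lines]
  show adj G a b z (m.pt (p (p.symm j)))
  rw [p.apply_symm_apply]
  exact (mem_lines m).1 h

theorem card_zpowers_sylow {R : Type*} [Group R] [Finite R] {x : R} (hx : orderOf x = 7)
    (h49 : ¬ 49 ∣ Nat.card R) : ∃ P : Sylow 7 R, (P : Subgroup R) = Subgroup.zpowers x := by
  haveI : Fact (Nat.Prime 7) := ⟨by norm_num⟩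
  have hc : Nat.card (Subgroup.zpowers x) = 7 := by rw [Nat.card_zpowers, hx]
  obtain ⟨P, hP⟩ := (IsPGroup.of_card (p := 7) (n := 1) (G := Subgroup.zpowers x)
    (by rw [hc, pow_one])).exists_le_sylow
  refine ⟨P, (Subgroup.eq_of_le_of_card_ge hP ?_).symm⟩
  obtain ⟨n, hn⟩ := IsPGroup.iff_card.1 P.isPGroup'
  rw [hc, hn]
  have hn1 : n ≤ 1 := by
    by_contra hne
    exact h49 (dvd_trans (by rw [hn]; exact pow_dvd_pow 7 (show 2 ≤ n by omega))
      (Subgroup.card_subgroup_dvd_card (P : Subgroup R)))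
  calc 7 ^ n ≤ 7 ^ 1 := Nat.pow_le_pow_right (by norm_num) hn1
    _ = 7 := pow_one 7

variable (S : Setup G a b c)
include m S

theorem card_theta_range : ¬ 49 ∣ Nat.card psi.range := fun h => by
  have h2 := h.trans ((m.theta_range ▸ Subgroup.card_range_dvd m.theta) : Nat.card psi.range ∣ _)
  rw [S.stab] at h2
  norm_num at h2

theorem exists_invariant : ∃ c0 ∈ far G a c, ∀ j, sigF j ∈ m.lines c0 ↔ j ∈ m.lines c0 := by
  haveI : Fact (Nat.Prime 7) := ⟨by norm_num⟩
  haveI : Finite G0 := Finite.of_injective (fun g : G0 => suMat g) fun _ _ e => SU_ext e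
  set sg : psi.range := ⟨psi (wordG sigmaWord), _, rfl⟩
  have hsg : ∀ j, (sg : Equiv.Perm (Fin 112)) j = sigF j := psi_word sigmaWord
  have hso : orderOf sg = 7 := by
    refine orderOf_eq_prime (Subtype.ext (Equiv.ext fun j => ?_)) fun e => ?_
    · rw [SubmonoidClass.coe_pow, Equiv.Perm.coe_pow, show ⇑(sg : Equiv.Perm (Fin 112)) = sigF from
        funext hsg]
      exact (sig_facts j).2.1
    · have : ∀ j, sigF j = j := fun j => by rw [← hsg, e]; rfl
      rcases sig_move with h | h <;> exact h (this _)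
  have h49 := card_theta_range m S
  -- an element of order seven fixing a point of the second suborbit
  have hSc : 7 ∣ Nat.card (stabilizer (stabilizer G a) c) := by
    have := (stabilizer (stabilizer G a) c).card_mul_index
    rw [index_stabilizer, S.hc, S.stab] at this
    omega
  obtain ⟨z, hz⟩ := exists_prime_orderOf_dvd_card' 7 hSc
  have hzo : orderOf (z : stabilizer G a) = 7 := by rw [Subgroup.orderOf_coe, hz]
  have hne : m.theta z ≠ 1 := by
    intro h1
    have hk : 7 ∣ Nat.card m.theta.ker := by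
      rw [← hzo, ← Subgroup.orderOf_mk (H := m.theta.ker) (z : stabilizer G a) h1]
      exact orderOf_dvd_natCard _
    have hr : 7 ∣ Nat.card m.theta.range := by
      rw [m.theta_range, ← hso]
      exact orderOf_dvd_natCard _
    have e := m.theta.ker.card_mul_index
    rw [Subgroup.index_ker, S.stab] at e
    have := Nat.mul_dvd_mul hk hr
    rw [e] at this
    norm_num at this
  set zr : psi.range := ⟨m.theta z, m.theta_range ▸ ⟨_, rfl⟩⟩
  have hzr : orderOf zr = 7 := by
    refine orderOf_eq_prime ?_ fun e => hne (congrArg Subtype.val e)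
    refine Subtype.ext ?_
    show m.theta z ^ 7 = 1
    rw [← map_pow, ← hzo, pow_orderOf_eq_one, map_one]
  obtain ⟨P, hP⟩ := card_zpowers_sylow hzr h49
  obtain ⟨Q, hQ⟩ := card_zpowers_sylow hso h49
  obtain ⟨r, hr⟩ := MulAction.exists_smul_eq psi.range P Q
  obtain ⟨s, hs⟩ : (r : Equiv.Perm (Fin 112)) ∈ m.theta.range := m.theta_range.symm ▸ r.2
  have hmem : sg ∈ (r • P : Sylow 7 psi.range).toSubgroup := by
    rw [hr, hQ]; exact Subgroup.mem_zpowers sg
  rw [Sylow.coe_subgroup_smul, hP, Subgroup.mem_pointwise_smul_iff_inv_smul_mem,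
    Subgroup.mem_zpowers_iff] at hmem
  obtain ⟨k, hk⟩ := hmem
  set t : stabilizer G a := s * (z : stabilizer G a) ^ k * s⁻¹
  have ht : m.theta t = sg := by
    have hk' := congrArg (fun q : psi.range => (q : Equiv.Perm (Fin 112))) hk
    simp only [SubgroupClass.coe_zpow, MulAut.smul_def, MulAut.inv_apply, MulAut.conj_symm_apply,
      Subgroup.coe_mul, InvMemClass.coe_inv, zr] at hk'
    rw [map_mul, map_mul, map_inv, map_zpow, hs, hk']
    group
  refine ⟨s • c, mem_far.2 (mem_orbit c s), fun j => ?_⟩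
  have hfix : t • (s • c) = s • c := by
    rw [← mul_smul, show t * s = s * (z : stabilizer G a) ^ k by simp [t, mul_assoc], mul_smul]
    congr 1
    exact MulAction.mem_stabilizer_iff.1 (Subgroup.zpow_mem _ z.2 k)
  have hl := m.theta_lines t (s • c)
  rw [hfix, ht] at hl
  conv_lhs => rw [hl, ← hsg, mem_image]
  exact ⟨fun ⟨i, hi, e⟩ => (sg : Equiv.Perm (Fin 112)).injective e ▸ hi, fun h => ⟨j, h, rfl⟩⟩

theorem exists_good : ∃ (m' : LineModel G a b) (c0 : Ω), c0 ∈ far G a c ∧ m'.lines c0 = famM 0 := by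
  obtain ⟨c0, hc0, hσ⟩ := m.exists_invariant S
  obtain ⟨p, hp, e⟩ := classify_invariant (m.lines_hemi S hc0) hσ
  exact ⟨m.relabel p hp, c0, hc0, image_injective p.injective ((m.relabel_lines p hp c0).trans e)⟩

variable {c0 : Ω} (h0 : c0 ∈ far G a c) (hl0 : m.lines c0 = famM 0)
include h0 hl0

theorem exists_far_label : ∃ ix : Fin 162 → Ω, Function.Injective ix ∧
    (∀ k, ix k ∈ far G a c ∧ m.lines (ix k) = famM k) ∧ ∀ z ∈ far G a c, ∃ k, ix k = z := by
  have h : ∀ k, ∃ z, z ∈ far G a c ∧ m.lines z = famM k := fun k => by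
    obtain ⟨g, hg⟩ := famM_transitive k
    obtain ⟨s, hs⟩ := m.bwd g
    refine ⟨s • c0, mem_far.2 ?_, by rw [m.lines_move hs, hl0, hg]⟩
    rw [← orbit_eq_iff.2 (mem_far.1 h0)]
    exact mem_orbit _ _
  choose ix h1 h2 using h
  have hi : Function.Injective ix := fun k l e => famM_injective (by rw [← h2, ← h2, e])
  refine ⟨ix, hi, fun k => ⟨h1 k, h2 k⟩, fun z hz => ?_⟩
  have e : univ.image ix = far G a c := eq_of_subset_of_card_le
    (fun w hw => by obtain ⟨k, -, rfl⟩ := mem_image.1 hw; exact h1 k)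
    (by rw [card_far S, card_image_of_injective _ hi, card_univ, Fintype.card_fin])
  obtain ⟨k, -, hk⟩ := mem_image.1 (e ▸ hz)
  exact ⟨k, hk⟩

omit h0 hl0

theorem far_adj {ix : Fin 162 → Ω} (hi : Function.Injective ix)
    (hix : ∀ k, ix k ∈ far G a c ∧ m.lines (ix k) = famM k)
    (hsur : ∀ z ∈ far G a c, ∃ k, ix k = z) (k l : Fin 162) :
    adj G a b (ix k) (ix l) ↔ (famM k ∩ famM l).card ≤ 30 := by
  classical
  have hna : ¬ adj G a b a (ix k) := fun h => one_two S (adj_base.1 h) (mem_far.1 (hix k).1)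
  have e : nb G a b (ix k) = (m.lines (ix k)).image m.pt ∪
      (univ.filter fun i => adj G a b (ix k) (ix i)).image ix := by
    ext w
    simp only [mem_union, mem_image, mem_filter, mem_univ, true_and, mem_lines, mem_nb]
    constructor
    · intro hw
      rcases cover S w with h | h | h
      · exact absurd (adj_symm S (h ▸ hw)) hna
      · obtain ⟨j, rfl⟩ := m.exists_pt (adj_base.2 h)
        exact Or.inl ⟨j, hw, rfl⟩
      · obtain ⟨i, rfl⟩ := hsur w (mem_far.2 h)
        exact Or.inr ⟨i, hw, rfl⟩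
    · rintro (⟨j, hj, rfl⟩ | ⟨i, hi', rfl⟩)
      · exact hj
      · exact hi'
  have hcard := card_nb S (ix k)
  rw [e, card_union_of_disjoint, card_image_of_injective _ m.inj, card_image_of_injective _ hi,
    m.card_lines S (hix k).1] at hcard
  · have hsub : (univ.filter fun i => adj G a b (ix k) (ix i)) ⊆
        univ.filter fun i => (famM k ∩ famM i).card ≤ 30 := by
      intro i hi'
      simp only [mem_filter, mem_univ, true_and] at hi' ⊢
      have hc := common_one S hi'
      rw [(m.lam_mu S).2.1] at hc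
      rw [← hc, ← (hix k).2, ← (hix i).2, ← card_image_of_injective _ m.inj,
        image_inter _ _ m.inj, image_lines, image_lines]
      exact card_le_card fun w hw => by
        simp only [mem_inter] at hw ⊢
        exact ⟨hw.1.2, hw.2.2⟩
    have := eq_of_subset_of_card_le hsub (by rw [overlap_count]; omega)
    simpa using Finset.ext_iff.1 this l
  · rw [Finset.disjoint_left]
    intro w hw hw'
    obtain ⟨j, -, rfl⟩ := mem_image.1 hw
    obtain ⟨i, -, hi'⟩ := mem_image.1 hw'
    exact one_two S (adj_base.1 (m.pt_adj j)) (mem_far.1 (hi' ▸ (hix i).1))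

end LineModel

theorem exists_std (S : Setup G a b c) (hm : Nonempty (LineModel G a b)) :
    ∃ H : Subgroup (Equiv.Perm Pt), Good H ∧ Nonempty (G ≃* H) := by
  classical
  obtain ⟨m0⟩ := hm
  obtain ⟨m, c0, h0, hl0⟩ := m0.exists_good S
  obtain ⟨ix, hi, hix, hsur⟩ := m.exists_far_label S h0 hl0
  haveI := S.trans
  let ψ : Pt → Ω := fun x => x.elim a (Sum.elim m.pt ix)
  have hψsur : Function.Surjective ψ := fun w => by
    rcases cover S w with h | h | h
    · exact ⟨none, h.symm⟩
    · obtain ⟨j, hj⟩ := m.exists_pt (adj_base.2 h)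
      exact ⟨ln j, hj⟩
    · obtain ⟨k, hk⟩ := hsur w (mem_far.2 h)
      exact ⟨fr k, hk⟩
  have hψ : Function.Bijective ψ := (Fintype.bijective_iff_surjective_and_card ψ).2
    ⟨hψsur, by rw [S.card]; simp [Pt]⟩
  let φ : Ω ≃ Pt := (Equiv.ofBijective ψ hψ).symm
  have hφ : ∀ x, φ.symm x = ψ x := fun x => rfl
  have hadj : ∀ x y, adj G a b (ψ x) (ψ y) ↔ adjStd x y := by
    have hf : ∀ k, ix k ∉ orbit (stabilizer G a) b := fun k h => one_two S h (mem_far.1 (hix k).1)
    have hmem : ∀ j k, adj G a b (ix k) (m.pt j) ↔ j ∈ famM k := fun j k => by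
      rw [← (hix k).2, LineModel.mem_lines]
    intro x y
    rcases x with _ | i | k <;> rcases y with _ | j | l
    · exact iff_of_false (fun h => adj_ne S h rfl) id
    · exact iff_of_true (m.pt_adj j) trivial
    · exact iff_of_false (fun h => hf l (adj_base.1 h)) id
    · exact iff_of_true (adj_symm S (m.pt_adj i)) trivial
    · exact m.adj_pt S i j
    · show adj G a b (m.pt i) (ix l) ↔ i ∈ famM l
      rw [← hmem]
      exact ⟨adj_symm S, adj_symm S⟩
    · exact iff_of_false (fun h => hf k (adj_base.1 (adj_symm S h))) id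
    · exact hmem j k
    · exact m.far_adj S hi hix hsur k l
  let E : Equiv.Perm Ω →* Equiv.Perm Pt := φ.permCongrHom.toMonoidHom
  have hE : Function.Injective E := φ.permCongrHom.injective
  have hval : ∀ (g : G) x, ψ (E g x) = g • ψ x := fun g x => by
    show φ.symm (φ ((g : Equiv.Perm Ω) (φ.symm x))) = _
    rw [Equiv.symm_apply_apply]
    rfl
  have hstd : ∀ g : G, E g ∈ stdAut := fun g x y => by
    rw [← hadj, ← hadj, hval, hval, adj_smul_iff]
  have hfix : ∀ g : G, E g none = none ↔ g • a = a := fun g => by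
    rw [← hψ.1.eq_iff, hval]; rfl
  have hline : ∀ (s : stabilizer G a) (r : Equiv.Perm (Fin 112)),
      (∀ j, s • m.pt j = m.pt (r j)) → ∀ j, E (s : G) (ln j) = ln (r j) := fun s r hs j =>
    hψ.1 ((hval _ _).trans (hs j))
  refine ⟨G.map E, ⟨?_, ?_, ?_, ?_, ?_⟩, ⟨Subgroup.equivMapOfInjective G E hE⟩⟩
  · rintro _ ⟨g, hg, rfl⟩; exact hstd ⟨g, hg⟩
  · rw [Subgroup.card_map_of_injective hE, ← S.stab]
    have := (stabilizer G a).card_mul_index
    rw [index_stabilizer_of_transitive, Nat.card_eq_fintype_card (α := Ω), S.card] at this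
    rw [mul_comm]
    exact this.symm
  · intro x
    obtain ⟨g, hg⟩ := exists_smul_eq G a (ψ x)
    exact ⟨E g, ⟨g, g.2, rfl⟩, hψ.1 ((hval g none).trans hg)⟩
  · intro p
    constructor
    · rintro ⟨⟨g, hg, rfl⟩, h0⟩
      obtain ⟨r, hr⟩ := m.fwd ⟨⟨g, hg⟩, (hfix ⟨g, hg⟩).1 h0⟩
      exact ⟨hstd ⟨g, hg⟩, h0, r, hline _ _ hr⟩
    · rintro ⟨hp, hp0, g, hg⟩
      obtain ⟨s, hs⟩ := m.bwd g
      have e : p = E (s : G) := ext_of_fix hp (hstd _) hp0 ((hfix _).2 s.2) fun j => by
        rw [hg, hline s _ hs]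
      exact ⟨e ▸ ⟨_, (s : G).2, rfl⟩, hp0⟩
  · intro g
    obtain ⟨s, hs⟩ := m.bwd g
    exact ⟨E (s : G), ⟨hstd _, (hfix _).2 s.2, g, hline s _ hs⟩, hline s _ hs⟩

end McLRec
end H50
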