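import Cfsg.Agent.H50.LeechUnitary
import Cfsg.Agent.H50.K9
import Cfsg.Agent.H50.McLU4Data
import Cfsg.Agent.H95.McLTriple
import Cfsg.Agent.H95.McLSimple
import Cfsg.Agent.H95.M22Simple

/-!
The stabiliser of a point in the McLaughlin configuration is `PSU(4,3)`.
-/

set_option autoImplicit false
set_option maxRecDepth 100000

namespace H50
namespace McLU4

open Cfsg Matrix H50.LeechU

abbrev K : Type := Nine.F
abbrev W : Type := Fin 4 → K

theorem hK : Fintype.card K = 3 ^ 2 := Nine.F.card_eq

/-- decoding -/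
def dec (c : ℕ) : W := fun i => Nine.F.ofN (c / 9 ^ (i : ℕ) % 9)

/-- encoding -/
def enc (v : W) : ℕ := (v 0).v.val + 9 * (v 1).v.val + 81 * (v 2).v.val + 729 * (v 3).v.val

theorem dec_enc (v : W) : dec (enc v) = v := by
  funext i
  apply Nine.F.equivFin.injective
  apply Fin.ext
  have h0 := (v 0).v.isLt
  have h1 := (v 1).v.isLt
  have h2 := (v 2).v.isLt
  have h3 := (v 3).v.isLt
  fin_cases i <;>
    (simp [dec, enc, Nine.F.ofN, Nine.F.equivFin]; omega)

/-- the table in chunks -/
def C : List (List (Entry 4 K)) := tab.map fun l => l.map fun e => (decY e.1, e.2.map dec)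

/-- the transvection points -/
def rt (i : Fin 4) : W := dec (roots.getD i.val 0)

/-- trace zero scalar -/
def c0 : K := Nine.F.ofN 3

theorem c0_ok : c0 + c0 ^ 3 = 0 ∧ ∀ c : K, c + c ^ 3 = 0 → ∃ k : Fin 3, (k : ℕ) * c0 = c := by
  decide +kernel

theorem rt_iso : ∀ i, hermForm 4 K 3 (rt i) (rt i) = 0 := by decide +kernel

/-- the transvections -/
noncomputable def g (i : Fin 4) : SU 4 K 3 := tv hK (rt i) c0 (rt_iso i) c0_ok.1

theorem g_apply (i : Fin 4) (x : W) : suMat (g i) *ᵥ x = tvv 3 (rt i) c0 x :=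
  tv_mulVec hK (rt i) c0 (rt_iso i) c0_ok.1 x

/-- the matrices -/
def rowsOf (i : Fin 4) : List (List ℤ) := rowsE.getD i.val []

theorem rows_gens : ∀ i, H95.matOK (rowsOf i) = true := by decide +kernel

theorem rows_orth : ∀ (i : Fin 4) (a b : GolayPt),
    ∑ p, H95.entryL (rowsOf i) p a * H95.entryL (rowsOf i) p b = if a = b then 64 else 0 := by
  decide +kernel

/-- the lattice automorphisms -/
def mat (i : Fin 4) : H95.MatData := ⟨rowsOf i, rows_gens i, rows_orth i⟩

theorem steps : ∀ i, stepOK 3 C 28 (rowsOf i) (rt i) c0 (moves.getD i.val []) = true := by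
  decide +kernel

theorem good (i : Fin 4) : Good C.flatten ((mat i).elt, g i) :=
  good_step (mat i) (rt i) c0 _ (steps i) (g i) (g_apply i)

/-- coordinates of the base vectors -/
def baseL : List (List ℤ) :=
  [List.replicate 23 1 ++ [5], 4 :: List.replicate 22 0 ++ [4], 0 :: 4 :: List.replicate 21 0 ++ [4]]

theorem base_eq : H95.vecL (H95.uBase : GolayPt → ℤ) = baseL.getD 0 [] ∧
    H95.vecL (H95.vBase : GolayPt → ℤ) = baseL.getD 1 [] ∧
    H95.vecL (H95.xBase : GolayPt → ℤ) = baseL.getD 2 [] := by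
  refine ⟨?_, ?_, ?_⟩
  · rw [show (H95.uBase : GolayPt → ℤ) = fun i => if i = none then 5 else 1 from funext fun i => by
      rcases i with _ | x <;> simp [H95.uBase_none, H95.uBase_some]]
    decide +kernel
  · rw [H95.coe_vBase]; decide +kernel
  · rw [show (H95.xBase : GolayPt → ℤ) = fun i => if i = none ∨ i = some 1 then 4 else 0 from
      funext H95.xBase_apply]
    decide +kernel

theorem base_fixed : ∀ i : Fin 4, ∀ b ∈ baseL, H95.applyL (rowsOf i) b = b := by decide +kernel

/-- the stabiliser -/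
noncomputable abbrev H : Subgroup Co0 := MulAction.stabilizer Co0 H95.uBase ⊓ MulAction.stabilizer Co0 H95.vBase ⊓
  MulAction.stabilizer Co0 H95.xBase

theorem mat_mem (i : Fin 4) : (mat i).elt ∈ H := by
  obtain ⟨e0, e1, e2⟩ := base_eq
  refine ⟨⟨?_, ?_⟩, ?_⟩ <;> refine MulAction.mem_stabilizer_iff.2 (H95.eq_of_vecL ?_) <;>
    rw [H95.MatData.vecL_elt] <;> simp only [e0, e1, e2] <;>
    exact base_fixed i _ (by simp [baseL])

/-- the isotropic points -/
def pt (j : ℕ) : W := dec (Nat.land (Nat.shiftRight packP (16 * j)) 65535)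

/-- the tree -/
def step (j : ℕ) : ℕ × Fin 4 :=
  (Nat.land (Nat.shiftRight packS (16 * j)) 65535 / 8,
    Fin.ofNat 4 (Nat.land (Nat.shiftRight packS (16 * j)) 65535 % 8))

/-- the roots of the tree -/
def root (j : ℕ) : Option (Fin 4) := if h : j < 4 then some ⟨j, h⟩ else none

/-- check of the tree -/
def treeB (j : ℕ) : Bool :=
  match root j with
  | some i => decide (pt j = rt i)
  | none => decide ((step j).1 < j ∧
      coef (tvv 3 (rt (step j).2) c0 (pt (step j).1)) (pt j) ≠ 0 ∧
      tvv 3 (rt (step j).2) c0 (pt (step j).1) =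
        coef (tvv 3 (rt (step j).2) c0 (pt (step j).1)) (pt j) • pt j)

theorem tree_ok : (List.range 280).all treeB = true := by decide +kernel

/-- every isotropic vector is in the tree -/
def coverB (c : ℕ) : Bool :=
  let x := dec c
  let j := Nat.land (Nat.shiftRight packPos (16 * c)) 65535
  !decide (hermForm 4 K 3 x x = 0) || decide (j < 280 ∧ x = coef x (pt j) • pt j)

theorem cover_ok : (List.range 6561).all coverB = true := by decide +kernel

theorem closure_g : Subgroup.closure (Set.range g) = ⊤ := by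
  set S := Subgroup.closure (Set.range g)
  have hgS : ∀ i, g i ∈ S := fun i => Subgroup.subset_closure ⟨i, rfl⟩
  refine eq_top_of_inS hK (by norm_num) (by norm_num) fun v hv => ?_
  have hroot : ∀ i, InS S (rt i) := fun i =>
    inS_root hK c0_ok.2 (hgS i) (rt_iso i) (g_apply i)
  have htree := inS_tree hK rt c0 g hroot hgS g_apply pt step root (m := 280) (fun j hj => by
    have := List.all_eq_true.1 tree_ok j (List.mem_range.2 hj)
    unfold treeB at this
    split <;> rename_i e <;> rw [e] at this <;> simpa using this)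
  have hlt : enc v < 6561 := by
    have h0 := (v 0).v.isLt
    have h1 := (v 1).v.isLt
    have h2 := (v 2).v.isLt
    have h3 := (v 3).v.isLt
    unfold enc; omega
  have h := List.all_eq_true.1 cover_ok _ (List.mem_range.2 hlt)
  simp only [coverB, dec_enc, Bool.or_eq_true, Bool.not_eq_true', decide_eq_false_iff_not,
    decide_eq_true_eq] at h
  rcases h with h | ⟨hj, e⟩
  · exact absurd hv h
  · rw [e]; exact inS_smul hK (htree _ hj) _

/-- the first row -/
def row0 : ℕ × List ℕ := (tab.getD 0 []).getD 0 (0, [])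

theorem row0_ok : (decY row0.1, row0.2.map dec) ∈ C.flatten ∧
    uniqOK C.flatten (decY row0.1) (row0.2.map dec) = true ∧
    H96.Check.checkB (fun p => (decY row0.1).getD (H90.idx p).val 0) = true ∧
    (∀ x ∈ row0.2.map dec, hermForm 4 K 3 x (dec (row0.2.getD 0 0)) = 0) ∧
    dec (row0.2.getD 0 0) ∈ row0.2.map dec ∧
    hermForm 4 K 3 (tvv 3 (rt 1) c0 (dec (row0.2.getD 0 0))) (dec (row0.2.getD 0 0)) ≠ 0 ∧
    (List.ofFn fun i : Fin 24 => (decY row0.1).getD i.val 0) = decY row0.1 := by
  decide +kernel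

theorem card_H : Nat.card H = 3265920 := by
  set u := H95.uBase
  set v := H95.vBase
  set M : Subgroup Co0 := MulAction.stabilizer Co0 u ⊓ MulAction.stabilizer Co0 v with hM
  have hv : H95.ldot v v = 32 := H95.vBase_norm
  have hu : H95.ldot u u = 48 := H95.uBase_norm
  have huv : H95.ldot u v = 24 := H95.uBase_vBase
  have hw : H95.ldot (u - v) (u - v) = 32 := H95.decomp_norm hu hv huv
  have hd : H95.ldot v (u - v) = -8 := by
    rw [sub_eq_add_neg, H95.leechLike.add_right, H95.leechLike.neg_right, hv, H95.ldot_comm, huv]; norm_num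
  have hMc : Nat.card M = 898128000 := by
    have e : MulAction.stabilizer Co0 v ⊓ MulAction.stabilizer Co0 (u - v) = M := by
      ext a
      show a • v = v ∧ a • (u - v) = u - v ↔ a • u = u ∧ a • v = v
      have hs : a • (u - v) = a • u - a • v := by
        rw [sub_eq_add_neg, H95.co0_add, H95.co0_neg, ← sub_eq_add_neg]
      rw [hs]
      constructor
      · rintro ⟨a1, a2⟩; rw [a1, sub_left_inj] at a2; exact ⟨a2, a1⟩
      · rintro ⟨a1, a2⟩; rw [a1, a2]; exact ⟨rfl, rfl⟩
    rw [← e]
    exact (H95.isMcL_stab H95.m22_simple hv hw hd).2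
  have horb := H90.natCard_stabilizer_mul (G := M) H95.xBase (H95.mclSet u v) fun x => by
    constructor
    · intro hx
      obtain ⟨a, a1, a2, a3⟩ := H95.mclSet_transitive hu hv huv H95.xBase_mem hx
      exact ⟨⟨a, a1, a2⟩, a3⟩
    · rintro ⟨⟨a, a1, a2⟩, rfl⟩
      have := H95.smul_mclSet (g := a) H95.xBase_mem
      rwa [show a • H95.uBase = H95.uBase from a1, show a • H95.vBase = H95.vBase from a2] at this
  rw [H95.ncard_mclSet hu hv huv, hMc] at horb
  have e : (MulAction.stabilizer M H95.xBase).map M.subtype = H := by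
    ext a
    constructor
    · rintro ⟨⟨b, hb⟩, hb', rfl⟩; exact ⟨hb, hb'⟩
    · rintro ⟨hb, hb'⟩; exact ⟨⟨a, hb⟩, hb', rfl⟩
  rw [← e, Subgroup.card_map_of_injective M.subtype_injective]
  omega

theorem card_PSU : Nat.card (PSU 4 K 3) = 3265920 := by
  have h := H50.card_PSU_mul hK (n := 4) (by norm_num)
  rw [H50.card_GU hK] at h
  norm_num [Finset.prod_range_succ, Nat.even_iff] at h
  omega

theorem main : Nonempty (H ≃* PSU 4 K 3) := by
  obtain ⟨hm, hu, hc, hB, ha, hne, hl⟩ := row0_ok
  have hy : H95.vecL ((⟨_, H96.Check.checkB_spec hc⟩ : leechLattice) : GolayPt → ℤ)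
      = decY row0.1 := by
    refine Eq.trans ?_ hl
    unfold H95.vecL
    congr 1
    funext i
    show (decY row0.1).getD (H90.idx (H90.pt i)).val 0 = _
    rw [H90.idx_pt]
  refine iso_of_table hK (by norm_num) (by norm_num) (card_H.trans card_PSU.symm)
    (fun i => (mat i).elt) g mat_mem closure_g good ⟨_, H96.Check.checkB_spec hc⟩
    (row0.2.map dec) (dec (row0.2.getD 0 0)) (dec (row0.2.getD 0 0)) 1 ?_ ?_ ha hB ?_
  · rw [hy]; exact hm
  · rw [hy]; exact hu
  · rw [g_apply]; exact hne

theorem stab_iso (u v x : leechLattice) (hu : H95.ldot u u = 48) (hv : H95.ldot v v = 32)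
    (huv : H95.ldot u v = 24) (hx : x ∈ H95.mclSet u v) :
    Nonempty (↥(MulAction.stabilizer Co0 u ⊓ MulAction.stabilizer Co0 v ⊓
      MulAction.stabilizer Co0 x) ≃* PSU 4 K 3) := by
  obtain ⟨a, a1, a2, a3⟩ := H95.exists_triple_std hu hv huv hx
  obtain ⟨E⟩ := main
  have e : H = (MulAction.stabilizer Co0 u ⊓ MulAction.stabilizer Co0 v ⊓
      MulAction.stabilizer Co0 x).map (MulAut.conj a).toMonoidHom := by
    rw [Subgroup.map_inf_eq _ _ _ (MulAut.conj a).injective,
      Subgroup.map_inf_eq _ _ _ (MulAut.conj a).injective,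
      ← MulAction.stabilizer_smul_eq_stabilizer_map_conj,
      ← MulAction.stabilizer_smul_eq_stabilizer_map_conj,
      ← MulAction.stabilizer_smul_eq_stabilizer_map_conj, a1, a2, a3]
  exact ⟨((Subgroup.equivMapOfInjective _ _ (MulAut.conj a).injective).trans
    (MulEquiv.subgroupCongr e.symm)).trans E⟩

end McLU4
end H50
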