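import Cfsg.Agent.H43.Eichler
import Cfsg.Agent.H50.CExt

/-!
Orthogonal groups around a hyperbolic pair: the extension of isometries of the orthogonal
complement, the radical of the stabiliser of a singular vector, and transitivity of `Ω` on singular
vectors.
-/

set_option autoImplicit false

namespace H50.Or

open H43

universe u w w'

/-- The derived subgroup of an orthogonal group, as a group. -/
abbrev Om {F : Type u} [Field F] {V : Type w} [AddCommGroup V] [Module F V]
    (Q : QuadraticForm F V) : Type w :=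
  ↥(commutator (orthGroup Q))

section vecs

variable {F : Type u} [Field F] {V : Type w} [AddCommGroup V] [Module F V] {Q : QuadraticForm F V}

/-- The stabiliser of a vector among the isometries. -/
def stabO (Q : QuadraticForm F V) (x : V) : Subgroup (orthGroup Q) where
  carrier := {g | g.1 x = x}
  one_mem' := rfl
  mul_mem' {a b} ha hb := show (a * b).1 x = x by rw [orth_mul_apply, hb, ha]
  inv_mem' {a} ha := show (a⁻¹).1 x = x by
    conv_lhs => rw [← show a.1 x = x from ha]
    exact orth_inv_apply_self a x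

theorem mem_stabO {x : V} {g : orthGroup Q} : g ∈ stabO Q x ↔ g.1 x = x := Iff.rfl

/-- The stabiliser of a vector in `Ω`. -/
def stab (Q : QuadraticForm F V) (x : V) : Subgroup (Om Q) :=
  (stabO Q x).comap (commutator (orthGroup Q)).subtype

theorem mem_stab {x : V} {g : Om Q} : g ∈ stab Q x ↔ g.1.1 x = x := Iff.rfl

/-- The group of the Eichler transformations at a vector. -/
def radO (Q : QuadraticForm F V) (x : V) : Subgroup (orthGroup Q) :=
  Subgroup.closure {g | ∃ w, polB Q x w = 0 ∧ g = eichler Q x w}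

theorem eichler_mem_radO {x w : V} (h : polB Q x w = 0) : eichler Q x w ∈ radO Q x :=
  Subgroup.subset_closure ⟨w, h, rfl⟩

theorem mem_radO {x : V} (hx : Q x = 0) {g : orthGroup Q} :
    g ∈ radO Q x ↔ ∃ w, polB Q x w = 0 ∧ g = eichler Q x w := by
  refine ⟨fun h => ?_, fun ⟨w, hw, hg⟩ => hg ▸ eichler_mem_radO hw⟩
  induction h using Subgroup.closure_induction with
  | mem g hg => exact hg
  | one => exact ⟨0, map_zero _, (eichler_zero hx).symm⟩
  | mul a b _ _ ha hb =>
    obtain ⟨v, hv, rfl⟩ := ha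
    obtain ⟨v', hv', rfl⟩ := hb
    exact ⟨v + v', by rw [map_add, hv, hv', add_zero], eichler_mul hx hv hv'⟩
  | inv a _ ha =>
    obtain ⟨v, hv, rfl⟩ := ha
    exact ⟨-v, by rw [map_neg, hv, neg_zero], eichler_inv hx hv⟩

/-- The group of the Eichler transformations at a vector, inside `Ω`. -/
def radU (Q : QuadraticForm F V) (x : V) : Subgroup (Om Q) :=
  (radO Q x).comap (commutator (orthGroup Q)).subtype

theorem mem_radU {x : V} (hx : Q x = 0) {g : Om Q} :
    g ∈ radU Q x ↔ ∃ w, polB Q x w = 0 ∧ g.1 = eichler Q x w := mem_radO hx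

theorem eichler_self_fix {x w : V} (hx : Q x = 0) (hxw : polB Q x w = 0) :
    (eichler Q x w).1 x = x :=
  eichler_fix hx hxw (by rw [polB_self, hx, mul_zero]) hxw

theorem radO_le_stabO {x : V} (hx : Q x = 0) : radO Q x ≤ stabO Q x := by
  intro g hg
  obtain ⟨w, hw, rfl⟩ := (mem_radO hx).1 hg
  exact eichler_self_fix hx hw

theorem radU_le_stab {x : V} (hx : Q x = 0) : radU Q x ≤ stab Q x :=
  fun _ h => radO_le_stabO hx h

theorem radO_conj {x : V} (hx : Q x = 0) (l : orthGroup Q) {g : orthGroup Q} (hg : g ∈ radO Q x) :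
    l * g * l⁻¹ ∈ radO Q (l.1 x) := by
  obtain ⟨w, hw, rfl⟩ := (mem_radO hx).1 hg
  rw [eichler_conj l hx hw]
  exact eichler_mem_radO (by rw [orth_polB_map, hw])

theorem radU_conj {x : V} (hx : Q x = 0) (l : Om Q) {g : Om Q} (hg : g ∈ radU Q x) :
    l * g * l⁻¹ ∈ radU Q (l.1.1 x) := radO_conj hx l.1 hg

theorem radU_map_conj {x : V} (hx : Q x = 0) {l : Om Q} (hl : l ∈ stab Q x) :
    (radU Q x).map (MulAut.conj l).toMonoidHom ≤ radU Q x := by
  rintro _ ⟨g, hg, rfl⟩
  have := radU_conj hx l hg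
  rwa [mem_stab.1 hl] at this

/-- Adding a multiple of `x` does not change the Eichler transformation at `x`. -/
theorem eichler_add_smul {x w : V} (hx : Q x = 0) (hxw : polB Q x w = 0) (t : F) :
    eichler Q x (w + t • x) = eichler Q x w := by
  have ht : polB Q x (t • x) = 0 := by rw [map_smul, polB_self, hx, mul_zero, smul_zero]
  rw [← eichler_mul hx hxw ht, mul_eq_left]
  apply orth_ext; intro z
  rw [eichler_apply hx ht, orth_one_apply, qmap_smul, hx, map_smul, smul_eq_mul]
  module

theorem eichler_pow {x w : V} (hx : Q x = 0) (hxw : polB Q x w = 0) (k : ℕ) :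
    eichler Q x w ^ k = eichler Q x ((k : F) • w) := by
  induction k with
  | zero => rw [pow_zero, Nat.cast_zero, zero_smul, eichler_zero hx]
  | succ k ih =>
    rw [pow_succ, ih, eichler_mul hx (by rw [map_smul, hxw, smul_zero]) hxw, Nat.cast_succ,
      add_smul, one_smul]

theorem mul_self_mem [FiniteDimensional F V] [Finite F] (hQ : (polB Q).Nondegenerate)
    (hgen : ReflGenerates F V) (hn : 2 ≤ Module.finrank F V) (g : orthGroup Q) :
    g * g ∈ commutator (orthGroup Q) := by
  rw [commutator_eq_invKer hQ hgen hn, MonoidHom.mem_ker, map_mul]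
  refine Prod.ext ?_ (sqClass_mul_self _)
  show (invHom hQ hgen g).1 * (invHom hQ hgen g).1 = 1
  generalize (invHom hQ hgen g).1 = d
  revert d; decide

open scoped Classical in
/-- An Eichler transformation as an element of `Ω`. -/
noncomputable def el (Q : QuadraticForm F V) (u w : V) : Om Q :=
  if h : eichler Q u w ∈ commutator (orthGroup Q) then ⟨eichler Q u w, h⟩ else 1

variable [FiniteDimensional F V] [Finite F]

theorem eichler_mem_om (hQ : (polB Q).Nondegenerate) (h5 : 5 ≤ Module.finrank F V) {u v : V}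
    (hu : Q u = 0) (huv : polB Q u v = 0) : eichler Q u v ∈ commutator (orthGroup Q) := by
  rw [commutator_eq_eichlerSub hQ h5]; exact eichler_mem hu huv

theorem coe_el (hQ : (polB Q).Nondegenerate) (h5 : 5 ≤ Module.finrank F V) {u v : V}
    (hu : Q u = 0) (huv : polB Q u v = 0) : (el Q u v).1 = eichler Q u v := by
  rw [el, dif_pos (eichler_mem_om hQ h5 hu huv)]

theorem el_mem_radU (hQ : (polB Q).Nondegenerate) (h5 : 5 ≤ Module.finrank F V) {u v : V}
    (hu : Q u = 0) (huv : polB Q u v = 0) : el Q u v ∈ radU Q u :=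
  (mem_radU hu).2 ⟨v, huv, coe_el hQ h5 hu huv⟩

theorem el_conj (hQ : (polB Q).Nondegenerate) (h5 : 5 ≤ Module.finrank F V) (g : Om Q) {u v : V}
    (hu : Q u = 0) (huv : polB Q u v = 0) :
    g * el Q u v * g⁻¹ = el Q (g.1.1 u) (g.1.1 v) := by
  apply Subtype.ext
  show g.1 * (el Q u v).1 * g.1⁻¹ = _
  rw [coe_el hQ h5 hu huv, eichler_conj g.1 hu huv,
    coe_el hQ h5 (by rw [orth_qmap, hu]) (by rw [orth_polB_map, huv])]

theorem el_mul (hQ : (polB Q).Nondegenerate) (h5 : 5 ≤ Module.finrank F V) {u v v' : V}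
    (hu : Q u = 0) (huv : polB Q u v = 0) (huv' : polB Q u v' = 0) :
    el Q u v * el Q u v' = el Q u (v + v') := by
  apply Subtype.ext
  show (el Q u v).1 * (el Q u v').1 = _
  rw [coe_el hQ h5 hu huv, coe_el hQ h5 hu huv', eichler_mul hu huv huv',
    coe_el hQ h5 hu (by rw [map_add, huv, huv', add_zero])]

theorem el_zero (hQ : (polB Q).Nondegenerate) (h5 : 5 ≤ Module.finrank F V) {u : V}
    (hu : Q u = 0) : el Q u 0 = 1 :=
  Subtype.ext (by rw [coe_el hQ h5 hu (map_zero _), eichler_zero hu]; rfl)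

variable {p : ℕ} [Fact p.Prime] [CharP F p]

omit [Fact p.Prime] in
theorem isPEl_el (hQ : (polB Q).Nondegenerate) (h5 : 5 ≤ Module.finrank F V) {u v : V}
    (hu : Q u = 0) (huv : polB Q u v = 0) : CExt.IsPEl p (el Q u v) :=
  ⟨1, Subtype.ext (by
    show (el Q u v).1 ^ p ^ 1 = 1
    rw [pow_one, coe_el hQ h5 hu huv, eichler_pow hu huv, CharP.cast_eq_zero, zero_smul,
      eichler_zero hu])⟩

omit [Fact p.Prime] in
theorem closure_el (hQ : (polB Q).Nondegenerate) (h5 : 5 ≤ Module.finrank F V) (g : Om Q) :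
    g ∈ Subgroup.closure
      {e : Om Q | ∃ u v, Q u = 0 ∧ Q v = 0 ∧ polB Q u v = 0 ∧ e = el Q u v} := by
  set K := Subgroup.closure
      {e : Om Q | ∃ u v, Q u = 0 ∧ Q v = 0 ∧ polB Q u v = 0 ∧ e = el Q u v}
  have h1 : g.1 ∈ K.map (commutator (orthGroup Q)).subtype := by
    rw [MonoidHom.map_closure]
    refine Subgroup.closure_mono ?_
      ((SetLike.ext_iff.1 (commutator_eq_closure_singular hQ h5) g.1).1 g.2)
    rintro _ ⟨u, v, hu, hv, huv, rfl⟩
    exact ⟨el Q u v, ⟨u, v, hu, hv, huv, rfl⟩, coe_el hQ h5 hu huv⟩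
  obtain ⟨g', hg', he⟩ := h1
  rwa [← show g' = g from Subtype.ext he]

omit [Fact p.Prime] in
theorem pGen_top (hQ : (polB Q).Nondegenerate) (h5 : 5 ≤ Module.finrank F V) :
    CExt.PGen p (⊤ : Subgroup (Om Q)) := by
  refine le_antisymm le_top fun g _ => Subgroup.closure_mono ?_ (closure_el hQ h5 g)
  rintro _ ⟨u, v, hu, -, huv, rfl⟩
  exact ⟨isPEl_el hQ h5 hu huv, trivial⟩

end vecs

/-- A hyperbolic pair with a model of its orthogonal complement. -/
structure Frame {F : Type u} [Field F] {V : Type w} [AddCommGroup V] [Module F V]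
    (Q : QuadraticForm F V) (x y : V) {W : Type w'} [AddCommGroup W] [Module F W]
    (Q' : QuadraticForm F W) where
  nd : (polB Q).Nondegenerate
  pair : HypPair Q x y
  j : W →ₗ[F] V
  inj : Function.Injective j
  form : ∀ a, Q (j a) = Q' a
  orth : ∀ a, polB Q x (j a) = 0 ∧ polB Q y (j a) = 0
  surj : ∀ z, polB Q x z = 0 → polB Q y z = 0 → ∃ a, j a = z

theorem exists_frame {F : Type u} [Field F] {V : Type w} [AddCommGroup V] [Module F V]
    {Q : QuadraticForm F V} (hQ : (polB Q).Nondegenerate) {x y : V} (h : HypPair Q x y) :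
    Nonempty (Frame Q x y (Q.restrict ((polB Q).orthogonal (Submodule.span F {x, y})))) :=
  ⟨{ nd := hQ
     pair := h
     j := Submodule.subtype _
     inj := Subtype.val_injective
     form := fun _ => rfl
     orth := fun a => mem_orth_pair.1 a.2
     surj := fun z h1 h2 => ⟨⟨z, mem_orth_pair.2 ⟨h1, h2⟩⟩, rfl⟩ }⟩

namespace Frame

variable {F : Type u} [Field F] {V : Type w} [AddCommGroup V] [Module F V] {Q : QuadraticForm F V}
  {W : Type w'} [AddCommGroup W] [Module F W] {Q' : QuadraticForm F W} {x y : V}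
  (fr : Frame Q x y Q')

include fr in
theorem qx : Q x = 0 := fr.pair.left

theorem bform (a b : W) : polB Q (fr.j a) (fr.j b) = polB Q' a b := by
  rw [polB_apply, polB_apply, QuadraticMap.polar, QuadraticMap.polar, ← map_add, fr.form, fr.form,
    fr.form]

theorem orth' (a : W) : polB Q (fr.j a) x = 0 ∧ polB Q (fr.j a) y = 0 :=
  ⟨by rw [polB_comm]; exact (fr.orth a).1, by rw [polB_comm]; exact (fr.orth a).2⟩

/-- The projection to the pair's orthogonal complement. -/
def projV : V →ₗ[F] V :=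
  LinearMap.id - ((polB Q).flip y).smulRight x - ((polB Q).flip x).smulRight y

theorem projV_apply (z : V) :
    projV (Q := Q) (x := x) (y := y) z = z - polB Q z y • x - polB Q z x • y := by
  simp [projV]

include fr in
theorem projV_orth (z : V) : polB Q x (projV (Q := Q) (x := x) (y := y) z) = 0 ∧
    polB Q y (projV (Q := Q) (x := x) (y := y) z) = 0 := by
  have h1 := fr.pair.pair
  have h2 := fr.pair.symm.pair
  have h3 : polB Q x x = 0 := by rw [polB_self, fr.pair.left, mul_zero]
  have h4 : polB Q y y = 0 := by rw [polB_self, fr.pair.right, mul_zero]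
  simp [projV_apply, h1, h2, h3, h4, polB_comm z x, polB_comm z y]

/-- Coordinates of the component in the complement. -/
noncomputable def P : V →ₗ[F] W :=
  (LinearEquiv.ofInjective fr.j fr.inj).symm.toLinearMap.comp
    ((projV (Q := Q) (x := x) (y := y)).codRestrict (LinearMap.range fr.j) fun z =>
      fr.surj _ (projV_orth fr z).1 (projV_orth fr z).2)

theorem j_P (z : V) : fr.j (fr.P z) = z - polB Q z y • x - polB Q z x • y := by
  rw [← projV_apply]
  exact congrArg Subtype.val ((LinearEquiv.ofInjective fr.j fr.inj).apply_symm_apply _)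

theorem decomp (z : V) : z = polB Q z y • x + polB Q z x • y + fr.j (fr.P z) := by
  rw [j_P]; abel

theorem P_j (a : W) : fr.P (fr.j a) = a := by
  apply fr.inj
  rw [j_P, (fr.orth' a).1, (fr.orth' a).2, zero_smul, zero_smul, sub_zero, sub_zero]

theorem P_x : fr.P x = 0 := by
  apply fr.inj
  rw [j_P, fr.pair.pair, polB_self, fr.pair.left]
  simp

theorem P_y : fr.P y = 0 := by
  apply fr.inj
  rw [j_P, fr.pair.symm.pair, polB_self, fr.pair.right]
  simp

theorem b_P (z : V) (a : W) : polB Q z (fr.j a) = polB Q' (fr.P z) a := by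
  conv_lhs => rw [fr.decomp z]
  simp [(fr.orth a).1, (fr.orth a).2, fr.bform]

include fr in
theorem nd' : (polB Q').Nondegenerate := by
  have key : ∀ a : W, (∀ b, polB Q' b a = 0) → a = 0 := fun a ha => fr.inj (by
    rw [map_zero]
    exact fr.nd.2 _ fun z => by rw [fr.b_P, ha])
  exact ⟨fun a ha => key a fun b => by rw [polB_comm]; exact ha b, fun a ha => key a ha⟩

include fr in
theorem finite_dim [FiniteDimensional F V] : FiniteDimensional F W :=
  Module.Finite.of_injective fr.j fr.inj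

include fr in
theorem finrank_eq [FiniteDimensional F V] :
    Module.finrank F W + 2 = Module.finrank F V := by
  haveI := fr.finite_dim
  let e : V ≃ₗ[F] (F × F) × W :=
    LinearEquiv.ofBijective ((((polB Q).flip y).prod ((polB Q).flip x)).prod fr.P)
      ⟨fun a b h => by
        have h1 : polB Q a y = polB Q b y := congrArg (fun q => q.1.1) h
        have h2 : polB Q a x = polB Q b x := congrArg (fun q => q.1.2) h
        have h3 : fr.P a = fr.P b := congrArg (fun q => q.2) h
        rw [fr.decomp a, fr.decomp b, h1, h2, h3],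
      fun ⟨⟨a, b⟩, c⟩ => ⟨a • x + b • y + fr.j c, by
        have h3 : polB Q x x = 0 := by rw [polB_self, fr.pair.left, mul_zero]
        have h4 : polB Q y y = 0 := by rw [polB_self, fr.pair.right, mul_zero]
        simp [fr.pair.pair, fr.pair.symm.pair, h3, h4, (fr.orth' c).1, (fr.orth' c).2, fr.P_x,
          fr.P_y, fr.P_j]⟩⟩
  rw [e.finrank_eq, Module.finrank_prod, Module.finrank_prod, Module.finrank_self]
  omega

/-- The linear map extending an isometry of the complement. -/
noncomputable def extLin (g : orthGroup Q') : V →ₗ[F] V :=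
  LinearMap.id + fr.j.comp (((g.1 : W →ₗ[F] W) - LinearMap.id).comp fr.P)

theorem extLin_apply (g : orthGroup Q') (z : V) :
    fr.extLin g z = z + fr.j (g.1 (fr.P z) - fr.P z) := rfl

theorem extLin_qmap (g : orthGroup Q') (z : V) : Q (fr.extLin g z) = Q z := by
  rw [extLin_apply, qmap_add, fr.form, fr.b_P]
  have h := qmap_add (Q := Q') (fr.P z) (g.1 (fr.P z) - fr.P z)
  rw [add_sub_cancel, orth_qmap] at h
  linear_combination -h

variable [FiniteDimensional F V]

/-- The extension of isometries of the complement. -/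
noncomputable def ext : orthGroup Q' →* orthGroup Q :=
  MonoidHom.mk' (fun g => ofIsometry fr.nd (fr.extLin g) (fr.extLin_qmap g)) fun g h => by
    apply orth_ext; intro z
    rw [orth_mul_apply, ofIsometry_apply, ofIsometry_apply, ofIsometry_apply, extLin_apply,
      extLin_apply, extLin_apply, orth_mul_apply]
    simp only [map_add, map_sub, fr.P_j]
    abel

theorem ext_apply (g : orthGroup Q') (z : V) :
    (fr.ext g).1 z = z + fr.j (g.1 (fr.P z) - fr.P z) := rfl

theorem ext_x (g : orthGroup Q') : (fr.ext g).1 x = x := by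
  rw [ext_apply, fr.P_x, map_zero, sub_self, map_zero, add_zero]

theorem ext_y (g : orthGroup Q') : (fr.ext g).1 y = y := by
  rw [ext_apply, fr.P_y, map_zero, sub_self, map_zero, add_zero]

theorem ext_j (g : orthGroup Q') (a : W) : (fr.ext g).1 (fr.j a) = fr.j (g.1 a) := by
  rw [ext_apply, fr.P_j, map_sub, add_sub_cancel]

theorem ext_inj : Function.Injective fr.ext := fun g h e => orth_ext fun a => fr.inj (by
  rw [← fr.ext_j, ← fr.ext_j, e])

theorem eq_ext {g : orthGroup Q} (h : orthGroup Q') (hx : g.1 x = x) (hy : g.1 y = y)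
    (hj : ∀ a, g.1 (fr.j a) = fr.j (h.1 a)) : g = fr.ext h := orth_ext fun z => by
  rw [fr.decomp z]
  simp only [map_add, map_smul, hx, hy, hj, ext_x, ext_y, ext_j]

theorem ext_refl (a : W) : fr.ext (refl Q' a) = refl Q (fr.j a) := by
  symm
  apply fr.eq_ext
  · exact refl_fix (fr.orth a).1
  · exact refl_fix (fr.orth a).2
  · intro b
    rw [refl_apply, refl_apply, fr.bform, fr.form, map_sub, map_smul]

theorem ext_eichler {a b : W} (ha : Q' a = 0) (hab : polB Q' a b = 0) :
    fr.ext (eichler Q' a b) = eichler Q (fr.j a) (fr.j b) := by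
  symm
  have ha' : Q (fr.j a) = 0 := by rw [fr.form, ha]
  have hab' : polB Q (fr.j a) (fr.j b) = 0 := by rw [fr.bform, hab]
  apply fr.eq_ext
  · exact eichler_fix ha' hab' (fr.orth a).1 (fr.orth b).1
  · exact eichler_fix ha' hab' (fr.orth a).2 (fr.orth b).2
  · intro c
    rw [eichler_apply ha' hab', eichler_apply ha hab, fr.bform, fr.bform, fr.form]
    simp only [map_add, map_sub, map_smul]

theorem exists_ext {g : orthGroup Q} (hx : g.1 x = x) (hy : g.1 y = y) :
    ∃ h, g = fr.ext h := by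
  haveI := fr.finite_dim
  let f : W →ₗ[F] W := fr.P.comp ((g.1 : V →ₗ[F] V).comp fr.j)
  have hf : ∀ a, fr.j (f a) = g.1 (fr.j a) := fun a => by
    show fr.j (fr.P (g.1 (fr.j a))) = _
    rw [j_P]
    have h1 : polB Q (g.1 (fr.j a)) x = 0 := by
      have h := orth_polB_map g (fr.j a) x
      rwa [hx, (fr.orth' a).1] at h
    have h2 : polB Q (g.1 (fr.j a)) y = 0 := by
      have h := orth_polB_map g (fr.j a) y
      rwa [hy, (fr.orth' a).2] at h
    rw [h1, h2, zero_smul, zero_smul, sub_zero, sub_zero]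
  refine ⟨ofIsometry fr.nd' f fun a => by rw [← fr.form, hf, orth_qmap, fr.form],
    fr.eq_ext _ hx hy fun a => (hf a).symm⟩

/-- The Eichler transformation at `x` with the given coordinates. -/
noncomputable def E (a : W) : orthGroup Q := eichler Q x (fr.j a)

theorem E_x (a : W) : (fr.E a).1 x = x := eichler_self_fix fr.qx (fr.orth a).1

theorem E_y (a : W) : (fr.E a).1 y = y + fr.j a - Q' a • x := by
  rw [E, eichler_apply fr.qx (fr.orth a).1, fr.pair.symm.pair, (fr.orth a).2, fr.form]
  simp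

theorem E_j (a b : W) : (fr.E a).1 (fr.j b) = fr.j b - polB Q' b a • x := by
  rw [E, eichler_apply fr.qx (fr.orth a).1, (fr.orth' b).1, fr.bform]
  simp

theorem E_mul (a b : W) : fr.E a * fr.E b = fr.E (a + b) := by
  rw [E, E, E, eichler_mul fr.qx (fr.orth a).1 (fr.orth b).1, map_add]

theorem E_zero : fr.E 0 = 1 := by rw [E, map_zero, eichler_zero fr.qx]

theorem E_inv (a : W) : (fr.E a)⁻¹ = fr.E (-a) :=
  inv_eq_of_mul_eq_one_right (by rw [E_mul, add_neg_cancel, E_zero])

theorem E_inj {a b : W} (h : fr.E a = fr.E b) : a = b := by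
  have h1 := congrArg (fun g : orthGroup Q => fr.P (g.1 y)) h
  simpa [E_y, fr.P_x, fr.P_y, fr.P_j] using h1

theorem eichler_eq_E {v : V} (hv : polB Q x v = 0) : eichler Q x v = fr.E (fr.P v) := by
  rw [E, j_P, polB_comm v x, hv, zero_smul, sub_zero, sub_eq_add_neg, ← neg_smul,
    eichler_add_smul fr.qx hv]

theorem mem_radO_iff {g : orthGroup Q} : g ∈ radO Q x ↔ ∃ a, g = fr.E a := by
  rw [mem_radO fr.qx]
  exact ⟨fun ⟨v, hv, hg⟩ => ⟨fr.P v, hg.trans (fr.eichler_eq_E hv)⟩,
    fun ⟨a, ha⟩ => ⟨fr.j a, (fr.orth a).1, ha⟩⟩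

theorem ext_conj_E (h : orthGroup Q') (a : W) :
    fr.ext h * fr.E a * (fr.ext h)⁻¹ = fr.E (h.1 a) := by
  rw [E, E, eichler_conj _ fr.qx (fr.orth a).1, ext_x, ext_j]

/-- The stabiliser of a singular vector. -/
theorem stab_decomp {g : orthGroup Q} (hg : g.1 x = x) : ∃ a h, g = fr.E a * fr.ext h := by
  set a := fr.P (g.1 y)
  have h1 : polB Q (g.1 y) x = 1 := by
    have h := orth_polB_map g y x
    rwa [hg, fr.pair.symm.pair] at h
  have hy : (fr.E a).1 y = g.1 y := by
    have hd := fr.decomp (g.1 y)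
    rw [h1, one_smul] at hd
    have hq : polB Q (g.1 y) y = -Q' a := by
      have h2 : Q (polB Q (g.1 y) y • x + y + fr.j a) = 0 := by
        rw [← hd, orth_qmap, fr.pair.right]
      generalize polB Q (g.1 y) y = ξ at h2 ⊢
      simp [qmap_add, qmap_smul, fr.pair.left, fr.pair.right, fr.form, fr.pair.pair, (fr.orth a).1,
        (fr.orth a).2] at h2
      linear_combination h2
    rw [E_y, hd, hq]
    module
  obtain ⟨h, hh⟩ := fr.exists_ext (g := (fr.E a)⁻¹ * g)
    (by
      have h := orth_inv_apply_self (fr.E a) x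
      rw [fr.E_x] at h
      rw [orth_mul_apply, hg, h])
    (by rw [orth_mul_apply, ← hy, orth_inv_apply_self])
  exact ⟨a, h, by rw [← hh, mul_inv_cancel_left]⟩

theorem E_eq_ext {a : W} {h : orthGroup Q'} (e : fr.E a = fr.ext h) : a = 0 := by
  have h1 := congrArg (fun g : orthGroup Q => fr.P (g.1 y)) e
  simpa [E_y, fr.P_x, fr.P_y, fr.P_j, fr.ext_y] using h1

theorem hscale_conj_E {l : F} (hl : l ≠ 0) (a : W) :
    hscale Q x y l * fr.E a * (hscale Q x y l)⁻¹ = fr.E (l • a) := by
  rw [E, E, eichler_conj _ fr.qx (fr.orth a).1, hscale_left fr.pair hl,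
    hscale_fix fr.pair hl (fr.orth' a).1 (fr.orth' a).2]
  have := eichler_smul_left (Q := Q) (u := x) (w := fr.j (l • a)) fr.qx (fr.orth _).1 hl
  rwa [map_smul, smul_smul, inv_mul_cancel₀ hl, one_smul, ← map_smul] at this

theorem hscale_comm_ext {l : F} (hl : l ≠ 0) (h : orthGroup Q') :
    Commute (hscale Q x y l) (fr.ext h) := by
  refine orth_ext fun z => ?_
  rw [orth_mul_apply, orth_mul_apply, fr.decomp z]
  simp only [map_add, map_smul, ext_x, ext_y, ext_j, hscale_left fr.pair hl,
    hscale_right fr.pair hl, hscale_fix fr.pair hl (fr.orth' _).1 (fr.orth' _).2]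

theorem ext_mem {h : orthGroup Q'} (hh : h ∈ commutator (orthGroup Q')) :
    fr.ext h ∈ commutator (orthGroup Q) := by
  have h1 := Subgroup.mem_map_of_mem fr.ext hh
  rw [commutator_def, Subgroup.map_commutator] at h1
  exact Subgroup.commutator_mono le_top le_top h1

/-- The extension on the derived subgroups. -/
noncomputable def extOm : Om Q' →* Om Q :=
  (fr.ext.comp (commutator (orthGroup Q')).subtype).codRestrict _ fun h => fr.ext_mem h.2

theorem coe_extOm (h : Om Q') : (fr.extOm h).1 = fr.ext h.1 := rfl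

theorem extOm_inj : Function.Injective fr.extOm := fun _ _ e =>
  Subtype.ext (fr.ext_inj (congrArg Subtype.val e))

variable [Finite F]

theorem invHom_ext (hgV : ReflGenerates F V) (hgW : ReflGenerates F W) [FiniteDimensional F W]
    (h : orthGroup Q') :
    invHom fr.nd hgV (fr.ext h) = invHom fr.nd' hgW h := by
  have key : (invHom fr.nd hgV).comp fr.ext = invHom fr.nd' hgW := by
    refine MonoidHom.eq_of_eqOn_dense (closure_reflSet fr.nd' hgW) ?_
    rintro _ ⟨a, ha, rfl⟩
    rw [MonoidHom.comp_apply, fr.ext_refl, invHom_refl _ _ (by rwa [fr.form]), invHom_refl _ _ ha,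
      fr.form]
  exact DFunLike.congr_fun key h

theorem mem_of_ext_mem (h7 : 7 ≤ Module.finrank F V) {h : orthGroup Q'}
    (hh : fr.ext h ∈ commutator (orthGroup Q)) : h ∈ commutator (orthGroup Q') := by
  haveI := fr.finite_dim
  have := fr.finrank_eq
  have hgV : ReflGenerates F V := Or.inr (by omega)
  have hgW : ReflGenerates F W := Or.inr (by omega)
  rw [commutator_eq_invKer fr.nd hgV (by omega), MonoidHom.mem_ker, fr.invHom_ext hgV hgW] at hh
  rw [commutator_eq_invKer fr.nd' hgW (by omega), MonoidHom.mem_ker, hh]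

theorem range_extOm (h7 : 7 ≤ Module.finrank F V) :
    fr.extOm.range = stab Q x ⊓ stab Q y := by
  refine le_antisymm ?_ fun g hg => ?_
  · rintro _ ⟨h, rfl⟩
    exact ⟨fr.ext_x h.1, fr.ext_y h.1⟩
  · obtain ⟨h, hh⟩ := fr.exists_ext hg.1 hg.2
    exact ⟨⟨h, fr.mem_of_ext_mem h7 (hh ▸ g.2)⟩, Subtype.ext hh.symm⟩

theorem E_mem (h5 : 5 ≤ Module.finrank F V) (a : W) : fr.E a ∈ commutator (orthGroup Q) :=
  eichler_mem_om fr.nd h5 fr.qx (fr.orth a).1

include fr in
theorem stab_eq_sup (h5 : 5 ≤ Module.finrank F V) :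
    stab Q x = radU Q x ⊔ (stab Q x ⊓ stab Q y) ∧ radU Q x ⊓ (stab Q x ⊓ stab Q y) = ⊥ := by
  refine ⟨le_antisymm (fun g hg => ?_) (sup_le (radU_le_stab fr.qx) inf_le_left), ?_⟩
  · obtain ⟨a, h, e⟩ := fr.stab_decomp (show g.1.1 x = x from hg)
    rw [← mul_inv_cancel_left (⟨fr.E a, fr.E_mem h5 a⟩ : Om Q) g]
    refine Subgroup.mul_mem_sup (fr.mem_radO_iff.2 ⟨a, rfl⟩) ?_
    have h1 : (fr.E a)⁻¹ * g.1 = fr.ext h := by rw [e, inv_mul_cancel_left]
    exact ⟨show ((fr.E a)⁻¹ * g.1).1 x = x by rw [h1, fr.ext_x],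
      show ((fr.E a)⁻¹ * g.1).1 y = y by rw [h1, fr.ext_y]⟩
  · refine eq_bot_iff.2 fun g hg => Subgroup.mem_bot.2 (Subtype.ext ?_)
    obtain ⟨a, ha⟩ := fr.mem_radO_iff.1 (show g.1 ∈ radO Q x from hg.1)
    obtain ⟨h, hh⟩ := fr.exists_ext (g := g.1) hg.2.1 hg.2.2
    rw [ha, fr.E_eq_ext (ha.symm.trans hh), fr.E_zero]
    rfl

theorem exists_inv_eq (hgV : ReflGenerates F V) (hW : 2 ≤ Module.finrank F W)
    (c : Multiplicative (ZMod 2) × SqClass F) :
    ∃ k : orthGroup Q', invHom fr.nd hgV (fr.ext k) = c := by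
  haveI := fr.finite_dim
  obtain ⟨d, s⟩ := c
  obtain ⟨a, ha, rfl⟩ := sqc_surjective s
  obtain ⟨v, hv, hva⟩ := exists_refl_qmap fr.nd' hW ha
  obtain ⟨v', hv', hv1⟩ := exists_refl_qmap fr.nd' hW (one_ne_zero (α := F))
  have hd : d = 1 ∨ d = Multiplicative.ofAdd 1 := by revert d; decide
  have key : ∀ {b : W}, Q' b ≠ 0 →
      invHom fr.nd hgV (fr.ext (refl Q' b)) = (Multiplicative.ofAdd 1, sqc (Q' b)) := fun {b} hb => by
    rw [fr.ext_refl, invHom_refl _ _ (by rwa [fr.form]), fr.form]
  rcases hd with rfl | rfl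
  · refine ⟨refl Q' v * refl Q' v', ?_⟩
    rw [map_mul, map_mul, key hv, key hv', hva, hv1, sqc_one]
    exact Prod.ext (by show Multiplicative.ofAdd (1 : ZMod 2) * Multiplicative.ofAdd 1 = 1; rfl)
      (mul_one _)
  · exact ⟨refl Q' v, by rw [key hv, hva]⟩

end Frame

variable {F : Type u} [Field F] [Finite F] {V : Type w} [AddCommGroup V] [Module F V]
  [FiniteDimensional F V] {Q : QuadraticForm F V}

/-- An element of `Ω` with the same effect on a singular vector. -/
theorem exists_om_map (hQ : (polB Q).Nondegenerate) (h5 : 5 ≤ Module.finrank F V) {x : V}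
    {g : orthGroup Q} (hx : x ≠ 0) (hx0 : Q x = 0) :
    ∃ l : Om Q, l.1.1 x = g.1 x := by
  have hy0 : g.1 x ≠ 0 := fun h => hx (g.1.injective (h.trans (map_zero _).symm))
  have hy : Q (g.1 x) = 0 := by rw [orth_qmap, hx0]
  obtain ⟨y, hp⟩ := exists_hypPair hQ hy hy0
  obtain ⟨fr⟩ := exists_frame hQ hp
  have hgen : ReflGenerates F V := Or.inr (by omega)
  have := fr.finrank_eq
  obtain ⟨k, hk⟩ := fr.exists_inv_eq hgen (by omega) (invHom fr.nd hgen g)⁻¹
  refine ⟨⟨fr.ext k * g, ?_⟩, ?_⟩
  · rw [commutator_eq_invKer fr.nd hgen (by omega), MonoidHom.mem_ker, map_mul, hk, inv_mul_cancel]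
  · show (fr.ext k * g).1 x = _
    rw [orth_mul_apply, fr.ext_x]

/-- `Ω` is transitive on non-zero singular vectors. -/
theorem om_transitive (hQ : (polB Q).Nondegenerate) (h5 : 5 ≤ Module.finrank F V) {x y : V}
    (hx : x ≠ 0) (hx0 : Q x = 0) (hy : y ≠ 0) (hy0 : Q y = 0) : ∃ l : Om Q, l.1.1 x = y := by
  obtain ⟨g, hg⟩ := exists_orth_map hQ hx hy (hx0.trans hy0.symm)
  obtain ⟨l, hl⟩ := exists_om_map hQ h5 (g := g) hx hx0
  exact ⟨l, hl.trans hg⟩

end H50.Or
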