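import Cfsg.Agent.H50.OrFrame
import Cfsg.Agent.H50.CExtCrit
import Cfsg.Agent.H50.PPart

/-!
The `p`-part of central extensions of `Ω` in characteristic `p`: an element of order `p` of the
kernel lying in the derived group is trivial when the radicals of singular vectors split, by
recursion of `p`-groups through stabilisers of singular vectors.
-/

set_option autoImplicit false

namespace H50.Or

open H43
open scoped commutatorElement

universe u v w

section
variable {F : Type u} [Field F] [Finite F] {V : Type w} [AddCommGroup V] [Module F V]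
  [FiniteDimensional F V] {Q : QuadraticForm F V} {p : ℕ} [Fact p.Prime] [CharP F p]

/-- In dimension at least three the number of singular vectors is divisible by `p`. -/
theorem dvd_card_singular (hQ : (polB Q).Nondegenerate) (h3 : 3 ≤ Module.finrank F V) :
    p ∣ Nat.card {z : V // Q z = 0} := by
  classical
  have : Finite V := Module.finite_of_finite F
  obtain ⟨x, hx0, hx⟩ := exists_singular Q h3
  obtain ⟨w, hw, hwx⟩ : ∃ w, polB Q x w = 0 ∧ w ∉ F ∙ x := by
    by_contra h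
    push Not at h
    have h1 : (polB Q).orthogonal (F ∙ x) ≤ F ∙ x := fun z hz => h z (mem_orth_singleton.1 hz)
    have h2 := Submodule.finrank_mono h1
    have h3' := finrank_orth_singleton hQ hx0
    rw [finrank_span_singleton hx0] at h2
    omega
  have hxx : polB Q x x = 0 := by rw [polB_self, hx, mul_zero]
  set e := eichler Q x w
  have hbe : ∀ z, polB Q (e.1 z) x = polB Q z x := fun z => by
    have h := orth_polB_map e z x
    rwa [eichler_self_fix hx hw] at h
  let f : {z : V // Q z = 0} → {z : V // Q z = 0} := fun z =>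
    if h : polB Q z.1 x = 0 then ⟨z.1 + x, by rw [qmap_add, z.2, hx, h]; simp⟩
    else ⟨e.1 z.1, by rw [orth_qmap, z.2]⟩
  have hfb : ∀ z, polB Q (f z).1 x = polB Q z.1 x := fun z => by
    by_cases h : polB Q z.1 x = 0
    · simp [f, h, hxx]
    · simp [f, h, hbe]
  have hinj : Function.Injective f := by
    intro a b hab
    have hb := congrArg (fun c : {z : V // Q z = 0} => polB Q c.1 x) hab
    simp only [hfb] at hb
    have hv := congrArg Subtype.val hab
    by_cases h : polB Q a.1 x = 0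
    · exact Subtype.ext (by simpa [f, h, hb ▸ h] using hv)
    · exact Subtype.ext (e.1.injective (by simpa [f, h, hb ▸ h] using hv))
  let π : Equiv.Perm {z : V // Q z = 0} :=
    Equiv.ofBijective f (Finite.injective_iff_bijective.1 hinj)
  have hπ : ∀ z, π z = f z := fun z => rfl
  have hiter : ∀ (k : ℕ) (z : {z : V // Q z = 0}), ((π ^ k) z).1 =
      if polB Q z.1 x = 0 then z.1 + (k : F) • x else (e ^ k).1 z.1 := by
    intro k
    induction k with
    | zero => intro z; simp [orth_one_apply]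
    | succ k ih =>
      intro z
      rw [pow_succ, Equiv.Perm.mul_apply, ih (π z), hπ, hfb]
      by_cases h : polB Q z.1 x = 0
      · simp only [f, h, if_true, dite_true, Nat.cast_succ, add_smul, one_smul]
        abel
      · simp only [f, h, if_false, dite_false]
        rw [pow_succ, orth_mul_apply]
  have hp : π ^ p = 1 := Equiv.ext fun z => Subtype.ext (by
    rw [hiter, CharP.cast_eq_zero, zero_smul, add_zero, Equiv.Perm.one_apply, eichler_pow hx hw,
      CharP.cast_eq_zero, zero_smul, eichler_zero hx, orth_one_apply, ite_self])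
  have hP : IsPGroup p (Subgroup.zpowers π) := by
    rintro ⟨g, hg⟩
    obtain ⟨i, rfl⟩ := Subgroup.mem_zpowers_iff.1 hg
    refine ⟨1, Subtype.ext ?_⟩
    show (π ^ i) ^ p ^ 1 = 1
    rw [pow_one, ← zpow_natCast, ← zpow_mul, mul_comm, zpow_mul, zpow_natCast, hp, one_zpow]
  have h1 := hP.card_modEq_card_fixedPoints {z : V // Q z = 0}
  have h2 : IsEmpty (MulAction.fixedPoints (Subgroup.zpowers π) {z : V // Q z = 0}) := by
    refine ⟨fun ⟨z, hz⟩ => ?_⟩
    have h := congrArg Subtype.val (hz ⟨π, Subgroup.mem_zpowers π⟩)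
    change (f z).1 = z.1 at h
    by_cases hb : polB Q z.1 x = 0
    · simp [f, hb] at h
      exact hx0 h
    · simp only [f, hb, dite_false, e, eichler_apply hx hw] at h
      refine hwx (Submodule.mem_span_singleton.2
        ⟨(polB Q z.1 x)⁻¹ * (polB Q z.1 w + Q w * polB Q z.1 x), ?_⟩)
      have h' : polB Q z.1 x • w = (polB Q z.1 w + Q w * polB Q z.1 x) • x := by
        rw [add_smul]
        linear_combination (norm := module) h
      rw [mul_smul, ← h', smul_smul, inv_mul_cancel₀ hb, one_smul]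
  rw [show Nat.card (MulAction.fixedPoints (Subgroup.zpowers π) {z : V // Q z = 0}) = 0 from
    Nat.card_of_isEmpty] at h1
  exact (Nat.modEq_zero_iff_dvd).1 h1

/-- A `p`-group of isometries fixes a non-zero singular vector in dimension at least three. -/
theorem exists_fixed_singular (hQ : (polB Q).Nondegenerate) (h3 : 3 ≤ Module.finrank F V)
    {T : Subgroup (orthGroup Q)} (hT : IsPGroup p T) :
    ∃ x : V, x ≠ 0 ∧ Q x = 0 ∧ T ≤ stabO Q x := by
  classical
  have : Finite V := Module.finite_of_finite F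
  letI : MulAction T {z : V // Q z = 0} :=
    { smul := fun g z => ⟨g.1.1 z.1, by rw [orth_qmap, z.2]⟩
      one_smul := fun z => Subtype.ext rfl
      mul_smul := fun g h z => Subtype.ext rfl }
  have h1 := hT.card_modEq_card_fixedPoints {z : V // Q z = 0}
  have h2 : p ∣ Nat.card (MulAction.fixedPoints T {z : V // Q z = 0}) :=
    (Nat.ModEq.dvd_iff h1 (dvd_refl p)).1 (dvd_card_singular hQ h3)
  have h0 : (⟨0, QuadraticMap.map_zero Q⟩ : {z : V // Q z = 0}) ∈
      MulAction.fixedPoints T {z : V // Q z = 0} := fun g => Subtype.ext (map_zero g.1.1)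
  haveI : Nonempty (MulAction.fixedPoints T {z : V // Q z = 0}) := ⟨⟨_, h0⟩⟩
  have h4 : 1 < Nat.card (MulAction.fixedPoints T {z : V // Q z = 0}) :=
    lt_of_lt_of_le (Fact.out : p.Prime).one_lt (Nat.le_of_dvd Nat.card_pos h2)
  obtain ⟨z, hz⟩ := (Set.nontrivial_coe_sort.1
    (Finite.one_lt_card_iff_nontrivial.1 h4)).exists_ne ⟨0, QuadraticMap.map_zero Q⟩
  exact ⟨z.1, fun h => hz.2 (Subtype.ext h), z.2,
    fun g hg => congrArg Subtype.val (hz.1 ⟨g, hg⟩)⟩

/-- A `p`-group of isometries of a space of dimension at most two is cyclic. -/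
theorem exists_cyclic_gen (hQ : (polB Q).Nondegenerate) (h2 : Module.finrank F V ≤ 2)
    {T : Subgroup (orthGroup Q)} (hT : IsPGroup p T) : ∃ g0 : orthGroup Q, ∀ g ∈ T, g = 1 ∨ g = g0 := by
  classical
  have : Finite V := Module.finite_of_finite F
  rcases Nat.eq_zero_or_pos (Module.finrank F V) with h0 | h0
  · have := Module.finrank_zero_iff.1 h0
    exact ⟨1, fun g _ => Or.inl (orth_ext fun z => Subsingleton.elim _ _)⟩
  letI : MulAction T V :=
    { smul := fun g z => g.1.1 z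
      one_smul := fun z => rfl
      mul_smul := fun g h z => rfl }
  have h1 := hT.card_modEq_card_fixedPoints V
  have hd : p ∣ Nat.card V := by
    haveI := Fintype.ofFinite F
    rw [Module.natCard_eq_pow_finrank (K := F)]
    refine dvd_pow ?_ (by omega)
    obtain ⟨k, -, hk⟩ := FiniteField.card F p
    rw [Nat.card_eq_fintype_card, hk]
    exact dvd_pow_self p k.ne_zero
  have h2' : p ∣ Nat.card (MulAction.fixedPoints T V) := (Nat.ModEq.dvd_iff h1 (dvd_refl p)).1 hd
  have hfix0 : (0 : V) ∈ MulAction.fixedPoints T V := fun g => map_zero g.1.1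
  haveI : Nonempty (MulAction.fixedPoints T V) := ⟨⟨_, hfix0⟩⟩
  have h4 : 1 < Nat.card (MulAction.fixedPoints T V) :=
    lt_of_lt_of_le (Fact.out : p.Prime).one_lt (Nat.le_of_dvd Nat.card_pos h2')
  obtain ⟨v, hv⟩ := (Set.nontrivial_coe_sort.1
    (Finite.one_lt_card_iff_nontrivial.1 h4)).exists_ne 0
  have hv0 := hv.2
  have hfix : ∀ g ∈ T, g.1 v = v := fun g hg => hv.1 ⟨g, hg⟩
  by_cases hspan : ∀ u : V, u ∈ F ∙ v
  · refine ⟨1, fun g hg => Or.inl (orth_ext fun z => ?_)⟩
    obtain ⟨t, rfl⟩ := Submodule.mem_span_singleton.1 (hspan z)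
    rw [map_smul, hfix g hg, orth_one_apply]
  push Not at hspan
  obtain ⟨u, hu⟩ := hspan
  have hli : ∀ z, ∃ a b : F, z = a • u + b • v := by
    intro z
    have hl : LinearIndependent F ![u, v] := by
      rw [LinearIndependent.pair_symm_iff, LinearIndependent.pair_iff' hv0]
      exact fun r hr => hu (Submodule.mem_span_singleton.2 ⟨r, hr⟩)
    have htop : Submodule.span F (Set.range ![u, v]) = ⊤ := by
      refine Submodule.eq_top_of_finrank_eq ?_
      rw [finrank_span_eq_card hl, Fintype.card_fin]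
      have := hl.fintype_card_le_finrank
      simp at this
      omega
    have hz : z ∈ Submodule.span F (Set.range ![u, v]) := htop ▸ Submodule.mem_top
    rw [Matrix.range_cons_cons_empty] at hz
    obtain ⟨a, b, h⟩ := Submodule.mem_span_pair.1 hz
    exact ⟨a, b, h.symm⟩
  obtain ⟨c, hc, hc0⟩ : ∃ c ∈ (polB Q).orthogonal (F ∙ v), c ≠ 0 := by
    refine Submodule.exists_mem_ne_zero_of_ne_bot fun hbot => ?_
    have h3 := finrank_orth_singleton hQ hv0
    rw [hbot, finrank_bot] at h3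
    refine hu ?_
    have : (F ∙ v) = ⊤ := Submodule.eq_top_of_finrank_eq (by rw [finrank_span_singleton hv0]; omega)
    rw [this]; trivial
  have hvc : polB Q v c = 0 := mem_orth_singleton.1 hc
  have hall : ∀ z, polB Q v z = 0 → ∃ t : F, z = t • c := by
    intro z hz
    have hle : F ∙ c ≤ (polB Q).orthogonal (F ∙ v) :=
      (Submodule.span_singleton_le_iff_mem _ _).2 hc
    have heq : F ∙ c = (polB Q).orthogonal (F ∙ v) := Submodule.eq_of_le_of_finrank_le hle (by
      rw [finrank_span_singleton hc0]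
      have := finrank_orth_singleton hQ hv0
      omega)
    obtain ⟨t, ht⟩ := Submodule.mem_span_singleton.1
      (heq ▸ (mem_orth_singleton.2 hz) : z ∈ F ∙ c)
    exact ⟨t, ht.symm⟩
  have hmove : ∀ g ∈ T, ∃ t : F, g.1 u = u + t • c ∧ t * (polB Q u c + t * Q c) = 0 := by
    intro g hg
    obtain ⟨t, ht⟩ := hall (g.1 u - u) (by
      have h := orth_polB_map g v u
      rw [hfix g hg] at h
      rw [map_sub, h, sub_self])
    have hgu : g.1 u = u + t • c := by rw [← ht, add_sub_cancel]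
    refine ⟨t, hgu, ?_⟩
    have h := orth_qmap g u
    rw [hgu, qmap_add_smul] at h
    linear_combination h
  have heq : ∀ g h : orthGroup Q, g ∈ T → h ∈ T → g.1 u = h.1 u → g = h := by
    intro g h hg hh e
    refine orth_ext fun z => ?_
    obtain ⟨a, b, rfl⟩ := hli z
    rw [map_add, map_add, map_smul, map_smul, map_smul, map_smul, e, hfix g hg, hfix h hh]
  by_cases hne : ∃ g ∈ T, g ≠ 1
  · obtain ⟨g0, hg0, hg01⟩ := hne
    refine ⟨g0, fun g hg => ?_⟩
    obtain ⟨t, hgu, ht⟩ := hmove g hg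
    obtain ⟨t0, hgu0, ht0⟩ := hmove g0 hg0
    have ht00 : t0 ≠ 0 := fun h => hg01 (heq g0 1 hg0 T.one_mem (by
      rw [hgu0, h, zero_smul, add_zero, orth_one_apply]))
    rcases mul_eq_zero.1 ht with h | h
    · exact Or.inl (heq g 1 hg T.one_mem (by rw [hgu, h, zero_smul, add_zero, orth_one_apply]))
    · refine Or.inr (heq g g0 hg hg0 ?_)
      have h' := (mul_eq_zero.1 ht0).resolve_left ht00
      have hQc : Q c ≠ 0 := by
        intro hq
        rw [hq, mul_zero, add_zero] at h'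
        refine hc0 (hQ.2 c fun z => ?_)
        obtain ⟨a, b, rfl⟩ := hli z
        simp [h', hvc]
      have : t = t0 := mul_right_cancel₀ hQc (by linear_combination h - h')
      rw [hgu, hgu0, this]
  · push Not at hne
    exact ⟨1, fun g hg => Or.inl (hne g hg)⟩

end

section ext
variable {F : Type u} [Field F] [Finite F] {V : Type w} [AddCommGroup V] [Module F V]
  [FiniteDimensional F V] {Q : QuadraticForm F V} {Γ : Type v} [Group Γ] (σ : Γ →* Om Q)

/-- An invariant complement to the kernel over the radical at `x`. -/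
def Good (x : V) : Prop :=
  ∃ N0 : Subgroup Γ, N0.map σ = radU Q x ∧ (∀ a ∈ N0, σ a = 1 → a = 1) ∧
    (stab Q x).comap σ ≤ Subgroup.normalizer (N0 : Set Γ)

omit [Finite F] [FiniteDimensional F V] in
theorem Good.conj {x : V} (hx : Q x = 0) (h : Good σ x) (L : Γ) : Good σ ((σ L).1.1 x) := by
  obtain ⟨N0, h1, h2, h3⟩ := h
  have hx' : Q ((σ L).1.1 x) = 0 := by rw [orth_qmap, hx]
  refine ⟨N0.map (MulAut.conj L).toMonoidHom, ?_, ?_, ?_⟩
  · apply le_antisymm
    · rintro _ ⟨_, ⟨a, ha, rfl⟩, rfl⟩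
      show σ (L * a * L⁻¹) ∈ _
      rw [map_mul, map_mul, map_inv]
      exact radU_conj hx _ (h1.le ⟨a, ha, rfl⟩)
    · intro g hg
      have hxx : ((σ L)⁻¹).1.1 ((σ L).1.1 x) = x := orth_inv_apply_self (σ L).1 x
      have hm := radU_conj hx' (σ L)⁻¹ hg
      rw [hxx, inv_inv] at hm
      obtain ⟨a, ha, hag⟩ := h1.ge hm
      refine ⟨L * a * L⁻¹, ⟨a, ha, rfl⟩, ?_⟩
      rw [map_mul, map_mul, map_inv, hag]
      group
  · rintro _ ⟨a, ha, rfl⟩ hk
    have hk' : σ a = 1 := by
      simpa [mul_inv_eq_one] using hk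
    show L * a * L⁻¹ = 1
    rw [h2 a ha hk', mul_one, mul_inv_cancel]
  · intro g hg
    have hg' : L⁻¹ * g * L ∈ (stab Q x).comap σ := by
      show ((σ (L⁻¹ * g * L)).1).1 x = x
      rw [map_mul, map_mul, map_inv]
      show ((σ L).1⁻¹ * (σ g).1 * (σ L).1).1 x = x
      rw [orth_mul_apply, orth_mul_apply, show (σ g).1.1 ((σ L).1.1 x) = (σ L).1.1 x from hg,
        orth_inv_apply_self]
    have hn := Subgroup.mem_normalizer_iff.1 (h3 hg')
    rw [Subgroup.mem_normalizer_iff]
    intro b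
    simp only [Subgroup.mem_map, MulEquiv.coe_toMonoidHom, MulAut.conj_apply]
    constructor
    · rintro ⟨a, ha, rfl⟩
      exact ⟨_, (hn a).1 ha, by group⟩
    · rintro ⟨a, ha, e⟩
      refine ⟨(L⁻¹ * g * L)⁻¹ * a * (L⁻¹ * g * L), (hn _).2 (by
        rw [show (L⁻¹ * g * L) * ((L⁻¹ * g * L)⁻¹ * a * (L⁻¹ * g * L)) * (L⁻¹ * g * L)⁻¹ = a by group]
        exact ha), ?_⟩
      rw [show b = g⁻¹ * (g * b * g⁻¹) * g by group, ← e]
      group

theorem Good.all (hQ : (polB Q).Nondegenerate) (h5 : 5 ≤ Module.finrank F V)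
    (hs : Function.Surjective σ) {x : V} (hx0 : x ≠ 0) (hx : Q x = 0) (h : Good σ x) {z : V}
    (hz0 : z ≠ 0) (hz : Q z = 0) : Good σ z := by
  obtain ⟨l, rfl⟩ := om_transitive hQ h5 hx0 hx hz0 hz
  obtain ⟨L, rfl⟩ := hs l
  exact h.conj σ hx L

variable {p : ℕ} [Fact p.Prime] [CharP F p] (hs : Function.Surjective σ)
  (hc : σ.ker ≤ Subgroup.center Γ)

include hs hc

/-- The recursion through stabilisers of singular vectors. -/
theorem eq_one_embedded (hQ : (polB Q).Nondegenerate) (h5 : 5 ≤ Module.finrank F V)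
    (hgood : ∀ x : V, x ≠ 0 → Q x = 0 → Good σ x) :
    ∀ (k : ℕ) {W : Type w} [AddCommGroup W] [Module F W] [FiniteDimensional F W]
      (Q' : QuadraticForm F W), (polB Q').Nondegenerate → Module.finrank F W = k →
      ∀ ε : orthGroup Q' →* orthGroup Q, Function.Injective ε →
      (∀ x : W, x ≠ 0 → Q' x = 0 → ∃ x' : V, x' ≠ 0 ∧ Q x' = 0 ∧
        (radO Q' x).map ε ≤ radO Q x' ∧ (stabO Q' x).map ε ≤ stabO Q x') →
      ∀ S : Subgroup (Om Q), IsPGroup p S → (∀ s ∈ S, s.1 ∈ ε.range) →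
      ∀ z ∈ ⁅S.comap σ, S.comap σ⁆, σ z = 1 → z ^ p = 1 → z = 1 := by
  intro k
  induction k using Nat.strong_induction_on with
  | _ k IH =>
  intro W _ _ _ Q' hQ' hk ε hε hrad S hS hSε z hz hzk hzp
  let T : Subgroup (orthGroup Q') := (S.map (commutator (orthGroup Q)).subtype).comap ε
  have hT : IsPGroup p T := (hS.map _).comap_of_injective ε hε
  by_cases h3 : 3 ≤ k
  swap
  · -- small dimension: the preimage is abelian
    obtain ⟨g0, hg0⟩ := exists_cyclic_gen hQ' (by omega) hT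
    have htwo : ∀ a b : Γ, σ a ∈ S → σ b ∈ S → ⁅a, b⁆ = 1 := by
      have hval : ∀ a : Γ, σ a ∈ S → σ a = 1 ∨ (σ a).1 = ε g0 := by
        intro a ha
        obtain ⟨t, ht⟩ := hSε _ ha
        rcases hg0 t ⟨σ a, ha, ht.symm⟩ with rfl | rfl
        · exact Or.inl (Subtype.ext (ht.symm.trans (map_one ε)))
        · exact Or.inr ht.symm
      intro a b ha hb
      rw [commutatorElement_eq_one_iff_commute]
      rcases hval a ha with h | h
      · exact (Subgroup.mem_center_iff.1 (hc h) b).symm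
      rcases hval b hb with h' | h'
      · exact Subgroup.mem_center_iff.1 (hc h') a
      have e : a⁻¹ * b ∈ Subgroup.center Γ := hc (by
        rw [MonoidHom.mem_ker, map_mul, map_inv, inv_mul_eq_one]
        exact Subtype.ext (h.trans h'.symm))
      have := Subgroup.mem_center_iff.1 e a
      rw [mul_inv_cancel_left] at this
      show a * b = b * a
      nth_rw 1 [this]
      group
    have : ⁅S.comap σ, S.comap σ⁆ ≤ ⊥ :=
      Subgroup.commutator_le.2 fun a ha b hb => Subgroup.mem_bot.2 (htwo a b ha hb)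
    exact Subgroup.mem_bot.1 (this hz)
  obtain ⟨x, hx0, hx, hTx⟩ := exists_fixed_singular hQ' (by omega) hT
  obtain ⟨y, hp⟩ := exists_hypPair hQ' hx hx0
  obtain ⟨fr⟩ := exists_frame hQ' hp
  obtain ⟨x', hx'0, hx', hradx, hstabx⟩ := hrad x hx0 hx
  obtain ⟨N0, hN0, hN0k, hN0n⟩ := hgood x' hx'0 hx'
  let R : Subgroup (Om Q) := ((radO Q' x).map ε).comap (commutator (orthGroup Q)).subtype
  let C : Subgroup (Om Q) := (ε.comp fr.ext).range.comap (commutator (orthGroup Q)).subtype
  have hRx' : R ≤ radU Q x' := fun r hr => hradx hr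
  have hmemE : ∀ a, ε (fr.E a) ∈ commutator (orthGroup Q) := fun a => by
    obtain ⟨w, hw, e⟩ := (mem_radO hx').1 (hradx ⟨fr.E a, fr.mem_radO_iff.2 ⟨a, rfl⟩, rfl⟩)
    rw [e]; exact eichler_mem_om hQ h5 hx' hw
  have hRp : IsPGroup p R := by
    rintro ⟨r, hr⟩
    obtain ⟨t, ht, e⟩ := hr
    obtain ⟨a, rfl⟩ := fr.mem_radO_iff.1 ht
    refine ⟨1, Subtype.ext (Subtype.ext ?_)⟩
    show r.1 ^ p ^ 1 = 1
    rw [show r.1 = ε (fr.E a) from e.symm, pow_one, ← map_pow, Frame.E,
      eichler_pow hx (fr.orth a).1, CharP.cast_eq_zero, zero_smul, eichler_zero hx, map_one]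
  have hnR : ∀ g : Om Q, g.1 ∈ (stabO Q' x).map ε → ∀ r ∈ R, g * r * g⁻¹ ∈ R := by
    rintro g ⟨t, ht, e⟩ r ⟨t', ht', e'⟩
    refine ⟨t * t' * t⁻¹, ?_, ?_⟩
    · have := radO_conj hx t ht'
      rwa [show t.1 x = x from ht] at this
    · rw [map_mul, map_mul, map_inv, e, e']; rfl
  have hnormR : ∀ H : Subgroup (Om Q), (∀ g ∈ H, g.1 ∈ (stabO Q' x).map ε) →
      H ≤ Subgroup.normalizer (R : Set (Om Q)) := by
    intro H hH g hg
    rw [Subgroup.mem_normalizer_iff]
    refine fun r => ⟨hnR g (hH g hg) r, fun h => ?_⟩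
    have := hnR g⁻¹ (hH g⁻¹ (inv_mem hg)) _ h
    simpa [mul_assoc] using this
  have hSstab : ∀ s ∈ S, s.1 ∈ (stabO Q' x).map ε := fun s hs' => by
    obtain ⟨t, ht⟩ := hSε s hs'
    exact ⟨t, hTx ⟨s, hs', ht.symm⟩, ht⟩
  let S2 : Subgroup (Om Q) := (S ⊔ R) ⊓ C
  have hS2 : IsPGroup p S2 :=
    (hS.to_sup_of_normal_right' hRp (hnormR S hSstab)).to_le inf_le_left
  let N : Subgroup Γ := N0 ⊓ R.comap σ
  let L : Subgroup Γ := S2.comap σ
  have hC : ∀ g ∈ C, g.1 ∈ (stabO Q' x).map ε := by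
    rintro g ⟨h, e⟩
    exact ⟨fr.ext h, fr.ext_x h, e⟩
  have hLs : ∀ g ∈ L, σ g ∈ stab Q x' := fun g hg => hstabx (hC _ hg.2)
  have hnorm : L ≤ Subgroup.normalizer (N : Set Γ) := by
    have key : ∀ g ∈ L, ∀ a ∈ N, g * a * g⁻¹ ∈ N := fun g hg a ha =>
      ⟨(Subgroup.mem_normalizer_iff.1 (hN0n (hLs g hg)) a).1 ha.1, by
        show σ (g * a * g⁻¹) ∈ R
        rw [map_mul, map_mul, map_inv]
        exact hnR _ (hC _ hg.2) _ ha.2⟩
    intro g hg
    rw [Subgroup.mem_normalizer_iff]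
    refine fun a => ⟨key g hg a, fun h => ?_⟩
    have := key g⁻¹ (inv_mem hg) _ h
    simpa [mul_assoc] using this
  have hle : S.comap σ ≤ N ⊔ L := by
    intro g hg
    obtain ⟨t, ht⟩ := hSε _ hg
    obtain ⟨a, h, e⟩ := fr.stab_decomp (show t.1 x = x from hTx ⟨σ g, hg, ht.symm⟩)
    set r : Om Q := ⟨ε (fr.E a), hmemE a⟩
    have hr : r ∈ R := ⟨fr.E a, fr.mem_radO_iff.2 ⟨a, rfl⟩, rfl⟩
    obtain ⟨w, hw, hwr⟩ := hN0.ge (hRx' hr)
    rw [← mul_inv_cancel_left w g]
    refine Subgroup.mul_mem_sup ⟨hw, show σ w ∈ R from hwr ▸ hr⟩ ⟨?_, ?_⟩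
    · show σ (w⁻¹ * g) ∈ S ⊔ R
      rw [map_mul, map_inv, hwr]
      exact mul_mem (inv_mem (Subgroup.mem_sup_right hr)) (Subgroup.mem_sup_left hg)
    · refine ⟨h, ?_⟩
      show ε (fr.ext h) = (σ (w⁻¹ * g)).1
      rw [map_mul, map_inv, hwr]
      show _ = (ε (fr.E a))⁻¹ * (σ g).1
      rw [← ht, e, map_mul, inv_mul_cancel_left]
  have hz2 : z ∈ N ⊔ ⁅L, L⁆ :=
    PPart.sup_commutator_le hnorm (Subgroup.commutator_mono hle hle hz)
  have hLL : ⁅L, L⁆ ≤ L := (Subgroup.commutator_le).2 fun a ha b hb =>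
    mul_mem (mul_mem (mul_mem ha hb) (inv_mem ha)) (inv_mem hb)
  have hz3 : z ∈ ((N ⊔ ⁅L, L⁆ : Subgroup Γ) : Set Γ) := hz2
  rw [Subgroup.coe_mul_of_right_le_normalizer_left _ _ (hLL.trans hnorm)] at hz3
  obtain ⟨a, ⟨ha0, t, ht, hta⟩, b, hb, hab⟩ := hz3
  obtain ⟨c, rfl⟩ := fr.mem_radO_iff.1 ht
  obtain ⟨h, hhb⟩ := (hLL hb).2
  have h4 : fr.E c * fr.ext h = 1 := hε (by
    rw [map_mul, map_one, hta]
    show (σ a).1 * ε (fr.ext h) = 1
    rw [show ε (fr.ext h) = (σ b).1 from hhb]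
    show ((σ a * σ b : Om Q)).1 = _
    rw [← map_mul, show a * b = z from hab, hzk]
    rfl)
  have hc0 : c = 0 := fr.E_eq_ext (h := h⁻¹) (by rw [map_inv]; exact eq_inv_of_mul_eq_one_left h4)
  have ha1 : a = 1 := hN0k a ha0 (Subtype.ext (by
    show (σ a).1 = 1
    rw [show (σ a).1 = ε (fr.E c) from hta.symm, hc0, fr.E_zero, map_one]))
  simp only [ha1, one_mul] at hab
  subst hab
  have hdim := fr.finrank_eq
  refine IH _ (by omega) (Q'.restrict ((polB Q').orthogonal (Submodule.span F {x, y}))) fr.nd' rfl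
    (ε.comp fr.ext) (hε.comp fr.ext_inj) (fun v hv0 hv => ?_) S2 hS2 (fun s hs' => hs'.2) b hb
    hzk hzp
  obtain ⟨v', hv'0, hv', h1, h2⟩ := hrad (fr.j v)
    (fun h0 => hv0 (fr.inj (by rw [h0, map_zero]))) (by rw [fr.form, hv])
  refine ⟨v', hv'0, hv', ?_, ?_⟩
  · rintro _ ⟨g, hg, rfl⟩
    obtain ⟨b', hb', rfl⟩ := (mem_radO hv).1 hg
    refine h1 ⟨fr.ext (eichler _ v b'), ?_, rfl⟩
    rw [SetLike.mem_coe, fr.ext_eichler hv hb']
    exact eichler_mem_radO (by rw [fr.bform, hb'])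
  · rintro _ ⟨g, hg, rfl⟩
    exact h2 ⟨fr.ext g, show (fr.ext g).1 (fr.j v) = fr.j v by
      rw [fr.ext_j, show g.1 v = v from hg], rfl⟩

/-- Elements of order `p` of the kernel in the derived group are trivial. -/
theorem eq_one_of_good [Finite Γ] (hQ : (polB Q).Nondegenerate) (h5 : 5 ≤ Module.finrank F V)
    (hgood : ∀ x : V, x ≠ 0 → Q x = 0 → Good σ x) {z : Γ} (hz : z ∈ commutator Γ) (hzk : σ z = 1)
    (hzp : z ^ p = 1) : z = 1 := by
  haveI : Finite (Om Q) := Finite.of_surjective σ hs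
  obtain ⟨P⟩ := (inferInstance : Nonempty (Sylow p (Om Q)))
  have h := CExt.mem_commutator_comap σ hs hc P.not_dvd_index hz hzk hzp
  exact eq_one_embedded σ hs hc hQ h5 hgood _ Q hQ rfl (MonoidHom.id _) Function.injective_id
    (fun x hx0 hx => ⟨x, hx0, hx, by rw [Subgroup.map_id], by rw [Subgroup.map_id]⟩)
    P P.isPGroup' (fun s _ => ⟨s.1, rfl⟩) z h hzk hzp

end ext

end H50.Or
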