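import Cfsg.Agent.H50.OrSection

/-!
The kernel of a stem extension of `Ω` has order prime to the characteristic, outside
`Ω₇(3)` and `Ω⁺₈(2)`.
-/

set_option autoImplicit false

namespace H50.Or

open H43

universe u v w

variable {F : Type u} [Field F] [Fintype F] {V : Type w} [AddCommGroup V] [Module F V]
  [FiniteDimensional F V] {Q : QuadraticForm F V}

/-- The condition excluding the exceptional cases. -/
def Regular (Q : QuadraticForm F V) : Prop :=
  4 ≤ Fintype.card F ∨ (Fintype.card F = 3 ∧ 8 ≤ Module.finrank F V) ∨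
    (Fintype.card F = 2 ∧ 8 ≤ Module.finrank F V ∧ Cfg Q ∧
      (9 ≤ Module.finrank F V ∨
        ∀ S : Submodule F V, (∀ z ∈ S, Q z = 0) → Module.finrank F S ≤ 3))

omit [FiniteDimensional F V] in
theorem exists_sq_ne {n : ℕ} (h : n < Fintype.card F) (f : Fin n → F) : ∃ r : F, ∀ i, r ≠ f i := by
  classical
  by_contra hno
  push Not at hno
  have hsub : (Finset.univ : Finset F) ⊆ Finset.univ.image f := fun r _ => by
    obtain ⟨i, hi⟩ := hno r
    exact Finset.mem_image.2 ⟨i, Finset.mem_univ _, hi.symm⟩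
  have h1 := Finset.card_le_card hsub
  have h2 := Finset.card_image_le (s := (Finset.univ : Finset (Fin n))) (f := f)
  simp at h1 h2
  omega

variable {Γ : Type v} [Group Γ] [Finite Γ] (σ : Γ →* Om Q) (hs : Function.Surjective σ)
  (hc : σ.ker ≤ Subgroup.center Γ) {p : ℕ} [Fact p.Prime] [CharP F p]
include hs hc

omit [Finite Γ] in
/-- The radicals split when the kernel has exponent `p`. -/
theorem good_regular (hQ : (polB Q).Nondegenerate) (h7 : 7 ≤ Module.finrank F V) (hreg : Regular Q)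
    (hexp : ∀ z, σ z = 1 → z ^ p = 1) {x : V} (hx0 : x ≠ 0) (hx : Q x = 0) : Good σ x := by
  classical
  obtain ⟨y, hp⟩ := exists_hypPair hQ hx hx0
  obtain ⟨fr⟩ := exists_frame hQ hp
  have hdim := fr.finrank_eq
  have hord : (∀ a b, cP fr σ hs a b = 1) → ∀ (g : Γ) a, σ g = eOm fr a → g ^ p = 1 :=
    fun hP g a hg => by
      rw [pow_eq σ hc hexp (g' := la fr σ hs a) (by rw [hg, σ_la]),
        pow_la_eq_one fr h7 σ hs hc hexp hP]
  rcases hreg with hq | ⟨hq, h8⟩ | ⟨hq, h8, hcfg, hts⟩
  · obtain ⟨r, hr⟩ := exists_sq_ne (F := F) (n := 3) (by omega) ![0, 1, -1]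
    have hr0 : r ≠ 0 := hr 0
    have hr1 : r * r ≠ 1 := fun h => by
      rcases mul_self_eq_one_iff.1 h with h | h
      · exact hr 1 h
      · exact hr 2 h
    refine good_of_torus fr h7 σ hs hc ?_ hr0 hr1
    intro a b
    by_cases h2 : p = 2
    · subst h2
      refine cP_eq_one_of_torus fr h7 σ hs hc hr0 (fun h => ?_) a b
      rcases mul_self_eq_one_iff.1 h with h | h
      · exact hr1 h
      · exact hr1 (h.trans (CharTwo.neg_eq 1))
    · exact cP_eq_one_of_odd fr h7 σ hs hc h2 a b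
  · haveI : Fact (Nat.Prime 3) := ⟨by norm_num⟩
    obtain rfl : p = 3 :=
      CharP.eq F (inferInstance : CharP F p) (charP_of_card_eq_prime hq)
    have hP := cP_eq_one_of_odd fr h7 σ hs hc (show (3 : ℕ) ≠ 2 by omega)
    have h3 : (3 : F) = 0 := by exact_mod_cast CharP.cast_eq_zero F 3
    refine good_of_section fr h7 σ hs hc hP (fun c => ?_) ⟨by omega, Or.inl h3⟩
      fun g a hg => ⟨fun h2 => absurd (by linear_combination h3 - h2 : (1 : F) = 0) one_ne_zero,
        fun _ => (pow_three' g).symm.trans (hord hP g a hg)⟩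
    by_contra hne
    push Not at hne
    obtain ⟨h1, h2, h3'⟩ := hne
    have h := Finset.card_le_univ ({0, 1, -1, c} : Finset F)
    have hn : (1 : F) ≠ -1 := fun h => one_ne_zero (α := F) (by linear_combination h3 - h)
    rw [hq, Finset.card_insert_of_notMem (by simp [h1.symm]),
      Finset.card_insert_of_notMem (by simp [hn, h2.symm]),
      Finset.card_insert_of_notMem (by simp [h3'.symm]), Finset.card_singleton] at h
    omega
  · haveI : Fact (Nat.Prime 2) := ⟨by norm_num⟩
    obtain rfl : p = 2 :=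
      CharP.eq F (inferInstance : CharP F p) (charP_of_card_eq_prime hq)
    have h01 : ∀ c : F, c = 0 ∨ c = 1 := by
      intro c
      by_contra hne
      push Not at hne
      have h := Finset.card_le_univ ({0, 1, c} : Finset F)
      rw [hq, Finset.card_insert_of_notMem (by simp [hne.1.symm]),
        Finset.card_insert_of_notMem (by simp [hne.2.symm]), Finset.card_singleton] at h
      omega
    have hP := cP_eq_one_of_two σ hs hc fr h7 h01 hcfg hexp
    refine good_of_section fr h7 σ hs hc hP (fun c => (h01 c).imp_right Or.inl) ⟨by omega, Or.inr ?_⟩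
      fun g a hg => ⟨fun _ => (pow_two g).symm.trans (hord hP g a hg),
        fun h3 => absurd (by linear_combination h3 - (CharTwo.two_eq_zero : (2 : F) = 0)) one_ne_zero⟩
    rcases hts with h9 | hts
    · exact Or.inl (by omega)
    refine Or.inr fun S hS => ?_
    haveI := fr.finite_dim
    have hdisj : F ∙ x ⊓ S.map fr.j = ⊥ := by
      rw [eq_bot_iff]
      rintro z ⟨hz1, a, -, rfl⟩
      obtain ⟨t, ht⟩ := Submodule.mem_span_singleton.1 hz1
      have h := (fr.orth' a).2
      rw [← ht, map_smul, LinearMap.smul_apply, hp.pair, smul_eq_mul, mul_one] at h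
      rw [Submodule.mem_bot, ← ht, h, zero_smul]
    have hts' : ∀ z ∈ F ∙ x ⊔ S.map fr.j, Q z = 0 := by
      intro z hz
      obtain ⟨u1, hu1, u2, ⟨a, ha, rfl⟩, rfl⟩ := Submodule.mem_sup.1 hz
      obtain ⟨t, rfl⟩ := Submodule.mem_span_singleton.1 hu1
      rw [qmap_add, qmap_smul, hx, fr.form, hS a ha, map_smul, LinearMap.smul_apply,
        (fr.orth a).1]
      simp
    have h3 := hts _ hts'
    have h4 := Submodule.finrank_sup_add_finrank_inf_eq (F ∙ x) (S.map fr.j)
    rw [hdisj, finrank_bot, finrank_span_singleton hx0,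
      ← LinearEquiv.finrank_eq (Submodule.equivMapOfInjective fr.j fr.inj S)] at h4
    omega

/-- Stem extensions have no kernel element of order `p`. -/
theorem not_dvd_stem (hQ : (polB Q).Nondegenerate) (h7 : 7 ≤ Module.finrank F V) (hreg : Regular Q)
    (hd : σ.ker ≤ commutator Γ) : ¬ p ∣ Nat.card σ.ker := by
  classical
  intro hdvd
  let K0 : Subgroup Γ :=
    { carrier := {g | ∃ z ∈ σ.ker, z ^ p = g}
      one_mem' := ⟨1, one_mem _, one_pow _⟩
      mul_mem' := by
        rintro _ _ ⟨a, ha, rfl⟩ ⟨b, hb, rfl⟩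
        exact ⟨a * b, mul_mem ha hb, (show Commute a b from Subgroup.mem_center_iff.1 (hc hb) a).mul_pow p⟩
      inv_mem' := by
        rintro _ ⟨a, ha, rfl⟩
        exact ⟨a⁻¹, inv_mem ha, inv_pow _ _⟩ }
  have hK0 : K0 ≤ σ.ker := by
    rintro _ ⟨z, hz, rfl⟩; exact pow_mem hz p
  haveI : K0.Normal := ⟨fun a ha g => by
    rw [Subgroup.mem_center_iff.1 (hc (hK0 ha)) g, mul_inv_cancel_right]; exact ha⟩
  obtain ⟨w, hw, hwK⟩ : ∃ w ∈ σ.ker, w ∉ K0 := by
    by_contra h
    push Not at h
    obtain ⟨⟨a, ha⟩, hord⟩ := exists_prime_orderOf_dvd_card' p hdvd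
    rw [Subgroup.orderOf_mk] at hord
    let f : σ.ker → σ.ker := fun z => ⟨z.1 ^ p, pow_mem z.2 p⟩
    have hsur : Function.Surjective f := fun z => by
      obtain ⟨z', hz', e⟩ := h z.1 z.2
      exact ⟨⟨z', hz'⟩, Subtype.ext e⟩
    have h1 : (⟨a, ha⟩ : σ.ker) = 1 := Finite.injective_iff_surjective.2 hsur (Subtype.ext (by
      show a ^ p = (1 : Γ) ^ p
      rw [one_pow, ← hord, pow_orderOf_eq_one]))
    rw [show a = 1 from congrArg Subtype.val h1, orderOf_one] at hord
    exact (Fact.out : p.Prime).one_lt.ne hord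
  let σ' : Γ ⧸ K0 →* Om Q := QuotientGroup.lift K0 σ fun g hg => hK0 hg
  have hs' : Function.Surjective σ' := fun g => by
    obtain ⟨a, rfl⟩ := hs g; exact ⟨QuotientGroup.mk' K0 a, rfl⟩
  have hc' : σ'.ker ≤ Subgroup.center _ := fun g hg => by
    obtain ⟨a, rfl⟩ := QuotientGroup.mk'_surjective K0 g
    rw [Subgroup.mem_center_iff]
    intro b
    obtain ⟨b, rfl⟩ := QuotientGroup.mk'_surjective K0 b
    rw [← map_mul, ← map_mul, Subgroup.mem_center_iff.1 (hc (show a ∈ σ.ker from hg)) b]
  have hexp : ∀ g, σ' g = 1 → g ^ p = 1 := fun g hg => by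
    obtain ⟨a, rfl⟩ := QuotientGroup.mk'_surjective K0 g
    rw [← map_pow]
    exact (QuotientGroup.eq_one_iff _).2 ⟨a, hg, rfl⟩
  refine hwK ((QuotientGroup.eq_one_iff w).1 ?_)
  refine eq_one_of_good σ' hs' hc' hQ (by omega)
    (fun x hx0 hx => good_regular σ' hs' hc' hQ h7 hreg hexp hx0 hx) ?_ hw (hexp _ hw)
  have hm : QuotientGroup.mk' K0 w ∈ (commutator Γ).map (QuotientGroup.mk' K0) :=
    ⟨w, hd hw, rfl⟩
  rw [commutator_def, Subgroup.map_commutator] at hm
  exact Subgroup.commutator_mono le_top le_top hm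

end H50.Or
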