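import Cfsg.Agent.H50.OrPPart
import Cfsg.Agent.H76.CoverLift

/-!
The radical of the stabiliser of a singular vector in a central extension of `Ω`: the preimage is
abelian, the `p`-th powers of the lifts, and the complement given by a torus for more than three
scalars.
-/

set_option autoImplicit false

namespace H50.Or

open H43
open scoped commutatorElement

universe u v w w'

/-- A configuration over the field of two elements used for the vanishing of the pairing. -/
def Cfg {F : Type u} [Field F] {V : Type w} [AddCommGroup V] [Module F V]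
    (Q : QuadraticForm F V) : Prop :=
  ∃ x x' k1 k2 s t : V, (x ≠ 0 ∧ x' ≠ 0 ∧ x + x' ≠ 0) ∧ Q x = 0 ∧ Q x' = 0 ∧ Q k1 = 0 ∧ Q k2 = 0 ∧ polB Q k1 k2 = 1 ∧
    polB Q x x' = 0 ∧ (polB Q x k1 = 0 ∧ polB Q x k2 = 0 ∧ polB Q x s = 0 ∧ polB Q x t = 0) ∧
    (polB Q x' k1 = 0 ∧ polB Q x' k2 = 0 ∧ polB Q x' s = 0 ∧ polB Q x' t = 0) ∧
    (polB Q k1 s = 0 ∧ polB Q k1 t = 0 ∧ polB Q k2 s = 0 ∧ polB Q k2 t = 0) ∧
    Q s = 1 ∧ Q t = 1 ∧ polB Q s t = 1

section vecs
variable {F : Type u} [Field F] [Finite F] {V : Type w} [AddCommGroup V] [Module F V]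
  [FiniteDimensional F V] {Q : QuadraticForm F V}

/-- A second hyperbolic pair orthogonal to a given one. -/
theorem exists_orth_pair (hQ : (polB Q).Nondegenerate) (h5 : 5 ≤ Module.finrank F V) {v w : V}
    (h : HypPair Q v w) :
    ∃ a b, HypPair Q a b ∧ polB Q v a = 0 ∧ polB Q v b = 0 ∧ polB Q w a = 0 ∧ polB Q w b = 0 := by
  obtain ⟨fr⟩ := exists_frame hQ h
  have := fr.finrank_eq
  obtain ⟨a, ha0, ha⟩ := exists_singular
    (Q.restrict ((polB Q).orthogonal (Submodule.span F {v, w}))) (by omega)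
  obtain ⟨b, hab⟩ := exists_hypPair fr.nd' ha ha0
  exact ⟨fr.j a, fr.j b, ⟨by rw [fr.form]; exact hab.left, by rw [fr.form]; exact hab.right,
      by rw [fr.bform]; exact hab.pair⟩, (fr.orth a).1, (fr.orth b).1, (fr.orth a).2, (fr.orth b).2⟩

/-- A vector orthogonal to `v` outside its line. -/
theorem exists_orth_notMem (hQ : (polB Q).Nondegenerate) (h5 : 3 ≤ Module.finrank F V) {v : V}
    (hv : v ≠ 0) : ∃ k, polB Q v k = 0 ∧ k ∉ F ∙ v := by
  by_contra h
  push Not at h
  have h1 : (polB Q).orthogonal (F ∙ v) ≤ F ∙ v := fun z hz => h z (mem_orth_singleton.1 hz)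
  have h2 := Submodule.finrank_mono h1
  have h3 := finrank_orth_singleton hQ hv
  rw [finrank_span_singleton hv] at h2
  omega

omit [Finite F] in
/-- A vector with prescribed polar values on two independent ones. -/
theorem exists_polB_eq₂ (hQ : (polB Q).Nondegenerate) {v k : V} (hv : v ≠ 0) (hk : k ∉ F ∙ v)
    (a b : F) : ∃ c, polB Q v c = a ∧ polB Q k c = b := by
  have hv' : v ∉ F ∙ k := fun h => by
    obtain ⟨r, hr⟩ := Submodule.mem_span_singleton.1 h
    have hr0 : r ≠ 0 := fun h0 => hv (by rw [← hr, h0, zero_smul])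
    exact hk (Submodule.mem_span_singleton.2 ⟨r⁻¹, by rw [← hr, smul_smul, inv_mul_cancel₀ hr0,
      one_smul]⟩)
  obtain ⟨w1, h1, h1'⟩ := exists_orth_polB_eq hQ hk b
  obtain ⟨w2, h2, h2'⟩ := exists_orth_polB_eq hQ hv' a
  refine ⟨w1 + w2, ?_, ?_⟩
  · rw [map_add, h1 v (Submodule.mem_span_singleton_self v), h2', zero_add]
  · rw [map_add, h2 k (Submodule.mem_span_singleton_self k), h1', add_zero]

omit [Finite F] [FiniteDimensional F V] in
/-- The identity between Eichler transformations in characteristic two. -/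
theorem eichler_identity (h2 : (2 : F) = 0) {x x' a a' : V} (hx : Q x = 0) (hx' : Q x' = 0)
    (hxx : polB Q x x' = 0) (hxa : polB Q x a = 0) (hxa' : polB Q x a' = 0)
    (hx'a : polB Q x' a = 0) (hx'a' : polB Q x' a' = 0) (haa : polB Q a a' = 0) (ha : Q a = 1)
    (ha' : Q a' = 1) :
    eichler Q x a * eichler Q x' a' = eichler Q x (a + a') * eichler Q (x + x') (x + a') := by
  have hxx' : polB Q x x = 0 := by rw [polB_self, hx, mul_zero]
  have hp : Q (x + x') = 0 := by rw [qmap_add, hx, hx', hxx]; simp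
  have hps : polB Q (x + x') (x + a') = 0 := by
    simp [hxx', hxa', hx'a', show polB Q x' x = 0 by rw [polB_comm]; exact hxx]
  apply orth_ext
  intro z
  rw [orth_mul_apply, orth_mul_apply, eichler_apply hx hxa, eichler_apply hx' hx'a',
    eichler_apply hx (by rw [map_add, hxa, hxa', add_zero]), eichler_apply hp hps]
  have e1 : polB Q x' x = 0 := by rw [polB_comm]; exact hxx
  have e2 : polB Q a x = 0 := by rw [polB_comm]; exact hxa
  have e3 : polB Q a' x = 0 := by rw [polB_comm]; exact hxa'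
  have e4 : polB Q a' a = 0 := by rw [polB_comm]; exact haa
  have e5 : polB Q a' a' = 0 := by rw [polB_self, h2, zero_mul]
  simp only [map_add, map_sub, map_smul, LinearMap.add_apply, LinearMap.sub_apply,
    LinearMap.smul_apply, smul_eq_mul, qmap_add, hx, ha, ha', hxx, hxx', hxa, hxa', hx'a,
    hx'a', haa, e1, e2, e3, e4, e5]
  have hneg : ∀ c : F, -c = c := fun c => by linear_combination -c * h2
  haveI : CharP F 2 := CharTwo.of_one_ne_zero_of_two_eq_zero one_ne_zero h2
  match_scalars <;> (simp [CharTwo.sub_eq_add, CharTwo.neg_eq]; try ring_nf; simp [h2, show (3 : F) = 1 by linear_combination h2, show (4 : F) = 0 by linear_combination 2 * h2, show (5 : F) = 1 by linear_combination 2 * h2])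

end vecs

section pairing

variable {F : Type u} [Field F] [Finite F] {V : Type w} [AddCommGroup V] [Module F V]
  [FiniteDimensional F V] {Q : QuadraticForm F V} {W : Type w'} [AddCommGroup W] [Module F W]
  [FiniteDimensional F W] {Q' : QuadraticForm F W} {x y : V} (fr : Frame Q x y Q')
  (h7 : 7 ≤ Module.finrank F V)
  {Γ : Type v} [Group Γ] (σ : Γ →* Om Q) (hs : Function.Surjective σ)
  (hc : σ.ker ≤ Subgroup.center Γ)

/-- The radical element with given coordinates. -/
noncomputable def eOm (a : W) : Om Q := el Q x (fr.j a)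

/-- A lift of a radical element. -/
noncomputable def la (a : W) : Γ := Classical.choose (hs (eOm fr a))

omit [Finite F] [FiniteDimensional F V] [FiniteDimensional F W] in
theorem σ_la (a : W) : σ (la fr σ hs a) = eOm fr a := Classical.choose_spec (hs (eOm fr a))

/-- The commutator of two lifts. -/
noncomputable def cP (a b : W) : Γ := ⁅la fr σ hs a, la fr σ hs b⁆

include h7

omit [FiniteDimensional F W] in
theorem coe_eOm (a : W) : (eOm fr a).1 = fr.E a := coe_el fr.nd (by omega) fr.qx (fr.orth a).1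

omit [FiniteDimensional F W] in
theorem eOm_add (a b : W) : eOm fr (a + b) = eOm fr a * eOm fr b := by
  apply Subtype.ext
  show _ = (eOm fr a).1 * (eOm fr b).1
  rw [coe_eOm fr h7, coe_eOm fr h7, coe_eOm fr h7, fr.E_mul]

omit [FiniteDimensional F W] in
theorem eOm_comm (a b : W) : Commute (eOm fr a) (eOm fr b) := by
  show eOm fr a * eOm fr b = eOm fr b * eOm fr a
  rw [← eOm_add fr h7, ← eOm_add fr h7, add_comm]

omit [FiniteDimensional F W] in
theorem eOm_zero : eOm fr 0 = 1 :=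
  Subtype.ext (by rw [coe_eOm fr h7, fr.E_zero]; rfl)

omit [FiniteDimensional F W] in
theorem eOm_ext (h : Om Q') (a : W) :
    fr.extOm h * eOm fr a * (fr.extOm h)⁻¹ = eOm fr (h.1.1 a) := by
  apply Subtype.ext
  show (fr.extOm h).1 * (eOm fr a).1 * (fr.extOm h).1⁻¹ = _
  rw [coe_eOm fr h7, coe_eOm fr h7, fr.coe_extOm, fr.ext_conj_E]

omit [FiniteDimensional F W] in
theorem el_eq_eOm {v : V} (hv : polB Q x v = 0) : el Q x v = eOm fr (fr.P v) :=
  Subtype.ext (by rw [coe_eOm fr h7, coe_el fr.nd (by omega) fr.qx hv, fr.eichler_eq_E hv])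

include fr in
theorem finrank_w : 5 ≤ Module.finrank F W := by
  have := fr.finrank_eq; omega

include hc

omit [FiniteDimensional F W] in
theorem comm_eq {a b : W} {g g' : Γ} (hg : σ g = eOm fr a) (hg' : σ g' = eOm fr b) :
    ⁅g, g'⁆ = cP fr σ hs a b :=
  H76.Cover.comm_congr σ hc (by rw [hg, σ_la]) (by rw [hg', σ_la])

omit [FiniteDimensional F W] in
theorem cP_mem (a b : W) : cP fr σ hs a b ∈ Subgroup.center Γ :=
  hc (by
    rw [MonoidHom.mem_ker, cP, map_commutatorElement, σ_la, σ_la,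
      commutatorElement_eq_one_iff_commute]
    exact eOm_comm fr h7 a b)

omit [FiniteDimensional F W] in
theorem cP_commute (a b : W) (g : Γ) : Commute (cP fr σ hs a b) g :=
  (Subgroup.mem_center_iff.1 (cP_mem fr h7 σ hs hc a b) g).symm

omit [FiniteDimensional F W] in
theorem cP_swap (a b : W) : cP fr σ hs b a = (cP fr σ hs a b)⁻¹ := (commutatorElement_inv _ _).symm

omit [FiniteDimensional F W] in
theorem cP_add_left (a a' b : W) :
    cP fr σ hs (a + a') b = cP fr σ hs a b * cP fr σ hs a' b := by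
  rw [← comm_eq fr h7 σ hs hc (g := la fr σ hs a * la fr σ hs a') (g' := la fr σ hs b)
    (by rw [map_mul, σ_la, σ_la, eOm_add fr h7]) (σ_la fr σ hs b),
    commutatorElement_mul_left_eq_conj_mul]
  rw [show la fr σ hs a * ⁅la fr σ hs a', la fr σ hs b⁆ * (la fr σ hs a)⁻¹ = cP fr σ hs a' b from
    mul_inv_eq_iff_eq_mul.2 (cP_commute fr h7 σ hs hc a' b _).eq.symm]
  exact (cP_commute fr h7 σ hs hc a' b _).eq

omit [FiniteDimensional F W] in
theorem cP_add_right (a b b' : W) :
    cP fr σ hs a (b + b') = cP fr σ hs a b * cP fr σ hs a b' := by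
  rw [cP_swap fr h7 σ hs hc (b + b') a, cP_add_left fr h7 σ hs hc, cP_swap fr h7 σ hs hc a b,
    cP_swap fr h7 σ hs hc a b', _root_.mul_inv_rev, inv_inv, inv_inv]
  exact (cP_commute fr h7 σ hs hc a b' _).eq

omit [FiniteDimensional F W] in
theorem cP_zero_left (b : W) : cP fr σ hs 0 b = 1 := by
  have h := cP_add_left fr h7 σ hs hc 0 0 b
  rwa [add_zero, left_eq_mul] at h

omit [FiniteDimensional F W] in
theorem cP_zero_right (a : W) : cP fr σ hs a 0 = 1 := by
  rw [cP_swap fr h7 σ hs hc 0 a, cP_zero_left fr h7 σ hs hc, inv_one]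

omit [FiniteDimensional F W] in
theorem cP_natCast (k : ℕ) (a b : W) :
    cP fr σ hs ((k : F) • a) b = cP fr σ hs a b ^ k := by
  induction k with
  | zero => rw [Nat.cast_zero, zero_smul, cP_zero_left fr h7 σ hs hc, pow_zero]
  | succ k ih =>
    rw [Nat.cast_succ, add_smul, one_smul, cP_add_left fr h7 σ hs hc, ih, pow_succ]

omit [FiniteDimensional F W] in
theorem cP_conj {g : Γ} {a a' b b' : W} (ha : σ g * eOm fr a * (σ g)⁻¹ = eOm fr a')
    (hb : σ g * eOm fr b * (σ g)⁻¹ = eOm fr b') : cP fr σ hs a' b' = cP fr σ hs a b := by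
  rw [← comm_eq fr h7 σ hs hc (g := g * la fr σ hs a * g⁻¹) (g' := g * la fr σ hs b * g⁻¹)
    (by rw [map_mul, map_mul, map_inv, σ_la, ha]) (by rw [map_mul, map_mul, map_inv, σ_la, hb]),
    ← conjugate_commutatorElement]
  exact mul_inv_eq_iff_eq_mul.2 (cP_commute fr h7 σ hs hc a b g).eq.symm

omit [FiniteDimensional F W] in
theorem cP_equiv (h : Om Q') (a b : W) :
    cP fr σ hs (h.1.1 a) (h.1.1 b) = cP fr σ hs a b := by
  obtain ⟨g, hg⟩ := hs (fr.extOm h)
  exact cP_conj fr h7 σ hs hc (g := g) (by rw [hg, eOm_ext fr h7]) (by rw [hg, eOm_ext fr h7])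

/-- A singular vector pairs trivially with its orthogonal. -/
theorem cP_orth {v k : W} (hv : Q' v = 0) (hvk : polB Q' v k = 0) : cP fr σ hs v k = 1 := by
  by_cases hv0 : v = 0
  · rw [hv0, cP_zero_left fr h7 σ hs hc]
  have h5 := finrank_w fr h7
  have key : ∀ k0 c, polB Q' v k0 = 0 →
      cP fr σ hs v (polB Q' c v • k0 - polB Q' c k0 • v - (Q' k0 * polB Q' c v) • v) = 1 := by
    intro k0 c hk0
    have h := cP_equiv fr h7 σ hs hc (el Q' v k0) v c
    rw [coe_el fr.nd' h5 hv hk0, eichler_self_fix hv hk0, eichler_apply hv hk0, add_sub_assoc,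
      add_sub_assoc, cP_add_right fr h7 σ hs hc, mul_eq_left] at h
    exact h
  have ha : ∀ t : F, cP fr σ hs v (t • v) = 1 := by
    intro t
    obtain ⟨k0, hk0, hk0'⟩ := exists_orth_notMem fr.nd' (by omega) hv0
    obtain ⟨c, hc1, hc2⟩ := exists_polB_eq₂ fr.nd' hv0 hk0' 0 (-t)
    have h := key k0 c hk0
    rw [polB_comm c v, hc1, polB_comm c k0, hc2, mul_zero, zero_smul, zero_smul, zero_sub,
      sub_zero, neg_smul, neg_neg] at h
    exact h
  by_cases hk : k ∈ F ∙ v
  · obtain ⟨t, rfl⟩ := Submodule.mem_span_singleton.1 hk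
    exact ha t
  obtain ⟨c, hc1, hc2⟩ := exists_polB_eq₂ fr.nd' hv0 hk 1 (-Q' k)
  have h := key k c hvk
  rwa [polB_comm c v, hc1, polB_comm c k, hc2, one_smul, mul_one, neg_smul, sub_neg_eq_add,
    add_sub_cancel_right] at h

/-- Against a singular vector only the polar value matters. -/
theorem cP_pair {v w : W} (hp : HypPair Q' v w) (z : W) :
    cP fr σ hs v z = cP fr σ hs v (polB Q' v z • w) := by
  conv_lhs => rw [show z = (z - polB Q' v z • w) + polB Q' v z • w by abel]
  rw [cP_add_right fr h7 σ hs hc, cP_orth fr h7 σ hs hc hp.left (by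
    rw [map_sub, map_smul, hp.pair, smul_eq_mul, mul_one, sub_self]), one_mul]

/-- Two orthogonal hyperbolic pairs have the same values. -/
theorem cP_cross {v w a b : W} (hp : HypPair Q' v w) (hq : HypPair Q' a b)
    (h1 : polB Q' v a = 0) (h2 : polB Q' v b = 0) (h3 : polB Q' w a = 0)
    (h4 : polB Q' w b = 0) (c : F) : cP fr σ hs v (c • w) = cP fr σ hs a (c • b) := by
  have h := cP_orth fr h7 σ hs hc (v := v + a) (k := c • w + (-c) • b)
    (by rw [qmap_add, hp.left, hq.left, h1]; simp)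
    (by simp [hp.pair, hq.pair, h2, polB_comm a w, h3])
  rw [cP_add_left fr h7 σ hs hc, cP_add_right fr h7 σ hs hc, cP_add_right fr h7 σ hs hc,
    cP_orth fr h7 σ hs hc hp.left (k := (-c) • b) (by rw [map_smul, h2, smul_zero]),
    cP_orth fr h7 σ hs hc hq.left (k := c • w) (by rw [map_smul, polB_comm, h3, smul_zero]),
    mul_one, one_mul, mul_eq_one_iff_eq_inv] at h
  have hn : cP fr σ hs a ((-c) • b) * cP fr σ hs a (c • b) = 1 := by
    rw [← cP_add_right fr h7 σ hs hc, ← add_smul, neg_add_cancel, zero_smul,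
      cP_zero_right fr h7 σ hs hc]
  rw [h, inv_eq_of_mul_eq_one_right hn]

omit [Finite F] [FiniteDimensional F V] [FiniteDimensional F W] h7 hc in
theorem hypPair_smul {a b : W} (hq : HypPair Q' a b) {l : F} (hl : l ≠ 0) :
    HypPair Q' (l • a) (l⁻¹ • b) :=
  ⟨by rw [qmap_smul, hq.left, mul_zero], by rw [qmap_smul, hq.right, mul_zero],
    by simp [hq.pair, inv_mul_cancel₀ hl, mul_inv_cancel₀ hl]⟩

theorem cP_sq_singular {v : W} (hv : Q' v = 0) (z : W) :
    cP fr σ hs v z * cP fr σ hs v z = 1 := by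
  by_cases hv0 : v = 0
  · rw [hv0, cP_zero_left fr h7 σ hs hc, mul_one]
  obtain ⟨w, hp⟩ := exists_hypPair fr.nd' hv hv0
  obtain ⟨a, b, hq, h1, h2, h3, h4⟩ := exists_orth_pair fr.nd' (finrank_w fr h7) hp
  rw [cP_pair fr h7 σ hs hc hp z]
  generalize polB Q' v z = c
  by_cases hc0 : c = 0
  · rw [hc0, zero_smul, cP_zero_right fr h7 σ hs hc, mul_one]
  have e1 := cP_cross fr h7 σ hs hc hp (hypPair_smul hq hc0) (by simp [h1]) (by simp [h2])
    (by simp [h3]) (by simp [h4]) c
  rw [smul_smul, mul_inv_cancel₀ hc0, one_smul] at e1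
  have e2 := cP_cross fr h7 σ hs hc hp hq.symm h2 h1 h4 h3 c
  rw [cP_swap fr h7 σ hs hc (c • a) b, ← e1] at e2
  nth_rw 1 [e2]
  exact inv_mul_cancel _

theorem cP_sq (a b : W) : cP fr σ hs a b * cP fr σ hs a b = 1 := by
  have h5 := finrank_w fr h7
  obtain ⟨z0, hz0, hz⟩ := exists_singular Q' (by omega)
  suffices h : ∀ r : F, cP fr σ hs (r • a) b * cP fr σ hs (r • a) b = 1 by simpa using h 1
  have ha := mem_span_all_singular fr.nd' hz0 hz a
  induction ha using Submodule.span_induction with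
  | mem z hz' =>
    exact fun r => cP_sq_singular fr h7 σ hs hc (by rw [qmap_smul, hz', mul_zero]) b
  | zero => intro r; rw [smul_zero, cP_zero_left fr h7 σ hs hc, mul_one]
  | add c d _ _ hc' hd =>
    intro r
    rw [smul_add, cP_add_left fr h7 σ hs hc,
      (cP_commute fr h7 σ hs hc _ b _).mul_mul_mul_comm, hc', hd, mul_one]
  | smul t c _ hc' => intro r; rw [smul_smul]; exact hc' _

theorem cP_torus {s : F} (hs0 : s ≠ 0) (a b : W) :
    cP fr σ hs ((s * s) • a) ((s * s) • b) = cP fr σ hs a b := by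
  obtain ⟨g, hg⟩ := hs (⟨_, mul_self_mem fr.nd (Or.inr (by omega)) (by omega) (hscale Q x y s)⟩ : Om Q)
  have key : ∀ c, σ g * eOm fr c * (σ g)⁻¹ = eOm fr ((s * s) • c) := fun c => by
    rw [hg]
    apply Subtype.ext
    show hscale Q x y s * hscale Q x y s * (eOm fr c).1 * (hscale Q x y s * hscale Q x y s)⁻¹ = _
    rw [coe_eOm fr h7, coe_eOm fr h7, _root_.mul_inv_rev,
      show hscale Q x y s * hscale Q x y s * fr.E c * ((hscale Q x y s)⁻¹ * (hscale Q x y s)⁻¹) =
        hscale Q x y s * (hscale Q x y s * fr.E c * (hscale Q x y s)⁻¹) * (hscale Q x y s)⁻¹ by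
          group,
      fr.hscale_conj_E hs0, fr.hscale_conj_E hs0, smul_smul]
  exact cP_conj fr h7 σ hs hc (key a) (key b)

variable {p : ℕ} [Fact p.Prime] [CharP F p]

theorem cP_eq_one_of_odd (h2 : p ≠ 2) (a b : W) : cP fr σ hs a b = 1 := by
  have h := cP_natCast fr h7 σ hs hc p a b
  rw [CharP.cast_eq_zero, zero_smul, cP_zero_left fr h7 σ hs hc] at h
  have e2 : cP fr σ hs a b ^ 2 = 1 := by rw [pow_two, cP_sq fr h7 σ hs hc]
  have e := pow_gcd_eq_one.2 ⟨h.symm, e2⟩
  rwa [Nat.Coprime.gcd_eq_one ((Nat.coprime_primes (Fact.out : p.Prime) Nat.prime_two).2 h2),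
    pow_one] at e

theorem cP_eq_one_of_torus {s : F} (hs0 : s ≠ 0) (hs1 : s * s * (s * s) ≠ 1) (a b : W) :
    cP fr σ hs a b = 1 := by
  have h5 := finrank_w fr h7
  set l := s * s with hl
  have hl0 : l ≠ 0 := mul_ne_zero hs0 hs0
  have hsing : ∀ v, Q' v = 0 → ∀ z, cP fr σ hs v z = 1 := by
    intro v hv z
    by_cases hv0 : v = 0
    · rw [hv0, cP_zero_left fr h7 σ hs hc]
    obtain ⟨w, hp⟩ := exists_hypPair fr.nd' hv hv0
    obtain ⟨a', b', hq, h1, h2, h3, h4⟩ := exists_orth_pair fr.nd' h5 hp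
    rw [cP_pair fr h7 σ hs hc hp z]
    generalize polB Q' v z = d
    set c := d / (l * l - 1) with hcdef
    have hd : d = l * l * c - c := by
      have := div_mul_cancel₀ d (sub_ne_zero.2 hs1)
      rw [← hcdef] at this
      linear_combination -this
    have e1 := cP_torus fr h7 σ hs hc hs0 v (c • w)
    have hpl := hypPair_smul (l := l) hp hl0
    have e2 := cP_cross fr h7 σ hs hc hpl hq (by simp [h1]) (by simp [h2]) (by simp [h3])
      (by simp [h4]) (l * l * c)
    have e3 := cP_cross fr h7 σ hs hc hp hq h1 h2 h3 h4 (l * l * c)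
    rw [← e3, smul_smul, show l * l * c * l⁻¹ = l * c by field_simp] at e2
    rw [← hl, smul_smul, e2] at e1
    rw [hd, sub_smul, sub_eq_add_neg, cP_add_right fr h7 σ hs hc, e1,
      ← cP_add_right fr h7 σ hs hc, add_neg_cancel, cP_zero_right fr h7 σ hs hc]
  obtain ⟨z0, hz0, hz⟩ := exists_singular Q' (by omega)
  suffices h : ∀ r : F, cP fr σ hs (r • a) b = 1 by simpa using h 1
  have ha := mem_span_all_singular fr.nd' hz0 hz a
  induction ha using Submodule.span_induction with
  | mem z hz' => exact fun r => hsing _ (by rw [qmap_smul, hz', mul_zero]) b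
  | zero => intro r; rw [smul_zero, cP_zero_left fr h7 σ hs hc]
  | add c d _ _ hc' hd => intro r; rw [smul_add, cP_add_left fr h7 σ hs hc, hc', hd, mul_one]
  | smul t c _ hc' => intro r; rw [smul_smul]; exact hc' _

/-! ### Powers of lifts -/

variable (hexp : ∀ z, σ z = 1 → z ^ p = 1)
include hexp

omit [Finite F] [FiniteDimensional F V] [FiniteDimensional F W] h7 [CharP F p] in
theorem pow_eq {g g' : Γ} (h : σ g = σ g') : g ^ p = g' ^ p := by
  have hz : σ (g'⁻¹ * g) = 1 := by rw [map_mul, map_inv, h, inv_mul_cancel]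
  have hcm : Commute g' (g'⁻¹ * g) := Subgroup.mem_center_iff.1 (hc hz) g'
  nth_rw 1 [← mul_inv_cancel_left g' g]
  rw [hcm.mul_pow, hexp _ hz, mul_one]

omit [FiniteDimensional F W] in
theorem pow_la_conj {g : Γ} {a a' : W} (ha : σ g * eOm fr a * (σ g)⁻¹ = eOm fr a') :
    la fr σ hs a' ^ p = la fr σ hs a ^ p := by
  have hz : σ (la fr σ hs a ^ p) = σ (la fr σ hs a) ^ p := map_pow _ _ _
  rw [pow_eq σ hc hexp (g' := g * la fr σ hs a * g⁻¹)
    (by rw [map_mul, map_mul, map_inv, σ_la, σ_la, ha]), conj_pow]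
  refine mul_inv_eq_iff_eq_mul.2 ?_
  refine Subgroup.mem_center_iff.1 (hc ?_) g
  rw [MonoidHom.mem_ker, hz, σ_la]
  apply Subtype.ext
  show (eOm fr a).1 ^ p = 1
  rw [coe_eOm fr h7, Frame.E, eichler_pow fr.qx (fr.orth a).1, CharP.cast_eq_zero, zero_smul,
    eichler_zero fr.qx]

omit [FiniteDimensional F W] [CharP F p] in
theorem pow_la_add {a b : W} (h : cP fr σ hs a b = 1) :
    la fr σ hs (a + b) ^ p = la fr σ hs a ^ p * la fr σ hs b ^ p := by
  rw [pow_eq σ hc hexp (g' := la fr σ hs a * la fr σ hs b)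
    (by rw [map_mul, σ_la, σ_la, σ_la, eOm_add fr h7]),
    (commutatorElement_eq_one_iff_commute.1 h).mul_pow]

theorem pow_la_singular {k : W} (hk : Q' k = 0) : la fr σ hs k ^ p = 1 := by
  by_cases hk0 : k = 0
  · rw [pow_eq σ hc hexp (g' := 1) (by rw [σ_la, hk0, eOm_zero fr h7, map_one]), one_pow]
  have h5 := finrank_w fr h7
  obtain ⟨m, hkm, hm⟩ := exists_orth_notMem fr.nd' (by omega) hk0
  obtain ⟨c, hc1, hc2⟩ := exists_polB_eq₂ fr.nd' hk0 hm 0 (-1)
  obtain ⟨g, hg⟩ := hs (fr.extOm (el Q' k m))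
  have h := pow_la_conj fr h7 σ hs hc hexp (g := g) (a := c) (a' := c + k) (by
    rw [hg, eOm_ext fr h7, coe_el fr.nd' h5 hk hkm, eichler_apply hk hkm, polB_comm c k, hc1,
      polB_comm c m, hc2]
    simp)
  rwa [pow_la_add fr h7 σ hs hc hexp (by
    rw [cP_swap fr h7 σ hs hc k c, cP_orth fr h7 σ hs hc hk hc1, inv_one]), mul_eq_left] at h

theorem pow_la_eq_one (hP : ∀ a b, cP fr σ hs a b = 1) (a : W) : la fr σ hs a ^ p = 1 := by
  have h5 := finrank_w fr h7
  obtain ⟨z0, hz0, hz⟩ := exists_singular Q' (by omega)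
  suffices h : ∀ r : F, la fr σ hs (r • a) ^ p = 1 by simpa using h 1
  have ha := mem_span_all_singular fr.nd' hz0 hz a
  induction ha using Submodule.span_induction with
  | mem z hz' => exact fun r => pow_la_singular fr h7 σ hs hc hexp (by rw [qmap_smul, hz', mul_zero])
  | zero => intro r; rw [smul_zero]; exact pow_la_singular fr h7 σ hs hc hexp (map_zero _)
  | add c d _ _ hc' hd =>
    intro r; rw [smul_add, pow_la_add fr h7 σ hs hc hexp (hP _ _), hc', hd, one_mul]
  | smul t c _ hc' => intro r; rw [smul_smul]; exact hc' _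

end pairing

section two

variable {F : Type u} [Field F] [Finite F] {V : Type w} [AddCommGroup V] [Module F V]
  [FiniteDimensional F V] {Q : QuadraticForm F V}
  {Γ : Type v} [Group Γ] (σ : Γ →* Om Q) (hs : Function.Surjective σ)
  (hc : σ.ker ≤ Subgroup.center Γ)
include hs hc

/-- Lifts of root elements with one of them a commutator over the centraliser of the other. -/
theorem commute_root (hQ : (polB Q).Nondegenerate) (h5 : 5 ≤ Module.finrank F V) {x r p s t : V}
    (hx : Q x = 0) (hxr : polB Q x r = 0) (hp : Q p = 0) (hxp : polB Q x p = 0)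
    (hxt : polB Q x t = 0) (hrp : polB Q r p = 0) (hrt : polB Q r t = 0) (hpt : polB Q p t = 0)
    (hps : polB Q p s = 0) {h : Om Q} (hhx : h.1.1 x = x) (hhr : h.1.1 r = r) (hhp : h.1.1 p = p)
    (hht : h.1.1 t = t + s) {g g' : Γ} (hg : σ g = el Q x r) (hg' : σ g' = el Q p s) :
    Commute g g' := by
  obtain ⟨H, hH⟩ := hs h
  obtain ⟨T, hT⟩ := hs (el Q p t)
  have hA : Commute (σ g) (σ H) := by
    rw [hg, hH]
    have e := el_conj hQ h5 h hx hxr
    rw [hhx, hhr] at e
    exact (mul_inv_eq_iff_eq_mul.1 e).symm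
  have hB : Commute (σ g) (σ T) := by
    rw [hg, hT]
    have e := el_conj hQ h5 (el Q p t) hx hxr
    rw [coe_el hQ h5 hp hpt, eichler_fix hp hpt hxp hxt, eichler_fix hp hpt hrp hrt] at e
    exact (mul_inv_eq_iff_eq_mul.1 e).symm
  have hc' : σ ⁅H, T⁆ = σ g' := by
    rw [hg', map_commutatorElement, hH, hT, commutatorElement_def, el_conj hQ h5 h hp hpt, hhp,
      hht, mul_inv_eq_iff_eq_mul, el_mul hQ h5 hp hps hpt, add_comm]
  have e : g * ⁅H, T⁆ * g⁻¹ = ⁅H, T⁆ := by
    rw [conjugate_commutatorElement]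
    refine H76.Cover.comm_congr σ hc ?_ ?_
    · rw [map_mul, map_mul, map_inv, hA.eq, mul_inv_cancel_right]
    · rw [map_mul, map_mul, map_inv, hB.eq, mul_inv_cancel_right]
  rw [← commutatorElement_eq_one_iff_commute, H76.Cover.comm_congr σ hc (x' := g) rfl hc'.symm,
    commutatorElement_eq_one_iff_commute]
  exact mul_inv_eq_iff_eq_mul.1 e

variable {W : Type w'} [AddCommGroup W] [Module F W] [FiniteDimensional F W]
  {Q' : QuadraticForm F W} {x y : V} (fr : Frame Q x y Q') (h7 : 7 ≤ Module.finrank F V)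
include fr h7

/-- Over two elements the pairing is trivial. -/
theorem cP_eq_one_of_two (hq : ∀ c : F, c = 0 ∨ c = 1) (hcfg : Cfg Q)
    (hexp : ∀ z, σ z = 1 → z ^ 2 = 1) (a b : W) : cP fr σ hs a b = 1 := by
  have h2 : (2 : F) = 0 := by
    rcases hq 2 with h | h
    · exact h
    · exact absurd (by linear_combination h : (1 : F) = 0) one_ne_zero
  haveI : CharP F 2 := CharTwo.of_one_ne_zero_of_two_eq_zero one_ne_zero h2
  haveI : Fact (Nat.Prime 2) := ⟨Nat.prime_two⟩
  have h5 := finrank_w fr h7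
  have hQ := fr.nd
  obtain ⟨v0, hv00, hv0⟩ := exists_singular Q' (by omega)
  obtain ⟨w0, hp0⟩ := exists_hypPair fr.nd' hv0 hv00
  set ε := cP fr σ hs v0 w0 with hε
  have hεc : ∀ g, Commute ε g := fun g => cP_commute fr h7 σ hs hc _ _ g
  -- all hyperbolic pairs have the same value
  have hconst : ∀ {v w}, HypPair Q' v w → cP fr σ hs v w = ε := by
    intro v w hp
    obtain ⟨l, hl⟩ := om_transitive fr.nd' h5 hv00 hv0 hp.left_ne_zero hp.left
    rw [hε, ← cP_equiv fr h7 σ hs hc l v0 w0, hl, cP_pair fr h7 σ hs hc hp (l.1.1 w0)]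
    have h1 : polB Q' v (l.1.1 w0) = 1 := by rw [← hl, orth_polB_map, hp0.pair]
    rw [h1, one_smul]
  have hsing : ∀ v, Q' v = 0 → ∀ z, cP fr σ hs v z = 1 ∨ cP fr σ hs v z = ε := by
    intro v hv z
    by_cases hv' : v = 0
    · exact Or.inl (by rw [hv', cP_zero_left fr h7 σ hs hc])
    obtain ⟨w, hp⟩ := exists_hypPair fr.nd' hv hv'
    rw [cP_pair fr h7 σ hs hc hp z]
    rcases hq (polB Q' v z) with h | h <;> rw [h]
    · exact Or.inl (by rw [zero_smul, cP_zero_right fr h7 σ hs hc])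
    · exact Or.inr (by rw [one_smul, hconst hp])
  suffices hε1 : ε = 1 by
    suffices h : ∀ r : F, cP fr σ hs (r • a) b = 1 by simpa using h 1
    have ha := mem_span_all_singular fr.nd' hv00 hv0 a
    induction ha using Submodule.span_induction with
    | mem z hz' =>
      intro r
      rcases hsing (r • z) (by rw [qmap_smul, hz', mul_zero]) b with h | h
      · exact h
      · rw [h, hε1]
    | zero => intro r; rw [smul_zero, cP_zero_left fr h7 σ hs hc]
    | add c d _ _ hc' hd => intro r; rw [smul_add, cP_add_left fr h7 σ hs hc, hc', hd, mul_one]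
    | smul t c _ hc' => intro r; rw [smul_smul]; exact hc' _
  have hεε : ε * ε = 1 := cP_sq fr h7 σ hs hc _ _
  have hsq : ∀ {g g' : Γ}, σ g = σ g' → g * g = g' * g' := fun {g g'} h => by
    rw [← pow_two, ← pow_two, pow_eq σ hc hexp h]
  -- squares of lifts at the base point
  have hbase0 : ∀ {b' : W}, Q' b' = 0 → la fr σ hs b' * la fr σ hs b' = 1 := fun {b'} h => by
    rw [← pow_two, pow_la_singular fr h7 σ hs hc hexp h]
  have hbase1 : ∀ {b' : W}, Q' b' = 1 → la fr σ hs b' * la fr σ hs b' = ε := by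
    intro b' hb
    obtain ⟨v, hv, hvb⟩ : ∃ v, Q' v = 0 ∧ polB Q' v b' = 1 := by
      by_contra hcon
      push Not at hcon
      have h0 : b' = 0 := fr.nd'.2 b' fun z => by
        have hz := mem_span_all_singular fr.nd' hv00 hv0 z
        induction hz using Submodule.span_induction with
        | mem w' hw' => exact (hq _).resolve_right (hcon w' hw')
        | zero => simp
        | add c d _ _ hc' hd => simp [hc', hd]
        | smul t c _ hc' => simp [hc']
      rw [h0, map_zero] at hb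
      exact zero_ne_one hb
    have hv' : Q' (v + b') = 0 := by rw [qmap_add, hv, hb, hvb]; linear_combination h2
    have hvp : HypPair Q' v (v + b') := ⟨hv, hv', by
      rw [map_add, polB_self, hv, hvb, mul_zero, zero_add]⟩
    have hsum : b' = v + (v + b') := by
      rw [← add_assoc, ← two_smul F v, h2, zero_smul, zero_add]
    rw [hsq (g' := la fr σ hs v * la fr σ hs (v + b')) (by
      rw [map_mul, σ_la, σ_la, σ_la, ← eOm_add fr h7, ← hsum])]
    have hcm : la fr σ hs (v + b') * la fr σ hs v =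
        ε⁻¹ * (la fr σ hs v * la fr σ hs (v + b')) := by
      rw [← hconst hvp, cP, commutatorElement_def]
      group
    calc la fr σ hs v * la fr σ hs (v + b') * (la fr σ hs v * la fr σ hs (v + b'))
        = la fr σ hs v * (la fr σ hs (v + b') * la fr σ hs v) * la fr σ hs (v + b') := by group
      _ = ε⁻¹ * ((la fr σ hs v * la fr σ hs v) * (la fr σ hs (v + b') * la fr σ hs (v + b'))) := by
          rw [hcm]
          rw [← mul_assoc (la fr σ hs v) ε⁻¹, ← ((hεc _).inv_left).eq]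
          group
      _ = ε := by
          rw [hbase0 hv, hbase0 hv', mul_one, mul_one]
          exact inv_eq_of_mul_eq_one_right hεε
  -- squares of lifts of all root elements
  have hroot : ∀ {u c : V}, u ≠ 0 → Q u = 0 → polB Q u c = 0 → ∀ {g : Γ}, σ g = el Q u c →
      (Q c = 1 → g * g = ε) ∧ (Q c = 0 → g * g = 1) := by
    intro u c hu0 hu huc g hg
    obtain ⟨l, hl⟩ := om_transitive hQ (by omega) hu0 hu fr.pair.left_ne_zero fr.qx
    obtain ⟨L, hL⟩ := hs l
    have hlc : polB Q x (l.1.1 c) = 0 := by rw [← hl, orth_polB_map, huc]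
    have hσ : σ (L * g * L⁻¹) = σ (la fr σ hs (fr.P (l.1.1 c))) := by
      rw [map_mul, map_mul, map_inv, hL, hg, el_conj hQ (by omega) l hu huc, hl, σ_la,
        el_eq_eOm fr h7 hlc]
    have hQP : Q' (fr.P (l.1.1 c)) = Q c := by
      rw [← fr.form, Frame.j_P, polB_comm (l.1.1 c) x, hlc, zero_smul, sub_zero, sub_eq_add_neg,
        ← neg_smul, qmap_add_smul, fr.qx, polB_comm (l.1.1 c) x, hlc, orth_qmap]
      simp
    have hgg := hsq hσ
    rw [show L * g * L⁻¹ * (L * g * L⁻¹) = L * (g * g) * L⁻¹ by group] at hgg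
    constructor <;> intro hc'
    · rw [hbase1 (by rw [hQP, hc'])] at hgg
      rw [show g * g = L⁻¹ * (L * (g * g) * L⁻¹) * L by group, hgg, ← (hεc L⁻¹).eq, mul_assoc,
        inv_mul_cancel, mul_one]
    · rw [hbase0 (by rw [hQP, hc'])] at hgg
      rw [show g * g = L⁻¹ * (L * (g * g) * L⁻¹) * L by group, hgg, mul_one, inv_mul_cancel]
  obtain ⟨e, e', k1, k2, s, t, ⟨he0, he'0, hee0⟩, he, he', hk1, hk2, hk, hee, ⟨a1, a2, a3, a4⟩,
    ⟨b1, b2, b3, b4⟩, ⟨c1, c2, c3, c4⟩, hqs, hqt, hst⟩ := hcfg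
  have h57 : 5 ≤ Module.finrank F V := by omega
  have hkk1 : polB Q k1 k1 = 0 := by rw [polB_self, hk1, mul_zero]
  have hksym : polB Q k2 k1 = 1 := by rw [polB_comm]; exact hk
  have hee' : polB Q e e = 0 := by rw [polB_self, he, mul_zero]
  have hss : polB Q s s = 0 := by rw [polB_self, h2, zero_mul]
  have hn : (-1 : F) = 1 := by linear_combination -h2
  have h11 : (1 : F) + 1 = 0 := by linear_combination h2
  -- the isometry moving `t` to `t + s`
  have mk : ∀ {s t : V}, Q s = 1 → Q t = 1 → polB Q s t = 1 → ∃ h : Om Q,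
      (∀ z, polB Q z s = 0 → polB Q z t = 0 → h.1.1 z = z) ∧ h.1.1 t = t + s := by
    intro s t hqs hqt hst
    refine ⟨⟨refl Q s * refl Q t, refl_mul_refl_mem_commutator hQ (Or.inr (by omega)) (by omega)
      (by rw [hqs]; exact one_ne_zero) (by rw [hqt]; exact one_ne_zero) (by rw [hqs, hqt])⟩,
      fun z h1' h2' => ?_, ?_⟩
    · show (refl Q s * refl Q t).1 z = z
      rw [orth_mul_apply, refl_fix h2', refl_fix h1']
    · show (refl Q s * refl Q t).1 t = _
      rw [orth_mul_apply, refl_self (by rw [hqt]; exact one_ne_zero),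
        show -t = t by rw [← neg_one_smul F t, hn, one_smul],
        refl_apply, hqs, polB_comm t s, hst, inv_one, one_mul, one_smul,
        sub_eq_add_neg, show -s = s by rw [← neg_one_smul F s, hn, one_smul]]
  obtain ⟨g1, hg1⟩ := hs (el Q e (k1 + k2))
  obtain ⟨g2, hg2⟩ := hs (el Q e' s)
  obtain ⟨g3, hg3⟩ := hs (el Q e (k1 + k2 + s))
  obtain ⟨g4, hg4⟩ := hs (el Q (e + e') (e + s))
  obtain ⟨d1, hd1⟩ := hs (el Q e k1)
  obtain ⟨d2, hd2⟩ := hs (el Q e k2)
  obtain ⟨h, hfix, hmv⟩ := mk hqs hqt hst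
  have hcm1 : Commute d1 g2 := commute_root σ hs hc hQ h57 he a1 he' hee a4
    (by rw [polB_comm]; exact b1) c2 b4 b3 (hfix e a3 a4) (hfix k1 c1 c2) (hfix e' b3 b4) hmv hd1 hg2
  have hcm2 : Commute d2 g2 := commute_root σ hs hc hQ h57 he a2 he' hee a4
    (by rw [polB_comm]; exact b2) c4 b4 b3 (hfix e a3 a4) (hfix k2 c3 c4) (hfix e' b3 b4) hmv hd2 hg2
  have hcm12 : Commute g1 g2 := by
    rw [← commutatorElement_eq_one_iff_commute,
      H76.Cover.comm_congr σ hc (x' := d1 * d2) (y' := g2)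
        (by rw [hg1, map_mul, hd1, hd2, el_mul hQ h57 he a1 a2]) rfl,
      commutatorElement_eq_one_iff_commute]
    exact hcm1.mul_left hcm2
  have hts : polB Q e' e = 0 := by rw [polB_comm]; exact hee
  have hk1e : polB Q k1 e = 0 := by rw [polB_comm]; exact a1
  have hk2e : polB Q k2 e = 0 := by rw [polB_comm]; exact a2
  have hse : polB Q s e = 0 := by rw [polB_comm]; exact a3
  have hk1e' : polB Q k1 e' = 0 := by rw [polB_comm]; exact b1
  have hk2e' : polB Q k2 e' = 0 := by rw [polB_comm]; exact b2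
  have hse' : polB Q s e' = 0 := by rw [polB_comm]; exact b3
  have hsk1 : polB Q s k1 = 0 := by rw [polB_comm]; exact c1
  obtain ⟨h', hfix', hmv'⟩ := mk (s := e + s) (t := t + k1)
    (by rw [qmap_add, he, hqs, a3]; simp) (by rw [qmap_add, hqt, hk1, polB_comm, c2]; simp)
    (by simp [a4, a1, hst, hsk1])
  have hcm34 : Commute g3 g4 := by
    refine commute_root σ hs hc hQ h57 (t := t + k1) he ?_ ?_ ?_ ?_ ?_ ?_ ?_ ?_
      (hfix' e ?_ ?_) (hfix' _ ?_ ?_) (hfix' _ ?_ ?_) hmv' hg3 hg4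
    · simp [a1, a2, a3]
    · rw [qmap_add, he, he', hee]; simp
    · simp [hee', hee]
    · simp [a4, a1]
    · simp [hk1e, hk2e, hse, hk1e', hk2e', hse']
    · simp [c2, c4, hkk1, hksym, hst, hsk1, h11]
    · simp [a4, a1, b4, b1]
    · simp [hee', a3, hts, b3]
    · simp [hee', a3]
    · simp [a4, a1]
    · simp [hk1e, hk2e, hse, c1, c3, hss]
    · simp [c2, c4, hkk1, hksym, hst, hsk1, h11]
    · simp [hee', a3, hts, b3]
    · simp [a4, a1, b4, b1]
  have her : polB Q e (k1 + k2) = 0 := by rw [map_add, a1, a2, add_zero]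
  have he'r : polB Q e' (k1 + k2) = 0 := by rw [map_add, b1, b2, add_zero]
  have hks : polB Q (k1 + k2) s = 0 := by simp [c1, c3]
  have hqk : Q (k1 + k2) = 1 := by rw [qmap_add, hk1, hk2, hk]; simp
  have herr : polB Q e (k1 + k2 + s) = 0 := by rw [map_add, her, a3, add_zero]
  have hqr : Q (k1 + k2 + s) = 0 := by rw [qmap_add, hqk, hqs, hks, add_zero, h11]
  have hqp : Q (e + e') = 0 := by rw [qmap_add, he, he', hee]; simp
  have hps : polB Q (e + e') (e + s) = 0 := by simp [hee', a3, hts, b3]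
  have hqes : Q (e + s) = 1 := by rw [qmap_add, he, hqs, a3]; simp
  have s1 := (hroot he0 he her hg1).1 hqk
  have s2 := (hroot he'0 he' b3 hg2).1 hqs
  have s3 := (hroot he0 he herr hg3).2 hqr
  have s4 := (hroot hee0 hqp hps hg4).1 hqes
  have hσ : σ (g1 * g2) = σ (g3 * g4) := by
    rw [map_mul, map_mul, hg1, hg2, hg3, hg4]
    apply Subtype.ext
    show (el Q e (k1 + k2)).1 * (el Q e' s).1 = (el Q e _).1 * (el Q (e + e') _).1
    rw [coe_el hQ h57 he her, coe_el hQ h57 he' b3, coe_el hQ h57 he herr, coe_el hQ h57 hqp hps]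
    exact eichler_identity h2 he he' hee her a3 he'r b3 hks hqk hqs
  have hfin := hsq hσ
  rw [hcm12.symm.mul_mul_mul_comm, s1, s2, hεε, hcm34.symm.mul_mul_mul_comm, s3, s4, one_mul] at hfin
  exact hfin.symm

end two

section torus

variable {F : Type u} [Field F] [Finite F] {V : Type w} [AddCommGroup V] [Module F V]
  [FiniteDimensional F V] {Q : QuadraticForm F V} {W : Type w'} [AddCommGroup W] [Module F W]
  [FiniteDimensional F W] {Q' : QuadraticForm F W} {x y : V} (fr : Frame Q x y Q')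
  (h7 : 7 ≤ Module.finrank F V)
  {Γ : Type v} [Group Γ] (σ : Γ →* Om Q) (hs : Function.Surjective σ)
  (hc : σ.ker ≤ Subgroup.center Γ)
include fr h7 hs hc

omit [FiniteDimensional F W] in
/-- Splitting an element of the stabiliser. -/
theorem exists_stab_parts {g : Γ} (hg : σ g ∈ stab Q x) :
    ∃ (a : W) (h : orthGroup Q') (L : Γ), (σ L).1 = fr.ext h ∧ g = la fr σ hs a * L := by
  obtain ⟨a, h, e⟩ := fr.stab_decomp (show (σ g).1.1 x = x from hg)
  refine ⟨a, h, (la fr σ hs a)⁻¹ * g, ?_, (mul_inv_cancel_left _ _).symm⟩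
  rw [map_mul, map_inv, σ_la]
  show (eOm fr a).1⁻¹ * (σ g).1 = _
  rw [coe_eOm fr h7, e, inv_mul_cancel_left]

omit [FiniteDimensional F W] in
/-- With trivial pairing lifts of two elements of the radical commute. -/
theorem commute_of_cP (hP : ∀ a b, cP fr σ hs a b = 1) {g g' : Γ} {a b : W} (hg : σ g = eOm fr a)
    (hg' : σ g' = eOm fr b) : Commute g g' := by
  rw [← commutatorElement_eq_one_iff_commute, comm_eq fr h7 σ hs hc hg hg', hP]

omit [FiniteDimensional F W] in
/-- A torus gives the complement. -/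
theorem good_of_torus (hP : ∀ a b, cP fr σ hs a b = 1) {r : F} (hr0 : r ≠ 0) (hr1 : r * r ≠ 1) :
    Good σ x := by
  set l := r * r with hl
  have hl0 : l ≠ 0 := mul_ne_zero hr0 hr0
  have hl1 : l - 1 ≠ 0 := sub_ne_zero.2 hr1
  obtain ⟨T, hT⟩ := hs
    (⟨_, mul_self_mem fr.nd (Or.inr (by omega)) (by omega) (hscale Q x y r)⟩ : Om Q)
  have hTc : ∀ a, σ T * eOm fr a * (σ T)⁻¹ = eOm fr (l • a) := fun a => by
    rw [hT]
    apply Subtype.ext
    show hscale Q x y r * hscale Q x y r * (eOm fr a).1 * (hscale Q x y r * hscale Q x y r)⁻¹ = _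
    rw [coe_eOm fr h7, coe_eOm fr h7, _root_.mul_inv_rev,
      show hscale Q x y r * hscale Q x y r * fr.E a * ((hscale Q x y r)⁻¹ * (hscale Q x y r)⁻¹) =
        hscale Q x y r * (hscale Q x y r * fr.E a * (hscale Q x y r)⁻¹) * (hscale Q x y r)⁻¹ by
          group,
      fr.hscale_conj_E hr0, fr.hscale_conj_E hr0, smul_smul]
  have hσ : ∀ a, σ ⁅T, la fr σ hs a⁆ = eOm fr ((l - 1) • a) := fun a => by
    rw [map_commutatorElement, commutatorElement_def, σ_la, hTc, mul_inv_eq_iff_eq_mul,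
      ← eOm_add fr h7, sub_smul, one_smul, sub_add_cancel]
  let Φ : Multiplicative W →* Γ := MonoidHom.mk' (fun a => ⁅T, la fr σ hs a.toAdd⁆) fun a b => by
    show ⁅T, la fr σ hs (a.toAdd + b.toAdd)⁆ = _
    rw [H76.Cover.comm_congr σ hc (x' := T) (y' := la fr σ hs a.toAdd * la fr σ hs b.toAdd) rfl
        (by rw [map_mul, σ_la, σ_la, σ_la, eOm_add fr h7]),
      commutatorElement_mul_right_eq_mul_conj]
    rw [mul_assoc ⁅T, la fr σ hs a.toAdd⁆, mul_assoc,
      (commute_of_cP fr h7 σ hs hc hP (σ_la fr σ hs a.toAdd) (hσ b.toAdd)).eq,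
      mul_inv_cancel_right]
  have hΦ : ∀ a : W, σ (Φ (Multiplicative.ofAdd a)) = eOm fr ((l - 1) • a) := hσ
  refine ⟨Φ.range, ?_, ?_, ?_⟩
  · apply le_antisymm
    · rintro _ ⟨_, ⟨a, rfl⟩, rfl⟩
      rw [show σ (Φ a) = eOm fr ((l - 1) • a.toAdd) from hΦ a.toAdd]
      exact el_mem_radU fr.nd (by omega) fr.qx (fr.orth _).1
    · intro g hg
      obtain ⟨a, ha⟩ := fr.mem_radO_iff.1 (show g.1 ∈ radO Q x from hg)
      refine ⟨_, ⟨Multiplicative.ofAdd ((l - 1)⁻¹ • a), rfl⟩, ?_⟩
      rw [hΦ, smul_smul, mul_inv_cancel₀ hl1, one_smul]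
      exact Subtype.ext (by rw [coe_eOm fr h7, ha])
  · rintro _ ⟨a, rfl⟩ hk
    rw [show σ (Φ a) = eOm fr ((l - 1) • a.toAdd) from hΦ a.toAdd] at hk
    have h := fr.E_inj (a := (l - 1) • a.toAdd) (b := 0) (by
      rw [← coe_eOm fr h7, hk, fr.E_zero]; rfl)
    rw [smul_eq_zero] at h
    rw [show a = 1 from h.resolve_left hl1, map_one]
  · have key : ∀ g : Γ, σ g ∈ stab Q x → ∀ b ∈ Φ.range, g * b * g⁻¹ ∈ Φ.range := by
      rintro g hg _ ⟨a, rfl⟩
      obtain ⟨c, h, L, hL, rfl⟩ := exists_stab_parts fr h7 σ hs hc hg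
      refine ⟨Multiplicative.ofAdd (h.1 a.toAdd), ?_⟩
      have hLa : σ (L * la fr σ hs a.toAdd * L⁻¹) = eOm fr (h.1 a.toAdd) := by
        apply Subtype.ext
        rw [map_mul, map_mul, map_inv, σ_la]
        show (σ L).1 * (eOm fr a.toAdd).1 * (σ L).1⁻¹ = _
        rw [coe_eOm fr h7, coe_eOm fr h7, hL, fr.ext_conj_E]
      have hLT : σ (L * T * L⁻¹) = σ T := by
        apply Subtype.ext
        rw [map_mul, map_mul, map_inv, hT]
        show (σ L).1 * (hscale Q x y r * hscale Q x y r) * (σ L).1⁻¹ = _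
        rw [hL, ← ((fr.hscale_comm_ext hr0 h).mul_left (fr.hscale_comm_ext hr0 h)).eq,
          mul_inv_cancel_right]
      have e : L * Φ a * L⁻¹ = Φ (Multiplicative.ofAdd (h.1 a.toAdd)) := by
        show L * ⁅T, la fr σ hs a.toAdd⁆ * L⁻¹ = ⁅T, la fr σ hs (h.1 a.toAdd)⁆
        rw [conjugate_commutatorElement]
        exact H76.Cover.comm_congr σ hc hLT (by rw [hLa, σ_la])
      rw [show la fr σ hs c * L * Φ a * (la fr σ hs c * L)⁻¹ =
          la fr σ hs c * (L * Φ a * L⁻¹) * (la fr σ hs c)⁻¹ by group, e,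
        (commute_of_cP fr h7 σ hs hc hP (σ_la fr σ hs c) (hΦ _)).eq, mul_inv_cancel_right]
    intro g hg
    rw [Subgroup.mem_normalizer_iff]
    refine fun b => ⟨key g hg b, fun h => ?_⟩
    have := key g⁻¹ (by rw [map_inv]; exact inv_mem hg) _ h
    simpa [mul_assoc] using this

end torus

end H50.Or
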