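import Cfsg.Agent.H50.OrRad

/-!
Two or three scalars: commutators of root elements of the complement with the radical give a
canonical equivariant section of the radical.
-/

set_option autoImplicit false

namespace H50.Or

open H43
open scoped commutatorElement

universe u v w w'

section
variable {F : Type u} [Field F] [Finite F] {V : Type w} [AddCommGroup V] [Module F V]
  [FiniteDimensional F V] {Q : QuadraticForm F V} {W : Type w'} [AddCommGroup W] [Module F W]
  [FiniteDimensional F W] {Q' : QuadraticForm F W} {x y : V} (fr : Frame Q x y Q')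
  (h7 : 7 ≤ Module.finrank F V)
  {Γ : Type v} [Group Γ] (σ : Γ →* Om Q) (hs : Function.Surjective σ)
  (hc : σ.ker ≤ Subgroup.center Γ)

/-- A lift of an element of the complement. -/
noncomputable def lg (h : Om Q') : Γ := Classical.choose (hs (fr.extOm h))

omit [Finite F] [FiniteDimensional F W] in
theorem σ_lg (h : Om Q') : σ (lg fr σ hs h) = fr.extOm h :=
  Classical.choose_spec (hs (fr.extOm h))

/-- The commutator of a lift of the complement and a lift of the radical. -/
noncomputable def br (h : Om Q') (d : W) : Γ := ⁅lg fr σ hs h, la fr σ hs d⁆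

include h7

omit [FiniteDimensional F W] in
theorem σ_br (h : Om Q') (d : W) : σ (br fr σ hs h d) = eOm fr (h.1.1 d - d) := by
  rw [br, map_commutatorElement, σ_lg, σ_la, commutatorElement_def, eOm_ext fr h7,
    mul_inv_eq_iff_eq_mul, ← eOm_add fr h7, sub_add_cancel]

variable (hP : ∀ a b, cP fr σ hs a b = 1)
include hc

omit [FiniteDimensional F W] in
theorem br_congr {G A : Γ} {h : Om Q'} {d : W} (hG : σ G = fr.extOm h) (hA : σ A = eOm fr d) :
    ⁅G, A⁆ = br fr σ hs h d :=
  H76.Cover.comm_congr σ hc (by rw [hG, σ_lg]) (by rw [hA, σ_la])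

omit [FiniteDimensional F W] in
theorem br_conj {G : Γ} {l : Om Q'} (hG : σ G = fr.extOm l) (h : Om Q') (d : W) :
    G * br fr σ hs h d * G⁻¹ = br fr σ hs (l * h * l⁻¹) (l.1.1 d) := by
  rw [br, conjugate_commutatorElement]
  refine br_congr fr h7 σ hs hc ?_ ?_
  · rw [map_mul, map_mul, map_inv, hG, σ_lg, map_mul, map_mul, map_inv]
  · rw [map_mul, map_mul, map_inv, hG, σ_la, eOm_ext fr h7]

omit [FiniteDimensional F W] in
theorem br_central {h : Om Q'} {d : W} (hd : h.1.1 d = d) (g : Γ) :
    Commute g (br fr σ hs h d) := by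
  refine Subgroup.mem_center_iff.1 (hc ?_) g
  rw [MonoidHom.mem_ker, σ_br fr h7 σ hs, hd, sub_self, eOm_zero fr h7]

include hP

omit [FiniteDimensional F W] in
theorem br_add (h : Om Q') (d d' : W) :
    br fr σ hs h (d + d') = br fr σ hs h d * br fr σ hs h d' := by
  rw [← br_congr fr h7 σ hs hc (G := lg fr σ hs h) (A := la fr σ hs d * la fr σ hs d')
      (σ_lg fr σ hs h) (by rw [map_mul, σ_la, σ_la, eOm_add fr h7]),
    commutatorElement_mul_right_eq_mul_conj, mul_assoc ⁅lg fr σ hs h, la fr σ hs d⁆, mul_assoc,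
    (commute_of_cP fr h7 σ hs hc hP (σ_la fr σ hs d)
      ((map_commutatorElement σ _ _).trans ((map_commutatorElement σ _ _).symm.trans
        (σ_br fr h7 σ hs h d')))).eq,
    mul_inv_cancel_right]
  rfl

omit [FiniteDimensional F W] in
theorem br_zero (h : Om Q') : br fr σ hs h 0 = 1 := by
  have e := br_add fr h7 σ hs hc hP h 0 0
  rwa [add_zero, left_eq_mul] at e

omit [FiniteDimensional F W] in
theorem br_neg (h : Om Q') (d : W) : br fr σ hs h (-d) = (br fr σ hs h d)⁻¹ :=
  eq_inv_of_mul_eq_one_left (by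
    rw [← br_add fr h7 σ hs hc hP, neg_add_cancel, br_zero fr h7 σ hs hc hP])

variable (hq : ∀ c : F, c = 0 ∨ c = 1 ∨ c = -1)
include hq

omit [FiniteDimensional F W] in
theorem br_smul_one {h : Om Q'} {d : W} (hd : br fr σ hs h d = 1) (c : F) :
    br fr σ hs h (c • d) = 1 := by
  rcases hq c with rfl | rfl | rfl
  · rw [zero_smul, br_zero fr h7 σ hs hc hP]
  · rwa [one_smul]
  · rw [neg_one_smul, br_neg fr h7 σ hs hc hP, hd, inv_one]

omit hq hP [FiniteDimensional F W] in
/-- A commuting element kills the displacement of a fixed vector. -/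
theorem br_fix_kill {g g' : Om Q'} (hcm : Commute g g') {u : W} (hu : g.1.1 u = u) :
    br fr σ hs g (g'.1.1 u - u) = 1 := by
  rw [← br_congr fr h7 σ hs hc (G := lg fr σ hs g) (A := br fr σ hs g' u) (σ_lg fr σ hs g)
      (σ_br fr h7 σ hs g' u), commutatorElement_eq_one_iff_commute]
  have e := br_conj fr h7 σ hs hc (σ_lg fr σ hs g) g' u
  rw [hu, hcm.eq, mul_inv_cancel_right] at e
  exact mul_inv_eq_iff_eq_mul.1 e

/-- Root elements against their line. -/
theorem br_line {e k : W} (he : Q' e = 0) (hek : polB Q' e k = 0) (hk : Q' k = 0) :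
    br fr σ hs (el Q' e k) e = 1 := by
  have h5 := finrank_w fr h7
  have hnd := fr.nd'
  obtain ⟨m, hm, hm'⟩ : ∃ m, m ∈ (polB Q').orthogonal (Submodule.span F {e, k}) ∧
      m ∉ Submodule.span F {e, k} := by
    by_contra hcon
    push Not at hcon
    have h1 := Submodule.finrank_mono (show (polB Q').orthogonal (Submodule.span F {e, k}) ≤ _ from hcon)
    have h2 := finrank_orth_pair hnd e k
    have h3 := finrank_orth_add hnd (Submodule.span F {e, k})
    omega
  obtain ⟨u, hu, hmu⟩ := exists_orth_polB_eq hnd hm' (-1)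
  obtain ⟨hem, hkm⟩ := mem_orth_pair.1 hm
  have hue : polB Q' u e = 0 := by
    rw [polB_comm]; exact hu e (Submodule.subset_span (Set.mem_insert _ _))
  have huk : polB Q' u k = 0 := by
    rw [polB_comm]; exact hu k (Submodule.subset_span (Set.mem_insert_of_mem _ rfl))
  have hfix : (el Q' e k).1.1 u = u := by
    rw [coe_el hnd h5 he hek, eichler_fix he hek hue huk]
  have hcm : Commute (el Q' e k) (el Q' e m) := by
    show _ * _ = _ * _
    rw [el_mul hnd h5 he hek hem, el_mul hnd h5 he hem hek, add_comm]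
  have h := br_fix_kill fr h7 σ hs hc hcm hfix
  rw [coe_el hnd h5 he hem, eichler_apply he hem, hue, polB_comm u m, hmu] at h
  simpa using h

omit hP hq [Finite F] [FiniteDimensional F V] h7 hs hc in
theorem eichler_swap {e k : W} (he : Q' e = 0) (hk : Q' k = 0) (hek : polB Q' e k = 0) :
    eichler Q' k e = eichler Q' e (-k) := by
  apply orth_ext
  intro z
  rw [eichler_apply hk (by rw [polB_comm]; exact hek), eichler_apply he (by simp [hek]), qmap_neg,
    he, hk, map_neg]
  simp only [zero_mul, zero_smul, sub_zero, smul_neg, neg_smul, sub_neg_eq_add]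
  abel

omit hP hq hs hc in
include fr in
theorem el_swap {e k : W} (he : Q' e = 0) (hk : Q' k = 0) (hek : polB Q' e k = 0) :
    el Q' k e = el Q' e (-k) := by
  have h5 := finrank_w fr h7
  apply Subtype.ext
  rw [coe_el fr.nd' h5 hk (by rw [polB_comm]; exact hek), coe_el fr.nd' h5 he (by simp [hek]),
    eichler_swap he hk hek]

omit hP hq hs hc in
include fr in
theorem el_neg_eq_inv {e k : W} (he : Q' e = 0) (hek : polB Q' e k = 0) :
    el Q' e (-k) = (el Q' e k)⁻¹ := by
  have h5 := finrank_w fr h7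
  exact eq_inv_of_mul_eq_one_left (by
    rw [el_mul fr.nd' h5 he (by simp [hek]) hek, neg_add_cancel, el_zero fr.nd' h5 he])

theorem br_inv_central {g : Om Q'} {d : W} (hgd : g.1.1 d = d) :
    br fr σ hs g⁻¹ d = (br fr σ hs g d)⁻¹ := by
  have e : ⁅(lg fr σ hs g)⁻¹, la fr σ hs d⁆ = br fr σ hs g⁻¹ d :=
    br_congr fr h7 σ hs hc (by rw [map_inv, σ_lg, map_inv]) (σ_la fr σ hs d)
  rw [← e, show ⁅(lg fr σ hs g)⁻¹, la fr σ hs d⁆ =
      (lg fr σ hs g)⁻¹ * (br fr σ hs g d)⁻¹ * lg fr σ hs g by
        rw [br, commutatorElement_def, commutatorElement_def]; group,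
    mul_assoc, ← ((br_central fr h7 σ hs hc hgd (lg fr σ hs g)).inv_right).eq, inv_mul_cancel_left]

/-- Root elements against the orthogonal of their plane. -/
theorem br_plane (hA' : 6 ≤ Module.finrank F W ∧ ((3 : F) = 0 ∨ 7 ≤ Module.finrank F W ∨
      ∀ S : Submodule F W, (∀ z ∈ S, Q' z = 0) → Module.finrank F S ≤ 2))
    {e k d : W} (he : Q' e = 0) (hek : polB Q' e k = 0) (hk : Q' k = 0)
    (hli : LinearIndependent F ![e, k])
    (hde : polB Q' e d = 0) (hdk : polB Q' k d = 0) : br fr σ hs (el Q' e k) d = 1 := by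
  classical
  obtain ⟨h6W, hA⟩ := hA'
  have h5 := finrank_w fr h7
  have hnd := fr.nd'
  set S := Submodule.span F ({e, k} : Set W) with hS
  set U := (polB Q').orthogonal S with hU
  have hee : polB Q' e e = 0 := by rw [polB_self, he, mul_zero]
  have hkk : polB Q' k k = 0 := by rw [polB_self, hk, mul_zero]
  have hke : polB Q' k e = 0 := by rw [polB_comm]; exact hek
  have hfixU : ∀ z ∈ U, (el Q' e k).1.1 z = z := fun z hz => by
    obtain ⟨h1, h2⟩ := mem_orth_pair.1 hz
    rw [coe_el hnd h5 he hek, eichler_fix he hek (by rw [polB_comm]; exact h1)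
      (by rw [polB_comm]; exact h2)]
  have hline : ∀ z ∈ S, br fr σ hs (el Q' e k) z = 1 := by
    intro z hz
    obtain ⟨α, β, rfl⟩ := Submodule.mem_span_pair.1 hz
    have h1 := br_line fr h7 σ hs hc hP hq he hek hk
    have h2 := br_line fr h7 σ hs hc hP hq hk (k := -e) (by simp [hke]) (by rw [qmap_neg, he])
    rw [el_swap fr h7 (e := -e) (k := k) (by rw [qmap_neg, he]) hk (by simp [hek])] at h2
    rw [br_add fr h7 σ hs hc hP, br_smul_one fr h7 σ hs hc hP hq h1,
      br_smul_one fr h7 σ hs hc hP hq (d := k) ?_, one_mul]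
    have hE : el Q' (-e) (-k) = el Q' e k := by
      apply Subtype.ext
      rw [coe_el hnd h5 (by rw [qmap_neg, he]) (by simp [hek]), coe_el hnd h5 he hek,
        ← eichler_smul_left he hek (t := (-1 : F)) (by simp)]
      simp [inv_neg]
    rwa [hE] at h2
  -- a singular vector of `U`
  have hsing : ∀ a ∈ U, Q' a = 0 → br fr σ hs (el Q' e k) a = 1 := by
    intro a ha hqa
    by_cases haS : a ∈ S
    · exact hline a haS
    obtain ⟨hea, hka⟩ := mem_orth_pair.1 ha
    rcases hA with h3 | hA
    · -- the cyclic identity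
      have hcyc : ∀ {e k a : W}, Q' e = 0 → Q' k = 0 → Q' a = 0 → polB Q' e k = 0 →
          polB Q' e a = 0 → polB Q' k a = 0 → e ∉ Submodule.span F {k, a} →
          br fr σ hs (el Q' e k) a = (br fr σ hs (el Q' a e) k)⁻¹ := by
        intro e k a he hk ha' hek hea hka hno
        obtain ⟨u, hu, heu⟩ := exists_orth_polB_eq hnd hno (-1)
        have huk : polB Q' u k = 0 := by
          rw [polB_comm]; exact hu k (Submodule.subset_span (Set.mem_insert _ _))
        have hua : polB Q' u a = 0 := by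
          rw [polB_comm]; exact hu a (Submodule.subset_span (Set.mem_insert_of_mem _ rfl))
        have hue : polB Q' u e = -1 := by rw [polB_comm]; exact heu
        have hae : polB Q' a e = 0 := by rw [polB_comm]; exact hea
        have hak : polB Q' a k = 0 := by rw [polB_comm]; exact hka
        have hhu : (el Q' a e).1.1 u - u = a := by
          rw [coe_el hnd h5 ha' hae, eichler_apply ha' hae, hua, hue]
          simp
        have hgu : (el Q' e k).1.1 u = u + -k := by
          rw [coe_el hnd h5 he hek, eichler_apply he hek, hue, huk, hk]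
          simp [sub_eq_add_neg]
        have hfix : (el Q' a e).1.1 k = k := by
          rw [coe_el hnd h5 ha' hae, eichler_fix ha' hae hka (by rw [polB_comm]; exact hek)]
        have hcm : el Q' e k * el Q' a e * (el Q' e k)⁻¹ = el Q' a e := by
          rw [el_conj hnd h5 _ ha' hae, coe_el hnd h5 he hek,
            eichler_fix he hek hae hak,
            eichler_fix he hek (by rw [polB_self, he, mul_zero]) hek]
        rw [← br_congr fr h7 σ hs hc (G := lg fr σ hs (el Q' e k))
          (A := br fr σ hs (el Q' a e) u) (σ_lg fr σ hs _) (by rw [σ_br fr h7 σ hs, hhu]),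
          commutatorElement_def, br_conj fr h7 σ hs hc (σ_lg fr σ hs _) _ u, hcm, hgu,
          br_add fr h7 σ hs hc hP, br_neg fr h7 σ hs hc hP,
          ((br_central fr h7 σ hs hc hfix (br fr σ hs (el Q' a e) u)).inv_right).eq,
          mul_inv_cancel_right]
      have hind : ∀ {r s t : F}, r • e + s • k + t • a = 0 → r = 0 ∧ s = 0 ∧ t = 0 := by
        intro r s t h
        have ht : t = 0 := by
          by_contra ht
          refine haS (Submodule.mem_span_pair.2 ⟨-(t⁻¹ * r), -(t⁻¹ * s), ?_⟩)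
          have h' := congrArg (t⁻¹ • ·) h
          simp only [smul_add, smul_smul, inv_mul_cancel₀ ht, one_smul, smul_zero] at h'
          linear_combination (norm := module) -h'
        rw [ht, zero_smul, add_zero] at h
        obtain ⟨h1, h2⟩ := LinearIndependent.pair_iff.1 hli r s h
        exact ⟨h1, h2, ht⟩
      have n1 : e ∉ Submodule.span F {k, a} := fun h => by
        obtain ⟨r, s, hrs⟩ := Submodule.mem_span_pair.1 h
        exact one_ne_zero (hind (r := 1) (s := -r) (t := -s)
          (by linear_combination (norm := module) -hrs)).1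
      have n2 : a ∉ Submodule.span F {e, k} := haS
      have n3 : k ∉ Submodule.span F {a, e} := fun h => by
        obtain ⟨r, s, hrs⟩ := Submodule.mem_span_pair.1 h
        exact one_ne_zero (hind (r := -s) (s := 1) (t := -r)
          (by linear_combination (norm := module) -hrs)).2.1
      have e1 := hcyc he hk hqa hek hea hka n1
      have e2 := hcyc hqa he hk (by rw [polB_comm]; exact hea) (by rw [polB_comm]; exact hka)
        hek n2
      have e3 := hcyc hk hqa he hka hke (by rw [polB_comm]; exact hea) n3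
      rw [e2, inv_inv, e3] at e1
      have h2' : br fr σ hs (el Q' e k) (a + a + a) = 1 := by
        rw [show a + a + a = (3 : F) • a by module, h3, zero_smul, br_zero fr h7 σ hs hc hP]
      rw [br_add fr h7 σ hs hc hP, br_add fr h7 σ hs hc hP, mul_assoc] at h2'
      nth_rw 1 [e1] at h2'
      rwa [inv_mul_cancel_left] at h2'
    obtain ⟨m, hm, hm'⟩ : ∃ m, m ∈ (polB Q').orthogonal (Submodule.span F ({e, k, a} : Set W)) ∧
        m ∉ Submodule.span F ({e, k, a} : Set W) := by
      by_contra hcon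
      push Not at hcon
      have h1 := Submodule.finrank_mono (show (polB Q').orthogonal _ ≤ _ from hcon)
      have h2 := finrank_orth_add hnd (Submodule.span F ({e, k, a} : Set W))
      have h3 : Module.finrank F (Submodule.span F ({e, k, a} : Set W)) ≤ 3 := by
        have := finrank_span_finset_le_card (R := F) ({e, k, a} : Finset W)
        rw [Set.finrank, Finset.coe_insert, Finset.coe_insert, Finset.coe_singleton] at this
        exact this.trans Finset.card_le_three
      have hle : Module.finrank F (Submodule.span F ({e, k, a} : Set W)) ≤ 3 := h3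
      rcases hA with h7' | hTS
      · omega
      have h4 := hTS (Submodule.span F ({e, k, a} : Set W)) fun z hz => by
        obtain ⟨r, c, hcs, rfl⟩ := Submodule.mem_span_insert.1 hz
        obtain ⟨s', t', rfl⟩ := Submodule.mem_span_pair.1 hcs
        simp [qmap_add, qmap_smul, he, hk, hqa, hek, hea, hka]
      omega
    obtain ⟨u, hu, hmu⟩ := exists_orth_polB_eq hnd hm' (-1)
    have hsub : ∀ z ∈ ({e, k, a} : Set W), polB Q' u z = 0 ∧ polB Q' z m = 0 := fun z hz =>
      ⟨by rw [polB_comm]; exact hu z (Submodule.subset_span hz), hm z (Submodule.subset_span hz)⟩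
    obtain ⟨hue, hem⟩ := hsub e (by simp)
    obtain ⟨huk, hkm⟩ := hsub k (by simp)
    obtain ⟨hua, ham⟩ := hsub a (by simp)
    have hfix : (el Q' e k).1.1 u = u := by
      rw [coe_el hnd h5 he hek, eichler_fix he hek hue huk]
    have hcm : Commute (el Q' e k) (el Q' a m) := by
      have e' := el_conj hnd h5 (el Q' a m) he hek
      rw [coe_el hnd h5 hqa ham, eichler_fix hqa ham hea hem, eichler_fix hqa ham hka hkm] at e'
      exact (mul_inv_eq_iff_eq_mul.1 e').symm
    have h := br_fix_kill fr h7 σ hs hc hcm hfix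
    rw [coe_el hnd h5 hqa ham, eichler_apply hqa ham, hua, polB_comm u m, hmu] at h
    simpa using h
  have hUS : (polB Q').orthogonal U = S := by
    rw [hU, LinearMap.BilinForm.orthogonal_orthogonal hnd (polB_isRefl Q')]
  have hpart : ∀ z ∈ U, z ∉ S → ∃ b ∈ U, polB Q' z b ≠ 0 := by
    intro z hz hzS
    by_contra hcon
    push Not at hcon
    refine hzS (hUS ▸ ?_)
    intro b hb
    rw [polB_comm]; exact hcon b hb
  have hdU : d ∈ U := mem_orth_pair.2 ⟨hde, hdk⟩
  by_cases hex : ∃ z0 ∈ U, Q' z0 = 0 ∧ z0 ∉ S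
  · obtain ⟨z0, hz0, hqz0, hz0S⟩ := hex
    obtain ⟨y0, hy0, hne⟩ := hpart z0 hz0 hz0S
    suffices h : ∀ r : F, br fr σ hs (el Q' e k) (r • d) = 1 by simpa using h 1
    have hd := mem_span_singular hz0 hqz0 hy0 hne hdU
    clear hde hdk hdU
    induction hd using Submodule.span_induction with
    | mem z hz => exact fun r => hsing _ (U.smul_mem r hz.1) (by rw [qmap_smul, hz.2, mul_zero])
    | zero => intro r; rw [smul_zero, br_zero fr h7 σ hs hc hP]
    | add c c' _ _ hc1 hc2 =>
      intro r; rw [smul_add, br_add fr h7 σ hs hc hP, hc1, hc2, one_mul]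
    | smul t c _ hc1 => intro r; rw [smul_smul]; exact hc1 _
  push Not at hex
  by_cases hdS : d ∈ S
  · exact hline d hdS
  have hqd : Q' d ≠ 0 := fun h => hdS (hex d hdU h)
  -- products of two reflections inside `U`
  have hmove : ∀ a b, a ∈ U → b ∈ U → Q' a ≠ 0 → Q' b = Q' a → ∀ z ∈ U,
      br fr σ hs (el Q' e k) ((refl Q' a * refl Q' b).1 z - z) = 1 := by
    intro a b ha hb hqa hqb z hz
    have hqb0 : Q' b ≠ 0 := by rw [hqb]; exact hqa
    let h : Om Q' := ⟨refl Q' a * refl Q' b,
      refl_mul_refl_mem_commutator hnd (Or.inr (by omega)) (by omega) hqa hqb0 (by rw [hqb])⟩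
    have hf : ∀ c, polB Q' c a = 0 → polB Q' c b = 0 → h.1.1 c = c := fun c h1 h2 => by
      show (refl Q' a * refl Q' b).1 c = c
      rw [orth_mul_apply, refl_fix h2, refl_fix h1]
    obtain ⟨hea, hka⟩ := mem_orth_pair.1 ha
    obtain ⟨heb, hkb⟩ := mem_orth_pair.1 hb
    have hcm : h * el Q' e k * h⁻¹ = el Q' e k := by
      rw [el_conj hnd h5 h he hek, hf e hea heb, hf k hka hkb]
    have hcon := br_conj fr h7 σ hs hc (σ_lg fr σ hs h) (el Q' e k) z
    rw [hcm, (br_central fr h7 σ hs hc (hfixU z hz) (lg fr σ hs h)).eq, mul_inv_cancel_right] at hcon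
    rw [sub_eq_add_neg, br_add fr h7 σ hs hc hP, br_neg fr h7 σ hs hc hP]
    show br fr σ hs (el Q' e k) (h.1.1 z) * _ = 1
    rw [← hcon, mul_inv_cancel]
  obtain ⟨b0, hb0, hdb0⟩ := hpart d hdU hdS
  by_cases h2 : (2 : F) = 0
  · have h01 : ∀ c : F, c ≠ 0 → c = 1 := fun c hc0 => by
      rcases hq c with h | h | h
      · exact absurd h hc0
      · exact h
      · rw [h]; linear_combination -h2
    have hn : (-1 : F) = 1 := by linear_combination -h2
    have hdd : polB Q' d d = 0 := by rw [polB_self, h2, zero_mul]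
    have key : ∀ b ∈ U, polB Q' d b = 1 → br fr σ hs (el Q' e k) (d + b) = 1 := by
      intro b hb hdb
      have hqb0 : Q' b ≠ 0 := fun h => by
        have hbS := hex b hb h
        obtain ⟨r, s, rfl⟩ := Submodule.mem_span_pair.1 hbS
        simp [polB_comm d e, polB_comm d k, hde, hdk] at hdb
      have hqb : Q' b = Q' d := by rw [h01 _ hqd, h01 _ hqb0]
      have h := hmove d b hdU hb hqd hqb d hdU
      have hcalc : (refl Q' d * refl Q' b).1 d - d = d + b := by
        have hneg : ∀ z : W, -z = z := fun z => by rw [← neg_one_smul F z, hn, one_smul]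
        rw [orth_mul_apply, refl_apply b d, hqb, h01 _ hqd, inv_one, one_mul, hdb, one_smul,
          map_sub, refl_self hqd, refl_apply d b, h01 _ hqd, inv_one, one_mul, polB_comm b d, hdb,
          one_smul]
        have hz2 : ∀ z : W, (2 : F) • z = 0 := fun z => by rw [h2, zero_smul]
        linear_combination (norm := module) -hz2 d - hz2 b
      rwa [hcalc] at h
    have hdb : polB Q' d b0 = 1 := h01 _ hdb0
    have e1 := key b0 hb0 hdb
    have e2 := key (d + b0) (U.add_mem hdU hb0) (by rw [map_add, hdd, hdb, zero_add])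
    rw [← add_assoc, ← two_smul F d, h2, zero_smul, zero_add] at e2
    rwa [br_add fr h7 σ hs hc hP, e2, mul_one] at e1
  · have h3 : (3 : F) = 0 := by
      rcases hq 2 with h | h | h
      · exact absurd h h2
      · exact absurd (by linear_combination h : (1 : F) = 0) one_ne_zero
      · linear_combination h
    obtain ⟨b, ⟨hb, hbd⟩, hbS⟩ : ∃ b, (b ∈ U ∧ polB Q' d b = 0) ∧ b ∉ S := by
      by_contra hcon
      push Not at hcon
      have hle : U ⊓ (polB Q').orthogonal (F ∙ d) ≤ S :=
        fun b hb => hcon b ⟨hb.1, mem_orth_singleton.1 hb.2⟩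
      have h1 := Submodule.finrank_mono hle
      have h2' := finrank_orth_pair hnd e k
      have hd0 : d ≠ 0 := fun h => hdS (h ▸ S.zero_mem)
      have h3' := finrank_orth_singleton hnd hd0
      have h4 := Submodule.finrank_sup_add_finrank_inf_eq U ((polB Q').orthogonal (F ∙ d))
      have h5' := Submodule.finrank_le (U ⊔ (polB Q').orthogonal (F ∙ d))
      have h6 : Module.finrank F S = 2 := by
        rw [hS, ← Matrix.range_cons_cons_empty e k ![], finrank_span_eq_card hli, Fintype.card_fin]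
      change Module.finrank F W ≤ Module.finrank F U + 2 at h2'
      omega
    have hqb : Q' b = Q' d := by
      have hb0' : Q' b ≠ 0 := fun h => hbS (hex b hb h)
      by_contra hne
      have hsum : Q' (d + b) = 0 := by
        rw [qmap_add, hbd, add_zero]
        rcases hq (Q' d) with h | h | h <;> rcases hq (Q' b) with h' | h' | h' <;>
          first
          | exact absurd h hqd
          | exact absurd h' hb0'
          | exact absurd (h'.trans h.symm) hne
          | (rw [h, h']; ring)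
      have h1 := hex _ (U.add_mem hdU hb) hsum
      obtain ⟨r, s, hrs⟩ := Submodule.mem_span_pair.1 h1
      have h2' : polB Q' d (d + b) = 0 := by
        rw [← hrs]; simp [polB_comm d e, polB_comm d k, hde, hdk]
      rw [map_add, hbd, add_zero, polB_self] at h2'
      exact (mul_ne_zero h2 hqd) h2'
    have h := hmove d b hdU hb hqd hqb d hdU
    rw [orth_mul_apply, refl_fix hbd, refl_self hqd,
      show -d - d = d by
        have : (3 : F) • d = 0 := by rw [h3, zero_smul]
        linear_combination (norm := module) -this] at h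
    exact h

/-! ### The section on singular vectors -/

variable (hA : 6 ≤ Module.finrank F W ∧ ((3 : F) = 0 ∨ 7 ≤ Module.finrank F W ∨
  ∀ S : Submodule F W, (∀ z ∈ S, Q' z = 0) → Module.finrank F S ≤ 2))

omit h7 hP hq hc [Finite F] [FiniteDimensional F V] in
/-- Being an admissible companion of `k`. -/
def Comp (Q' : QuadraticForm F W) (e k : W) : Prop :=
  Q' e = 0 ∧ polB Q' e k = 0 ∧ LinearIndependent F ![e, k]

include hA

/-- The value at `k` with companion `e` does not depend on the auxiliary vector. -/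
theorem br_aux {e k u u' : W} (hk : Q' k = 0) (h : Comp Q' e k) (hu : polB Q' e u = polB Q' e u')
    (hu' : polB Q' k u = polB Q' k u') :
    br fr σ hs (el Q' e k) u = br fr σ hs (el Q' e k) u' := by
  have := br_plane fr h7 σ hs hc hP hq hA h.1 h.2.1 hk h.2.2 (d := u - u')
    (by rw [map_sub, hu, sub_self]) (by rw [map_sub, hu', sub_self])
  rw [← sub_add_cancel u u', br_add fr h7 σ hs hc hP, this, one_mul]

/-- Root elements fix their own values. -/
theorem br_self_conj {e k u : W} (hk : Q' k = 0) (h : Comp Q' e k) :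
    lg fr σ hs (el Q' e k) * br fr σ hs (el Q' e k) u * (lg fr σ hs (el Q' e k))⁻¹ =
      br fr σ hs (el Q' e k) u := by
  have h5 := finrank_w fr h7
  obtain ⟨he, hek, hli⟩ := h
  rw [br_conj fr h7 σ hs hc (σ_lg fr σ hs _), mul_inv_cancel_right]
  refine br_aux fr h7 σ hs hc hP hq hA hk ⟨he, hek, hli⟩ ?_ ?_
  · rw [coe_el fr.nd' h5 he hek, eichler_apply he hek]
    simp [polB_self, he, hek]
  · rw [coe_el fr.nd' h5 he hek, eichler_apply he hek]
    simp [polB_self, hk, polB_comm k e, hek]

theorem br_el_inv {e k u : W} (hk : Q' k = 0) (h : Comp Q' e k) :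
    br fr σ hs (el Q' e k)⁻¹ u = (br fr σ hs (el Q' e k) u)⁻¹ := by
  have e1 : ⁅(lg fr σ hs (el Q' e k))⁻¹, la fr σ hs u⁆ = br fr σ hs (el Q' e k)⁻¹ u :=
    br_congr fr h7 σ hs hc (by rw [map_inv, σ_lg, map_inv]) (σ_la fr σ hs u)
  have e2 := br_self_conj fr h7 σ hs hc hP hq hA (u := u) hk h
  have hcm : Commute (lg fr σ hs (el Q' e k)) (br fr σ hs (el Q' e k) u) :=
    mul_inv_eq_iff_eq_mul.1 e2
  rw [← e1, show ⁅(lg fr σ hs (el Q' e k))⁻¹, la fr σ hs u⁆ = (lg fr σ hs (el Q' e k))⁻¹ *
      (br fr σ hs (el Q' e k) u)⁻¹ * lg fr σ hs (el Q' e k) by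
        rw [br, commutatorElement_def, commutatorElement_def]; group,
    mul_assoc, ← hcm.inv_right.eq, inv_mul_cancel_left]

omit hA hq hP hc h7 [Finite F] [FiniteDimensional F V] in
theorem comp_neg {e k : W} (h : Comp Q' e k) : Comp Q' (-e) k := by
  obtain ⟨he, hek, hli⟩ := h
  refine ⟨by rw [qmap_neg, he], by simp [hek], ?_⟩
  rw [LinearIndependent.pair_iff] at hli ⊢
  intro r t hrt
  obtain ⟨h1, h2⟩ := hli (-r) t (by linear_combination (norm := module) hrt)
  exact ⟨neg_eq_zero.1 h1, h2⟩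

omit hA hq hP hc in
theorem σ_br_comp {e k u : W} (h : Comp Q' e k) (h1 : polB Q' e u = 1) (h2 : polB Q' k u = 0)
    (hk : Q' k = 0) : σ (br fr σ hs (el Q' e k) u) = eOm fr k := by
  rw [σ_br fr h7 σ hs, coe_el fr.nd' (finrank_w fr h7) h.1 h.2.1, eichler_apply h.1 h.2.1,
    polB_comm u e, h1, polB_comm u k, h2, hk]
  simp

/-- Companions with equal non-zero polar value against a third give the same value. -/
theorem val_move {e e' e1 k u u' : W} (hk : Q' k = 0) (h : Comp Q' e k) (h' : Comp Q' e' k)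
    (he1 : Q' e1 = 0) (he1k : polB Q' e1 k = 0) (hb : polB Q' e e1 ≠ 0)
    (hbb : polB Q' e' e1 = polB Q' e e1) (hu1 : polB Q' e u = 1) (hu2 : polB Q' k u = 0)
    (hu1' : polB Q' e' u' = 1) (hu2' : polB Q' k u' = 0) :
    br fr σ hs (el Q' e k) u = br fr σ hs (el Q' e' k) u' := by
  have h5 := finrank_w fr h7
  have hnd := fr.nd'
  have hk0 : k ≠ 0 := h.2.2.ne_zero 1
  have hee1 : polB Q' k e1 = 0 := by rw [polB_comm]; exact he1k
  have hc1 : Comp Q' e1 k := ⟨he1, he1k, by
    rw [LinearIndependent.pair_iff]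
    intro r t hrt
    have h1 := congrArg (polB Q' e) hrt
    simp [h.2.1, hb] at h1
    rw [h1, zero_smul, zero_add, smul_eq_zero] at hrt
    exact ⟨h1, hrt.resolve_right hk0⟩⟩
  have hk1 : k ∉ F ∙ e1 := fun hm => by
    obtain ⟨r, hr⟩ := Submodule.mem_span_singleton.1 hm
    exact one_ne_zero (α := F) (neg_eq_zero.1 ((LinearIndependent.pair_iff.1 hc1.2.2) r (-1)
      (by rw [hr, neg_one_smul, add_neg_cancel])).2)
  obtain ⟨u1, hv1, hv2⟩ := exists_polB_eq₂ hnd (hc1.2.2.ne_zero 0) hk1 1 0
  set b := polB Q' e e1 with hbdef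
  set m := b⁻¹ • (e' - e) with hm
  have he1m : polB Q' e1 m = 0 := by
    rw [hm, map_smul, map_sub, polB_comm e1 e', polB_comm e1 e, hbb, ← hbdef, sub_self, smul_zero]
  have hkm : polB Q' k m = 0 := by
    rw [hm, map_smul, map_sub, polB_comm k e', polB_comm k e, h'.2.1, h.2.1, sub_self, smul_zero]
  set l := el Q' e1 m
  have hlk : l.1.1 k = k := by rw [coe_el hnd h5 he1 he1m, eichler_fix he1 he1m hee1 hkm]
  have hl1 : l.1.1 e1 = e1 := by rw [coe_el hnd h5 he1 he1m, eichler_self_fix he1 he1m]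
  have hle : l.1.1 e = e' := by
    rw [coe_el hnd h5 he1 he1m, eichler_apply he1 he1m, ← hbdef, hm, smul_smul,
      mul_inv_cancel₀ hb, one_smul, qmap_smul, map_smul, qmap_sub, h.1, h'.1, polB_comm e' e,
      map_sub, polB_self, h.1, smul_eq_mul]
    match_scalars <;> field_simp <;> ring
  have hel : l * el Q' e k * l⁻¹ = el Q' e' k := by rw [el_conj hnd h5 l h.1 h.2.1, hle, hlk]
  have hel1 : l * el Q' e1 k * l⁻¹ = el Q' e1 k := by
    rw [el_conj hnd h5 l he1 he1k, hl1, hlk]
  obtain ⟨L, hL⟩ := hs (fr.extOm l)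
  set A := br fr σ hs (el Q' e k) u
  set B := br fr σ hs (el Q' e1 k) u1
  have hAB : Commute L (A * B⁻¹) := Subgroup.mem_center_iff.1 (hc (by
    rw [MonoidHom.mem_ker, map_mul, map_inv, σ_br_comp fr h7 σ hs h hu1 hu2 hk,
      σ_br_comp fr h7 σ hs hc1 hv1 hv2 hk, mul_inv_cancel])) L
  have eA : L * A * L⁻¹ = br fr σ hs (el Q' e' k) u' := by
    rw [br_conj fr h7 σ hs hc hL, hel]
    refine br_aux fr h7 σ hs hc hP hq hA hk h' ?_ ?_
    · rw [← hle, orth_polB_map, hu1, hle, hu1']
    · rw [← hlk, orth_polB_map, hu2, hlk, hu2']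
  have eB : L * B * L⁻¹ = B := by
    rw [br_conj fr h7 σ hs hc hL, hel1]
    refine br_aux fr h7 σ hs hc hP hq hA hk hc1 ?_ ?_
    · nth_rw 1 [← hl1]; rw [orth_polB_map]
    · nth_rw 1 [← hlk]; rw [orth_polB_map]
  have h3 : L * (A * B⁻¹) * L⁻¹ = (L * A * L⁻¹) * (L * B * L⁻¹)⁻¹ := by group
  rw [hAB.eq, mul_inv_cancel_right, eA, eB] at h3
  exact mul_right_cancel h3

/-- A companion with non-zero polar values to two companions identifies their values. -/
theorem val_common {e e' e1 k u u' : W} (hk : Q' k = 0) (h : Comp Q' e k) (h' : Comp Q' e' k)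
    (he1 : Q' e1 = 0) (he1k : polB Q' e1 k = 0) (hb : polB Q' e e1 ≠ 0)
    (hb' : polB Q' e' e1 ≠ 0) (hu1 : polB Q' e u = 1) (hu2 : polB Q' k u = 0)
    (hu1' : polB Q' e' u' = 1) (hu2' : polB Q' k u' = 0) :
    br fr σ hs (el Q' e k) u = br fr σ hs (el Q' e' k) u' := by
  have h5 := finrank_w fr h7
  by_cases hbb : polB Q' e' e1 = polB Q' e e1
  · exact val_move fr h7 σ hs hc hP hq hA hk h h' he1 he1k hb hbb hu1 hu2 hu1' hu2'
  have hn : polB Q' e' e1 = -polB Q' e e1 := by
    rcases hq (polB Q' e e1) with h1 | h1 | h1 <;> rcases hq (polB Q' e' e1) with h2 | h2 | h2 <;>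
      first
      | exact absurd h1 hb
      | exact absurd h2 hb'
      | exact absurd (h2.trans h1.symm) hbb
      | simp [h1, h2]
  rw [val_move fr h7 σ hs hc hP hq hA hk h (comp_neg h') he1 he1k hb
    (by rw [map_neg, LinearMap.neg_apply, hn, neg_neg]) hu1 hu2 (u' := -u')
    (by simp [hu1']) (by simp [hu2'])]
  have e3 : el Q' (-e') k = (el Q' e' k)⁻¹ := by
    apply Subtype.ext
    show _ = (el Q' e' k).1⁻¹
    rw [coe_el fr.nd' h5 (by rw [qmap_neg, h'.1]) (by simp [h'.2.1]),
      coe_el fr.nd' h5 h'.1 h'.2.1, eichler_inv h'.1 h'.2.1,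
      ← eichler_smul_left h'.1 (by simp [h'.2.1] : polB Q' e' (-k) = 0) (t := (-1 : F)) (by simp)]
    simp [inv_neg]
  rw [e3, br_el_inv fr h7 σ hs hc hP hq hA hk h', br_neg fr h7 σ hs hc hP, inv_inv]

/-- The value at `k` is canonical. -/
theorem val_unique {e e' k u u' : W} (hk : Q' k = 0) (h : Comp Q' e k) (h' : Comp Q' e' k)
    (hu1 : polB Q' e u = 1) (hu2 : polB Q' k u = 0) (hu1' : polB Q' e' u' = 1)
    (hu2' : polB Q' k u' = 0) :
    br fr σ hs (el Q' e k) u = br fr σ hs (el Q' e' k) u' := by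
  have hnd := fr.nd'
  have he0 : e ≠ 0 := h.2.2.ne_zero 0
  have hk0 : k ≠ 0 := h.2.2.ne_zero 1
  by_cases hb : polB Q' e e' = 0
  · obtain ⟨w, hwk, hwe, hwe'⟩ :
        ∃ w, polB Q' k w = 0 ∧ polB Q' e w = 1 ∧ polB Q' e' w ≠ 0 := by
      by_cases hsp : e' ∈ Submodule.span F {e, k}
      · obtain ⟨α, β, rfl⟩ := Submodule.mem_span_pair.1 hsp
        have hek' : k ∉ F ∙ e := fun hm => by
          obtain ⟨r, hr⟩ := Submodule.mem_span_singleton.1 hm
          exact one_ne_zero (α := F) (neg_eq_zero.1 ((LinearIndependent.pair_iff.1 h.2.2) r (-1)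
            (by rw [hr, neg_one_smul, add_neg_cancel])).2)
        obtain ⟨w, h1, h2⟩ := exists_polB_eq₂ hnd he0 hek' 1 0
        refine ⟨w, h2, h1, ?_⟩
        simp [h1, h2]
        rintro rfl
        exact one_ne_zero (α := F) (neg_eq_zero.1 ((LinearIndependent.pair_iff.1 h'.2.2) (-1) β
          (by simp)).1)
      · have hsp' : e ∉ Submodule.span F {e', k} := fun hm => by
          obtain ⟨r, t, hrt⟩ := Submodule.mem_span_pair.1 hm
          have hr : r ≠ 0 := fun h0 => by
            rw [h0, zero_smul, zero_add] at hrt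
            exact one_ne_zero (α := F) ((LinearIndependent.pair_iff.1 h.2.2) 1 (-t)
              (by rw [one_smul, neg_smul, ← hrt, add_neg_cancel])).1
          refine hsp (Submodule.mem_span_pair.2 ⟨r⁻¹, -(r⁻¹ * t), ?_⟩)
          rw [← hrt, smul_add, smul_smul, smul_smul, inv_mul_cancel₀ hr, one_smul]
          module
        obtain ⟨w1, a1, b1⟩ := exists_orth_polB_eq hnd hsp' 1
        obtain ⟨w2, a2, b2⟩ := exists_orth_polB_eq hnd hsp 1
        have q1 := a1 e' (Submodule.subset_span (Set.mem_insert _ _))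
        have q2 := a1 k (Submodule.subset_span (Set.mem_insert_of_mem _ rfl))
        have q3 := a2 e (Submodule.subset_span (Set.mem_insert _ _))
        have q4 := a2 k (Submodule.subset_span (Set.mem_insert_of_mem _ rfl))
        exact ⟨w1 + w2, by simp [q2, q4], by simp [b1, q3], by simp [q1, b2]⟩
    refine val_common fr h7 σ hs hc hP hq hA hk h h' (e1 := w + (-Q' w) • e) ?_ ?_ ?_ ?_
      hu1 hu2 hu1' hu2'
    · rw [qmap_add_smul, h.1, polB_comm w e, hwe]; ring
    · rw [polB_comm]
      simp [hwk, polB_comm k e, h.2.1]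
    · simp [hwe, polB_self, h.1]
    · simp [polB_comm e' e, hb, hwe']
  · set b := polB Q' e e'
    have hp : HypPair Q' e (b⁻¹ • e') := ⟨h.1, by rw [qmap_smul, h'.1, mul_zero],
      by rw [map_smul, smul_eq_mul, inv_mul_cancel₀ hb]⟩
    obtain ⟨f2⟩ := exists_frame hnd hp
    obtain ⟨k', hk'⟩ := f2.surj k h.2.1 (by simp [h'.2.1])
    have hk'0 : k' ≠ 0 := fun h0 => hk0 (by rw [← hk', h0, map_zero])
    obtain ⟨k2, hp2⟩ := exists_hypPair f2.nd' (show _ = (0 : F) by rw [← f2.form, hk', hk]) hk'0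
    obtain ⟨f3⟩ := exists_frame f2.nd' hp2
    have := f2.finrank_eq
    have := f3.finrank_eq
    have := hA.1
    obtain ⟨c, hc3⟩ := exists_qmap_eq f3.nd' (by omega) (-b) (neg_ne_zero.2 hb)
    set c' := f2.j (f3.j c)
    have hec : polB Q' e c' = 0 := (f2.orth _).1
    have he'c : polB Q' e' c' = 0 := by
      have := (f2.orth (f3.j c)).2
      rwa [map_smul, LinearMap.smul_apply, smul_eq_mul, mul_eq_zero,
        or_iff_right (inv_ne_zero hb)] at this
    have hkc : polB Q' k c' = 0 := by rw [← hk', f2.bform]; exact (f3.orth c).1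
    refine val_common fr h7 σ hs hc hP hq hA hk h h' (e1 := e + e' + c') ?_ ?_ ?_ ?_
      hu1 hu2 hu1' hu2'
    · rw [qmap_add, qmap_add, h.1, h'.1, map_add, LinearMap.add_apply, hec, he'c, f2.form, f3.form,
        hc3]
      ring
    · rw [polB_comm]
      simp [polB_comm k e, polB_comm k e', h.2.1, h'.2.1, hkc]
    · simp [polB_self, h.1, hec]; exact hb
    · simp [polB_self, h'.1, he'c, polB_comm e' e]; exact hb

omit hq hP hA hc hs in
include fr in
theorem exists_val {k : W} (hk : Q' k = 0) (hk0 : k ≠ 0) :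
    ∃ e u, Comp Q' e k ∧ polB Q' e u = 1 ∧ polB Q' k u = 0 := by
  obtain ⟨k', hp⟩ := exists_hypPair fr.nd' hk hk0
  obtain ⟨a, b, hq', h1, -, h3, -⟩ := exists_orth_pair fr.nd' (finrank_w fr h7) hp
  have hcomp : Comp Q' a k := ⟨hq'.left, by rw [polB_comm]; exact h1, by
    rw [LinearIndependent.pair_iff]
    intro r t hrt
    have ht : t = 0 := by
      have e1 := congrArg (polB Q' k') hrt
      simpa [h3, hp.symm.pair] using e1
    rw [ht, zero_smul, add_zero, smul_eq_zero] at hrt
    exact ⟨hrt.resolve_right hq'.left_ne_zero, ht⟩⟩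
  have hk' : k ∉ F ∙ a := fun hm => by
    obtain ⟨r, hr⟩ := Submodule.mem_span_singleton.1 hm
    exact one_ne_zero (α := F) (neg_eq_zero.1 ((LinearIndependent.pair_iff.1 hcomp.2.2) r (-1)
      (by rw [hr, neg_one_smul, add_neg_cancel])).2)
  obtain ⟨u, hu1, hu2⟩ := exists_polB_eq₂ fr.nd' hq'.left_ne_zero hk' 1 0
  exact ⟨a, u, hcomp, hu1, hu2⟩

omit hA hq hP hc h7 [FiniteDimensional F W] in
open scoped Classical in
/-- The section on singular vectors. -/
noncomputable def sec (k : W) : Γ :=
  if h : ∃ e u, Comp Q' e k ∧ polB Q' e u = 1 ∧ polB Q' k u = 0 then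
    br fr σ hs (el Q' h.choose k) h.choose_spec.choose
  else 1

theorem sec_eq {e k u : W} (hk : Q' k = 0) (h : Comp Q' e k) (h1 : polB Q' e u = 1)
    (h2 : polB Q' k u = 0) : sec fr σ hs k = br fr σ hs (el Q' e k) u := by
  have hex : ∃ e u, Comp Q' e k ∧ polB Q' e u = 1 ∧ polB Q' k u = 0 := ⟨e, u, h, h1, h2⟩
  rw [sec, dif_pos hex]
  obtain ⟨a, b, c⟩ := hex.choose_spec.choose_spec
  exact val_unique fr h7 σ hs hc hP hq hA hk a h b c h1 h2

omit hA hq hP hc h7 [FiniteDimensional F W] in
theorem sec_zero : sec fr σ hs 0 = 1 := by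
  rw [sec, dif_neg]
  rintro ⟨e, u, ⟨-, -, hli⟩, -⟩
  exact hli.ne_zero 1 rfl

theorem σ_sec {k : W} (hk : Q' k = 0) : σ (sec fr σ hs k) = eOm fr k := by
  by_cases hk0 : k = 0
  · rw [hk0, sec_zero fr σ hs, map_one, eOm_zero fr h7]
  obtain ⟨e, u, h, h1, h2⟩ := exists_val fr h7 hk hk0
  rw [sec_eq fr h7 σ hs hc hP hq hA hk h h1 h2, σ_br_comp fr h7 σ hs h h1 h2 hk]

/-- The section is equivariant. -/
theorem sec_conj {L : Γ} {l : Om Q'} (hL : σ L = fr.extOm l) {k : W} (hk : Q' k = 0) :
    L * sec fr σ hs k * L⁻¹ = sec fr σ hs (l.1.1 k) := by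
  by_cases hk0 : k = 0
  · rw [hk0, map_zero, sec_zero fr σ hs, mul_one, mul_inv_cancel]
  obtain ⟨e, u, h, h1, h2⟩ := exists_val fr h7 hk hk0
  rw [sec_eq fr h7 σ hs hc hP hq hA hk h h1 h2, br_conj fr h7 σ hs hc hL,
    el_conj fr.nd' (finrank_w fr h7) l h.1 h.2.1]
  refine (sec_eq fr h7 σ hs hc hP hq hA (by rw [orth_qmap, hk])
    ⟨by rw [orth_qmap, h.1], by rw [orth_polB_map, h.2.1], ?_⟩
    (by rw [orth_polB_map, h1]) (by rw [orth_polB_map, h2])).symm
  rw [LinearIndependent.pair_iff]
  intro r t hrt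
  refine LinearIndependent.pair_iff.1 h.2.2 r t (l.1.1.injective ?_)
  rw [map_add, map_smul, map_smul, hrt, map_zero]

/-- Additivity on orthogonal independent singular vectors. -/
theorem sec_add_indep {k k' : W} (hk : Q' k = 0) (hk' : Q' k' = 0) (hkk : polB Q' k k' = 0)
    (hli : LinearIndependent F ![k', k]) :
    sec fr σ hs (k + k') = sec fr σ hs k * sec fr σ hs k' := by
  have hnd := fr.nd'
  have h5 := finrank_w fr h7
  have hk'k : polB Q' k' k = 0 := by rw [polB_comm]; exact hkk
  have hk'0 : k' ≠ 0 := hli.ne_zero 0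
  have hn : k ∉ F ∙ k' := fun hm => by
    obtain ⟨r, hr⟩ := Submodule.mem_span_singleton.1 hm
    exact one_ne_zero (α := F) (neg_eq_zero.1 ((LinearIndependent.pair_iff.1 hli) r (-1)
      (by rw [hr, neg_one_smul, add_neg_cancel])).2)
  obtain ⟨u1, a1, b1⟩ := exists_polB_eq₂ hnd hk'0 hn 1 0
  obtain ⟨u2, a2, b2⟩ := exists_polB_eq₂ hnd hk'0 hn 0 1
  have hc1 : Comp Q' k' k := ⟨hk', hk'k, hli⟩
  have hc2 : Comp Q' k k' := ⟨hk, hkk, LinearIndependent.pair_symm_iff.1 hli⟩
  have hc3 : Comp Q' k' (k + k') := ⟨hk', by simp [hk'k, polB_self, hk'], by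
    rw [LinearIndependent.pair_iff]
    intro r t hrt
    obtain ⟨p1, p2⟩ := (LinearIndependent.pair_iff.1 hli) (r + t) t
      (by linear_combination (norm := module) hrt)
    exact ⟨by rwa [p2, add_zero] at p1, p2⟩⟩
  have hel : el Q' k' (k + k') = el Q' k' k := by
    apply Subtype.ext
    rw [coe_el hnd h5 hk' hc3.2.1, coe_el hnd h5 hk' hk'k]
    have := eichler_add_smul hk' hk'k (1 : F)
    rwa [one_smul] at this
  rw [sec_eq fr h7 σ hs hc hP hq hA (by rw [qmap_add, hk, hk', hkk]; simp) hc3 (u := u1 + -u2)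
      (by simp [a1, a2]) (by simp [a1, a2, b1, b2]), hel,
    sec_eq fr h7 σ hs hc hP hq hA hk hc1 a1 b1, sec_eq fr h7 σ hs hc hP hq hA hk' hc2 b2 a2,
    br_add fr h7 σ hs hc hP, el_swap fr h7 hk' hk hk'k, el_neg_eq_inv fr h7 hk' hk'k,
    br_el_inv fr h7 σ hs hc hP hq hA hk hc1, br_neg fr h7 σ hs hc hP]

theorem sec_neg {k : W} (hk : Q' k = 0) : sec fr σ hs (-k) = (sec fr σ hs k)⁻¹ := by
  by_cases hk0 : k = 0
  · rw [hk0, neg_zero, sec_zero fr σ hs, inv_one]
  obtain ⟨e, -, ⟨he, hek, hli⟩, -⟩ := exists_val fr h7 hk hk0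
  have hli' := LinearIndependent.pair_iff.1 hli
  have h1 := sec_add_indep fr h7 σ hs hc hP hq hA he hk hek (LinearIndependent.pair_symm_iff.1 hli)
  have h2 := sec_add_indep fr h7 σ hs hc hP hq hA (k := e + k) (k' := -k)
    (by rw [qmap_add, he, hk, hek]; simp) (by rw [qmap_neg, hk]) (by simp [hek, polB_self, hk])
    (by
      rw [LinearIndependent.pair_iff]
      intro r t hrt
      obtain ⟨p1, p2⟩ := hli' t (t - r) (by linear_combination (norm := module) hrt)
      exact ⟨(sub_eq_zero.1 p2).symm.trans p1, p1⟩)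
  rw [add_neg_cancel_right, h1, mul_assoc, left_eq_mul] at h2
  exact eq_inv_of_mul_eq_one_right h2

variable (hord : ∀ (g : Γ) (a : W), σ g = eOm fr a →
  ((2 : F) = 0 → g * g = 1) ∧ ((3 : F) = 0 → g * g * g = 1))
include hord

/-- Additivity on orthogonal singular vectors. -/
theorem sec_add {k k' : W} (hk : Q' k = 0) (hk' : Q' k' = 0) (hkk : polB Q' k k' = 0) :
    sec fr σ hs (k + k') = sec fr σ hs k * sec fr σ hs k' := by
  by_cases hk'0 : k' = 0
  · rw [hk'0, add_zero, sec_zero fr σ hs, mul_one]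
  by_cases hli : LinearIndependent F ![k', k]
  · exact sec_add_indep fr h7 σ hs hc hP hq hA hk hk' hkk hli
  rw [LinearIndependent.pair_iff' hk'0] at hli
  push Not at hli
  obtain ⟨r, hr⟩ := hli
  obtain ⟨h2, h3⟩ := hord (sec fr σ hs k') k' (σ_sec fr h7 σ hs hc hP hq hA hk')
  rcases hq r with h | h | h <;> subst h
  · rw [zero_smul] at hr
    rw [← hr, zero_add, sec_zero fr σ hs, one_mul]
  · rw [one_smul] at hr
    rw [← hr]
    by_cases h2' : (2 : F) = 0
    · rw [← two_smul F k', h2', zero_smul, sec_zero fr σ hs, h2 h2']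
    · have h3' : (3 : F) = 0 := by
        rcases hq 2 with h | h | h
        · exact absurd h h2'
        · exact absurd (by linear_combination h : (1 : F) = 0) one_ne_zero
        · linear_combination h
      rw [← two_smul F k', show (2 : F) = -1 by linear_combination h3', neg_one_smul,
        sec_neg fr h7 σ hs hc hP hq hA hk']
      exact inv_eq_of_mul_eq_one_left (by rw [← h3 h3', mul_assoc])
  · rw [neg_one_smul] at hr
    rw [← hr, neg_add_cancel, sec_zero fr σ hs, sec_neg fr h7 σ hs hc hP hq hA hk', inv_mul_cancel]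

/-- The complement to the kernel over the radical. -/
theorem good_of_section : Good σ x := by
  classical
  have h5 := finrank_w fr h7
  have hnd := fr.nd'
  let A : Subgroup Γ := (radU Q x).comap σ
  have hAe : ∀ g ∈ A, ∃ a, σ g = eOm fr a := fun g hg => by
    obtain ⟨a, ha⟩ := fr.mem_radO_iff.1 (show (σ g).1 ∈ radO Q x from hg)
    exact ⟨a, Subtype.ext (by rw [coe_eOm fr h7, ha])⟩
  letI : CommGroup A := { (inferInstance : Group A) with
    mul_comm := fun g g' => by
      obtain ⟨a, ha⟩ := hAe g g.2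
      obtain ⟨b, hb⟩ := hAe g' g'.2
      exact Subtype.ext (commute_of_cP fr h7 σ hs hc hP ha hb).eq }
  have hmemA : ∀ k, Q' k = 0 → sec fr σ hs k ∈ A := fun k hk => by
    show σ _ ∈ radU Q x
    rw [σ_sec fr h7 σ hs hc hP hq hA hk]
    exact el_mem_radU fr.nd (by omega) fr.qx (fr.orth k).1
  let S : W → Additive A := fun k =>
    if hk : Q' k = 0 then Additive.ofMul ⟨sec fr σ hs k, hmemA k hk⟩ else 0
  have hS : ∀ {k}, Q' k = 0 → ((S k).toMul : Γ) = sec fr σ hs k := fun {k} hk => by
    simp only [S, dif_pos hk]; rfl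
  have hSadd : ∀ {k k'}, Q' k = 0 → Q' k' = 0 → polB Q' k k' = 0 → S (k + k') = S k + S k' := by
    intro k k' hk hk' hkk
    apply Additive.toMul.injective
    apply Subtype.ext
    show _ = ((S k).toMul : Γ) * ((S k').toMul : Γ)
    rw [hS hk, hS hk', hS (by rw [qmap_add, hk, hk', hkk]; simp),
      sec_add fr h7 σ hs hc hP hq hA hord hk hk' hkk]
  have hS0 : S 0 = 0 := by
    apply Additive.toMul.injective
    apply Subtype.ext
    rw [hS (map_zero _), sec_zero fr σ hs]
    rfl
  have hSneg : ∀ {k}, Q' k = 0 → S (-k) = -S k := fun {k} hk => by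
    rw [eq_neg_iff_add_eq_zero, ← hSadd (by rw [qmap_neg, hk]) hk (by simp [polB_self, hk]),
      neg_add_cancel, hS0]
  obtain ⟨v, hv0, hv⟩ := exists_singular Q' (by omega)
  obtain ⟨w, hp⟩ := exists_hypPair hnd hv hv0
  obtain ⟨f2⟩ := exists_frame hnd hp
  have hline : ∀ {z : W}, Q' z = 0 → ∀ r r' : F, S ((r + r') • z) = S (r • z) + S (r' • z) :=
    fun {z} hz r r' => by
    rw [add_smul, hSadd (by rw [qmap_smul, hz, mul_zero]) (by rw [qmap_smul, hz, mul_zero])
      (by simp [polB_self, hz])]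
  let zc := fun c => f2.j c + v - (Q' (f2.j c)) • w
  have hwv : polB Q' w v = 1 := hp.symm.pair
  have hvv : polB Q' v v = 0 := by rw [polB_self, hv, mul_zero]
  have hww : polB Q' w w = 0 := by rw [polB_self, hp.right, mul_zero]
  have hqz : ∀ c, Q' (zc c) = 0 := fun c => by
    simp only [zc]
    rw [sub_eq_add_neg, ← neg_smul, qmap_add_smul, qmap_add, hp.left, hp.right,
      map_add, LinearMap.add_apply, (f2.orth' c).1, (f2.orth' c).2, hp.pair]
    ring
  let Fc := fun c => S (zc c) - S v + S (Q' (f2.j c) • w)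
  have hqw : ∀ r : F, Q' (r • w) = 0 := fun r => by rw [qmap_smul, hp.right, mul_zero]
  have hqv : ∀ r : F, Q' (r • v) = 0 := fun r => by rw [qmap_smul, hv, mul_zero]
  have hjw : ∀ c, polB Q' (f2.j c) w = 0 := fun c => (f2.orth' c).2
  have hjv : ∀ c, polB Q' (f2.j c) v = 0 := fun c => (f2.orth' c).1
  have hFk : ∀ c {k}, Q' (f2.j k) = 0 → Fc (c + k) = Fc c + S (f2.j k) := by
    intro c k hk
    set β := polB Q' (f2.j c) (f2.j k)
    have hq' : Q' (f2.j (c + k)) = Q' (f2.j c) + β := by rw [map_add, qmap_add, hk, add_zero]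
    have hz : zc (c + k) = zc c + (f2.j k + (-β) • w) := by
      simp only [zc]; rw [hq', map_add]; module
    have hsing : Q' (f2.j k + (-β) • w) = 0 := by
      rw [qmap_add_smul, hk, hp.right, hjw]; ring
    have horth : polB Q' (zc c) (f2.j k + (-β) • w) = 0 := by
      simp only [zc, map_add, map_sub, map_smul, LinearMap.add_apply, LinearMap.sub_apply,
        LinearMap.smul_apply, (f2.orth k).1, (f2.orth k).2, hjw, hp.pair, hww, smul_eq_mul]
      ring
    simp only [Fc]
    rw [hz, hSadd (hqz c) hsing horth, hSadd hk (hqw _) (by rw [map_smul, hjw, smul_zero]), hq',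
      hline hp.right, neg_smul, hSneg (hqw β)]
    abel
  have hF0 : Fc 0 = 0 := by
    simp [Fc, zc, hS0]
  have hFsing : ∀ {k}, Q' (f2.j k) = 0 → Fc k = S (f2.j k) := fun {k} hk => by
    have := hFk 0 hk
    rwa [zero_add, hF0, zero_add] at this
  have hFadd : ∀ c d, Fc (c + d) = Fc c + Fc d := by
    have h2 := f2.finrank_eq
    obtain ⟨z0, hz0, hz⟩ := exists_singular
      (Q'.restrict ((polB Q').orthogonal (Submodule.span F {v, w}))) (by omega)
    intro c d
    suffices h : ∀ (r : F) c, Fc (c + r • d) = Fc c + Fc (r • d) by simpa using h 1 c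
    have hd := mem_span_all_singular f2.nd' hz0 hz d
    clear c
    induction hd using Submodule.span_induction with
    | mem k hk =>
      intro r c
      have : Q' (f2.j (r • k)) = 0 := by rw [f2.form, qmap_smul, hk, mul_zero]
      rw [hFk c this, hFsing this]
    | zero => intro r c; rw [smul_zero, add_zero, hF0, add_zero]
    | add a b _ _ ha hb =>
      intro r c; rw [smul_add, ← add_assoc, hb, ha, hb, add_assoc]
    | smul t a _ ha => intro r c; rw [smul_smul]; exact ha _ c
  have hFneg : ∀ c, Fc (-c) = -Fc c := fun c => by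
    rw [eq_neg_iff_add_eq_zero, ← hFadd, neg_add_cancel, hF0]
  let T := fun z : W => S (polB Q' z w • v) + S (polB Q' z v • w) + Fc (f2.P z)
  have hTadd : ∀ a b, T (a + b) = T a + T b := fun a b => by
    simp only [T, map_add, LinearMap.add_apply]
    rw [hline hv, hline hp.right, hFadd]
    abel
  have hTS : ∀ {z}, Q' z = 0 → T z = S z := by
    intro z hz
    have hd := f2.decomp z
    simp only [T]
    generalize polB Q' z w = α at hd
    generalize polB Q' z v = β at hd
    generalize f2.P z = c at hd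
    subst hd
    have hγ : Q' (f2.j c) = -(α * β) := by
      rw [qmap_add, qmap_add, hqv, hqw] at hz
      simp [hp.pair, (f2.orth c).1, (f2.orth c).2] at hz
      linear_combination hz
    rcases hq α with h | h | h <;> subst h
    · rw [zero_mul, neg_zero] at hγ
      rw [zero_smul, zero_add, hS0, zero_add, hFsing hγ,
        hSadd (hqw β) hγ (by simp [(f2.orth c).2])]
    · rw [one_mul] at hγ
      have hzc : zc c = (1 : F) • v + β • w + f2.j c := by
        simp only [zc]; rw [hγ]; module
      simp only [Fc]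
      rw [hzc, hγ, one_smul, neg_smul, hSneg (hqw β)]
      abel
    · have hγ' : Q' (f2.j c) = β := by linear_combination hγ
      have hzc : zc (-c) = -((-1 : F) • v + β • w + f2.j c) := by
        simp only [zc]
        rw [map_neg, qmap_neg, hγ']; module
      have hFc : Fc c = -Fc (-c) := by rw [hFneg, neg_neg]
      rw [hFc]
      simp only [Fc]
      rw [hzc, hSneg hz, map_neg, qmap_neg, hγ', neg_one_smul, hSneg hp.left]
      abel
  let Φ : Multiplicative W →* Γ := MonoidHom.mk' (fun a => ((T a.toAdd).toMul : Γ)) fun a b => by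
    show ((T (a.toAdd + b.toAdd)).toMul : Γ) = _
    rw [hTadd]; rfl
  have hΦS : ∀ {z}, Q' z = 0 → Φ (Multiplicative.ofAdd z) = sec fr σ hs z := fun {z} hz => by
    show ((T z).toMul : Γ) = _
    rw [hTS hz, hS hz]
  obtain ⟨z0, hz00, hz0⟩ := exists_singular Q' (by omega)
  have hσΦ : ∀ z, σ (Φ (Multiplicative.ofAdd z)) = eOm fr z := by
    intro z
    suffices h : ∀ r : F, σ (Φ (Multiplicative.ofAdd (r • z))) = eOm fr (r • z) by simpa using h 1
    have hz := mem_span_all_singular hnd hz00 hz0 z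
    induction hz using Submodule.span_induction with
    | mem k hk =>
      intro r
      have hk' : Q' (r • k) = 0 := by rw [qmap_smul, hk, mul_zero]
      rw [hΦS hk', σ_sec fr h7 σ hs hc hP hq hA hk']
    | zero => intro r; rw [smul_zero, ofAdd_zero, map_one, map_one, eOm_zero fr h7]
    | add a b _ _ ha hb => intro r; rw [smul_add, ofAdd_add, map_mul, map_mul, ha, hb, eOm_add fr h7]
    | smul t a _ ha => intro r; rw [smul_smul]; exact ha _
  have hΦconj : ∀ {L : Γ} {l : Om Q'}, σ L = fr.extOm l → ∀ z,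
      L * Φ (Multiplicative.ofAdd z) * L⁻¹ = Φ (Multiplicative.ofAdd (l.1.1 z)) := by
    intro L l hL z
    suffices h : ∀ r : F, L * Φ (Multiplicative.ofAdd (r • z)) * L⁻¹ =
        Φ (Multiplicative.ofAdd (l.1.1 (r • z))) by simpa using h 1
    have hz := mem_span_all_singular hnd hz00 hz0 z
    induction hz using Submodule.span_induction with
    | mem k hk =>
      intro r
      have hk' : Q' (r • k) = 0 := by rw [qmap_smul, hk, mul_zero]
      rw [hΦS hk', hΦS (by rw [orth_qmap, hk']), sec_conj fr h7 σ hs hc hP hq hA hL hk']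
    | zero => intro r; rw [smul_zero, map_zero l.1.1, ofAdd_zero, map_one, mul_one, mul_inv_cancel]
    | add a b _ _ ha hb =>
      intro r
      rw [smul_add, map_add l.1.1, ofAdd_add, ofAdd_add, map_mul, map_mul, ← ha, ← hb]
      group
    | smul t a _ ha => intro r; rw [smul_smul]; exact ha _
  refine ⟨Φ.range, ?_, ?_, ?_⟩
  · apply le_antisymm
    · rintro _ ⟨_, ⟨a, rfl⟩, rfl⟩
      rw [show σ (Φ a) = eOm fr a.toAdd from hσΦ a.toAdd]
      exact el_mem_radU fr.nd (by omega) fr.qx (fr.orth _).1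
    · intro g hg
      obtain ⟨a, ha⟩ := fr.mem_radO_iff.1 (show g.1 ∈ radO Q x from hg)
      exact ⟨_, ⟨Multiplicative.ofAdd a, rfl⟩,
        (hσΦ a).trans (Subtype.ext (by rw [coe_eOm fr h7, ha]))⟩
  · rintro _ ⟨a, rfl⟩ hk
    rw [show σ (Φ a) = eOm fr a.toAdd from hσΦ a.toAdd] at hk
    have h := fr.E_inj (a := a.toAdd) (b := 0) (by rw [← coe_eOm fr h7, hk, fr.E_zero]; rfl)
    rw [show a = 1 from h, map_one]
  · have key : ∀ g : Γ, σ g ∈ stab Q x → ∀ b ∈ Φ.range, g * b * g⁻¹ ∈ Φ.range := by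
      rintro g hg _ ⟨a, rfl⟩
      obtain ⟨c, h, L, hL, rfl⟩ := exists_stab_parts fr h7 σ hs hc hg
      have hh : h ∈ commutator (orthGroup Q') := fr.mem_of_ext_mem h7 (hL ▸ (σ L).2)
      refine ⟨Multiplicative.ofAdd (h.1 a.toAdd), ?_⟩
      have e := hΦconj (L := L) (l := ⟨h, hh⟩) (Subtype.ext hL) a.toAdd
      rw [ofAdd_toAdd] at e
      rw [show la fr σ hs c * L * Φ a * (la fr σ hs c * L)⁻¹ =
          la fr σ hs c * (L * Φ a * L⁻¹) * (la fr σ hs c)⁻¹ by group, e,
        (commute_of_cP fr h7 σ hs hc hP (σ_la fr σ hs c) (hσΦ _)).eq, mul_inv_cancel_right]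
    intro g hg
    rw [Subgroup.mem_normalizer_iff]
    refine fun b => ⟨key g hg b, fun h => ?_⟩
    have := key g⁻¹ (by rw [map_inv]; exact inv_mem hg) _ h
    simpa [mul_assoc] using this

end

end H50.Or
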