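import Cfsg.Agent.H50.SU3Inv

/-! The commuting graph of the involutions of `SU 3`, odd characteristic. -/

set_option autoImplicit false

namespace H50

open Matrix Cfsg

variable {F : Type*} [Field F] [Fintype F] {q : ℕ} (hF : Fintype.card F = q ^ 2)
include hF

theorem ne_zero_of_norm_one {n : ℕ} {w : Fin n → F} (hw : hermForm n F q w w = 1) : w ≠ 0 := by
  rintro rfl
  simp [h_zero_left] at hw

theorem exists_perp_two_norm {z w : Fin 3 → F} (hz : hermForm 3 F q z z = 1)
    (hw : hermForm 3 F q w w = 1) (ha : hermForm 3 F q w z ^ (q + 1) ≠ 1) :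
    ∃ u, hermForm 3 F q u u = 1 ∧ hermForm 3 F q u z = 0 ∧ hermForm 3 F q u w = 0 ∧
      ∀ u', hermForm 3 F q u' z = 0 → hermForm 3 F q u' w = 0 → ∃ a : F, u' = a • u := by
  set a := hermForm 3 F q w z with hadef
  have hnd : GramND q ![z, w] := by
    intro c hc
    have h0 := hc 0
    have h1 := hc 1
    simp [Fin.sum_univ_two, h_add_left, h_smul_left, hz, hw, h_symm hF w z, ← hadef] at h0 h1
    have hc1 : c 1 * (1 - a ^ (q + 1)) = 0 := by
      linear_combination h1 - a ^ q * h0
    have hc10 : c 1 = 0 := (mul_eq_zero.1 hc1).resolve_right (sub_ne_zero.2 (Ne.symm ha))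
    rw [hc10] at h0
    funext i
    fin_cases i
    · simpa using h0
    · exact hc10
  obtain ⟨d, hd, hdb⟩ : ∃ d : Fin 1 → Fin 3 → F, IsON q d ∧
      ∀ a i, hermForm 3 F q (d a) (![z, w] i) = 0 := by
    have h := exists_completion hF hnd
    rwa [show 3 - Fintype.card (Fin 2) = 1 by simp] at h
  have h1 : hermForm 3 F q (d 0) z = 0 := hdb 0 0
  have h2 : hermForm 3 F q (d 0) w = 0 := hdb 0 1
  refine ⟨d 0, by simpa using hd 0 0, h1, h2, fun u' hz' hw' => ⟨hermForm 3 F q u' (d 0), ?_⟩⟩
  have hinj : Function.Injective (coords q (Sum.elim ![z, w] d)) :=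
    (LinearMap.injective_iff_surjective_of_finrank_eq_finrank (by simp)).2
      (coords_surjective hF (GramND.linearIndependent hF (sumElim_gramND hF hnd hd hdb)))
  refine hinj (funext fun i => ?_)
  rcases i with i | i
  · fin_cases i <;> simp [h_smul_left, hz', hw', h1, h2]
  · fin_cases i
    have hd0 : hermForm 3 F q (d 0) (d 0) = 1 := by simpa using hd 0 0
    simp [h_smul_left, hd0]

theorem no_perp_two_norm {z w : Fin 3 → F} (hz : hermForm 3 F q z z = 1)
    (hw : hermForm 3 F q w w = 1) (ha : hermForm 3 F q w z ^ (q + 1) = 1)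
    (hne : ∀ a : F, w ≠ a • z) {u : Fin 3 → F} (huz : hermForm 3 F q u z = 0)
    (huw : hermForm 3 F q u w = 0) : hermForm 3 F q u u = 0 := by
  set a := hermForm 3 F q w z with hadef
  set v := w - a • z with hv
  have hv0 : v ≠ 0 := sub_ne_zero.2 (hne a)
  have hvz : hermForm 3 F q v z = 0 := by simp [hv, h_sub_left, h_smul_left, hz, ← hadef]
  have hvw : hermForm 3 F q v w = 0 := by
    rw [hv, h_sub_left, h_smul_left, hw, h_symm hF w z, ← hadef, ← pow_succ', ha, sub_self]
  have hli : LinearIndependent F ![z, w] := by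
    rw [LinearIndependent.pair_iff' (ne_zero_of_norm_one hF hz)]
    exact fun c hc => hne c hc.symm
  have hfr := finrank_perp_range hF hli
  rw [Fintype.card_fin] at hfr
  have hmem : ∀ x, hermForm 3 F q x z = 0 → hermForm 3 F q x w = 0 →
      x ∈ perp q (Set.range ![z, w]) := fun x h1 h2 => by
    rw [mem_perp_range]; intro i; fin_cases i <;> assumption
  obtain ⟨c, hc⟩ := exists_smul_eq_of_finrank_eq_one
    (show Module.finrank F (perp q (Set.range ![z, w])) = 1 by omega)
    (show (⟨v, hmem v hvz hvw⟩ : perp q (Set.range ![z, w])) ≠ 0 from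
      fun h => hv0 (congrArg Subtype.val h)) ⟨u, hmem u huz huw⟩
  have hu : u = c • v := (congrArg Subtype.val hc).symm
  have hvv : hermForm 3 F q v v = 0 := by
    calc hermForm 3 F q v v = hermForm 3 F q v (w - a • z) := rfl
      _ = 0 := by rw [h_sub_right hF, h_smul_right hF, hvw, hvz, mul_zero, sub_zero]
  rw [hu, h_smul_left, h_smul_right hF, hvv, mul_zero, mul_zero]

theorem su3inv_commute_iff_ne (hq : Odd q) {z w : Fin 3 → F} (hz : hermForm 3 F q z z = 1)
    (hw : hermForm 3 F q w w = 1) :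
    (su3inv hF hq w hw ≠ su3inv hF hq z hz ∧
      Commute (su3inv hF hq z hz) (su3inv hF hq w hw)) ↔ hermForm 3 F q w z = 0 := by
  constructor
  · rintro ⟨hne, hc⟩
    rcases (su3inv_commute_iff hF hq hz hw).1 hc with h | h
    · exact h
    · exact absurd ((su3inv_eq_iff hF hq hz hw).2 h).symm hne
  · intro h
    refine ⟨fun he => ?_, (su3inv_commute_iff hF hq hz hw).2 (Or.inl h)⟩
    obtain ⟨a, ha⟩ := (su3inv_eq_iff hF hq hz hw).1 he.symm
    rw [ha, h_smul_left, hz, mul_one] at h
    rw [h, zero_smul] at ha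
    exact ne_zero_of_norm_one hF hw ha

/-- A common neighbour exists exactly when the inner product has norm different from one. -/
theorem su3inv_common_iff (hq : Odd q) {z w : Fin 3 → F} (hz : hermForm 3 F q z z = 1)
    (hw : hermForm 3 F q w w = 1)
    (hnc : ¬ Commute (su3inv hF hq z hz) (su3inv hF hq w hw)) :
    (∃ y : SU 3 F q, y ≠ 1 ∧ y * y = 1 ∧ Commute (su3inv hF hq z hz) y ∧
        Commute y (su3inv hF hq w hw)) ↔ hermForm 3 F q w z ^ (q + 1) ≠ 1 := by
  rw [su3inv_commute_iff] at hnc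
  push Not at hnc
  constructor
  · rintro ⟨y, hy1, hy2, h1, h2⟩ ha
    obtain ⟨u, hu, rfl⟩ := exists_su3inv hF hq y hy1 hy2
    have h1' := (su3inv_commute_iff hF hq hz hu).1 h1
    have h2' := (su3inv_commute_iff hF hq hu hw).1 h2
    rcases h1' with h1' | ⟨a, rfl⟩
    · rcases h2' with h2' | ⟨b, rfl⟩
      · have hzero := no_perp_two_norm hF hz hw ha hnc.2 h1' ((h_eq_zero_comm hF).1 h2')
        rw [hu] at hzero
        exact one_ne_zero hzero
      · rw [h_smul_left, h1', mul_zero] at hnc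
        exact hnc.1 rfl
    · rcases h2' with h2' | ⟨b, rfl⟩
      · rw [h_smul_right hF] at h2'
        rcases mul_eq_zero.1 h2' with h | h
        · rw [pow_q_eq_zero hF] at h
          rw [h, zero_smul] at hu
          simp [h_zero_left] at hu
        · exact hnc.1 h
      · exact hnc.2 (b * a) (smul_smul b a z)
  · intro ha
    obtain ⟨u, hu, huz, huw, -⟩ := exists_perp_two_norm hF hz hw ha
    exact ⟨su3inv hF hq u hu, su3inv_ne_one hF hq _ _, su3inv_sq hF hq _ _,
      (su3inv_commute_iff hF hq hz hu).2 (Or.inl huz),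
      (su3inv_commute_iff hF hq hu hw).2 (Or.inl ((h_eq_zero_comm hF).1 huw))⟩

/-- From a far vertex one can step into the neighbourhood at distance two. -/
theorem exists_step (hq : Odd q) {z w : Fin 3 → F} (hz : hermForm 3 F q z z = 1)
    (hw : hermForm 3 F q w w = 1) (ha : hermForm 3 F q w z ^ (q + 1) = 1)
    (hne : ∀ a : F, w ≠ a • z) :
    ∃ u, hermForm 3 F q u u = 1 ∧ hermForm 3 F q u z = 0 ∧
      hermForm 3 F q w u ^ (q + 1) ≠ 1 := by
  set a := hermForm 3 F q w z with hadef
  set v := w - a • z with hv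
  have hv0 : v ≠ 0 := sub_ne_zero.2 (hne a)
  have hvz : hermForm 3 F q v z = 0 := by simp [hv, h_sub_left, h_smul_left, hz, ← hadef]
  have hvv : hermForm 3 F q v v = 0 := by
    calc hermForm 3 F q v v = hermForm 3 F q (w - a • z) (w - a • z) := rfl
      _ = 0 := by
        simp only [h_sub_left, h_sub_right hF, h_smul_left, h_smul_right hF, hz, hw,
          h_symm hF w z, ← hadef]
        rw [pow_succ'] at ha
        linear_combination -ha
  have hzv := (h_eq_zero_comm hF).1 hvz
  have hli : LinearIndependent F ![z, v] := by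
    rw [LinearIndependent.pair_iff' (ne_zero_of_norm_one hF hz)]
    intro c hc
    have h1 := congrArg (fun x => hermForm 3 F q x z) hc
    simp only [h_smul_left, hz, mul_one, hvz] at h1
    rw [h1, zero_smul] at hc
    exact hv0 hc.symm
  obtain ⟨f0, hf0⟩ := exists_coords_eq hF hli ![0, 1]
  have hf0z : hermForm 3 F q f0 z = 0 := hf0 0
  have hf0v : hermForm 3 F q f0 v = 1 := hf0 1
  obtain ⟨s, hs⟩ := exists_trace_eq hF (c := -hermForm 3 F q f0 f0)
    (by rw [neg_pow_q hF, h_self_fixed hF])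
  set f := f0 + s • v with hfdef
  have hfz : hermForm 3 F q f z = 0 := by simp [hfdef, h_add_left, h_smul_left, hf0z, hvz]
  have hff : hermForm 3 F q f f = 0 := by
    simp only [hfdef, h_add_left, h_add_right hF, h_smul_left, h_smul_right hF, hvv, hf0v,
      h_symm hF f0 v, one_pow]
    linear_combination hs
  have hfv : hermForm 3 F q f v = 1 := by simp [hfdef, h_add_left, h_smul_left, hvv, hf0v]
  have hvf : hermForm 3 F q v f = 1 := by rw [h_symm hF f v, hfv, one_pow]
  obtain ⟨b, hb⟩ := exists_norm_eq hF (c := (-1 : F)) (by rw [neg_pow_q hF, one_pow])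
  have hb0 : b ≠ 0 := by
    rintro rfl; rw [zero_pow (by omega)] at hb; exact neg_ne_zero.2 one_ne_zero hb.symm
  obtain ⟨r, hr⟩ := exists_trace_eq hF (one_pow q)
  set c := r / b ^ q with hc
  have hcb : c * b ^ q = r := div_mul_cancel₀ _ (pow_ne_zero _ hb0)
  refine ⟨c • v + b • f, ?_, ?_, ?_⟩
  · simp only [h_add_left, h_add_right hF, h_smul_left, h_smul_right hF, hvv, hff, hvf, hfv]
    have hcbq : c ^ q * b = r ^ q := by rw [← hcb, mul_pow, pow_q_pow_q hF]
    linear_combination hcb + hcbq + hr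
  · simp [h_add_left, h_smul_left, hvz, hfz]
  · have hwv : w = v + a • z := by rw [hv]; abel
    have hwu : hermForm 3 F q w (c • v + b • f) = b ^ q := by
      rw [hwv]
      simp [h_add_left, h_add_right hF, h_smul_left, h_smul_right hF, hvv, hvf, hzv,
        (h_eq_zero_comm hF).1 hfz]
    rw [hwu, ← pow_mul, mul_comm, pow_mul, hb, neg_pow_q hF, one_pow]
    intro h
    exact two_ne_zero_of_odd hF hq (by linear_combination -h)

/-- Number of involutions. -/
theorem card_su3_involutions (hq : Odd q) :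
    (q + 1) * Nat.card {x : SU 3 F q // x ≠ 1 ∧ x * x = 1} = q ^ 2 * (q ^ 3 + 1) := by
  have h := card_su3inv_vectors hF hq (fun _ => True)
  rw [Nat.card_congr (Equiv.subtypeUnivEquiv fun _ => trivial)] at h
  rw [show Nat.card {x : SU 3 F q // x ≠ 1 ∧ x * x = 1} =
    Nat.card {x : SU 3 F q // x ≠ 1 ∧ x * x = 1 ∧ True} by simp only [and_true], ← h]
  exact normCount_three_one hF

theorem card_su3_neighbours (hq : Odd q) {z : Fin 3 → F} (hz : hermForm 3 F q z z = 1) :
    (q + 1) * Nat.card {x : SU 3 F q // x ≠ 1 ∧ x * x = 1 ∧ x ≠ su3inv hF hq z hz ∧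
      Commute (su3inv hF hq z hz) x} = q * (q ^ 2 - 1) := by
  rw [← card_su3inv_vectors hF hq
    (fun x => x ≠ su3inv hF hq z hz ∧ Commute (su3inv hF hq z hz) x)]
  obtain ⟨π, -, hsplit⟩ := card_norm_one_split hF hz (fun a _ => a = 0)
  rw [Nat.card_congr (Equiv.subtypeEquivRight fun w => su3inv_commute_iff_ne hF hq hz w.2), hsplit,
    ← normCount_two_one hF]
  refine Nat.card_congr
    { toFun := fun p => ⟨p.1.2, by
        have h := p.2.1
        rw [p.2.2, zero_pow (by omega), zero_add] at h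
        exact h⟩
      invFun := fun v => ⟨(0, v.1), by rw [zero_pow (by omega), zero_add]; exact v.2, rfl⟩
      left_inv := fun p => Subtype.ext (Prod.ext p.2.2.symm rfl)
      right_inv := fun v => rfl }

theorem card_su3_far (hq : Odd q) {z : Fin 3 → F} (hz : hermForm 3 F q z z = 1) :
    (q + 1) * Nat.card {x : SU 3 F q // x ≠ 1 ∧ x * x = 1 ∧ ¬ Commute (su3inv hF hq z hz) x ∧
        ∀ y : SU 3 F q, y ≠ 1 → y * y = 1 →
          ¬ (Commute (su3inv hF hq z hz) y ∧ Commute y x)} =
      (q + 1) * ((q ^ 2 - 1) * (q + 1)) := by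
  classical
  rw [← card_su3inv_vectors hF hq (fun x => ¬ Commute (su3inv hF hq z hz) x ∧
    ∀ y : SU 3 F q, y ≠ 1 → y * y = 1 → ¬ (Commute (su3inv hF hq z hz) y ∧ Commute y x))]
  obtain ⟨π, hπ, hsplit⟩ :=
    card_norm_one_split hF hz (fun a v => a ^ (q + 1) = 1 ∧ v ≠ 0)
  have hiff : ∀ w : {w : Fin 3 → F // hermForm 3 F q w w = 1},
      (¬ Commute (su3inv hF hq z hz) (su3inv hF hq w.1 w.2) ∧
        ∀ y : SU 3 F q, y ≠ 1 → y * y = 1 →
          ¬ (Commute (su3inv hF hq z hz) y ∧ Commute y (su3inv hF hq w.1 w.2))) ↔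
      (hermForm 3 F q w.1 z ^ (q + 1) = 1 ∧ π w.1 ≠ 0) := by
    intro w
    constructor
    · rintro ⟨hnc, hall⟩
      refine ⟨?_, fun h0 => hnc ((su3inv_commute_iff hF hq hz w.2).2 (Or.inr ((hπ _).1 h0)))⟩
      by_contra ha
      obtain ⟨y, hy1, hy2, h1, h2⟩ := (su3inv_common_iff hF hq hz w.2 hnc).2 ha
      exact hall y hy1 hy2 ⟨h1, h2⟩
    · rintro ⟨ha, hv⟩
      have hnc : ¬ Commute (su3inv hF hq z hz) (su3inv hF hq w.1 w.2) := by
        rw [su3inv_commute_iff]
        rintro (h0 | h0)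
        · rw [h0, zero_pow (by omega)] at ha
          exact zero_ne_one ha
        · exact hv ((hπ _).2 h0)
      refine ⟨hnc, fun y hy1 hy2 h => ?_⟩
      exact (su3inv_common_iff hF hq hz w.2 hnc).1 ⟨y, hy1, hy2, h.1, h.2⟩ ha
  rw [Nat.card_congr (Equiv.subtypeEquivRight hiff), hsplit]
  have e : Nat.card {v : Fin 2 → F // hermForm 2 F q v v = 0 ∧ v ≠ 0} = (q ^ 2 - 1) * (q + 1) := by
    have h1 : normCount 2 q F 0 =
        Nat.card {v : Fin 2 → F // hermForm 2 F q v v = 0 ∧ v ≠ 0} + 1 := by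
      rw [normCount, Nat.card_eq_fintype_card, Nat.card_eq_fintype_card, Fintype.card_subtype,
        Fintype.card_subtype, ← Finset.filter_filter, Finset.filter_ne', Finset.card_erase_add_one]
      simp [h_zero_left]
    rw [normCount_two_zero hF] at h1
    omega
  calc _ = Nat.card ({a : F // a ^ (q + 1) = 1} ×
        {v : Fin 2 → F // hermForm 2 F q v v = 0 ∧ v ≠ 0}) :=
        Nat.card_congr
          { toFun := fun p => (⟨p.1.1, p.2.2.1⟩, ⟨p.1.2, by
              have h := p.2.1
              rw [p.2.2.1] at h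
              linear_combination h, p.2.2.2⟩)
            invFun := fun p => ⟨(p.1.1, p.2.1), by rw [p.1.2, p.2.2.1, add_zero], p.1.2, p.2.2.2⟩
            left_inv := fun p => rfl
            right_inv := fun p => rfl }
    _ = _ := by rw [Nat.card_prod, card_norm_eq hF (one_pow q) one_ne_zero, e]

end H50
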