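import Cfsg.Agent.H50.SCFour
import Cfsg.Agent.H50.PPart
import Cfsg.Agent.H50.Center
import Cfsg.Agent.H50.Simple
import Cfsg.Agent.H76.CoverLift

/-!
The multiplier of `PSU n` outside the exceptional cases.
-/

set_option autoImplicit false

namespace H50.SUMult

open Matrix Cfsg
open H50.CExt H50.PointStab
open scoped commutatorElement

universe u v

variable {F : Type u} [Field F] [Fintype F] {n q : ℕ} (hF : Fintype.card F = q ^ 2)
include hF

/-- `SU n` has no non-trivial stem extension. -/
theorem stem_ker_eq_bot (hn : 3 ≤ n) (h3 : ¬(n = 3 ∧ q = 2))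
    (hexc : (n, q) ∉ ({(4, 2), (4, 3), (6, 2)} : Set (ℕ × ℕ)))
    {Γ : Type v} [Group Γ] [Finite Γ] (σ : Γ →* SU n F q) (hσ : IsStemExtension σ) : σ.ker = ⊥ := by
  classical
  simp only [Set.mem_insert_iff, Set.mem_singleton_iff, Prod.mk.injEq, not_or, not_and] at hexc
  obtain ⟨e42, e43, e62⟩ := hexc
  obtain ⟨hs, hc, hd⟩ := hσ
  obtain ⟨p, hp⟩ := CharP.exists F
  haveI : Fact p.Prime := ⟨CharP.char_is_prime F p⟩
  have h2 := two_le hF
  haveI : Finite (SU n F q) := Finite.of_surjective σ hs
  have hcop : ¬ p ∣ Nat.card σ.ker := by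
    intro h
    obtain ⟨⟨z, hz⟩, hord⟩ := exists_prime_orderOf_dvd_card' p h
    rw [Subgroup.orderOf_mk] at hord
    have hzp : z ^ p = 1 := hord ▸ pow_orderOf_eq_one z
    have hz1 : z = 1 := by
      rcases Nat.eq_or_lt_of_le hn with h3' | h4
      · exact PPart.eq_one_of_three hF σ hs hc h3'.symm
          (by
            by_contra hq
            exact h3 ⟨h3'.symm, by omega⟩) (hd hz) hz hzp
      · exact PPart.eq_one_of_four_le hF σ hs hc (by omega)
          (fun h => by
            by_contra hq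
            rcases (show q = 2 ∨ q = 3 by omega) with h' | h'
            · exact e42 h h'
            · exact e43 h h')
          (fun h => e62 h.2 h.1) (hd hz) hz hzp
    rw [hz1, orderOf_one] at hord
    exact (Fact.out : p.Prime).one_lt.ne hord
  have hsplit := SCFour.scp_all (p := p) hF n hn Γ σ hs hc hcop
  have hcomm : commutator Γ ≤ liftGrp p σ ⊤ := by
    rw [commutator_def, Subgroup.commutator_le]
    intro a _ b _
    obtain ⟨m, hm, x, hx, rfl⟩ := exists_mul_ker p σ hc hcop hs (pGen_SU hF n).1 a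
    obtain ⟨m', hm', y, hy, rfl⟩ := exists_mul_ker p σ hc hcop hs (pGen_SU hF n).1 b
    have hxy : ∀ w ∈ σ.ker, σ w = 1 := fun w h => h
    rw [H76.Cover.comm_congr σ hc (x' := m) (y' := m') (by rw [map_mul, hxy x hx, mul_one])
      (by rw [map_mul, hxy y hy, mul_one]), commutatorElement_def]
    exact mul_mem (mul_mem (mul_mem hm hm') (inv_mem hm)) (inv_mem hm')
  exact eq_bot_iff.2 fun z hz => hsplit.le ⟨hcomm (hd hz), hz⟩

/-- The centre of `SU n` is cyclic. -/
theorem isCyclic_center (hn : 2 ≤ n) : IsCyclic (Subgroup.center (SU n F q)) := by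
  haveI : Finite (SU n F q) := Finite.of_injective (fun g => suMat g) fun a b h => SU_ext h
  have hsc : ∀ g : Subgroup.center (SU n F q), ∃ l : F, suMat g.1 = l • 1 :=
    fun g => (mem_center_iff_scalar hF hn).1 g.2
  let i : Fin n := ⟨0, by omega⟩
  let f : Subgroup.center (SU n F q) →* F :=
    { toFun := fun g => suMat g.1 i i
      map_one' := by simp [suMat_one]
      map_mul' := fun a b => by
        obtain ⟨l, hl⟩ := hsc a
        obtain ⟨l', hl'⟩ := hsc b
        show suMat (a.1 * b.1) i i = suMat a.1 i i * suMat b.1 i i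
        rw [suMat_mul, hl, hl']
        simp [mul_comm] }
  refine isCyclic_of_subgroup_isDomain f fun a b hab => ?_
  obtain ⟨l, hl⟩ := hsc a
  obtain ⟨l', hl'⟩ := hsc b
  change suMat a.1 i i = suMat b.1 i i at hab
  rw [hl, hl'] at hab
  simp at hab
  exact Subtype.ext (SU_ext (hl.trans (hab ▸ hl'.symm)))

theorem hasMultiplier_PSU (hn : 3 ≤ n) (h3 : ¬(n = 3 ∧ q = 2))
    (hexc : (n, q) ∉ ({(4, 2), (4, 3), (6, 2)} : Set (ℕ × ℕ))) :
    Cfsg.HasCyclicSchurMultiplier (Cfsg.PSU n F q) (Nat.gcd n (q + 1)) := by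
  haveI : Finite (SU n F q) := Finite.of_injective (fun g => suMat g) fun a b h => SU_ext h
  haveI := isCyclic_center hF (n := n) (by omega)
  have hperf := SU_perfect hF hn h3
  have hker : (QuotientGroup.mk' (Subgroup.center (SU n F q))).ker = Subgroup.center _ :=
    QuotientGroup.ker_mk' _
  have e : (QuotientGroup.mk' (Subgroup.center (SU n F q))).ker ≃*
      Multiplicative (ZMod (Nat.gcd n (q + 1))) :=
    (MulEquiv.subgroupCongr hker).trans (mulEquivOfCyclicCardEq (by
      rw [card_center_SU hF (by omega), Nat.card_congr Multiplicative.toAdd, Nat.card_zmod]))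
  refine H76.Cover.hasSchurMultiplier _ ⟨QuotientGroup.mk'_surjective _, hker.le, ?_⟩
    (H76.Cover.splits_of_stem hperf fun Γ _ _ σ hσ => stem_ker_eq_bot hF hn h3 hexc σ hσ) e
  rw [hperf]
  exact le_top

end H50.SUMult
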