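import Cfsg.Agent.H50.Center
import Cfsg.Agent.H50.Count
import Cfsg.Prelude.Def_LieRecognition

/-! The Sylow 2-subgroup of `PSU_3(q)`, `q` even, as a Suzuki 2-group. -/

set_option autoImplicit false

namespace H50.SuzU3

open Matrix Cfsg

variable {F : Type*} [Field F] [Fintype F] {q : ℕ} (hF : Fintype.card F = q ^ 2)

/-- Coordinates `(a, b)` with `b + b ^ q = a ^ (q + 1)`. -/
@[ext]
structure UPt (hF : Fintype.card F = q ^ 2) where
  a : F
  b : F
  eqn : b + b ^ q = a * a ^ q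

namespace UPt

instance : Mul (UPt hF) :=
  ⟨fun x y => ⟨x.a + y.a, x.b + y.b + x.a ^ q * y.a, by
    rw [add_pow_q hF, add_pow_q hF, add_pow_q hF, mul_pow, pow_q_pow_q hF]
    linear_combination x.eqn + y.eqn⟩⟩

instance : One (UPt hF) := ⟨⟨0, 0, by simp [zero_pow (q_ne_zero hF)]⟩⟩

instance : Inv (UPt hF) :=
  ⟨fun x => ⟨-x.a, -x.b + x.a ^ q * x.a, by
    rw [add_pow_q hF, neg_pow_q hF, neg_pow_q hF, mul_pow, pow_q_pow_q hF]
    linear_combination -x.eqn⟩⟩

@[simp] theorem mul_a (x y : UPt hF) : (x * y).a = x.a + y.a := rfl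
@[simp] theorem mul_b (x y : UPt hF) : (x * y).b = x.b + y.b + x.a ^ q * y.a := rfl
@[simp] theorem one_a : (1 : UPt hF).a = 0 := rfl
@[simp] theorem one_b : (1 : UPt hF).b = 0 := rfl
@[simp] theorem inv_a (x : UPt hF) : x⁻¹.a = -x.a := rfl
@[simp] theorem inv_b (x : UPt hF) : x⁻¹.b = -x.b + x.a ^ q * x.a := rfl

instance : Group (UPt hF) := Group.ofLeftAxioms
  (fun x y z => by ext <;> simp [add_pow_q hF] <;> ring)
  (fun x => by ext <;> simp [zero_pow (q_ne_zero hF)])
  (fun x => by ext <;> simp [neg_pow_q hF])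

instance : Finite (UPt hF) :=
  Finite.of_injective (fun x => (x.a, x.b)) fun x y h =>
    UPt.ext (congrArg Prod.fst h) (congrArg Prod.snd h)

theorem card : Nat.card (UPt hF) = q ^ 3 := by
  classical
  have e : UPt hF ≃ Σ a : F, {b : F // b + b ^ q = a * a ^ q} :=
    { toFun := fun x => ⟨x.a, x.b, x.eqn⟩
      invFun := fun p => ⟨p.1, p.2.1, p.2.2⟩
      left_inv := fun x => rfl
      right_inv := fun p => rfl }
  rw [Nat.card_congr e, Nat.card_sigma,
    Finset.sum_congr rfl (fun a _ => card_trace_eq hF (c := a * a ^ q) ?_), Finset.sum_const,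
    Finset.card_univ, hF, smul_eq_mul]
  · ring
  · rw [mul_pow, pow_q_pow_q hF, mul_comm]

section Two
variable (h2 : (2 : F) = 0)
include h2

theorem mul_self (x : UPt hF) : (x * x).a = 0 ∧ (x * x).b = x.a ^ q * x.a :=
  ⟨by rw [mul_a]; linear_combination x.a * h2, by rw [mul_b]; linear_combination x.b * h2⟩

theorem mul_self_eq_one {x : UPt hF} : x * x = 1 ↔ x.a = 0 := by
  constructor
  · intro h
    have := congrArg UPt.b h
    rw [(mul_self hF h2 x).2, one_b] at this
    rcases mul_eq_zero.1 this with h | h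
    · exact (pow_q_eq_zero hF).1 h
    · exact h
  · intro h
    ext
    · exact (mul_self hF h2 x).1
    · rw [(mul_self hF h2 x).2, h, one_b, mul_zero]

theorem isPGroup : IsPGroup 2 (UPt hF) := fun x => ⟨2, by
  rw [pow_two, pow_mul, pow_two, pow_two]
  exact (mul_self_eq_one hF h2).2 (mul_self hF h2 x).1⟩

theorem mem_center {x : UPt hF} : x ∈ Subgroup.center (UPt hF) ↔ x.a = 0 := by
  rw [Subgroup.mem_center_iff]
  constructor
  · intro h
    have key : ∀ c : F, c ^ q * x.a = x.a ^ q * c := fun c => by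
      obtain ⟨d, hd⟩ := exists_trace_eq hF (c := c * c ^ q)
        (by rw [mul_pow, pow_q_pow_q hF, mul_comm])
      have := congrArg UPt.b (h ⟨c, d, hd⟩)
      simp only [mul_b] at this
      linear_combination this
    obtain ⟨c, hc⟩ := exists_trace_ne_zero hF
    have h1 := key 1
    rw [one_pow, one_mul, mul_one] at h1
    have h3 := key c
    rw [← h1] at h3
    refine (mul_eq_zero.1 (show x.a * (c + c ^ q) = 0 from ?_)).resolve_right hc
    linear_combination h3 + x.a * c * h2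
  · intro hx y
    ext
    · simp [add_comm]
    · simp [hx, zero_pow (q_ne_zero hF), add_comm]

theorem card_center : Nat.card (Subgroup.center (UPt hF)) = q := by
  refine Eq.trans (Nat.card_congr ?_) (card_trace_ker hF)
  exact
    { toFun := fun x => ⟨x.1.b, by
        show x.1.b + x.1.b ^ q = 0
        rw [x.1.eqn, (mem_center hF h2).1 x.2, zero_mul]⟩
      invFun := fun b => ⟨⟨0, b.1, by rw [zero_mul]; exact b.2⟩, (mem_center hF h2).2 rfl⟩
      left_inv := fun x => Subtype.ext (UPt.ext ((mem_center hF h2).1 x.2).symm rfl)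
      right_inv := fun b => rfl }

end Two

/-- Scaling by an element of the fixed field. -/
def scale (l : Fˣ) (hl : (l : F) ^ q = l) : UPt hF ≃* UPt hF where
  toFun x := ⟨l * x.a, l * l * x.b, by
    rw [mul_pow, mul_pow, mul_pow, hl]; linear_combination ((l : F) * l) * x.eqn⟩
  invFun x := ⟨(↑l⁻¹ : F) * x.a, (↑l⁻¹ : F) * ↑l⁻¹ * x.b, by
    rw [mul_pow, mul_pow, mul_pow, Units.val_inv_eq_inv_val, inv_pow, hl]
    linear_combination ((l : F)⁻¹ * (l : F)⁻¹) * x.eqn⟩
  left_inv x := by ext <;> simp [← mul_assoc]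
  right_inv x := by ext <;> simp [← mul_assoc]
  map_mul' x y := by ext <;> simp [mul_pow, hl] <;> ring

theorem isSuzuki (h2 : (2 : F) = 0) (hq : 3 ≤ q) : IsSuzukiTwoGroup (UPt hF) := by
  classical
  haveI : CharP F 2 := CharTwo.of_one_ne_zero_of_two_eq_zero one_ne_zero h2
  have hfix : ∀ {b : F}, b + b ^ q = 0 ↔ b ^ q = b := fun {b} =>
    ⟨fun h => by linear_combination h - b * h2, fun h => by linear_combination h + b * h2⟩
  refine ⟨inferInstance, isPGroup hF h2, ?_, ?_, ?_⟩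
  · obtain ⟨c, hc⟩ := exists_trace_ne_zero hF
    obtain ⟨b, hb⟩ := exists_trace_eq hF (c := (1 : F) * 1 ^ q) (by simp)
    obtain ⟨d, hd⟩ := exists_trace_eq hF (c := c * c ^ q)
      (by rw [mul_pow, pow_q_pow_q hF, mul_comm])
    refine ⟨⟨1, b, hb⟩, ⟨c, d, hd⟩, fun h => hc ?_⟩
    have := congrArg UPt.b h
    simp at this
    linear_combination this + c ^ q * h2
  · obtain ⟨b, hbq, hb0, hb1⟩ : ∃ b : F, b ^ q = b ∧ b ≠ 0 ∧ b ≠ 1 := by
      by_contra h
      push Not at h
      have := Nat.card_le_card_of_injective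
        (fun x : {x : F // x ^ q = x} => (⟨x.1, by
          by_cases h0 : x.1 = 0
          · simp [h0]
          · simp [h x.1 x.2 h0]⟩ : ({0, 1} : Finset F)))
        (fun x y hxy => Subtype.ext (congrArg (fun z : ({0, 1} : Finset F) => (z : F)) hxy))
      rw [card_fixed hF, Nat.card_eq_fintype_card, Fintype.card_coe] at this
      have h' := Finset.card_le_two (a := (0 : F)) (b := 1)
      omega
    refine ⟨⟨0, 1, by rw [zero_mul]; exact hfix.2 (one_pow q)⟩,
      ⟨0, b, by rw [zero_mul]; exact hfix.2 hbq⟩, fun h => hb1 (congrArg UPt.b h).symm,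
      fun h => one_ne_zero (congrArg UPt.b h), (mul_self_eq_one hF h2).2 rfl,
      fun h => hb0 (congrArg UPt.b h), (mul_self_eq_one hF h2).2 rfl⟩
  · let T : Subgroup Fˣ := (powMonoidHom (q - 1)).ker
    have hT : ∀ l : Fˣ, l ∈ T ↔ (l : F) ^ q = l := fun l => by
      simp only [T, MonoidHom.mem_ker, powMonoidHom_apply, ← Units.val_inj, Units.val_pow_eq_pow_val,
        Units.val_one]
      conv_rhs => rw [show q = q - 1 + 1 by omega, pow_succ, mul_eq_right₀ l.ne_zero]
    let φ : T →* MulAut (UPt hF) :=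
      { toFun := fun l => scale hF l.1 ((hT l.1).1 l.2)
        map_one' := MulEquiv.ext fun x => by ext <;> simp [scale]
        map_mul' := fun l m => MulEquiv.ext fun x => by
          ext <;> simp [scale] <;> ring }
    refine ⟨φ.range, isCyclic_of_surjective φ.rangeRestrict φ.rangeRestrict_surjective, ?_⟩
    intro x y hx1 hx hy1 hy
    have hxa := (mul_self_eq_one hF h2).1 hx
    have hya := (mul_self_eq_one hF h2).1 hy
    have hxb : x.b ≠ 0 := fun h => hx1 (UPt.ext hxa h)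
    have hyb : y.b ≠ 0 := fun h => hy1 (UPt.ext hya h)
    have hxq : x.b ^ q = x.b := hfix.1 (by rw [x.eqn, hxa, zero_mul])
    have hyq : y.b ^ q = y.b := hfix.1 (by rw [y.eqn, hya, zero_mul])
    obtain ⟨m, hm⟩ := (bijective_frobenius F 2).2 (y.b / x.b)
    rw [frobenius_def] at hm
    have hm0 : m ≠ 0 := by
      rintro rfl
      exact div_ne_zero hyb hxb (by rw [← hm]; simp)
    have hmT : Units.mk0 m hm0 ∈ T := (hT _).2 <| (bijective_frobenius F 2).1 <| by
      simp only [frobenius_def, Units.val_mk0]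
      rw [← pow_mul, mul_comm, pow_mul, hm, div_pow, hxq, hyq]
    have hmap : ∀ l : T, φ l x = y ↔ ((l : Fˣ) : F) ^ 2 * x.b = y.b := fun l => by
      constructor
      · intro h
        rw [sq, ← h]; rfl
      · intro h
        ext
        · show ((l : Fˣ) : F) * x.a = y.a
          rw [hxa, hya, mul_zero]
        · show ((l : Fˣ) : F) * (l : Fˣ) * x.b = y.b
          rw [← sq]; exact h
    refine ⟨⟨φ ⟨_, hmT⟩, _, rfl⟩, (hmap _).2 ?_, ?_⟩
    · show m ^ 2 * x.b = y.b
      rw [hm, div_mul_cancel₀ _ hxb]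
    · rintro ⟨_, l, rfl⟩ hk
      refine Subtype.ext (congrArg φ (Subtype.ext (Units.ext ((bijective_frobenius F 2).1 ?_))))
      simp only [frobenius_def, Units.val_mk0]
      rw [hm, ← (hmap l).1 hk, mul_div_cancel_right₀ _ hxb]

end UPt

/-- The upper unitriangular matrix of a point. -/
def upMat (x : UPt hF) : Matrix (Fin 3) (Fin 3) F := !![1, x.a ^ q, x.b; 0, 1, x.a; 0, 0, 1]

/-- The change of basis. -/
def baseMat (w : F) : Matrix (Fin 3) (Fin 3) F := !![1, 0, w; 1, 0, 1 + w; 0, 1, 0]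

/-- Its inverse. -/
def baseInv (w : F) : Matrix (Fin 3) (Fin 3) F := !![1 + w, w, 0; 0, 0, 1; 1, 1, 0]

include hF in
/-- An embedding into `SU`. -/
theorem exists_hom (h2 : (2 : F) = 0) :
    ∃ f : UPt hF →* Cfsg.SU 3 F q, Function.Injective f := by
  have hq0 := q_ne_zero hF
  obtain ⟨w, hw⟩ := exists_trace_eq hF (c := (1 : F)) (one_pow q)
  have hPQ : baseMat w * baseInv w = 1 := by
    ext i j
    fin_cases i <;> fin_cases j <;>
      simp [baseMat, baseInv, Matrix.mul_apply, Fin.sum_univ_three] <;>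
      (ring_nf; simp [h2])
  have hQP : baseInv w * baseMat w = 1 := mul_eq_one_comm.1 hPQ
  have hform : ∀ x y : Fin 3 → F, hermForm 3 F q (baseMat w *ᵥ x) (baseMat w *ᵥ y) =
      x 0 * y 2 ^ q + x 1 * y 1 ^ q + x 2 * y 0 ^ q := by
    intro x y
    simp only [hermForm, baseMat, Matrix.mulVec, dotProduct, Fin.sum_univ_three]
    simp [add_pow_q hF, mul_pow]
    linear_combination (x 2 * (y 2) ^ q) * hw +
      (x 0 * (y 0) ^ q + x 0 * (y 2) ^ q * w ^ q + x 2 * (y 0) ^ q * w + x 2 * (y 2) ^ q * (w * w ^ q)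
        + x 2 * (y 2) ^ q) * h2
  have hiso : ∀ p : UPt hF, IsIso q (baseMat w * upMat hF p * baseInv w) := by
    intro p u v
    rw [← mulVec_mulVec, ← mulVec_mulVec, ← mulVec_mulVec, ← mulVec_mulVec, hform]
    conv_rhs => rw [← one_mulVec u, ← one_mulVec v, ← hPQ, ← mulVec_mulVec, ← mulVec_mulVec, hform]
    simp only [upMat, Matrix.mulVec, dotProduct, Fin.sum_univ_three]
    simp [add_pow_q hF, mul_pow, pow_q_pow_q hF]
    generalize (baseInv w 0 0 * u 0 + baseInv w 0 1 * u 1 + baseInv w 0 2 * u 2) = u0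
    generalize (baseInv w 1 0 * u 0 + baseInv w 1 1 * u 1 + baseInv w 1 2 * u 2) = u1
    generalize (baseInv w 2 0 * u 0 + baseInv w 2 1 * u 1 + baseInv w 2 2 * u 2) = u2
    generalize (baseInv w 0 0 ^ q * v 0 ^ q + baseInv w 0 1 ^ q * v 1 ^ q + baseInv w 0 2 ^ q * v 2 ^ q) = v0
    generalize (baseInv w 1 0 ^ q * v 0 ^ q + baseInv w 1 1 ^ q * v 1 ^ q + baseInv w 1 2 ^ q * v 2 ^ q) = v1
    generalize (baseInv w 2 0 ^ q * v 0 ^ q + baseInv w 2 1 ^ q * v 1 ^ q + baseInv w 2 2 ^ q * v 2 ^ q) = v2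
    linear_combination (u2 * v2) * p.eqn +
      (p.a ^ q * u1 * v2 + p.a * u2 * v1 + p.a ^ q * p.a * u2 * v2) * h2
  have hdet : ∀ p : UPt hF, (baseMat w * upMat hF p * baseInv w).det = 1 := by
    intro p
    rw [det_mul, det_mul, show (upMat hF p).det = 1 by simp [upMat, Matrix.det_fin_three], mul_one,
      ← det_mul, hPQ, det_one]
  refine ⟨MonoidHom.mk' (fun p => mkSU _ (hiso p) (hdet p)) fun x y => SU_ext ?_, ?_⟩
  · show baseMat w * upMat hF (x * y) * baseInv w =
      baseMat w * upMat hF x * baseInv w * (baseMat w * upMat hF y * baseInv w)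
    have hup : upMat hF x * upMat hF y = upMat hF (x * y) := by
      ext i j
      fin_cases i <;> fin_cases j <;>
        simp [upMat, Matrix.mul_apply, Fin.sum_univ_three, add_pow_q hF] <;> ring
    rw [← hup]
    simp only [mul_assoc]
    rw [← mul_assoc (baseInv w), hQP, one_mul]
  · intro p p' h
    have h' : baseMat w * upMat hF p * baseInv w = baseMat w * upMat hF p' * baseInv w :=
      congrArg (fun g : Cfsg.SU 3 F q =>
        ((g : Matrix.SpecialLinearGroup (Fin 3) F) : Matrix (Fin 3) (Fin 3) F)) h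
    have h'' := congrArg (fun M => baseInv w * M * baseMat w) h'
    simp only [← mul_assoc, hQP, one_mul] at h''
    simp only [mul_assoc, hQP, mul_one] at h''
    have e1 := congrFun (congrFun h'' 1) 2
    have e2 := congrFun (congrFun h'' 0) 2
    simp [upMat] at e1 e2
    exact UPt.ext e1 e2

theorem isSuzuki_congr {P Q : Type*} [Group P] [Group Q] (e : P ≃* Q) (h : IsSuzukiTwoGroup P) :
    IsSuzukiTwoGroup Q := by
  obtain ⟨hfin, hp, ⟨x, y, hxy⟩, ⟨a, b, hab, ha1, ha, hb1, hb⟩, K, hK, hreg⟩ := h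
  have hne : ∀ {z : P}, z ≠ 1 → e z ≠ 1 := fun hz h => hz (e.map_eq_one_iff.1 h)
  refine ⟨Finite.of_equiv P e.toEquiv, hp.of_equiv e, ⟨e x, e y, fun h => hxy (e.injective (by simpa using h))⟩,
    ⟨e a, e b, fun h => hab (e.injective h), hne ha1, by rw [← map_mul, ha, map_one], hne hb1,
      by rw [← map_mul, hb, map_one]⟩,
    K.map (MulAut.congr e).toMonoidHom, isCyclic_of_surjective (K.equivMapOfInjective _ (MulAut.congr e).injective).toMonoidHom
      (MulEquiv.surjective _), fun x y hx1 hx hy1 hy => ?_⟩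
  obtain ⟨k, hk, huniq⟩ := hreg (e.symm x) (e.symm y) (fun h => hx1 (e.symm.map_eq_one_iff.1 h))
    (by rw [← map_mul, hx, map_one]) (fun h => hy1 (e.symm.map_eq_one_iff.1 h))
    (by rw [← map_mul, hy, map_one])
  refine ⟨⟨MulAut.congr e k.1, k.1, k.2, rfl⟩, ?_, ?_⟩
  · show e (k.1 (e.symm x)) = y
    rw [hk, e.apply_symm_apply]
  · rintro ⟨_, l, hl, rfl⟩ h
    have h' : e (l (e.symm x)) = y := h
    refine Subtype.ext (congrArg (MulAut.congr e) ?_)
    exact congrArg Subtype.val (huniq ⟨l, hl⟩ (by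
      show l (e.symm x) = e.symm y
      rw [← h', e.symm_apply_apply]))

include hF in
/-- The Sylow 2-subgroups of `PSU_3(q)` for even `q`. -/
theorem sylow_two {n : ℕ} (hn : 2 ≤ n) (hqn : q = 2 ^ n) (S : Sylow 2 (Cfsg.PSU 3 F q)) :
    Nat.card S = q ^ 3 ∧
      Nat.card (Subgroup.center ↥(S : Subgroup (Cfsg.PSU 3 F q))) = q ∧
      IsSuzukiTwoGroup ↥(S : Subgroup (Cfsg.PSU 3 F q)) := by
  classical
  have h2 : (2 : F) = 0 := by
    have h : ((Fintype.card F : ℕ) : F) = 0 := Nat.cast_card_eq_zero F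
    rw [hF, hqn, ← pow_mul, Nat.cast_pow, Nat.cast_ofNat] at h
    exact eq_zero_of_pow_eq_zero h
  obtain ⟨f, hf⟩ := exists_hom hF h2
  let π := QuotientGroup.mk' (Subgroup.center (Cfsg.SU 3 F q))
  have hq2 : 2 ∣ q := hqn ▸ dvd_pow_self 2 (by omega)
  have hπf : Function.Injective (π.comp f) := by
    rw [← MonoidHom.ker_eq_bot_iff, eq_bot_iff]
    intro x hx
    have hxc : f x ∈ Subgroup.center (Cfsg.SU 3 F q) := by
      rw [MonoidHom.mem_ker, MonoidHom.comp_apply] at hx
      exact (QuotientGroup.eq_one_iff _).1 hx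
    rw [Subgroup.mem_bot, ← orderOf_eq_one_iff]
    refine Nat.eq_one_of_dvd_coprimes (a := 2 ^ (3 * n)) (b := Nat.gcd 3 (q + 1)) ?_ ?_ ?_
    · refine Nat.Coprime.pow_left _ (Nat.Coprime.coprime_dvd_right (Nat.gcd_dvd_left _ _) ?_)
      norm_num
    · have := orderOf_dvd_natCard x
      rw [UPt.card hF] at this
      exact this.trans (dvd_of_eq ((congrArg (· ^ 3) hqn).trans (by rw [← pow_mul, mul_comm])))
    · rw [← orderOf_injective f hf, ← Subgroup.orderOf_mk _ hxc, ← card_center_SU hF (n := 3) (by norm_num)]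
      exact orderOf_dvd_natCard _
  set U : Subgroup (Cfsg.PSU 3 F q) := (π.comp f).range
  let eU : UPt hF ≃* U := MonoidHom.ofInjective hπf
  have hUcard : Nat.card U = q ^ 3 := by rw [← Nat.card_congr eU.toEquiv, UPt.card hF]
  have hUle : U ≤ ⊤ := le_top
  have hindex : ¬ 2 ∣ U.index := by
    intro hd
    have h1 := Subgroup.card_mul_index U
    have h := card_PSU_mul hF (n := 3) (by norm_num)
    rw [card_GU hF, ← h1, hUcard] at h
    norm_num [Finset.prod_range_succ] at h
    obtain ⟨k, hk⟩ := hd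
    rw [hk] at h
    obtain ⟨r, hr⟩ := hq2
    have hq4 : 4 ≤ q := by
      calc 4 = 2 ^ 2 := rfl
        _ ≤ q := hqn ▸ Nat.pow_le_pow_right (by norm_num) hn
    have e1 : 1 ≤ q ^ 2 := Nat.one_le_pow _ _ (by omega)
    have key : (2 : ℤ) ∣ (((q + 1) * (q ^ 2 - 1) * (q ^ 3 + 1) : ℕ) : ℤ) → False := by
      push_cast [e1]
      intro hh
      have hq' : (2 : ℤ) ∣ (q : ℤ) := ⟨r, by exact_mod_cast hr⟩
      obtain ⟨s, hs⟩ := hq'
      rw [hs] at hh
      obtain ⟨t, ht⟩ := hh
      ring_nf at ht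
      omega
    apply key
    refine ⟨((q + 1) * Nat.gcd 3 (q + 1) * k : ℕ), ?_⟩
    have hq30 : 0 < q ^ 3 := by positivity
    have h' : q ^ 3 * ((q + 1) * (q ^ 2 - 1) * (q ^ 3 + 1)) =
        q ^ 3 * (2 * ((q + 1) * Nat.gcd 3 (q + 1) * k)) := by
      linarith
    exact_mod_cast Nat.eq_of_mul_eq_mul_left hq30 h'
  have hp : IsPGroup 2 U := (UPt.isPGroup hF h2).of_equiv eU
  let P : Sylow 2 (Cfsg.PSU 3 F q) := hp.toSylow hindex
  have e : UPt hF ≃* (S : Subgroup (Cfsg.PSU 3 F q)) := eU.trans (P.equiv S)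
  refine ⟨?_, ?_, isSuzuki_congr e (UPt.isSuzuki hF h2 ?_)⟩
  · rw [← UPt.card hF]; exact (Nat.card_congr e.toEquiv).symm
  · exact (Nat.card_congr (Subgroup.centerCongr e).toEquiv).symm.trans (UPt.card_center hF h2)
  · calc 3 ≤ 2 ^ 2 := by norm_num
      _ ≤ q := hqn ▸ Nat.pow_le_pow_right (by norm_num) hn

end H50.SuzU3
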