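import Cfsg.Agent.H50.LeechUnitary
import Cfsg.Agent.H35.K4
import Cfsg.Agent.H50.TriU6Data
import Cfsg.Agent.H95.McLTriple
import Cfsg.Agent.H95.Co2Simple

/-!
The stabiliser of a triangle of minimal vectors is `PSU(6,2)`.
-/

set_option autoImplicit false
set_option maxRecDepth 100000
-- one kernel computation at a time: they are memory hungry
set_option Elab.async false

namespace H50
namespace TriU6

open Cfsg Matrix H50.LeechU

abbrev K : Type := H35.G24.K4
abbrev W : Type := Fin 6 → K

theorem hK : Fintype.card K = 2 ^ 2 := H35.G24.K4.card_eq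

/-- decoding -/
def dec (c : ℕ) : W := fun i => H35.G24.K4.ofN (c / 4 ^ (i : ℕ) % 4)

/-- encoding -/
def enc (v : W) : ℕ := (v 0).v.val + 4 * (v 1).v.val + 16 * (v 2).v.val + 64 * (v 3).v.val + 256 * (v 4).v.val + 1024 * (v 5).v.val

theorem dec_enc (v : W) : dec (enc v) = v := by
  funext i
  apply H35.G24.K4.equivFin.injective
  apply Fin.ext
  have h0 := (v 0).v.isLt
  have h1 := (v 1).v.isLt
  have h2 := (v 2).v.isLt
  have h3 := (v 3).v.isLt
  have h4 := (v 4).v.isLt
  have h5 := (v 5).v.isLt
  fin_cases i <;>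
    (simp [dec, enc, H35.G24.K4.ofN, H35.G24.K4.equivFin]; omega)

/-- the table in chunks -/
def C : List (List (Entry 6 K)) := tab.map fun l => l.map fun e => (decY e.1, e.2.map dec)

/-- the transvection points -/
def rt (i : Fin 6) : W := dec (roots.getD i.val 0)

/-- trace zero scalar -/
def c0 : K := H35.G24.K4.ofN 1

theorem c0_ok : c0 + c0 ^ 2 = 0 ∧ ∀ c : K, c + c ^ 2 = 0 → ∃ k : Fin 2, (k : ℕ) * c0 = c := by
  decide +kernel

theorem rt_iso : ∀ i, hermForm 6 K 2 (rt i) (rt i) = 0 := by decide +kernel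

/-- the transvections -/
noncomputable def g (i : Fin 6) : SU 6 K 2 := tv hK (rt i) c0 (rt_iso i) c0_ok.1

theorem g_apply (i : Fin 6) (x : W) : suMat (g i) *ᵥ x = tvv 2 (rt i) c0 x :=
  tv_mulVec hK (rt i) c0 (rt_iso i) c0_ok.1 x

/-- the matrices -/
def rowsOf (i : Fin 6) : List (List ℤ) := rowsE.getD i.val []

theorem rows_gens : ∀ i, H95.matOK (rowsOf i) = true := by decide +kernel

theorem rows_orth : ∀ (i : Fin 6) (a b : GolayPt),
    ∑ p, H95.entryL (rowsOf i) p a * H95.entryL (rowsOf i) p b = if a = b then 64 else 0 := by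
  decide +kernel

/-- the lattice automorphisms -/
def mat (i : Fin 6) : H95.MatData := ⟨rowsOf i, rows_gens i, rows_orth i⟩

/-- one chunk of the step check -/
def rowOK (i : Fin 6) (p : List (Entry 6 K) × List ℕ) : Bool :=
  decide (p.1.length = p.2.length) && (p.1.zip p.2).all (cellOK 2 C 27 (rowsOf i) (rt i) c0)

theorem step0a :
    ((C.zip (moves.getD 0 [])).take 16).all (rowOK 0) = true := by
  decide +kernel

theorem step0b :
    ((C.zip (moves.getD 0 [])).drop 16).all (rowOK 0) = true := by
  decide +kernel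

theorem step1a :
    ((C.zip (moves.getD 1 [])).take 16).all (rowOK 1) = true := by
  decide +kernel

theorem step1b :
    ((C.zip (moves.getD 1 [])).drop 16).all (rowOK 1) = true := by
  decide +kernel

theorem step2a :
    ((C.zip (moves.getD 2 [])).take 16).all (rowOK 2) = true := by
  decide +kernel

theorem step2b :
    ((C.zip (moves.getD 2 [])).drop 16).all (rowOK 2) = true := by
  decide +kernel

theorem step3a :
    ((C.zip (moves.getD 3 [])).take 16).all (rowOK 3) = true := by
  decide +kernel

theorem step3b :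
    ((C.zip (moves.getD 3 [])).drop 16).all (rowOK 3) = true := by
  decide +kernel

theorem step4a :
    ((C.zip (moves.getD 4 [])).take 16).all (rowOK 4) = true := by
  decide +kernel

theorem step4b :
    ((C.zip (moves.getD 4 [])).drop 16).all (rowOK 4) = true := by
  decide +kernel

theorem step5a :
    ((C.zip (moves.getD 5 [])).take 16).all (rowOK 5) = true := by
  decide +kernel

theorem step5b :
    ((C.zip (moves.getD 5 [])).drop 16).all (rowOK 5) = true := by
  decide +kernel

theorem moves_len : ∀ i : Fin 6, C.length = (moves.getD i.val []).length := by decide +kernel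

theorem steps (i : Fin 6) : stepOK 2 C 27 (rowsOf i) (rt i) c0 (moves.getD i.val []) = true := by
  have h : ∀ l : List (List (Entry 6 K) × List ℕ),
      (l.take 16).all (rowOK i) = true → (l.drop 16).all (rowOK i) = true → l.all (rowOK i) = true := by
    intro l h1 h2
    rw [← List.take_append_drop 16 l, List.all_append, h1, h2]; rfl
  rw [stepOK, Bool.and_eq_true, decide_eq_true_eq]
  refine ⟨moves_len i, h _ ?_ ?_⟩
  · fin_cases i
    · exact step0a
    · exact step1a
    · exact step2a
    · exact step3a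
    · exact step4a
    · exact step5a
  · fin_cases i
    · exact step0b
    · exact step1b
    · exact step2b
    · exact step3b
    · exact step4b
    · exact step5b

theorem good (i : Fin 6) : Good C.flatten ((mat i).elt, g i) :=
  good_step (mat i) (rt i) c0 _ (steps i) (g i) (g_apply i)

/-- the second vertex of the triangle -/
noncomputable def wBase : leechLattice :=
  H95.quad (some 0) (some 1) (by decide) (-1) (-1) (Or.inr rfl) (Or.inr rfl)

/-- coordinates of the base vectors -/
def baseL : List (List ℤ) :=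
  [4 :: List.replicate 22 0 ++ [4], -4 :: -4 :: List.replicate 22 0]

theorem base_eq : H95.vecL (H95.vBase : GolayPt → ℤ) = baseL.getD 0 [] ∧
    H95.vecL (wBase : GolayPt → ℤ) = baseL.getD 1 [] := by
  refine ⟨?_, ?_⟩
  · rw [H95.coe_vBase]; decide +kernel
  · rw [show (wBase : GolayPt → ℤ) = Pi.single (some 0) (4 * -1) + Pi.single (some 1) (4 * -1) from rfl]
    decide +kernel

theorem base_fixed : ∀ i : Fin 6, ∀ b ∈ baseL, H95.applyL (rowsOf i) b = b := by decide +kernel

/-- the stabiliser -/
noncomputable abbrev H : Subgroup Co0 :=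
  MulAction.stabilizer Co0 H95.vBase ⊓ MulAction.stabilizer Co0 wBase

theorem mat_mem (i : Fin 6) : (mat i).elt ∈ H := by
  obtain ⟨e0, e1⟩ := base_eq
  refine ⟨?_, ?_⟩ <;> refine MulAction.mem_stabilizer_iff.2 (H95.eq_of_vecL ?_) <;>
    rw [H95.MatData.vecL_elt] <;> simp only [e0, e1] <;>
    exact base_fixed i _ (by simp [baseL])

/-- the isotropic points -/
def pt (j : ℕ) : W := dec (Nat.land (Nat.shiftRight packP (16 * j)) 65535)

/-- the tree -/
def step (j : ℕ) : ℕ × Fin 6 :=
  (Nat.land (Nat.shiftRight packS (16 * j)) 65535 / 8,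
    Fin.ofNat 6 (Nat.land (Nat.shiftRight packS (16 * j)) 65535 % 8))

/-- the roots of the tree -/
def root (j : ℕ) : Option (Fin 6) := if h : j < 6 then some ⟨j, h⟩ else none

/-- check of the tree -/
def treeB (j : ℕ) : Bool :=
  match root j with
  | some i => decide (pt j = rt i)
  | none => decide ((step j).1 < j ∧
      coef (tvv 2 (rt (step j).2) c0 (pt (step j).1)) (pt j) ≠ 0 ∧
      tvv 2 (rt (step j).2) c0 (pt (step j).1) =
        coef (tvv 2 (rt (step j).2) c0 (pt (step j).1)) (pt j) • pt j)

theorem tree_ok : (List.range 693).all treeB = true := by decide +kernel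

/-- every isotropic vector is in the tree -/
def coverB (c : ℕ) : Bool :=
  let x := dec c
  let j := Nat.land (Nat.shiftRight packPos (16 * c)) 65535
  !decide (hermForm 6 K 2 x x = 0) || decide (j < 693 ∧ x = coef x (pt j) • pt j)

theorem cover_ok : (List.range 4096).all coverB = true := by decide +kernel

theorem closure_g : Subgroup.closure (Set.range g) = ⊤ := by
  set S := Subgroup.closure (Set.range g)
  have hgS : ∀ i, g i ∈ S := fun i => Subgroup.subset_closure ⟨i, rfl⟩
  refine eq_top_of_inS hK (by norm_num) (by norm_num) fun v hv => ?_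
  have hroot : ∀ i, InS S (rt i) := fun i =>
    inS_root hK c0_ok.2 (hgS i) (rt_iso i) (g_apply i)
  have htree := inS_tree hK rt c0 g hroot hgS g_apply pt step root (m := 693) (fun j hj => by
    have := List.all_eq_true.1 tree_ok j (List.mem_range.2 hj)
    unfold treeB at this
    split <;> rename_i e <;> rw [e] at this <;> simpa using this)
  have hlt : enc v < 4096 := by
    have h0 := (v 0).v.isLt
    have h1 := (v 1).v.isLt
    have h2 := (v 2).v.isLt
    have h3 := (v 3).v.isLt
    have h4 := (v 4).v.isLt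
    have h5 := (v 5).v.isLt
    unfold enc; omega
  have h := List.all_eq_true.1 cover_ok _ (List.mem_range.2 hlt)
  simp only [coverB, dec_enc, Bool.or_eq_true, Bool.not_eq_true', decide_eq_false_iff_not,
    decide_eq_true_eq] at h
  rcases h with h | ⟨hj, e⟩
  · exact absurd hv h
  · rw [e]; exact inS_smul hK (htree _ hj) _

/-- the first row -/
def row0 : ℕ × List ℕ := (tab.getD 0 []).getD 0 (0, [])

theorem row0_ok : (decY row0.1, row0.2.map dec) ∈ C.flatten ∧
    uniqOK C.flatten (decY row0.1) (row0.2.map dec) = true ∧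
    H96.Check.checkB (fun p => (decY row0.1).getD (H90.idx p).val 0) = true ∧
    (∀ x ∈ row0.2.map dec, hermForm 6 K 2 x (dec (row0.2.getD 0 0)) = 0) ∧
    dec (row0.2.getD 0 0) ∈ row0.2.map dec ∧
    hermForm 6 K 2 (tvv 2 (rt 0) c0 (dec (row0.2.getD 0 0))) (dec (row0.2.getD 0 0)) ≠ 0 ∧
    (List.ofFn fun i : Fin 24 => (decY row0.1).getD i.val 0) = decY row0.1 := by
  decide +kernel

theorem stab_pair_card {v w : leechLattice} (hv : H95.ldot v v = 32) (hw : H95.ldot w w = 32)
    (hd : H95.ldot v w = -16) :
    Nat.card ↥(MulAction.stabilizer Co0 v ⊓ MulAction.stabilizer Co0 w) = 9196830720 := by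
  set M : Subgroup Co0 := MulAction.stabilizer Co0 v
  have horb := H90.natCard_stabilizer_mul (G := M) w (H95.minWith v (-16)) fun x => by
    constructor
    · rintro ⟨hx, hx'⟩
      obtain ⟨a, a1, a2⟩ := H95.transitive_m16 H95.golayUnique hv hw hx hd hx'
      exact ⟨⟨a, a1⟩, a2⟩
    · rintro ⟨⟨a, a1⟩, rfl⟩
      refine ⟨?_, ?_⟩
      · show H95.ldot (a • w) (a • w) = 32
        rw [H95.co0_dot, hw]
      · show H95.ldot v (a • w) = -16
        conv_lhs => rw [← show a • v = v from a1]
        rw [H95.co0_dot, hd]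
  rw [(H95.census_min H95.golayUnique hv).1, H95.card_stab_32 hv] at horb
  have e : (MulAction.stabilizer M w).map M.subtype =
      MulAction.stabilizer Co0 v ⊓ MulAction.stabilizer Co0 w := by
    ext a
    constructor
    · rintro ⟨⟨b, hb⟩, hb', rfl⟩; exact ⟨hb, hb'⟩
    · rintro ⟨hb, hb'⟩; exact ⟨⟨a, hb⟩, hb', rfl⟩
  rw [← e, Subgroup.card_map_of_injective M.subtype_injective]
  omega

theorem card_PSU : Nat.card (PSU 6 K 2) = 9196830720 := by
  have h := H50.card_PSU_mul hK (n := 6) (by norm_num)
  rw [H50.card_GU hK] at h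
  norm_num [Finset.prod_range_succ, Nat.even_iff] at h
  omega

theorem wBase_norm : H95.ldot wBase wBase = 32 := H95.quad_norm _ _ _

theorem vBase_wBase : H95.ldot H95.vBase wBase = -16 := by
  rw [wBase, H95.ldot_quad, H95.coe_vBase]
  decide +kernel

theorem main : Nonempty (H ≃* PSU 6 K 2) := by
  obtain ⟨hm, hu, hc, hB, ha, hne, hl⟩ := row0_ok
  have hy : H95.vecL ((⟨_, H96.Check.checkB_spec hc⟩ : leechLattice) : GolayPt → ℤ)
      = decY row0.1 := by
    refine Eq.trans ?_ hl
    unfold H95.vecL
    congr 1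
    funext i
    show (decY row0.1).getD (H90.idx (H90.pt i)).val 0 = _
    rw [H90.idx_pt]
  refine iso_of_table hK (by norm_num) (by norm_num) ((stab_pair_card H95.vBase_norm wBase_norm vBase_wBase).trans card_PSU.symm)
    (fun i => (mat i).elt) g mat_mem closure_g good ⟨_, H96.Check.checkB_spec hc⟩
    (row0.2.map dec) (dec (row0.2.getD 0 0)) (dec (row0.2.getD 0 0)) 0 ?_ ?_ ha hB ?_
  · rw [hy]; exact hm
  · rw [hy]; exact hu
  · rw [g_apply]; exact hne

theorem stab_iso (v w : leechLattice) (hv : H95.ldot v v = 32) (hw : H95.ldot w w = 32)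
    (hd : H95.ldot v w = -16) :
    Nonempty (↥(MulAction.stabilizer Co0 v ⊓ MulAction.stabilizer Co0 w) ≃* PSU 6 K 2) := by
  obtain ⟨a, a1⟩ := H95.transitive_32 H95.golayUnique hv H95.vBase_norm
  obtain ⟨b, b1, b2⟩ := H95.transitive_m16 H95.golayUnique H95.vBase_norm (w := a • w)
    (by rw [H95.co0_dot, hw]) wBase_norm (by rw [← a1, H95.co0_dot, hd]) vBase_wBase
  obtain ⟨E⟩ := main
  exact ⟨(H95.stabEquiv₂ (b * a) v w _ _ (by rw [mul_smul, a1, b1]) (by rw [mul_smul, b2])).trans E⟩

end TriU6
end H50
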