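import Cfsg.Agent.H50.TwRank1

/-!
The part of order prime to the characteristic of the kernel of a stem extension of a twisted group.
-/

set_option autoImplicit false
set_option linter.unusedSectionVars false

namespace H50.Tw

open Cfsg.Lie H53 H52
open H50.CExt
open scoped MatrixGroups

variable {D D' : ChevalleyDatum} {Fl : Fold D D'} {T : Tables} {K : Type*} [Field K] [Fintype K]
  (X : Twist Fl T K) (p : ℕ) [Fact p.Prime] [CharP K p]

omit [Fintype K] [Fact p.Prime] [CharP K p] in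
theorem H_comm : ∀ x ∈ X.sys.H, ∀ y ∈ X.sys.H, Commute x y := by
  rintro x ⟨c, -, hc⟩ y ⟨c', -, hc'⟩
  apply Subtype.ext
  rw [Subgroup.coe_subtype] at hc hc'
  rw [Subgroup.coe_mul, Subgroup.coe_mul, ← hc, ← hc', ← map_mul, ← map_mul, mul_comm c c']

theorem isPGroup_Uplus : IsPGroup p X.sys.Uplus := fun g => by
  obtain ⟨k, hk⟩ := (⟨T, X.chk, Fl.W, X.ok⟩ : H54.Ctx D).isPGroup_pos (F := K) p ⟨((g : ↥X.grp) : GL D.Idx K),
    X.map_Uplus'_le ⟨_, g.2, rfl⟩⟩
  exact ⟨k, Subtype.ext (Subtype.ext (by simpa using congrArg Subtype.val hk))⟩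

theorem not_dvd_card_H : ¬ p ∣ Nat.card X.sys.H := by
  classical
  intro hdvd
  haveI : Finite ↥X.grp := inferInstance
  obtain ⟨⟨g, hg⟩, hord⟩ := exists_prime_orderOf_dvd_card' p hdvd
  rw [Subgroup.orderOf_mk] at hord
  obtain ⟨c, -, hcg⟩ := hg
  have h1 : (g : GL D.Idx K) ^ (Fintype.card K - 1) = 1 := by
    have : c ^ (Fintype.card K - 1) = 1 := funext fun i => by
      rw [Pi.pow_apply, Pi.one_apply, ← Fintype.card_units, pow_card_eq_one]
    rw [Subgroup.coe_subtype] at hcg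
    rw [← hcg, ← map_pow, this, map_one]
  have h2 : p ∣ Fintype.card K - 1 :=
    hord ▸ orderOf_dvd_of_pow_eq_one (Subtype.ext (by rw [Subgroup.coe_pow]; exact h1))
  obtain ⟨n, hp, hn⟩ := FiniteField.card K p
  have h3 : p ∣ Fintype.card K := hn ▸ dvd_pow_self p n.ne_zero
  have h4 := Nat.dvd_sub h3 h2
  rw [Nat.sub_sub_self Fintype.card_pos] at h4
  exact (Fact.out : p.Prime).one_lt.ne' (Nat.dvd_one.1 h4)

theorem not_dvd_index : ¬ p ∣ X.sys.Uplus.index :=
  not_dvd_index_Uplus X.axioms' X.sep' (H_comm X) (isPGroup_Uplus X p) (not_dvd_card_H X p)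

omit [Fintype K] [Fact p.Prime] [CharP K p] in
theorem n_mem_rk1 (J : Fin D'.rank) : X.sys.n J ∈ rk1 X.sys J := by
  have e : X.sys.n J = ⟨Twist.xp Fl Fl.sp J (fun _ => (1 : K)), X.E_le_grp_p J (X.xp_p_mem (X.equi_one J))⟩ *
      ⟨Twist.xp Fl Fl.sn J (fun _ => -((1 : K))⁻¹),
        X.E_le_grp_n J (X.xp_n_mem (X.equi_neg_inv (X.equi_one J)))⟩ *
      ⟨Twist.xp Fl Fl.sp J (fun _ => (1 : K)), X.E_le_grp_p J (X.xp_p_mem (X.equi_one J))⟩ :=
    Subtype.ext (X.nJ_eq J _)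
  rw [e]
  exact mul_mem (mul_mem (Subgroup.mem_sup_left (X.xp_p_mem (X.equi_one J)))
    (Subgroup.mem_sup_right (X.xp_n_mem (X.equi_neg_inv (X.equi_one J)))))
    (Subgroup.mem_sup_left (X.xp_p_mem (X.equi_one J)))

omit [Fintype K] [Fact p.Prime] [CharP K p] in
theorem torus_restr_mem_rk1 (J : Fin D'.rank) {c : Fin D.rank → Kˣ} (hc : c ∈ X.cFix) :
    ∃ h : torus D (Twist.restr Fl J c) ∈ X.grp,
      (⟨_, h⟩ : ↥X.grp) ∈ rk1 X.sys J ⊓ X.sys.H := by
  have hm : torus D (Twist.restr Fl J c) ∈ X.torusT :=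
    X.torus_mem_torusT (X.restr_mem_cFix J fun i _ => hc i)
  refine ⟨X.torusT_le_grp hm, Subgroup.mem_inf.2 ⟨?_, hm⟩⟩
  have e : ∀ (t : Fin D.rank → K) (ht : X.Equi J t),
      (⟨Twist.nJ Fl J t, X.nJ_mem_grp ht⟩ : ↥X.grp) ∈ rk1 X.sys J := fun t ht => by
    rw [show (⟨Twist.nJ Fl J t, X.nJ_mem_grp ht⟩ : ↥X.grp) =
        ⟨Twist.xp Fl Fl.sp J t, X.E_le_grp_p J (X.xp_p_mem ht)⟩ *
        ⟨Twist.xp Fl Fl.sn J (fun j => -(t j)⁻¹), X.E_le_grp_n J (X.xp_n_mem (X.equi_neg_inv ht))⟩ *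
        ⟨Twist.xp Fl Fl.sp J t, X.E_le_grp_p J (X.xp_p_mem ht)⟩ from Subtype.ext (X.nJ_eq J t)]
    exact mul_mem (mul_mem (Subgroup.mem_sup_left (X.xp_p_mem ht))
      (Subgroup.mem_sup_right (X.xp_n_mem (X.equi_neg_inv ht))))
      (Subgroup.mem_sup_left (X.xp_p_mem ht))
  rw [show (⟨torus D (Twist.restr Fl J c), X.torusT_le_grp hm⟩ : ↥X.grp) =
      ⟨Twist.nJ Fl J (fun j => (c j : K)), X.nJ_mem_grp fun j _ => hc j⟩ *
      ⟨Twist.nJ Fl J (fun _ => (-1 : K)), X.nJ_mem_grp (X.equi_negOne J)⟩ from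
    Subtype.ext ((X.torus_restr J c).trans (X.hProd_eq J _))]
  exact mul_mem (e _ fun j _ => hc j) (e _ (X.equi_negOne J))

omit [Fintype K] [Fact p.Prime] [CharP K p] in
theorem H_le_rk1 : X.sys.H ≤ ⨆ J, rk1 X.sys J ⊓ X.sys.H := by
  classical
  rintro g ⟨c, hc, hcg⟩
  rw [Subgroup.coe_subtype] at hcg
  have hprod : c = ∏ J : Fin D'.rank, Twist.restr Fl J c := by
    funext i
    obtain ⟨J, hJ⟩ := X.fval.orb_cover i
    rw [Finset.prod_apply, Finset.prod_eq_single J]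
    · exact (if_pos hJ).symm
    · exact fun J' _ hne => if_neg fun h => hne (X.orb_unique h hJ)
    · simp
  have h : torus D (∏ J : Fin D'.rank, Twist.restr Fl J c) ∈
      (⨆ J, rk1 X.sys J ⊓ X.sys.H).map X.grp.subtype := by
    refine (Subgroup.mem_comap (K := (⨆ J, rk1 X.sys J ⊓ X.sys.H).map X.grp.subtype)
      (f := torus D)).1 (Subgroup.prod_mem _ fun J _ => Subgroup.mem_comap.2 ?_)
    obtain ⟨h1, h2⟩ := torus_restr_mem_rk1 X J hc
    exact ⟨_, le_iSup (fun J => rk1 X.sys J ⊓ X.sys.H) J h2, rfl⟩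
  rw [← hprod, hcg] at h
  obtain ⟨x, hx, e⟩ := h
  rwa [← show x = g from Subtype.ext e]

/-- The homomorphism from the Coxeter group of the folded diagram to the permutations of the roots. -/
theorem exists_weylPerm : ∃ ψ : Fl.W'.data.M.Group →* Equiv.Perm (Fin D'.nroots),
    (∀ J, ψ (Fl.W'.data.M.simple J) = X.sys.σ J) ∧ Function.Injective ψ := by
  classical
  have hv := Fl.W'.valid
  have hpow : ∀ i j (m : ℕ) (r : Fin D'.nroots), ((Fl.W'.sigma i * Fl.W'.sigma j) ^ m) r =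
      (fun r => Fl.W'.data.act i (Fl.W'.data.act j r))^[m] r := by
    intro i j m r
    induction m with
    | zero => rfl
    | succ m ih => rw [pow_succ', Equiv.Perm.mul_apply, ih, Function.iterate_succ_apply']; rfl
  have hlift : Fl.W'.data.M.IsLiftable Fl.W'.sigma := fun i j => Equiv.ext fun r => by
    rw [hpow, Equiv.Perm.one_apply]
    refine Fl.W'.v_inj ?_
    rw [← H53.WeylData.SS_pow_v hv, H53.WeylData.liftable hv i j]
    rfl
  let cs := Fl.W'.data.M.toCoxeterSystem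
  refine ⟨cs.lift ⟨_, hlift⟩, fun J => cs.lift_apply_simple hlift J,
    (injective_iff_map_eq_one _).2 fun w hw => ?_⟩
  have key : ∀ L : List (Fin D'.rank), ∀ r, H53.WeylData.rho hv (cs.wordProd L) (Fl.W'.data.v r) =
      Fl.W'.data.v (cs.lift ⟨_, hlift⟩ (cs.wordProd L) r) := by
    intro L
    induction L with
    | nil => intro r; simp
    | cons a L ih =>
      intro r
      rw [CoxeterSystem.wordProd_cons, map_mul, map_mul, LinearEquiv.mul_apply, ih,
        Equiv.Perm.mul_apply, CoxeterSystem.lift_apply_simple, CoxeterMatrix.toCoxeterSystem_simple,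
        H53.WeylData.rho_simple hv, H53.WeylData.S_v hv]
      rfl
  obtain ⟨L, rfl⟩ := cs.wordProd_surjective w
  refine H53.WeylData.rho_injective hv (H53.WeylData.ext_simple hv fun k => ?_)
  rw [key, hw, map_one]
  rfl

variable {p}

omit [Fact p.Prime] [CharP K p] in
theorem card_rk1_inf {J : Fin D'.rank} {j₀ : Fin D.rank} (h : OrbOK Fl J j₀) :
    Nat.card ↥(rk1 X.sys J ⊓ X.sys.H) ∣ Nat.card ↥(orbField X J) - 1 := by
  classical
  obtain ⟨φ, hr, -, hbig⟩ := exists_sl2 X h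
  rw [← Nat.card_units]
  refine Subgroup.card_dvd_of_surjective (MonoidHom.mk' (fun a : (↥(orbField X J))ˣ =>
    (⟨tEl (xPosG h) (xNegG h) (a : ↥(orbField X J)), ?_⟩ : ↥(rk1 X.sys J ⊓ X.sys.H))) fun a b =>
      Subtype.ext ((rel_grp (X := X) h).t_mul a.ne_zero b.ne_zero).symm) ?_
  · have hR := rel_grp (X := X) h
    refine Subgroup.mem_inf.2 ⟨?_, ?_⟩
    · have hx : ∀ b, xPosG (X := X) h b ∈ rk1 X.sys J := fun b =>
        Subgroup.mem_sup_left (X.xp_p_mem (orbPar_equi h b))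
      have hy : ∀ b, xNegG (X := X) h b ∈ rk1 X.sys J := fun b =>
        Subgroup.mem_sup_right (X.xp_n_mem (orbPar_equi h b))
      exact mul_mem (mul_mem (mul_mem (hx _) (hy _)) (hx _)) (mul_mem (mul_mem (hx _) (hy _)) (hx _))
    · rw [X.mem_H']
      have hval : ∀ t : ↥(orbField X J), ((wEl (xPosG h) (xNegG h) t : ↥X.grp) : GL D.Idx K) =
          Twist.nJ Fl J (orbPar X J t) := fun t => by rw [X.nJ_eq, ← xp_par_neg_inv]; rfl
      set u : Fin D.rank → Kˣ := fun j => Units.mk0 _ (orbPar_ne (Units.ne_zero a) j)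
      have e : ((tEl (xPosG h) (xNegG h) (a : ↥(orbField X J)) : ↥X.grp) : GL D.Idx K) =
          torus D (Twist.restr Fl J u) := by
        rw [tEl, Subgroup.coe_mul, hval, hval, X.torus_restr, X.hProd_eq]
        congr 1
        refine congrArg List.prod (List.map_congr_left fun j _ => ?_)
        rw [orbPar_neg, orbPar_one]
      rw [e]
      exact X.torus_mem_torusT (X.restr_mem_cFix J fun i hi => orbPar_equi h _ i hi)
  · rintro ⟨g, hg⟩
    obtain ⟨hg1, hg2⟩ := Subgroup.mem_inf.1 hg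
    rw [← hr] at hg1
    obtain ⟨a, ha, e⟩ := hbig g hg1 hg2
    exact ⟨Units.mk0 a ha, Subtype.ext e.symm⟩

universe v

/-- The bound on the part of the kernel of order prime to `p`. -/
theorem card_ker_prime {Γ : Type v} [Group Γ] [Finite Γ] (σ : Γ →* ↥X.grp)
    (hs : Function.Surjective σ) (hc : σ.ker ≤ Subgroup.center Γ)
    (hcop : ¬ p ∣ Nat.card σ.ker) (hd : σ.ker ≤ commutator Γ) (j₀ : Fin D'.rank → Fin D.rank)
    (horb : ∀ J, OrbOK Fl J (j₀ J))
    (hbr : ∀ i j, i ≠ j → BraidData X.sys.σ X.sys.a i j (Fl.W'.data.M i j)) :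
    Nat.card σ.ker * Nat.card X.torusT ∣ ∏ J, (Nat.card ↥(orbField X J) - 1) := by
  classical
  obtain ⟨ψ, hψ, hψi⟩ := exists_weylPerm X
  have hsplit : ∀ J, Split p σ (rk1 X.sys J) := fun J => by
    obtain ⟨φ, hr, hinj, -⟩ := exists_sl2 X (horb J)
    haveI : Fintype ↥(orbField X J) := Fintype.ofFinite _
    haveI : CharP ↥(orbField X J) p := (orbField X J).subtype.charP Subtype.val_injective p
    rw [← hr]
    exact Covering.split_range σ hs hc hcop φ hinj fun Γ0 _ _ σ0 h1 h2 h3 =>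
      SCBase.sl2_split p Γ0 σ0 h1 h2 h3
  have hL : LiftHyp X.sys p σ := ⟨X.axioms', X.sep', H_comm X, isPGroup_Uplus X p, n_mem_rk1 X,
    hsplit, H_le_rk1 X⟩
  have hcard : Nat.card X.sys.H = Nat.card X.torusT :=
    Nat.card_congr
      { toFun := fun g => ⟨(g.1 : GL D.Idx K), g.2⟩
        invFun := fun g => ⟨⟨g.1, X.torusT_le_grp g.2⟩, g.2⟩
        left_inv := fun _ => rfl
        right_inv := fun _ => rfl }
  rw [← hcard]
  exact (card_ker_dvd hL hs hc hcop ψ hψ hψi hbr hd).trans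
    (Finset.prod_dvd_prod_of_dvd _ _ fun J _ => card_rk1_inf X (horb J))

end H50.Tw
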