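import Cfsg.Agent.H50.TwPPart
import Cfsg.Agent.H50.TwPrime
import Cfsg.Agent.H52.TwistPerfect

/-!
Torus elements of the twisted groups given by digit tables, and the hypotheses on the lifts of the
root subgroups.
-/

set_option autoImplicit false
set_option linter.unusedSectionVars false

namespace H50.Tw

open Cfsg.Lie H53 H52
open scoped commutatorElement

section Digits

variable {D D' : ChevalleyDatum} (Fl : Fold D D') (d : ℕ)

/-- The digit `k` of the table at the node `i`. -/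
def dig (W : List (List ℤ)) (i k : ℕ) : ℤ := (W.getD i []).getD k 0

/-- The table is compatible with the symmetry. -/
def WitEqui [NeZero d] (W : List (List ℤ)) : Prop :=
  ∀ (i : Fin D.rank) (k : Fin d), dig W (Fl.τi i).val (k + 1 : Fin d).val = dig W i.val k.val

/-- The digit `k` of the exponent at the root `r`. -/
def expo (W : List (List ℤ)) (r : Fin D.nroots) (k : ℕ) : ℤ :=
  ∑ i : Fin D.rank, D.cartan i.val r.val * dig W i.val k

/-- The character is trivial on the class. -/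
def WitZero (W : List (List ℤ)) (S : Fin D'.nroots) : Prop :=
  ∀ r : Fin D.nroots, Fl.cls r = S → ∀ k : Fin d, expo W r k.val = 0

/-- The character is nowhere trivial on the class. -/
def WitGood (W : List (List ℤ)) (S : Fin D'.nroots) : Prop :=
  ∀ r : Fin D.nroots, Fl.cls r = S →
    (∀ k : Fin d, -2 ≤ expo W r k.val ∧ expo W r k.val ≤ 2) ∧
      (∃ k : Fin d, expo W r k.val ≠ 0) ∧
      ∃ k : Fin d, expo W r k.val ≠ 2 ∧ expo W r k.val ≠ -2

/-- The classes commute elementwise. -/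
def ClsCommute (S S' : Fin D'.nroots) : Prop :=
  ∀ r s : Fin D.nroots, Fl.cls r = S → Fl.cls s = S' → RootsCommute D r.val s.val

instance decWitEqui [NeZero d] (W : List (List ℤ)) : Decidable (WitEqui Fl d W) :=
  inferInstanceAs (Decidable (∀ _ _, _))

instance decWitZero (W : List (List ℤ)) (S : Fin D'.nroots) : Decidable (WitZero Fl d W S) :=
  inferInstanceAs (Decidable (∀ r, _ → _))

instance decWitGood (W : List (List ℤ)) (S : Fin D'.nroots) : Decidable (WitGood Fl d W S) :=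
  inferInstanceAs (Decidable (∀ r, _ → _))

instance decClsCommute (S S' : Fin D'.nroots) : Decidable (ClsCommute Fl S S') :=
  inferInstanceAs (Decidable (∀ r s, _ → _ → _))

/-- The number with given digits is not divisible by `q ^ d - 1`. -/
theorem not_dvd_digits {q : ℤ} (hq : 3 ≤ q) : ∀ (d : ℕ) (e : ℕ → ℤ),
    (∀ k < d, -2 ≤ e k ∧ e k ≤ 2) → (∃ k < d, e k ≠ 0) → (∃ k < d, e k ≠ 2 ∧ e k ≠ -2) →
    ¬ (q ^ d - 1) ∣ ∑ k ∈ Finset.range d, e k * q ^ k := by
  intro d e hb h0 h2 hdvd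
  have hne : ∀ (d : ℕ) (e : ℕ → ℤ), (∀ k < d, -2 ≤ e k ∧ e k ≤ 2) →
      ∑ k ∈ Finset.range d, e k * q ^ k = 0 → ∀ k < d, e k = 0 := by
    intro d
    induction d with
    | zero => intro e _ _ k hk; omega
    | succ d ih =>
      intro e hb h k hk
      rw [Finset.sum_range_succ'] at h
      simp only [pow_succ, pow_zero, mul_one, ← mul_assoc, ← Finset.sum_mul] at h
      have h1 : e 0 = 0 := by
        have hd : q ∣ e 0 := ⟨-∑ i ∈ Finset.range d, e (i + 1) * q ^ i, by linarith⟩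
        have := hb 0 (by omega)
        exact Int.eq_zero_of_abs_lt_dvd hd (by rw [abs_lt]; omega)
      rw [h1, add_zero, mul_eq_zero] at h
      rcases Nat.eq_zero_or_pos k with rfl | hk0
      · exact h1
      · obtain ⟨m, rfl⟩ : ∃ m, k = m + 1 := ⟨k - 1, by omega⟩
        exact ih (fun i => e (i + 1)) (fun i hi => hb (i + 1) (by omega))
          (h.resolve_right (by omega)) m (by omega)
  set E := ∑ k ∈ Finset.range d, e k * q ^ k
  have hgeo : (q - 1) * ∑ k ∈ Finset.range d, q ^ k = q ^ d - 1 := mul_geom_sum q d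
  obtain ⟨k0, hk0, hk2⟩ := h2
  have hq0 : ∀ k, (0 : ℤ) < q ^ k := fun k => pow_pos (by omega) k
  have hlt : |E| < q ^ d - 1 := by
    have h1 : |E| ≤ ∑ k ∈ Finset.range d, |e k| * q ^ k := by
      refine (Finset.abs_sum_le_sum_abs _ _).trans (le_of_eq (Finset.sum_congr rfl fun k _ => ?_))
      rw [abs_mul, abs_of_pos (hq0 k)]
    have h3 : ∑ k ∈ Finset.range d, |e k| * q ^ k < ∑ k ∈ Finset.range d, 2 * q ^ k := by
      refine Finset.sum_lt_sum (fun k hk => ?_) ⟨k0, Finset.mem_range.2 hk0, ?_⟩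
      · exact mul_le_mul_of_nonneg_right (abs_le.2 (hb k (Finset.mem_range.1 hk))) (hq0 k).le
      · refine mul_lt_mul_of_pos_right ?_ (hq0 k0)
        have := hb k0 hk0
        rw [abs_lt]; omega
    have h4 : ∑ k ∈ Finset.range d, 2 * q ^ k ≤ q ^ d - 1 := by
      rw [← Finset.mul_sum, ← hgeo]
      exact mul_le_mul_of_nonneg_right (by omega) (Finset.sum_nonneg fun k _ => (hq0 k).le)
    omega
  obtain ⟨k, hk, hek⟩ := h0
  exact hek (hne d e hb (Int.eq_zero_of_abs_lt_dvd hdvd hlt) k hk)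

end Digits

section Torus

variable {D D' : ChevalleyDatum} {Fl : Fold D D'} {T : Tables} {K : Type*} [Field K]
  (X : Twist Fl T K)

/-- The character of torus parameters at a root. -/
def chiR (c : Fin D.rank → Kˣ) (r : Fin D.nroots) : Kˣ := ∏ i : Fin D.rank, c i ^ D.cartan i.val r.val

variable {X}

theorem zpow_sum_eq {G : Type*} [CommGroup G] (a : G) {ι : Type*} (s : Finset ι) (f : ι → ℤ) :
    a ^ (∑ i ∈ s, f i) = ∏ i ∈ s, a ^ f i := by
  classical
  induction s using Finset.induction_on with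
  | empty => simp
  | insert x s hx ih => rw [Finset.sum_insert hx, Finset.prod_insert hx, zpow_add, ih]

theorem conj_list_prod {G : Type*} [Group G] (g : G) : ∀ l : List G,
    g * l.prod * g⁻¹ = (l.map fun x => g * x * g⁻¹).prod
  | [] => by simp
  | x :: l => by rw [List.map_cons, List.prod_cons, List.prod_cons, ← conj_list_prod g l]; group

theorem exists_wit [Fintype K] {q d : ℕ} [NeZero d] (hq : 3 ≤ q) (hK : Fintype.card K = q ^ d)
    (hf : ∀ x, X.f x = x ^ q) {W : List (List ℤ)} (hW : WitEqui Fl d W) :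
    ∃ c ∈ X.cFix, (∀ S, WitZero Fl d W S → ∀ r, Fl.cls r = S → chiR c r = 1) ∧
      ∀ S, WitGood Fl d W S → ∀ r, Fl.cls r = S → chiR (K := K) c r ≠ 1 := by
  classical
  obtain ⟨ζ, hζ⟩ := IsCyclic.exists_generator (α := Kˣ)
  have hord : orderOf ζ = q ^ d - 1 := by
    rw [orderOf_eq_card_of_forall_mem_zpowers hζ, Nat.card_units, Nat.card_eq_fintype_card, hK]
  have hqd : ζ ^ (q ^ d) = ζ := by
    conv_rhs => rw [← pow_one ζ]
    rw [pow_eq_pow_iff_modEq, hord]
    have h1 : 1 ≤ q ^ d := Nat.one_le_pow _ _ (by omega)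
    exact (Nat.modEq_iff_dvd' h1).2 dvd_rfl |>.symm
  let c : Fin D.rank → Kˣ := fun i => ∏ k : Fin d, (ζ ^ q ^ k.val) ^ dig W i.val k.val
  have hc : c ∈ X.cFix := fun i => by
    rw [hf, ← Units.val_pow_eq_pow_val]
    refine congrArg Units.val ?_
    show ∏ k : Fin d, _ = (∏ k : Fin d, _) ^ q
    rw [← Finset.prod_pow]
    refine (Fintype.prod_equiv (Equiv.addRight (1 : Fin d)) _ _ fun k => ?_).symm
    simp only [Equiv.coe_addRight, hW i k]
    rw [← zpow_natCast ((ζ ^ q ^ k.val) ^ dig W i.val k.val) q, ← zpow_mul, mul_comm, zpow_mul,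
      zpow_natCast, ← pow_mul, ← pow_succ]
    congr 1
    rw [Fin.val_add, Fin.val_one', Nat.add_mod_mod]
    by_cases hk : k.val + 1 < d
    · rw [Nat.mod_eq_of_lt hk]
    · have hkd : k.val + 1 = d := by have := k.isLt; omega
      rw [hkd, Nat.mod_self, pow_zero, pow_one, hqd]
  have hchi : ∀ r, chiR c r = ζ ^ (∑ k : Fin d, expo W r k.val * (q : ℤ) ^ k.val) := by
    intro r
    rw [chiR, zpow_sum_eq]
    simp only [c, ← Finset.prod_zpow, expo, Finset.sum_mul]
    rw [Finset.prod_comm]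
    refine Finset.prod_congr rfl fun k _ => ?_
    rw [zpow_sum_eq]
    refine Finset.prod_congr rfl fun i _ => ?_
    rw [← zpow_natCast ζ (q ^ k.val), ← zpow_mul, ← zpow_mul]
    congr 1
    push_cast
    ring
  refine ⟨c, hc, fun S hS r hr => ?_, fun S hS r hr h => ?_⟩
  · rw [hchi, Finset.sum_eq_zero fun k _ => by rw [hS r hr k, zero_mul], zpow_zero]
  · obtain ⟨h1, ⟨k1, h2⟩, ⟨k2, h3⟩⟩ := hS r hr
    rw [hchi] at h
    have hd' := orderOf_dvd_iff_zpow_eq_one.2 h
    rw [hord, Nat.cast_sub (Nat.one_le_pow _ _ (by omega))] at hd'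
    push_cast at hd'
    rw [Fin.sum_univ_eq_sum_range (fun k => expo W r k * (q : ℤ) ^ k) d] at hd'
    exact not_dvd_digits (by omega) d (expo W r) (fun k hk => h1 ⟨k, hk⟩) ⟨k1, k1.isLt, h2⟩
      ⟨k2, k2.isLt, h3⟩ hd'

/-- A root subgroup is a conjugate of one of a fundamental class, with the torus acting diagonally. -/
theorem exists_param (S : Fin D'.nroots) :
    ∃ (J : Fin D'.rank) (n : ↥X.grp) (π : Equiv.Perm (Fin D'.nroots))
      (rr : Fin D.rank → Fin D.nroots),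
      X.sys.Acts n π ∧ π (Fl.ap J) = S ∧ (∀ j ∈ Fl.orb J, Fl.cls (rr j) = S) ∧
      (∀ c : Fin D.rank → Kˣ, ∀ t : Fin D.rank → K,
        torus D c * ((n : GL D.Idx K) * Twist.xp Fl Fl.sp J t * (n : GL D.Idx K)⁻¹) * (torus D c)⁻¹ =
          (n : GL D.Idx K) * Twist.xp Fl Fl.sp J (fun j => (chiR c (rr j) : K) * t j) *
            (n : GL D.Idx K)⁻¹) := by
  classical
  obtain ⟨L, J, hS⟩ : ∃ (L : List (Fin D'.rank)) (J : Fin D'.rank),
      S = L.foldr Fl.W'.data.act (Fl.W'.data.simple J) := by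
    obtain ⟨L, J, h | h⟩ := Fl.W'.exists_word_simple S
    · exact ⟨L, J, h⟩
    · refine ⟨L ++ [J], J, ?_⟩
      rw [List.foldr_append, h, List.foldr_cons, List.foldr_nil]
      congr 1
      exact (X.sigma'_ap J).symm
  set LL := L.flatMap Fl.orb
  set n := (LL.map fun i => nElt D (Fl.sp i).val (1 : K)).prod with hn
  refine ⟨J, ⟨n, X.nOne_list L⟩, (L.map Fl.W'.sigma).prod,
    fun j => LL.foldr Fl.W.data.act (Fl.sp j), ?_, ?_, ?_, ?_⟩
  · have key : ∀ (L : List (Fin D'.rank))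
        (hm : (((L.flatMap Fl.orb).map fun i => nElt D (Fl.sp i).val (1 : K)).prod) ∈ X.grp),
        X.sys.Acts (⟨_, hm⟩ : ↥X.grp) (L.map Fl.W'.sigma).prod := by
      intro L
      induction L with
      | nil =>
        intro hm
        convert RootGroupSys.acts_one (S := X.sys) using 1
        · exact Subtype.ext (by simp)
        · simp
      | cons a L ih =>
        intro hm
        have h := RootGroupSys.acts_mul (RootGroupSys.acts_n X.axioms' a) (ih (X.nOne_list L))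
        convert h using 1
        · exact Subtype.ext (by simp [Twist.sys, Twist.nOne, Twist.nJ])
        · rw [List.map_cons, List.prod_cons]; rfl
    exact key L _
  · rw [hS, foldr_perm]; rfl
  · intro j hj
    have key : ∀ L : List (Fin D'.rank), ∀ r, Fl.cls ((L.flatMap Fl.orb).foldr Fl.W.data.act r) =
        L.foldr Fl.W'.data.act (Fl.cls r) := by
      intro L r
      induction L with
      | nil => rfl
      | cons a L ih =>
        rw [List.flatMap_cons, List.foldr_append, X.fval.cls_sig, ih, List.foldr_cons]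
    rw [key, X.cls_sp hj, hS]; rfl
  · intro c t
    show torus D c * (n * Twist.xp Fl Fl.sp J t * n⁻¹) * (torus D c)⁻¹ = n * _ * n⁻¹
    rw [Twist.xp, Twist.xp, conj_list_prod n, conj_list_prod (torus D c), conj_list_prod n,
      List.map_map, List.map_map, List.map_map]
    refine congrArg List.prod (List.map_congr_left fun j _ => ?_)
    obtain ⟨δ, hδ⟩ := X.word_conj_linear LL (Fl.sp j)
    simp only [Function.comp_apply]
    rw [hδ, hδ, X.chk.torus_conj_rt c (Fin.isLt _)]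
    congr 1
    show (chiR c (LL.foldr Fl.W.data.act (Fl.sp j)) : K) * (δ * t j) = _
    ring

/-- Elements of a root subgroup through the parameters. -/
theorem mem_param {S : Fin D'.nroots} {J : Fin D'.rank} {n : ↥X.grp}
    {π : Equiv.Perm (Fin D'.nroots)} (hn : X.sys.Acts n π) (hπ : π (Fl.ap J) = S) {y : ↥X.grp}
    (hy : y ∈ X.sys.U S) : ∃ t, X.Equi J t ∧
      (y : GL D.Idx K) = (n : GL D.Idx K) * Twist.xp Fl Fl.sp J t * (n : GL D.Idx K)⁻¹ := by
  rw [← hπ, ← hn.2] at hy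
  obtain ⟨x, hx, rfl⟩ := hy
  obtain ⟨t, ht, e⟩ := X.mem_E_ap.1 (show (x : GL D.Idx K) ∈ X.E (Fl.ap J) from hx)
  exact ⟨t, ht, by simp [e]⟩

theorem U_comm (S : Fin D'.nroots) : ∀ x ∈ X.sys.U S, ∀ y ∈ X.sys.U S, Commute x y := by
  obtain ⟨J, n, π, rr, hn, hπ, -, -⟩ := exists_param (X := X) S
  intro x hx y hy
  obtain ⟨t, -, e⟩ := mem_param hn hπ hx
  obtain ⟨u, -, e'⟩ := mem_param hn hπ hy
  apply Subtype.ext
  show (x : GL D.Idx K) * y = y * x
  rw [e, e', ← MulAut.conj_apply, ← MulAut.conj_apply, ← map_mul, ← map_mul,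
    X.xp_mul _ Twist.rt_mem_pairGrp_p, X.xp_mul _ Twist.rt_mem_pairGrp_p, add_comm]

/-- A torus element of the twisted group. -/
noncomputable def tEG {c : Fin D.rank → Kˣ} (hc : c ∈ X.cFix) : ↥X.grp :=
  ⟨torus D c, X.torusT_le_grp (X.torus_mem_torusT hc)⟩

theorem tEG_mem {c : Fin D.rank → Kˣ} (hc : c ∈ X.cFix) : tEG hc ∈ X.sys.H :=
  X.torus_mem_torusT hc

theorem tEG_fpf {c : Fin D.rank → Kˣ} (hc : c ∈ X.cFix) {S : Fin D'.nroots}
    (h : ∀ r, Fl.cls r = S → chiR c r ≠ 1) :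
    ∀ y ∈ X.sys.U S, tEG hc * y * (tEG hc)⁻¹ = y → y = 1 := by
  obtain ⟨J, n, π, rr, hn, hπ, hr, hact⟩ := exists_param (X := X) S
  intro y hy hfix
  obtain ⟨t, -, e⟩ := mem_param hn hπ hy
  have h1 := congrArg (fun z : ↥X.grp => (z : GL D.Idx K)) hfix
  simp only [Subgroup.coe_mul, Subgroup.coe_inv, tEG, e, hact] at h1
  have h2 := X.xp_p_injective (mul_left_cancel (mul_right_cancel h1))
  apply Subtype.ext
  rw [e, X.xp_congr (u := 0) fun j hj => ?_, X.xp_zero]
  · simp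
  · by_contra hne
    have h3 := h2 j hj
    exact h (rr j) (hr j hj) (Units.ext (mul_right_cancel₀ hne (h3.trans (one_mul _).symm)))

theorem tEG_centralises {c : Fin D.rank → Kˣ} (hc : c ∈ X.cFix) {S : Fin D'.nroots}
    (h : ∀ r, Fl.cls r = S → chiR c r = 1) :
    ∀ y ∈ X.sys.U S, tEG hc * y * (tEG hc)⁻¹ = y := by
  obtain ⟨J, n, π, rr, hn, hπ, hr, hact⟩ := exists_param (X := X) S
  intro y hy
  obtain ⟨t, -, e⟩ := mem_param hn hπ hy
  apply Subtype.ext
  simp only [Subgroup.coe_mul, Subgroup.coe_inv, tEG, e, hact]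
  rw [X.xp_congr (u := t) fun j hj => by rw [h _ (hr j hj), Units.val_one, one_mul]]

theorem U_commute_of_cls {S S' : Fin D'.nroots} (h : ClsCommute Fl S S') :
    ∀ x ∈ X.sys.U S, ∀ y ∈ X.sys.U S', Commute x y := by
  intro x hx y hy
  have hle : Twist.P Fl K S ≤ Subgroup.centralizer (Twist.P Fl K S' : Set (GL D.Idx K)) := by
    rw [Twist.P, genBy, Subgroup.closure_le]
    rintro _ ⟨r, t, ⟨hr, hcls⟩, rfl⟩
    rw [SetLike.mem_coe, Subgroup.mem_centralizer_iff]
    intro g hg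
    induction hg using Subgroup.closure_induction with
    | mem z hz =>
      obtain ⟨s, u, ⟨hs, hcls'⟩, rfl⟩ := hz
      exact (X.rt_commute hr hs (h ⟨r, hr⟩ ⟨s, hs⟩ hcls hcls') t u).symm
    | one => simp
    | mul a b _ _ ha hb => rw [mul_assoc, hb, ← mul_assoc, ha, mul_assoc]
    | inv a _ ha => exact (Commute.inv_left ha).eq
  exact Subtype.ext (Subgroup.mem_centralizer_iff.1 (hle hx.1) _ hy.1).symm

universe v

variable {Γ : Type v} [Group Γ] {σ : Γ →* ↥X.grp}

/-- Lifts of a root subgroup commute if they do for the fundamental classes. -/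
theorem self_of_simple (hs : Function.Surjective σ)
    (h : ∀ J, LiftsCommute σ (X.sys.U (Fl.ap J)) (X.sys.U (Fl.ap J))) (S : Fin D'.nroots) :
    LiftsCommute σ (X.sys.U S) (X.sys.U S) := by
  obtain ⟨J, n, π, rr, hn, hπ, -, -⟩ := exists_param (X := X) S
  have := (h J).conj hs n
  rwa [hn.2, hπ] at this

theorem hyp_of_tables [Fintype K] {q d : ℕ} [NeZero d] (hq : 3 ≤ q) (hK : Fintype.card K = q ^ d)
    (hf : ∀ x, X.f x = x ^ q) (hs : Function.Surjective σ) (hc : σ.ker ≤ Subgroup.center Γ)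
    (WS : List (List (List ℤ))) (hWS : ∀ W ∈ WS, WitEqui Fl d W)
    (hfpf : ∀ S, Twist.cpos D' S → ∃ W ∈ WS, WitGood Fl d W S)
    (hpair : ∀ J S, Twist.cpos D' S → S ≠ Fl.ap J →
      (∃ W ∈ WS, WitZero Fl d W (Fl.ap J) ∧ WitGood Fl d W S) ∨
      (ClsCommute Fl (Fl.ap J) S ∧ ∃ W ∈ WS, WitZero Fl d W S ∧ WitGood Fl d W (Fl.ap J)))
    (hself : ∀ J, LiftsCommute σ (X.sys.U (Fl.ap J)) (X.sys.U (Fl.ap J))) :
    PHyp X.sys σ := by
  refine ⟨X.axioms', X.sep', H_comm X, fun S hS => ?_, fun S _ => self_of_simple hs hself S,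
    fun J S hS hne => ?_⟩
  · obtain ⟨W, hW, hg⟩ := hfpf S hS
    obtain ⟨c, hc', -, h2⟩ := exists_wit hq hK hf (hWS W hW)
    exact ⟨_, tEG_mem hc', tEG_fpf hc' (h2 S hg)⟩
  · rcases hpair J S hS hne with ⟨W, hW, hz, hg⟩ | ⟨hcl, W, hW, hz, hg⟩
    · obtain ⟨c, hc', h1, h2⟩ := exists_wit hq hK hf (hWS W hW)
      exact Or.inl ⟨_, tEG_mem hc', tEG_centralises hc' (h1 _ hz), tEG_fpf hc' (h2 S hg)⟩
    · obtain ⟨c, hc', h1, h2⟩ := exists_wit hq hK hf (hWS W hW)
      exact Or.inr (liftsCommute_of_weight hs hc (U_commute_of_cls hcl) (U_comm _)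
        (fun x hx => RootGroupSys.acts_conj_mem (RootGroupSys.acts_H X.axioms' (tEG_mem hc')) hx)
        (tEG_fpf hc' (h2 _ hg)) (tEG_centralises hc' (h1 S hz)))

theorem not_dvd_ker_twist [Fintype K] [Finite Γ] {p : ℕ} [Fact p.Prime] [CharP K p]
    (hP : PHyp X.sys σ) (hs : Function.Surjective σ) (hc : σ.ker ≤ Subgroup.center Γ)
    (hd : σ.ker ≤ commutator Γ) : ¬ p ∣ Nat.card σ.ker := by
  obtain ⟨π₀, hπ₀, hneg⟩ := X.exists_longest
  exact not_dvd_ker hP hs hc (not_dvd_index X p) hπ₀ hneg hd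

/-- Lifts of the elements of a subgroup of commutators of centralising elements commute. -/
theorem liftsCommute_of_comm {G : Type*} [Group G] {σ : Γ →* G} (hs : Function.Surjective σ)
    (hc : σ.ker ≤ Subgroup.center Γ) {A : Subgroup G}
    (h : ∀ x ∈ A, ∃ P Q : G, x = ⁅P, Q⁆ ∧ ∀ y ∈ A, Commute y P ∧ Commute y Q) :
    LiftsCommute σ A A := by
  intro a b ha hb
  obtain ⟨P', Q', e, hPQ⟩ := h _ hb
  obtain ⟨P, rfl⟩ := hs P'
  obtain ⟨Q, rfl⟩ := hs Q'
  obtain ⟨h1, h2⟩ := hPQ _ ha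
  have hz : ⁅P, Q⁆⁻¹ * b ∈ Subgroup.center Γ := hc (by
    rw [MonoidHom.mem_ker, map_mul, map_inv, map_commutatorElement, e, inv_mul_cancel])
  have hcm : Commute a ⁅P, Q⁆ := by
    refine mul_inv_eq_iff_eq_mul.1 ?_
    rw [conjugate_commutatorElement]
    refine H76.Cover.comm_congr σ hc ?_ ?_
    · rw [map_mul, map_mul, map_inv, h1.eq, mul_inv_cancel_right]
    · rw [map_mul, map_mul, map_inv, h2.eq, mul_inv_cancel_right]
  rw [← mul_inv_cancel_left ⁅P, Q⁆ b]
  exact hcm.mul_right (Subgroup.mem_center_iff.1 hz a)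

/-- A class of one fixed root, conjugate to a commutator of fixed roots. -/
theorem self_of_decomp {J : Fin D'.rank} {j : Fin D.rank} (horb : Fl.orb J = [j])
    {r s k : Fin D.nroots} (hr : Fl.τ r = r) (hr1 : Fl.η r = 1) (hs' : Fl.τ s = s)
    (hs1 : Fl.η s = 1) (hk : Fl.τ k = k) (hk1 : Fl.η k = 1)
    (h1 : s.val ≠ r.val) (h2 : s.val ≠ D.neg r.val)
    (hct : D.commTerms r.val s.val = [(k.val, 1, 1, 1)])
    (hkr : RootsCommute D k.val r.val) (hks : RootsCommute D k.val s.val)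
    (L : List (Fin D'.rank)) (hL : (L.flatMap Fl.orb).foldr Fl.W.data.act k = Fl.sp j)
    (hs : Function.Surjective σ) (hc : σ.ker ≤ Subgroup.center Γ) :
    LiftsCommute σ (X.sys.U (Fl.ap J)) (X.sys.U (Fl.ap J)) := by
  obtain ⟨ε, hδ⟩ := X.word_conj_linear (L.flatMap Fl.orb) k
  set n := ((L.flatMap Fl.orb).map fun i => nElt D (Fl.sp i).val (1 : K)).prod with hn
  have hngrp : n ∈ X.grp := X.nOne_list L
  rw [hL] at hδ
  have hj : j ∈ Fl.orb J := by simp [horb]
  have hfix : Fl.τi j = j := by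
    have := X.fval.orb_stable J j hj
    simpa [horb] using this
  have hε := hδ 1
  rw [mul_one] at hε
  have hε0 : ε ≠ 0 := by
    intro h
    rw [h, X.chk.rt_zero, conj_eq_one_iff, ← X.chk.rt_zero k.val] at hε
    exact one_ne_zero (X.chk.rt_injective k.isLt hε)
  have hεf : X.f ε = ε := by
    have hfixed : rt D (Fl.sp j).val ε ∈ X.grp := hε ▸
      mul_mem (mul_mem hngrp (X.rt_fixed hk hk1 (map_one X.f))) (inv_mem hngrp)
    have h := X.mem_fixed.1 (X.grp_le_fixed hfixed)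
    rw [X.φ_rt, show Fl.τ (Fl.sp j) = Fl.sp j from (X.fval.tau_simple j).1.trans (by rw [hfix]; rfl),
      show Fl.η (Fl.sp j) = 1 from (X.fval.tau_simple j).2.1, Int.cast_one, one_mul] at h
    exact X.chk.rt_injective (Fl.sp j).isLt h
  -- every element is a conjugate of an element of the root `k`
  have hel : ∀ g ∈ X.sys.U (Fl.ap J), ∃ u, X.f u = u ∧
      (g : GL D.Idx K) = n * rt D k.val u * n⁻¹ := by
    intro g hg
    obtain ⟨t, ht, e⟩ := X.mem_E_ap.1 (show (g : GL D.Idx K) ∈ X.E (Fl.ap J) from hg)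
    have htj : X.f (t j) = t j := by
      have := ht j hj
      rw [hfix] at this
      exact this.symm
    refine ⟨t j / ε, by rw [map_div₀, htj, hεf], ?_⟩
    rw [hδ, mul_div_cancel₀ _ hε0, e, Twist.xp, horb]
    simp
  refine liftsCommute_of_comm hs hc fun x hx => ?_
  obtain ⟨u, hu, ex⟩ := hel x hx
  have m1 := X.rt_fixed hs' hs1 hu
  have m2 := X.rt_fixed hr hr1 (show X.f (-1 : K) = -1 by simp)
  refine ⟨⟨n, hngrp⟩ * ⟨_, inv_mem m1⟩ * ⟨n, hngrp⟩⁻¹, ⟨n, hngrp⟩ * ⟨_, inv_mem m2⟩ * ⟨n, hngrp⟩⁻¹,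
    ?_, fun y hy => ?_⟩
  · apply Subtype.ext
    simp only [commutatorElement_def, Subgroup.coe_mul, Subgroup.coe_inv]
    rw [ex]
    have hc' := X.chk.comm_rt r.isLt s.isLt h1 h2 (-(1 : K)) u
    rw [ChevalleyDatum.commWord, hct] at hc'
    simp only [List.map_cons, List.map_nil, wordRt, List.prod_cons, List.prod_nil, mul_one,
      Int.cast_one, one_mul, pow_one, neg_neg] at hc'
    have e : rt D k.val u = (rt D r.val (-1 : K) * rt D s.val u)⁻¹ *
        (rt D s.val u * rt D r.val (-1 : K)) := by rw [hc']; group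
    rw [e]
    group
  · obtain ⟨v, -, ey⟩ := hel y hy
    constructor <;> refine Subtype.ext ?_ <;>
      simp only [Subgroup.coe_mul, Subgroup.coe_inv, ey]
    · have := (X.rt_commute k.isLt s.isLt hks v u).inv_right
      simp only [← MulAut.conj_apply, ← map_mul, this.eq]
    · have := (X.rt_commute k.isLt r.isLt hkr v (-1)).inv_right
      simp only [← MulAut.conj_apply, ← map_mul, this.eq]

/-- A class scaled by `c` and `c + 1`. -/
theorem self_of_scale [Finite K] {J : Fin D'.rank} {j₀ : Fin D.rank} (hj₀ : j₀ ∈ Fl.orb J)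
    {c c' : Fin D.rank → Kˣ} (hcm : c ∈ X.cFix) (hcm' : c' ∈ X.cFix)
    (h1 : (chiR c' (Fl.sp j₀) : K) = 1 + chiR c (Fl.sp j₀))
    (h2 : 1 + (chiR c (Fl.sp j₀) : K) + (chiR c (Fl.sp j₀) : K) * chiR c (Fl.sp j₀) ≠ 0)
    (hs : Function.Surjective σ) (hc : σ.ker ≤ Subgroup.center Γ) :
    LiftsCommute σ (X.sys.U (Fl.ap J)) (X.sys.U (Fl.ap J)) := by
  have hA := X.axioms'
  have hall : ∀ j ∈ Fl.orb J, (chiR c' (Fl.sp j) : K) = 1 + chiR c (Fl.sp j) ∧
      1 + (chiR c (Fl.sp j) : K) + (chiR c (Fl.sp j) : K) * chiR c (Fl.sp j) ≠ 0 := by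
    intro j hj
    obtain ⟨m, rfl⟩ := X.fval.orb_cycle J j₀ hj₀ j hj
    clear hj
    induction (m : ℕ) with
    | zero => exact ⟨h1, h2⟩
    | succ m ih =>
      have e : ∀ {d : Fin D.rank → Kˣ}, d ∈ X.cFix →
          (chiR d (Fl.sp ((Fl.τi^[m + 1]) j₀)) : K) = X.f (chiR d (Fl.sp ((Fl.τi^[m]) j₀)) : K) := by
        intro d hd
        rw [Function.iterate_succ_apply', show Fl.sp (Fl.τi ((Fl.τi^[m]) j₀)) =
          Fl.τ (Fl.sp ((Fl.τi^[m]) j₀)) from (X.fval.tau_simple _).1.symm]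
        exact X.char_equi hd _
      refine ⟨by rw [e hcm', e hcm, ih.1, map_add, map_one], ?_⟩
      rw [e hcm, ← map_mul, ← map_one X.f, ← map_add, ← map_add, ne_eq, map_eq_zero]
      exact ih.2
  have hxp : ∀ (d : Fin D.rank → Kˣ) (t : Fin D.rank → K),
      torus D d * Twist.xp Fl Fl.sp J t * (torus D d)⁻¹ =
        Twist.xp Fl Fl.sp J fun j => (chiR d (Fl.sp j) : K) * t j := by
    intro d t
    exact X.torus_conj_xp d J t
  set h := tEG (X := X) hcm
  set h' := tEG (X := X) hcm'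
  have hel : ∀ x ∈ X.sys.U (Fl.ap J), ∃ t, (x : GL D.Idx K) = Twist.xp Fl Fl.sp J t := fun x hx =>
    let ⟨t, _, e⟩ := X.mem_E_ap.1 (show (x : GL D.Idx K) ∈ X.E (Fl.ap J) from hx)
    ⟨t, e⟩
  refine liftsCommute_self_of_elt hs hc (U_comm _) (h := h) (h' := h')
    (fun x hx => RootGroupSys.acts_conj_mem (RootGroupSys.acts_H hA (tEG_mem hcm)) hx)
    (fun x hx => ?_) (fun x hx => ?_) (fun x hx e => ?_)
  · have := RootGroupSys.acts_conj_mem (RootGroupSys.acts_H hA (inv_mem (tEG_mem hcm))) hx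
    rwa [inv_inv] at this
  · obtain ⟨t, e⟩ := hel x hx
    apply Subtype.ext
    simp only [Subgroup.coe_mul, Subgroup.coe_inv, h, h', tEG, e, hxp]
    rw [X.xp_mul _ Twist.rt_mem_pairGrp_p]
    exact X.xp_congr fun j hj => by rw [Pi.add_apply, (hall j hj).1]; ring
  · obtain ⟨t, ht⟩ := hel x hx
    have hinv : (torus D c)⁻¹ * Twist.xp Fl Fl.sp J t * torus D c =
        Twist.xp Fl Fl.sp J fun j => ((chiR c (Fl.sp j) : K))⁻¹ * t j := by
      have := hxp c fun j => ((chiR c (Fl.sp j) : K))⁻¹ * t j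
      rw [show (fun j => (chiR c (Fl.sp j) : K) * (((chiR c (Fl.sp j) : K))⁻¹ * t j)) = t from
        funext fun j => by rw [mul_inv_cancel_left₀ (Units.ne_zero _)]] at this
      rw [← this]; group
    have e' := congrArg (fun z : ↥X.grp => (z : GL D.Idx K)) e
    simp only [Subgroup.coe_mul, Subgroup.coe_inv, Subgroup.coe_one, h, tEG, ht, hxp, hinv,
      X.xp_mul _ Twist.rt_mem_pairGrp_p, ← X.xp_zero Fl.sp J] at e'
    apply Subtype.ext
    rw [ht, X.xp_congr (u := 0) fun j hj => ?_, X.xp_zero]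
    · rfl
    · have h3 := X.xp_p_injective e' j hj
      simp only [Pi.add_apply, Pi.zero_apply] at h3
      have h4 : (1 + (chiR c (Fl.sp j) : K) + (chiR c (Fl.sp j) : K) * chiR c (Fl.sp j)) * t j = 0 := by
        have := congrArg (fun z => (chiR c (Fl.sp j) : K) * z) h3
        simp only [mul_zero, mul_add, mul_inv_cancel_left₀ (Units.ne_zero _)] at this
        linear_combination this
      exact (mul_eq_zero.1 h4).resolve_left (hall j hj).2

end Torus

end H50.Tw
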