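import Cfsg.Agent.H50.TwTables
import Cfsg.Agent.H52.TwistD4
import Cfsg.Agent.H52.TwistSimple

/-!
Stem extensions of `³D₄(q)`: the part of order prime to the characteristic, and the `p`-part for
`q ≥ 3`.
-/

set_option autoImplicit false
set_option linter.unusedSectionVars false

namespace H50.Tw

open Cfsg.Lie H53 H52

universe v

/-- Digit tables of the torus elements used for `³D₄`. -/
def d4Wits : List (List (List ℤ)) :=
  [[[-1, -1, 0], [-1, -1, -1], [0, -1, -1], [-1, 0, -1]],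
   [[-1, -1, -1], [-2, -2, -2], [-1, -1, -1], [-1, -1, -1]],
   [[1, 0, 0], [0, 0, 0], [0, 1, 0], [0, 0, 1]]]

/-- The first roots of the orbits. -/
def d4J0 (J : Fin chevG2.rank) : Fin chevD4.rank := [d4I0, d4I1].getD J.val d4I0

set_option backward.isDefEq.respectTransparency false in
theorem d4_orbOK : ∀ J, OrbOK d4Fold J (d4J0 J) := by
  decide +kernel

set_option backward.isDefEq.respectTransparency false in
theorem d4_braidOK : ∀ i j, i ≠ j → BraidOK d4Fold.W'.data i j := by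
  decide +kernel

set_option backward.isDefEq.respectTransparency false in
theorem d4_wit_equi : ∀ W ∈ d4Wits, WitEqui d4Fold 3 W := by
  decide +kernel

set_option backward.isDefEq.respectTransparency false in
theorem d4_wit_fpf : ∀ S : Fin chevG2.nroots, chevG2.nroots / 2 ≤ S.val →
    ∃ W ∈ d4Wits, WitGood d4Fold 3 W S := by
  decide +kernel

set_option backward.isDefEq.respectTransparency false in
theorem d4_wit_pair : ∀ (J : Fin chevG2.rank) (S : Fin chevG2.nroots),
    chevG2.nroots / 2 ≤ S.val → S ≠ d4Fold.ap J →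
      (∃ W ∈ d4Wits, WitZero d4Fold 3 W (d4Fold.ap J) ∧ WitGood d4Fold 3 W S) ∨
      (ClsCommute d4Fold (d4Fold.ap J) S ∧
        ∃ W ∈ d4Wits, WitZero d4Fold 3 W S ∧ WitGood d4Fold 3 W (d4Fold.ap J)) := by
  decide +kernel

set_option backward.isDefEq.respectTransparency false in
theorem d4_long_data' : ∃ r s k : Fin chevD4.nroots, d4Fold.τ r = r ∧ d4Fold.η r = 1 ∧
    d4Fold.τ s = s ∧ d4Fold.η s = 1 ∧ d4Fold.τ k = k ∧ d4Fold.η k = 1 ∧
    s.val ≠ r.val ∧ s.val ≠ chevD4.neg r.val ∧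
    chevD4.commTerms r.val s.val = [(k.val, 1, 1, 1)] ∧
    RootsCommute chevD4 k.val r.val ∧ RootsCommute chevD4 k.val s.val ∧
    (([g2J0, g2J1] : List (Fin chevG2.rank)).flatMap d4Fold.orb).foldr d4Fold.W.data.act k =
      d4Fold.sp d4I1 := by
  refine ⟨⟨14, by decide⟩, ⟨22, by decide⟩, ⟨23, by decide⟩, ?_⟩
  decide +kernel

/-- Character values at the short fundamental root. -/
theorem d4_cartan : ∀ i : Fin chevD4.rank,
    chevD4.cartan i.val (d4Fold.sp d4I0).val = ([2, -1, 0, 0] : List ℤ).getD i.val 0 := by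
  decide +kernel

variable {K : Type*} [Field K] [Fintype K] {q : ℕ} {T : Tables} (X : Twist d4Fold T K)
  (hf : ∀ x, X.f x = x ^ q) (hK : Fintype.card K = q ^ 3)

include hf hK

/-- Every value is a character value on the short class. -/
theorem d4_char_surj (z : Kˣ) : ∃ c ∈ X.cFix, chiR c (d4Fold.sp d4I0) = z := by
  classical
  obtain ⟨t0, t1, t2, t3⟩ := d4Fold_τi
  have hq2 := one_le_pow_card (K := K) (by norm_num) hK
  obtain ⟨ζ, hζ⟩ := IsCyclic.exists_generator (α := Kˣ)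
  obtain ⟨m, rfl⟩ := Subgroup.mem_zpowers_iff.1 (hζ z)
  have hqd : ∀ u : Kˣ, ((u ^ q) ^ q) ^ q = u := fun u => Units.ext (by
    simpa using d4_f3 X hf hK (u : K))
  have hmem : ∀ (u v : Kˣ), v ^ q = v → d4Fun u v (u ^ q) ((u ^ q) ^ q) ∈ X.cFix := by
    intro u v hv i
    rw [hf, ← Units.val_pow_eq_pow_val]
    refine congrArg Units.val ?_
    rcases d4_cases i with rfl | rfl | rfl | rfl
    · rw [t0]; rfl
    · rw [t1]; exact hv.symm
    · rw [t2]; rfl
    · rw [t3]; exact (hqd u).symm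
  have hP : ∀ g : Fin chevD4.rank → Kˣ,
      ∏ i : Fin chevD4.rank, g i = g d4I0 * g d4I1 * g d4I2 * g d4I3 :=
    fun g => Fin.prod_univ_four (g : Fin 4 → Kˣ)
  have key : ∀ u v : Kˣ, v ^ q = v →
      ∃ c ∈ X.cFix, chiR c (d4Fold.sp d4I0) = u ^ 2 * v⁻¹ := fun u v hv => by
    refine ⟨_, hmem u v hv, ?_⟩
    rw [chiR, hP]
    simp only [fun i => d4_cartan i]
    simp [d4Fun, d4I0, d4I1, d4I2, d4I3]
  have hM : (ζ ^ (1 + q + q * q)) ^ q = ζ ^ (1 + q + q * q) := by
    have h : ζ ^ (q * (q * q)) = ζ := by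
      have := hqd ζ
      rwa [← pow_mul, ← pow_mul] at this
    calc (ζ ^ (1 + q + q * q)) ^ q = ζ ^ (q + q * q) * ζ ^ (q * (q * q)) := by
          rw [← pow_mul, ← pow_add]; congr 1; ring
      _ = ζ ^ (q + q * q + 1) := by rw [h, pow_succ]
      _ = _ := by congr 1; ring
  obtain ⟨l, hl⟩ := Nat.even_mul_succ_self q
  have hodd : (1 + q + q * q : ℕ) = 2 * l + 1 := by rw [Nat.mul_succ] at hl; omega
  rcases Int.even_or_odd m with ⟨n, rfl⟩ | ⟨n, rfl⟩
  · obtain ⟨c, hc, e⟩ := key (ζ ^ n) 1 (one_pow q)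
    refine ⟨c, hc, ?_⟩
    rw [e, inv_one, mul_one, ← zpow_natCast (ζ ^ n), ← zpow_mul]
    congr 1; push_cast; ring
  · obtain ⟨c, hc, e⟩ := key (ζ ^ (n + l + 1)) _ hM
    refine ⟨c, hc, ?_⟩
    rw [e, hodd, ← zpow_natCast (ζ ^ (n + l + 1)), ← zpow_natCast ζ (2 * l + 1), ← zpow_mul,
      ← zpow_neg, ← zpow_add]
    congr 1; push_cast; ring

variable {Γ : Type v} [Group Γ] {σ : Γ →* ↥X.grp} (hs : Function.Surjective σ)
  (hc : σ.ker ≤ Subgroup.center Γ)
include hs hc

theorem d4_self (J : Fin chevG2.rank) :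
    LiftsCommute σ (X.sys.U (d4Fold.ap J)) (X.sys.U (d4Fold.ap J)) := by
  classical
  obtain ⟨r, s, k, h1, h2, h3, h4, h5, h6, h7, h8, h9, h10, h11, h12⟩ := d4_long_data'
  rcases g2_cases J with rfl | rfl
  · obtain ⟨z, hz0, hz1, hz2⟩ : ∃ z : K, z ≠ 0 ∧ 1 + z ≠ 0 ∧ 1 + z + z * z ≠ 0 := by
      by_contra hcon
      push Not at hcon
      let P : Polynomial K := Polynomial.X * (Polynomial.X + 1) * (Polynomial.X ^ 2 + Polynomial.X + 1)
      have hm : P.Monic := by
        simp only [P]; monicity!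
      have hdeg : P.natDegree ≤ 4 := by simp only [P]; compute_degree
      have hroots : ∀ x : K, x ∈ P.roots := fun x => by
        rw [Polynomial.mem_roots hm.ne_zero]
        simp only [Polynomial.IsRoot, P, Polynomial.eval_mul, Polynomial.eval_add, Polynomial.eval_X,
          Polynomial.eval_one, Polynomial.eval_pow]
        by_cases h0 : x = 0
        · simp [h0]
        by_cases h1 : 1 + x = 0
        · simp [add_comm x 1, h1]
        rw [show x ^ 2 + x + 1 = 1 + x + x * x by ring, hcon x h0 h1, mul_zero]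
      have h5 : Fintype.card K ≤ P.roots.toFinset.card :=
        Finset.card_le_card (s := Finset.univ) fun x _ => Multiset.mem_toFinset.2 (hroots x)
      have := P.card_roots'
      have := Multiset.toFinset_card_le P.roots
      have : 2 ^ 3 ≤ q ^ 3 := Nat.pow_le_pow_left (one_le_pow_card (K := K) (by norm_num) hK) 3
      omega
    obtain ⟨c, hcm, ec⟩ := d4_char_surj X hf hK (Units.mk0 z hz0)
    obtain ⟨c', hcm', ec'⟩ := d4_char_surj X hf hK (Units.mk0 _ hz1)
    refine self_of_scale (j₀ := d4I0) (by decide) hcm hcm' ?_ ?_ hs hc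
    · rw [ec', ec]; rfl
    · rw [ec]; exact hz2
  · exact self_of_decomp (j := d4I1) d4Fold_orb1 h1 h2 h3 h4 h5 h6 h7 h8 h9 h10 h11 [g2J0, g2J1]
      h12 hs hc

/-- For `q ≥ 3` the kernel has order prime to the characteristic. -/
theorem d4_not_dvd [Finite Γ] (hq : 3 ≤ q) {p : ℕ} [Fact p.Prime] [CharP K p]
    (hd : σ.ker ≤ commutator Γ) : ¬ p ∣ Nat.card σ.ker := by
  haveI : NeZero (3 : ℕ) := ⟨by norm_num⟩
  exact not_dvd_ker_twist (hyp_of_tables (d := 3) hq hK hf hs hc d4Wits d4_wit_equi d4_wit_fpf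
    d4_wit_pair (d4_self X hf hK hs hc)) hs hc hd

/-- The kernel is trivial once it has order prime to the characteristic. -/
theorem d4_card_ker [Finite Γ] {p : ℕ} [Fact p.Prime] [CharP K p]
    (hcop : ¬ p ∣ Nat.card σ.ker) (hd : σ.ker ≤ commutator Γ) : Nat.card σ.ker = 1 := by
  classical
  have h := card_ker_prime (p := p) X σ hs hc hcop hd d4J0 d4_orbOK
    fun i j hij => braidData_of_ok X (d4_braidOK i j hij)
  have hcard : ∀ J, Nat.card ↥(orbField X J) = q ^ (d4Fold.orb J).length := fun J =>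
    (card_orbField X (d4_orbOK J)).trans (d4_card_E X hf hK J)
  have ht := d4_card_torus X hf hK
  simp only [hcard] at h
  rw [show ∀ g : Fin chevG2.rank → ℕ, ∏ J, g J = g g2J0 * g g2J1 from
    fun g => Fin.prod_univ_two (g : Fin 2 → ℕ)] at h
  change Nat.card σ.ker * _ ∣ (q ^ 3 - 1) * (q ^ 1 - 1) at h
  have h2 : (q ^ 3 - 1) * (q ^ 1 - 1) = (q - 1) ^ 2 * (q ^ 2 + q + 1) := by
    obtain ⟨n, rfl⟩ : ∃ n, q = n + 1 :=
      ⟨q - 1, by have := one_le_pow_card (K := K) (by norm_num) hK; omega⟩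
    rw [show (n + 1) ^ 3 - 1 = n * (n ^ 2 + 3 * n + 3) by
      rw [show (n + 1) ^ 3 = n * (n ^ 2 + 3 * n + 3) + 1 by ring]; omega, pow_one,
      Nat.add_sub_cancel]
    ring
  rw [h2, ← ht] at h
  exact Nat.dvd_one.1 (Nat.dvd_of_mul_dvd_mul_right Nat.card_pos (by rwa [one_mul]))

end H50.Tw
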