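import Cfsg.Agent.H50.TwD4
import Cfsg.Agent.H52.TwistOrderD4

/-!
Stem extensions of `³D₄(2)`: the kernel has odd order.

The Sylow 2-subgroup is `U_a Q` with `a` the short fundamental root.  Lifts of the conjugates of an
involution of the long fundamental root subgroup by `U_a` generate a group mapping isomorphically
onto `Q`, and it is normalised by the (abelian) preimage of `U_a`.
-/

set_option autoImplicit false
set_option linter.unusedSectionVars false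

namespace H50.Tw

open Subgroup
open scoped commutatorElement Pointwise

section Abstract

variable {G : Type*} [Group G] [Finite G] {Γ : Type*} [Group Γ] [Finite Γ] {σ : Γ →* G}

/-- A group generated by involutions with all commutators equal to one central involution. -/
theorem card_closure_le {c : Γ} (hc2 : c * c = 1) (S : Finset Γ) :
    (∀ g ∈ S, g * g = 1 ∧ Commute g c ∧ ∀ h ∈ S, ⁅g, h⁆ ∈ zpowers c) →
      Nat.card ↥(closure (insert c (S : Set Γ))) ≤ 2 ^ (S.card + 1) := by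
  classical
  induction S using Finset.induction_on with
  | empty =>
    intro _
    rw [Finset.coe_empty, insert_empty_eq, ← zpowers_eq_closure, Nat.card_zpowers]
    exact Nat.le_of_dvd (by norm_num) (orderOf_dvd_of_pow_eq_one (by simp [sq, hc2]))
  | insert g S hg ih =>
    intro h
    have h1 := ih fun x hx => ⟨(h x (Finset.mem_insert_of_mem hx)).1,
      (h x (Finset.mem_insert_of_mem hx)).2.1,
      fun y hy => (h x (Finset.mem_insert_of_mem hx)).2.2 y (Finset.mem_insert_of_mem hy)⟩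
    obtain ⟨hg2, hgc, hgS⟩ := h g (Finset.mem_insert_self g S)
    set N := closure (insert c (S : Set Γ))
    have hcN : zpowers c ≤ N := zpowers_le.2 (subset_closure (Set.mem_insert _ _))
    have hconj : ∀ y ∈ N, g * y * g⁻¹ ∈ N := by
      intro y hy
      induction hy using closure_induction with
      | mem z hz =>
        rcases hz with rfl | hz
        · rw [hgc.eq, mul_inv_cancel_right]; exact subset_closure (Set.mem_insert _ _)
        · rw [show g * z * g⁻¹ = ⁅g, z⁆ * z by rw [commutatorElement_def]; group]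
          exact mul_mem (hcN (hgS z (Finset.mem_insert_of_mem hz)))
            (subset_closure (Set.mem_insert_of_mem _ hz))
      | one => simp
      | mul a b _ _ ha hb =>
        rw [show g * (a * b) * g⁻¹ = g * a * g⁻¹ * (g * b * g⁻¹) by group]
        exact mul_mem ha hb
      | inv a _ ha =>
        rw [show g * a⁻¹ * g⁻¹ = (g * a * g⁻¹)⁻¹ by group]
        exact inv_mem ha
    have hgn : zpowers g ≤ normalizer (N : Set Γ) := by
      refine zpowers_le.2 (mem_normalizer_iff.2 fun y => ⟨hconj y, fun hy => ?_⟩)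
      have := hconj _ hy
      rwa [show g * (g * y * g⁻¹) * g⁻¹ = g * g * y * (g * g)⁻¹ by group, hg2, one_mul, inv_one,
        mul_one] at this
    have hle : closure (insert c ((insert g S : Finset Γ) : Set Γ)) ≤ N ⊔ zpowers g := by
      refine (closure_le _).2 ?_
      rintro x (rfl | hx)
      · exact mem_sup_left (subset_closure (Set.mem_insert _ _))
      rcases Finset.mem_insert.1 hx with rfl | hx
      · exact mem_sup_right (mem_zpowers _)
      · exact mem_sup_left (subset_closure (Set.mem_insert_of_mem _ hx))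
    refine (Nat.card_le_card_of_injective _ (inclusion_injective hle)).trans ?_
    have e : Nat.card ↥(N ⊔ zpowers g) = Nat.card ((N : Set Γ) * (zpowers g : Set Γ) : Set Γ) := by
      rw [← coe_mul_of_right_le_normalizer_left _ _ hgn]; rfl
    rw [e, Finset.card_insert_of_notMem hg, pow_succ]
    refine Set.natCard_mul_le.trans (Nat.mul_le_mul h1 ?_)
    refine (Nat.card_zpowers g).trans_le (Nat.le_of_dvd (by norm_num) (orderOf_dvd_of_pow_eq_one ?_))
    rw [sq, hg2]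

variable (hs : Function.Surjective σ) (hc : σ.ker ≤ center Γ)
include hs hc

omit hs [Finite G] [Finite Γ] in
/-- Conjugation only depends on the image. -/
theorem conj_congr {γ γ' : Γ} (h : σ γ = σ γ') (y : Γ) : γ * y * γ⁻¹ = γ' * y * γ'⁻¹ := by
  have hz : γ'⁻¹ * γ ∈ center Γ := hc (by simp [MonoidHom.mem_ker, h])
  calc γ * y * γ⁻¹ = γ' * ((γ'⁻¹ * γ) * y) * γ⁻¹ := by group
    _ = γ' * (y * (γ'⁻¹ * γ)) * γ⁻¹ := by rw [mem_center_iff.1 hz y]
    _ = γ' * y * γ'⁻¹ := by group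

omit hs in
/-- Elements of an odd order subgroup centralise the lifts of an involution they centralise. -/
theorem lift_commute_of_odd {H : Subgroup G} (hodd : ¬ 2 ∣ Nat.card H) {k x : Γ} (hk : σ k ∈ H)
    (hkx : Commute (σ k) (σ x)) (hx : σ (x * x) = 1) : k * x * k⁻¹ = x := by
  set d := k * x * k⁻¹ * x⁻¹ with hd
  have hd1 : d ∈ center Γ := hc (by
    rw [MonoidHom.mem_ker, hd, map_mul, map_mul, map_mul, map_inv, map_inv, hkx.eq]; group)
  have hxx : x * x ∈ center Γ := hc hx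
  have e : k * x * k⁻¹ = d * x := by rw [hd]; group
  have h2 : d * d = 1 := by
    have : d * x * (d * x) = x * x := by
      rw [← e, show k * x * k⁻¹ * (k * x * k⁻¹) = k * (x * x) * k⁻¹ by group,
        mem_center_iff.1 hxx k, mul_inv_cancel_right]
    rw [show d * x * (d * x) = d * (x * d) * x by group, mem_center_iff.1 hd1 x,
      show d * (d * x) * x = d * d * (x * x) by group] at this
    exact mul_eq_right.1 this
  have hn : ∀ n : ℕ, k ^ n * x * (k ^ n)⁻¹ = d ^ n * x := by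
    intro n
    induction n with
    | zero => simp
    | succ n ih =>
      rw [pow_succ', show k * k ^ n * x * (k * k ^ n)⁻¹ = k * (k ^ n * x * (k ^ n)⁻¹) * k⁻¹ by group,
        ih, show k * (d ^ n * x) * k⁻¹ = k * d ^ n * k⁻¹ * (k * x * k⁻¹) by group,
        mem_center_iff.1 (pow_mem hd1 n) k, mul_inv_cancel_right, e, ← mul_assoc, ← pow_succ]
  have hm : k ^ Nat.card H ∈ center Γ := hc (by
    rw [MonoidHom.mem_ker, map_pow]
    exact congrArg Subtype.val (pow_card_eq_one' (x := (⟨σ k, hk⟩ : H))))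
  have h3 := hn (Nat.card H)
  rw [← mem_center_iff.1 hm x, mul_inv_cancel_right, right_eq_mul] at h3
  have h4 : orderOf d ∣ 1 := by
    refine (Nat.Coprime.gcd_eq_one ((Nat.Prime.coprime_iff_not_dvd Nat.prime_two).2 hodd)) ▸
      Nat.dvd_gcd (orderOf_dvd_of_pow_eq_one (by rw [sq, h2])) (orderOf_dvd_of_pow_eq_one h3)
  rw [e, orderOf_eq_one_iff.1 (Nat.dvd_one.1 h4), one_mul]

/-- The criterion. -/
theorem not_two_dvd_ker_of_frame (hd : σ.ker ≤ commutator Γ) {A P H : Subgroup G} {b v t₀ : G}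
    (hself : LiftsCommute σ A A) (hA8 : Nat.card A ≤ 8)
    (hAv : ∀ (γ c : Γ), σ γ ∈ A → σ c = v → Commute γ c)
    (hodd : ¬ 2 ∣ Nat.card H) (hHb : ∀ h ∈ H, Commute h b) (hHv : ∀ h ∈ H, Commute h v)
    (ht₀ : t₀ ∈ A) (ht₀1 : t₀ ≠ 1) (htrans : ∀ t ∈ A, t ≠ 1 → ∃ h ∈ H, h * t₀ * h⁻¹ = t)
    (hbb : b * b = 1) (hcomm : ⁅b, t₀ * b * t₀⁻¹⁆ = v) (hconj : ∃ g, v = g * b * g⁻¹)
    (hgen : P ≤ A ⊔ closure (Set.range fun x : A => (x : G) * b * (x : G)⁻¹))
    (hP : 2 ^ 12 ≤ Nat.card P) (hidx : ¬ 2 ∣ P.index) : ¬ 2 ∣ Nat.card σ.ker := by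
  classical
  intro hdvd
  obtain ⟨g, hg⟩ := hconj
  have hvv : v * v = 1 := by
    rw [hg, show g * b * g⁻¹ * (g * b * g⁻¹) = g * (b * b) * g⁻¹ by group, hbb, mul_one,
      mul_inv_cancel]
  obtain ⟨b₁, hb₁⟩ := hs b
  obtain ⟨τ₀, hτ₀⟩ := hs t₀
  set c₀ := ⁅b₁, τ₀ * b₁ * τ₀⁻¹⁆ with hc₀
  have hσc : σ c₀ = v := by
    rw [hc₀, map_commutatorElement, map_mul, map_mul, map_inv, hb₁, hτ₀, hcomm]
  -- `c₀` is the commutator of any lifts of `b` and a conjugate
  have hc₀' : ∀ (γ β β' : Γ), σ γ ∈ A → σ γ ≠ 1 → σ β = b → σ β' = b →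
      ⁅β, γ * β' * γ⁻¹⁆ = c₀ := by
    intro γ β β' hγ hγ1 hβ hβ'
    obtain ⟨h, hh, he⟩ := htrans _ hγ hγ1
    obtain ⟨k, rfl⟩ := hs h
    have e1 : ⁅β, γ * β' * γ⁻¹⁆ = k * c₀ * k⁻¹ := by
      rw [hc₀, conjugate_commutatorElement]
      refine H76.Cover.comm_congr σ hc ?_ ?_
      · rw [map_mul, map_mul, map_inv, hb₁, hβ, (hHb _ hh).eq, mul_inv_cancel_right]
      · simp only [map_mul, map_inv, hβ', hb₁, hτ₀, ← he]
        have h' := (hHb _ hh).inv_left.eq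
        calc σ k * t₀ * (σ k)⁻¹ * b * (σ k * t₀ * (σ k)⁻¹)⁻¹
            = σ k * t₀ * ((σ k)⁻¹ * b) * (σ k * t₀⁻¹ * (σ k)⁻¹) := by group
          _ = _ := by rw [h']; group
    rw [e1]
    refine lift_commute_of_odd hc hodd hh ?_ ?_
    · rw [hσc]; exact hHv _ hh
    · rw [map_mul, hσc, hvv]
  have hAc : ∀ γ, σ γ ∈ A → γ * c₀ * γ⁻¹ = c₀ := fun γ hγ => by
    rw [(hAv γ c₀ hγ hσc).eq, mul_inv_cancel_right]
  have ht1 : σ τ₀ ≠ 1 := hτ₀.symm ▸ ht₀1
  have hc₀2 : c₀ * c₀ = 1 := by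
    have e := hAc τ₀ (hτ₀ ▸ ht₀)
    have h1 := hc₀' τ₀⁻¹ b₁ b₁ (by rw [map_inv, hτ₀]; exact inv_mem ht₀)
      (by rw [map_inv, ne_eq, inv_eq_one]; exact ht1) hb₁ hb₁
    have h2 : c₀⁻¹ = τ₀ * ⁅b₁, τ₀⁻¹ * b₁ * τ₀⁻¹⁻¹⁆ * τ₀⁻¹ := by
      rw [hc₀, commutatorElement_inv, conjugate_commutatorElement]
      congr 1
      group
    rw [h1, e] at h2
    exact inv_eq_iff_mul_eq_one.1 h2
  -- a lift of `b` of order two
  obtain ⟨k, rfl⟩ := hs g
  set β := k⁻¹ * c₀ * k with hβdef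
  have hβ : σ β = b := by
    rw [hβdef, map_mul, map_mul, map_inv, hσc, hg]; group
  have hβ2 : β * β = 1 := by
    rw [hβdef, show k⁻¹ * c₀ * k * (k⁻¹ * c₀ * k) = k⁻¹ * (c₀ * c₀) * k by group, hc₀2, mul_one,
      inv_mul_cancel]
  have hβc : Commute β c₀ := by
    have h := hc₀' τ₀ β β (hτ₀ ▸ ht₀) ht1 hβ hβ
    set y := τ₀ * β * τ₀⁻¹ with hy
    have hy2 : y * y = 1 := by
      rw [hy, show τ₀ * β * τ₀⁻¹ * (τ₀ * β * τ₀⁻¹) = τ₀ * (β * β) * τ₀⁻¹ by group, hβ2, mul_one,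
        mul_inv_cancel]
    rw [commutatorElement_def, inv_eq_of_mul_eq_one_right hβ2,
      inv_eq_of_mul_eq_one_right hy2] at h
    have e : c₀⁻¹ = c₀ := inv_eq_of_mul_eq_one_right hc₀2
    rw [← h] at e ⊢
    simp only [mul_inv_rev, inv_eq_of_mul_eq_one_right hβ2,
      inv_eq_of_mul_eq_one_right hy2] at e
    show β * (β * y * β * y) = β * y * β * y * β
    calc β * (β * y * β * y) = β * β * (y * β * y) := by group
      _ = y * β * y * β * β := by rw [hβ2, one_mul, mul_assoc (y * β * y), hβ2, mul_one]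
      _ = y * (β * (y * β)) * β := by group
      _ = β * y * β * y * β := by rw [e]
  -- the conjugates of the lift
  choose lf hlf using fun x : A => hs (x : G)
  let gen : A → Γ := fun x => lf x * β * (lf x)⁻¹
  set Q₀ := closure (Set.range gen) with hQ₀
  have hgen0 : ∀ x, gen x * gen x = 1 ∧ Commute (gen x) c₀ ∧
      ∀ y, ⁅gen x, gen y⁆ ∈ zpowers c₀ := by
    intro x
    have hx : σ (lf x) ∈ A := (hlf x).symm ▸ x.2
    refine ⟨?_, ?_, fun y => ?_⟩
    · rw [show gen x * gen x = lf x * (β * β) * (lf x)⁻¹ by simp only [gen]; group, hβ2, mul_one,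
        mul_inv_cancel]
    · have := (Commute.conj_iff (lf x)).2 hβc
      rwa [hAc _ hx] at this
    · have e : ⁅gen x, gen y⁆ = lf x * ⁅β, (lf x)⁻¹ * lf y * β * ((lf x)⁻¹ * lf y)⁻¹⁆ * (lf x)⁻¹ := by
        rw [conjugate_commutatorElement]
        congr 1
        simp only [gen]
        group
      rw [e]
      by_cases hxy : σ ((lf x)⁻¹ * lf y) = 1
      · rw [conj_congr hc (γ := (lf x)⁻¹ * lf y) (γ' := 1) (by rw [hxy, map_one]) β, one_mul, inv_one, mul_one,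
          commutatorElement_self, mul_one, mul_inv_cancel]
        exact one_mem _
      · rw [hc₀' _ β β (by rw [map_mul, map_inv]; exact mul_mem (inv_mem hx) ((hlf y).symm ▸ y.2))
          hxy hβ hβ, hAc _ hx]
        exact mem_zpowers _
  have hQcard : Nat.card Q₀ ≤ 2 ^ 9 := by
    have := Fintype.ofFinite A
    have h := card_closure_le hc₀2 (Finset.univ.image gen) fun g hg => by
      obtain ⟨x, -, rfl⟩ := Finset.mem_image.1 hg
      refine ⟨(hgen0 x).1, (hgen0 x).2.1, fun h hh => ?_⟩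
      obtain ⟨y, -, rfl⟩ := Finset.mem_image.1 hh
      exact (hgen0 x).2.2 y
    refine (Nat.card_le_card_of_injective _ (inclusion_injective (closure_mono ?_))).trans
      (h.trans (Nat.pow_le_pow_right (by norm_num) ?_))
    · rintro _ ⟨x, rfl⟩
      exact Set.mem_insert_of_mem _ (by simp)
    · refine Nat.succ_le_succ (Finset.card_image_le.trans ?_)
      rw [Finset.card_univ, ← Nat.card_eq_fintype_card]
      exact hA8
  have hmapQ : Q₀.map σ = closure (Set.range fun x : A => (x : G) * b * (x : G)⁻¹) := by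
    rw [hQ₀, MonoidHom.map_closure, ← Set.range_comp]
    congr 2
    funext x
    simp [gen, hlf, hβ]
  set M := closure (Set.range fun x : A => (x : G) * b * (x : G)⁻¹)
  have hMn : ∀ a ∈ A, ∀ y ∈ M, a * y * a⁻¹ ∈ M := by
    intro a ha y hy
    induction hy using closure_induction with
    | mem z hz =>
      obtain ⟨x, rfl⟩ := hz
      exact subset_closure ⟨⟨a * x, mul_mem ha x.2⟩, by simp [mul_assoc]⟩
    | one => simp
    | mul u w _ _ hu hw =>
      rw [show a * (u * w) * a⁻¹ = a * u * a⁻¹ * (a * w * a⁻¹) by group]; exact mul_mem hu hw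
    | inv u _ hu =>
      rw [show a * u⁻¹ * a⁻¹ = (a * u * a⁻¹)⁻¹ by group]; exact inv_mem hu
  have hAn : A ≤ normalizer (M : Set G) := fun a ha => mem_normalizer_iff.2 fun y =>
    ⟨hMn a ha y, fun hy => by simpa [mul_assoc] using hMn a⁻¹ (inv_mem ha) _ hy⟩
  have hset : ((A ⊔ M : Subgroup G) : Set G) = (A : Set G) * (M : Set G) :=
    coe_mul_of_left_le_normalizer_right _ _ hAn
  have hbig : 2 ^ 9 ≤ Nat.card M := by
    have h1 : Nat.card P ≤ Nat.card A * Nat.card M := by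
      refine (Nat.card_le_card_of_injective _ (inclusion_injective hgen)).trans ?_
      rw [show Nat.card ↥(A ⊔ M) = Nat.card ((A : Set G) * (M : Set G) : Set G) by rw [← hset]; rfl]
      exact Set.natCard_mul_le
    have h2 := Nat.mul_le_mul_right (Nat.card M) hA8
    omega
  have hinj : ∀ y ∈ Q₀, σ y = 1 → y = 1 := by
    intro y hy hy1
    let f : Q₀ → M := fun z => ⟨σ z, hmapQ ▸ ⟨z, z.2, rfl⟩⟩
    have hsurj : Function.Surjective f := by
      rintro ⟨m, hm⟩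
      rw [← hmapQ] at hm
      obtain ⟨z, hz, rfl⟩ := hm
      exact ⟨⟨z, hz⟩, rfl⟩
    have heq : Nat.card Q₀ = Nat.card M :=
      le_antisymm (hQcard.trans hbig) (Nat.card_le_card_of_surjective f hsurj)
    have hbij := (Nat.bijective_iff_surjective_and_card f).2 ⟨hsurj, heq⟩
    exact congrArg Subtype.val (hbij.1 (a₁ := ⟨y, hy⟩) (a₂ := 1) (Subtype.ext (by simp [f, hy1])))
  -- the preimage of `U_a` normalises `Q₀`
  have hQn : ∀ γ, σ γ ∈ A → ∀ y ∈ Q₀, γ * y * γ⁻¹ ∈ Q₀ := by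
    intro γ hγ y hy
    induction hy using closure_induction with
    | mem z hz =>
      obtain ⟨x, rfl⟩ := hz
      refine subset_closure ⟨⟨σ γ * x, mul_mem hγ x.2⟩, ?_⟩
      simp only [gen]
      rw [conj_congr hc (γ := lf ⟨σ γ * x, mul_mem hγ x.2⟩) (γ' := γ * lf x) (by rw [hlf, map_mul, hlf]) β]
      group
    | one => simp
    | mul u w _ _ hu hw =>
      rw [show γ * (u * w) * γ⁻¹ = γ * u * γ⁻¹ * (γ * w * γ⁻¹) by group]; exact mul_mem hu hw
    | inv u _ hu =>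
      rw [show γ * u⁻¹ * γ⁻¹ = (γ * u * γ⁻¹)⁻¹ by group]; exact inv_mem hu
  have hsplit : ∀ γ, σ γ ∈ P → ∃ u ∈ Q₀, ∃ a, σ a ∈ A ∧ γ = u * a := by
    intro γ hγ
    obtain ⟨a, ha, m, hm, e⟩ := Set.mem_mul.1 (hset ▸ hgen hγ : σ γ ∈ (A : Set G) * (M : Set G))
    rw [SetLike.mem_coe, ← hmapQ] at hm
    obtain ⟨u, hu, rfl⟩ := hm
    obtain ⟨a', rfl⟩ := hs a
    refine ⟨a' * u * a'⁻¹, hQn _ ha _ hu, (a' * u * a'⁻¹)⁻¹ * γ, ?_, by group⟩
    rw [show σ ((a' * u * a'⁻¹)⁻¹ * γ) = σ a' by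
      simp only [map_mul, map_inv, ← e]; group]
    exact ha
  have hcom : ⁅P.comap σ, P.comap σ⁆ ≤ Q₀ := by
    refine commutator_le.2 fun γ hγ δ hδ => ?_
    obtain ⟨u, hu, a, ha, rfl⟩ := hsplit γ hγ
    obtain ⟨w, hw, a', ha', rfl⟩ := hsplit δ hδ
    have e : Commute a a' := hself a a' ha ha'
    rw [show ⁅u * a, w * a'⁆ = u * (a * w * a⁻¹) * ((a * a' * a⁻¹) * u⁻¹ * a'⁻¹) * w⁻¹ by
      rw [commutatorElement_def]; group, e.eq, mul_inv_cancel_right]
    exact mul_mem (mul_mem (mul_mem hu (hQn _ ha _ hw)) (hQn _ ha' _ (inv_mem hu))) (inv_mem hw)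
  obtain ⟨⟨z, hz⟩, hord⟩ := exists_prime_orderOf_dvd_card' 2 hdvd
  rw [Subgroup.orderOf_mk] at hord
  have hzc := CExt.mem_commutator_comap σ hs hc hidx (hd hz) hz (hord ▸ pow_orderOf_eq_one z)
  rw [hinj z (hcom hzc) hz, orderOf_one] at hord
  omega

end Abstract

section Concrete

open Cfsg.Lie H53 H52

/-- The pairs of positive roots used below whose root subgroups commute. -/
def d4ComPairs : List (ℕ × ℕ) :=
  [(12, 13), (12, 18), (13, 18), (15, 16), (15, 19), (16, 19), (17, 20), (17, 21), (20, 21),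
   (15, 17), (15, 20), (16, 17), (16, 21), (19, 20), (19, 21),
   (12, 15), (13, 16), (13, 17), (18, 19), (18, 20), (18, 21), (18, 22),
   (14, 15), (14, 16), (14, 17), (14, 19), (14, 20), (14, 21), (14, 23),
   (22, 15), (22, 16), (22, 17), (22, 19), (22, 20), (22, 21), (22, 23),
   (23, 12), (23, 13), (23, 15), (23, 16), (23, 17), (23, 18), (23, 19), (23, 20), (23, 21)]

/-- The pairs of positive roots used below with their sum. -/
def d4SumTriples : List (ℕ × ℕ × ℕ) :=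
  [(12, 14, 15), (13, 14, 16), (13, 15, 17), (18, 14, 19), (18, 15, 20), (18, 16, 21),
   (18, 17, 22), (14, 22, 23), (19, 17, 23), (16, 20, 23), (15, 21, 23)]

set_option backward.isDefEq.respectTransparency false in
theorem d4_com_pairs : ∀ z ∈ d4ComPairs, z.1 < chevD4.nroots ∧ z.2 < chevD4.nroots ∧
    RootsCommute chevD4 z.1 z.2 := by
  decide +kernel

set_option backward.isDefEq.respectTransparency false in
theorem d4_sum_triples : ∀ z ∈ d4SumTriples, z.1 < chevD4.nroots ∧ z.2.1 < chevD4.nroots ∧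
    z.2.1 ≠ z.1 ∧ z.2.1 ≠ chevD4.neg z.1 ∧
    (chevD4.commTerms z.1 z.2.1 = [(z.2.2, 1, 1, 1)] ∨
      chevD4.commTerms z.1 z.2.1 = [(z.2.2, -1, 1, 1)]) := by
  decide +kernel

theorem d4_sp_vals : (d4Fold.sp d4I0).val = 18 ∧ (d4Fold.sp d4I1).val = 14 ∧
    (d4Fold.sp d4I2).val = 13 ∧ (d4Fold.sp d4I3).val = 12 ∧
    (d4Fold.ap g2J0).val = 7 ∧ (d4Fold.ap g2J1).val = 6 := by
  decide +kernel

/-- The images of roots under the two class reflections. -/
def d4ActTable : List (Fin chevG2.rank × ℕ × ℕ) :=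
  [(g2J1, 18, 19), (g2J1, 13, 16), (g2J1, 12, 15), (g2J0, 19, 17), (g2J0, 16, 20), (g2J0, 15, 21),
   (g2J0, 14, 22), (g2J1, 22, 23)]

set_option backward.isDefEq.respectTransparency false in
theorem d4_act_table : ∀ z ∈ d4ActTable, ∀ r : Fin chevD4.nroots, r.val = z.2.1 →
    ((d4Fold.orb z.1).foldr d4Fold.W.data.act r).val = z.2.2 := by
  decide +kernel

set_option backward.isDefEq.respectTransparency false in
theorem d4_classes : (∀ S : Fin chevG2.nroots, chevG2.nroots / 2 ≤ S.val →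
      S.val = 6 ∨ S.val = 7 ∨ S.val = 8 ∨ S.val = 9 ∨ S.val = 10 ∨ S.val = 11) ∧
    (∀ S : Fin chevG2.nroots,
      (S.val = 8 → (d4Fold.W'.data.act g2J1 S).val = 7) ∧
      (S.val = 9 → (d4Fold.W'.data.act g2J0 S).val = 8) ∧
      (S.val = 10 → (d4Fold.W'.data.act g2J0 S).val = 6) ∧
      (S.val = 11 → (d4Fold.W'.data.act g2J1 S).val = 10)) ∧
    ∀ r : Fin chevD4.nroots, r.val = 14 ∨ r.val = 23 → d4Fold.τ r = r := by
  decide +kernel

variable {K : Type*} [Field K] [Fintype K] {T : Tables} (X : Twist d4Fold T K)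
  (hf : ∀ x, X.f x = x ^ 2) (hK : Fintype.card K = 2 ^ 3)

/-- The root element `x_r(t)`. -/
local notation "ρ" => rt chevD4 (F := K)

/-- The elements of the short fundamental root subgroup. -/
noncomputable def d4x (K : Type*) [Field K] (t : K) : GL chevD4.Idx K :=
  rt chevD4 18 t * rt chevD4 13 (t ^ 2) * rt chevD4 12 (t ^ 4)

include hf hK

theorem d4_charTwo : CharP K 2 := by
  have : Fact (Nat.Prime 2) := ⟨Nat.prime_two⟩
  obtain ⟨p, hp⟩ := CharP.exists K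
  have : Fact p.Prime := ⟨CharP.char_is_prime K p⟩
  obtain ⟨n, hp', hn⟩ := FiniteField.card K p
  have : p ∣ 2 ^ 3 := by rw [← hK, hn]; exact dvd_pow_self p n.ne_zero
  obtain rfl := (Nat.prime_dvd_prime_iff_eq hp' Nat.prime_two).1 (hp'.dvd_of_dvd_pow this)
  exact hp

theorem d4_pow7 {t : K} (ht : t ≠ 0) : t ^ 7 = 1 := by
  have := FiniteField.pow_card_sub_one_eq_one t ht
  rwa [hK] at this

theorem d4_rt_comm {r s : ℕ} (h : (r, s) ∈ d4ComPairs ∨ (s, r) ∈ d4ComPairs) (t u : K) :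
    Commute (ρ r t) (ρ s u) := by
  rcases h with h | h
  · obtain ⟨h1, h2, h3⟩ := d4_com_pairs _ h
    exact X.rt_commute h1 h2 h3 t u
  · obtain ⟨h1, h2, h3⟩ := d4_com_pairs _ h
    exact (X.rt_commute h1 h2 h3 u t).symm

/-- The commutator relation in characteristic 2. -/
theorem d4_rt_swap {r s k : ℕ} (h : (r, s, k) ∈ d4SumTriples) (t u : K) :
    ρ s u * ρ r t = ρ r t * ρ s u * ρ k (t * u) := by
  have := d4_charTwo X hf hK
  obtain ⟨h1, h2, h3, h4, h5⟩ := d4_sum_triples _ h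
  rw [X.chk.comm_rt h1 h2 h3 h4, ChevalleyDatum.commWord]
  congr 1
  rcases h5 with h5 | h5 <;> simp [h5, wordRt, CharTwo.neg_eq]

/-- Conjugation by a representative of a class reflection moves root elements without signs. -/
theorem d4_conj_n {J : Fin chevG2.rank} {r r' : ℕ} (h : (J, r, r') ∈ d4ActTable)
    (hr : r < chevD4.nroots) (t : K) :
    Twist.nOne d4Fold K J * ρ r t * (Twist.nOne d4Fold K J)⁻¹ = ρ r' t := by
  have := d4_charTwo X hf hK
  have key : ∀ (L : List (Fin chevD4.rank)) (r : Fin chevD4.nroots),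
      (L.map fun i => nElt chevD4 (d4Fold.sp i).val (1 : K)).prod * ρ r.val t *
        ((L.map fun i => nElt chevD4 (d4Fold.sp i).val (1 : K)).prod)⁻¹ =
      ρ (L.foldr d4Fold.W.data.act r).val t := by
    intro L r
    induction L with
    | nil => simp
    | cons a L ih =>
      have h2 := X.chk.sig_conj_rt a.isLt (List.foldr d4Fold.W.data.act r L).isLt t
      have he : (T.eps a.val (List.foldr d4Fold.W.data.act r L).val : K) = 1 := by
        rcases H52.Checked.eps_eq_or (T := T) a.val (List.foldr d4Fold.W.data.act r L).val with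
          e | e <;> simp [e, CharTwo.neg_eq]
      rw [← ih, ← X.sp_val, he, one_mul] at h2
      rw [List.foldr_cons, d4Fold.W.act_eq, ← h2, List.map_cons, List.prod_cons]
      group
  have h' := key (d4Fold.orb J) ⟨r, hr⟩
  rw [d4_act_table _ h ⟨r, hr⟩ rfl] at h'
  exact h'

theorem d4x_mul (t u : K) : d4x K t * d4x K u = d4x K (t + u) := by
  have := d4_charTwo X hf hK
  have c := fun {r s : ℕ} (h : (r, s) ∈ d4ComPairs ∨ (s, r) ∈ d4ComPairs) (t u : K) =>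
    d4_rt_comm X hf hK h t u
  have h4 : ∀ a b : K, (a + b) ^ 4 = a ^ 4 + b ^ 4 := fun a b => by
    rw [show (4 : ℕ) = 2 * 2 from rfl, pow_mul, pow_mul, pow_mul, CharTwo.add_sq, CharTwo.add_sq]
  simp only [d4x, CharTwo.add_sq, h4]
  rw [← X.chk.rt_mul, ← X.chk.rt_mul, ← X.chk.rt_mul]
  calc ρ 18 t * ρ 13 (t ^ 2) * ρ 12 (t ^ 4) * (ρ 18 u * ρ 13 (u ^ 2) * ρ 12 (u ^ 4))
      = ρ 18 t * ρ 13 (t ^ 2) * (ρ 12 (t ^ 4) * ρ 18 u) * ρ 13 (u ^ 2) * ρ 12 (u ^ 4) := by group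
    _ = ρ 18 t * (ρ 13 (t ^ 2) * ρ 18 u) * (ρ 12 (t ^ 4) * ρ 13 (u ^ 2)) * ρ 12 (u ^ 4) := by
        rw [(c (r := 12) (s := 18) (by decide) _ _).eq]; group
    _ = _ := by
        rw [(c (r := 13) (s := 18) (by decide) _ _).eq, (c (r := 12) (s := 13) (by decide) _ _).eq]
        group

theorem d4x_zero : d4x K (0 : K) = 1 := by simp [d4x, X.chk.rt_zero]

theorem d4x_inv (t : K) : (d4x K t)⁻¹ = d4x K t := by
  have := d4_charTwo X hf hK
  refine inv_eq_of_mul_eq_one_right ?_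
  rw [d4x_mul X hf hK, CharTwo.add_self_eq_zero, d4x_zero X hf hK]

theorem d4x_eq_xp (t : K) : d4x K t =
    Twist.xp d4Fold d4Fold.sp g2J0 (d4Fun t 0 (t ^ 2) ((t ^ 2) ^ 2)) := by
  obtain ⟨v0, v1, v2, v3, -, -⟩ := d4_sp_vals
  rw [Twist.xp, d4Fold_orb0]
  simp only [List.map_cons, List.map_nil, List.prod_cons, List.prod_nil, mul_one, v0, v2, v3,
    d4x, ← mul_assoc, ← pow_mul]
  rfl

theorem mem_E_short {g : GL chevD4.Idx K} : g ∈ X.E (d4Fold.ap g2J0) ↔ ∃ t, g = d4x K t := by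
  constructor
  · intro hg
    obtain ⟨t, ht, rfl⟩ := X.mem_E_ap.1 hg
    obtain ⟨h2, h3, -⟩ := (d4_equi_short X hf t).1 ht
    refine ⟨t d4I0, ?_⟩
    rw [d4x_eq_xp X hf hK]
    refine X.xp_congr fun j hj => ?_
    rw [d4Fold_orb0] at hj
    simp only [List.mem_cons, List.not_mem_nil, or_false] at hj
    rcases hj with rfl | rfl | rfl
    · rfl
    · exact h2
    · exact h3.trans (by rw [h2]; rfl)
  · rintro ⟨t, rfl⟩
    rw [d4x_eq_xp X hf hK]
    exact X.xp_p_mem (d4_equi_short_fun X hf hK t)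

theorem mem_E_long {g : GL chevD4.Idx K} (hg : g ∈ X.E (d4Fold.ap g2J1)) : g = 1 ∨ g = ρ 14 1 := by
  obtain ⟨t, ht, rfl⟩ := X.mem_E_ap.1 hg
  have h := (d4_equi_long X hf t).1 ht
  rw [Twist.xp, d4Fold_orb1]
  simp only [List.map_cons, List.map_nil, List.prod_cons, List.prod_nil, mul_one, d4_sp_vals.2.1]
  rw [sq, mul_left_eq_self₀] at h
  rcases h with h | h
  · exact Or.inr (by rw [h])
  · exact Or.inl (by rw [h, X.chk.rt_zero])

theorem d4_long_mem : ρ 14 1 ∈ X.grp := by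
  have h := X.E_le_grp_p _ (X.xp_p_mem (X.equi_one g2J1))
  rw [Twist.xp, d4Fold_orb1] at h
  simpa [d4_sp_vals.2.1] using h

/-- The elements of the class `a + b`. -/
theorem d4_y_eq (t : K) : Twist.nOne d4Fold K g2J1 * d4x K t * (Twist.nOne d4Fold K g2J1)⁻¹ =
    ρ 19 t * ρ 16 (t ^ 2) * ρ 15 (t ^ 4) := by
  rw [d4x, ← conj_mul, ← conj_mul, d4_conj_n X hf hK (r' := 19) (by decide) (by decide),
    d4_conj_n X hf hK (r' := 16) (by decide) (by decide),
    d4_conj_n X hf hK (r' := 15) (by decide) (by decide)]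

/-- The elements of the class `2a + b`. -/
theorem d4_z_eq (t : K) :
    Twist.nOne d4Fold K g2J0 * (ρ 19 t * ρ 16 (t ^ 2) * ρ 15 (t ^ 4)) *
      (Twist.nOne d4Fold K g2J0)⁻¹ = ρ 17 t * ρ 20 (t ^ 2) * ρ 21 (t ^ 4) := by
  rw [← conj_mul, ← conj_mul, d4_conj_n X hf hK (r' := 17) (by decide) (by decide),
    d4_conj_n X hf hK (r' := 20) (by decide) (by decide),
    d4_conj_n X hf hK (r' := 21) (by decide) (by decide)]

/-- A root element of the highest root in the twisted group has parameter 0 or 1. -/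
theorem d4_v_fixed {k : K} (h : ρ 23 k ∈ X.grp) : k = 0 ∨ k = 1 := by
  have := d4_charTwo X hf hK
  have h1 : X.φ (ρ 23 k) = ρ 23 k := X.grp_le_fixed h
  have e : X.φ (ρ 23 k) = ρ 23 (((d4Fold.η ⟨23, by decide⟩ : ℤ) : K) * X.f k) := by
    have := X.φ_rt ⟨23, by decide⟩ k
    rwa [d4_classes.2.2 ⟨23, by decide⟩ (Or.inr rfl)] at this
  have he : ((d4Fold.η ⟨23, by decide⟩ : ℤ) : K) = 1 := by
    rw [show d4Fold.η ⟨23, by decide⟩ = 1 by decide +kernel, Int.cast_one]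
  rw [h1, he, one_mul, hf] at e
  have := X.chk.rt_injective (by decide) e
  rw [sq, eq_comm, mul_left_eq_self₀] at this
  exact this.symm

/-- The group generated by the conjugates of the long root element under `U_a`. -/
noncomputable def d4M (K : Type*) [Field K] : Subgroup (GL chevD4.Idx K) :=
  Subgroup.closure (Set.range fun t : K => d4x K t * rt chevD4 14 1 * (d4x K t)⁻¹)

theorem d4M_le : d4M K ≤ X.grp := by
  refine (Subgroup.closure_le _).2 ?_
  rintro _ ⟨t, rfl⟩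
  have hx : d4x K t ∈ X.grp := X.E_le_grp _ ((mem_E_short X hf hK).2 ⟨t, rfl⟩)
  exact mul_mem (mul_mem hx (d4_long_mem X hf hK)) (inv_mem hx)

/-- The conjugates of the long root element. -/
theorem d4_conj_b {t : K} (ht : t ≠ 0) :
    d4x K t * ρ 14 1 * (d4x K t)⁻¹ = ρ 14 1 * (ρ 19 t * ρ 16 (t ^ 2) * ρ 15 (t ^ 4) *
      (ρ 21 (t ^ 3) * ρ 20 (t ^ 5) * ρ 17 (t ^ 6)) * ρ 22 1 * ρ 23 (t ^ 4 * t ^ 3)) := by
  have := d4_charTwo X hf hK
  have c := fun {r s : ℕ} (h : (r, s) ∈ d4ComPairs ∨ (s, r) ∈ d4ComPairs) (t u : K) =>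
    (d4_rt_comm X hf hK h t u).eq
  have inv' : ∀ r (u : K), (ρ r u)⁻¹ = ρ r u := fun r u => by rw [X.chk.rt_inv, CharTwo.neg_eq]
  -- conjugation by a root element
  have cj : ∀ {r s k : ℕ}, (r, s, k) ∈ d4SumTriples → ((r, k) ∈ d4ComPairs ∨ (k, r) ∈ d4ComPairs) →
      ∀ a u : K, ρ r a * ρ s u * (ρ r a)⁻¹ = ρ s u * ρ k (a * u) := by
    intro r s k h h' a u
    rw [mul_inv_eq_iff_eq_mul, mul_assoc (ρ s u), ← c h' a (a * u), ← mul_assoc,
      d4_rt_swap X hf hK h a u, mul_assoc (ρ r a * ρ s u), X.chk.rt_mul,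
      CharTwo.add_self_eq_zero, X.chk.rt_zero, mul_one]
  have fixc : ∀ {r s : ℕ}, ((r, s) ∈ d4ComPairs ∨ (s, r) ∈ d4ComPairs) →
      ∀ a u : K, ρ r a * ρ s u * (ρ r a)⁻¹ = ρ s u := fun h a u => by
    rw [c h, mul_inv_cancel_right]
  have e12 : ρ 12 (t ^ 4) * ρ 14 1 * (ρ 12 (t ^ 4))⁻¹ = ρ 14 1 * ρ 15 (t ^ 4) := by
    rw [cj (k := 15) (by decide) (by decide), mul_one]
  have e13 : ρ 13 (t ^ 2) * (ρ 14 1 * ρ 15 (t ^ 4)) * (ρ 13 (t ^ 2))⁻¹ =
      ρ 14 1 * ρ 16 (t ^ 2) * (ρ 15 (t ^ 4) * ρ 17 (t ^ 6)) := by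
    rw [← conj_mul, cj (k := 16) (by decide) (by decide), cj (k := 17) (by decide) (by decide),
      mul_one, show t ^ 2 * t ^ 4 = t ^ 6 by ring]
  have e18 : ρ 18 t * (ρ 14 1 * ρ 16 (t ^ 2) * (ρ 15 (t ^ 4) * ρ 17 (t ^ 6))) * (ρ 18 t)⁻¹ =
      ρ 14 1 * ρ 19 t * (ρ 16 (t ^ 2) * ρ 21 (t ^ 3)) *
        (ρ 15 (t ^ 4) * ρ 20 (t ^ 5) * (ρ 17 (t ^ 6) * ρ 22 1)) := by
    rw [← conj_mul, ← conj_mul, ← conj_mul, cj (k := 19) (by decide) (by decide),
      cj (k := 21) (by decide) (by decide), cj (k := 20) (by decide) (by decide),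
      cj (k := 22) (by decide) (by decide), mul_one, show t * t ^ 2 = t ^ 3 by ring,
      show t * t ^ 4 = t ^ 5 by ring, show t * t ^ 6 = t ^ 7 by ring, d4_pow7 X hf hK ht]
  have e : d4x K t * ρ 14 1 * (d4x K t)⁻¹ = ρ 14 1 * ρ 19 t * (ρ 16 (t ^ 2) * ρ 21 (t ^ 3)) *
      (ρ 15 (t ^ 4) * ρ 20 (t ^ 5) * (ρ 17 (t ^ 6) * ρ 22 1)) := by
    rw [← e18, ← e13, ← e12, d4x]; group
  rw [e]
  have hv : ∀ r ∈ [20, 17], ∀ a b : K, ρ 23 a * ρ r b = ρ r b * ρ 23 a := by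
    intro r hr a b
    simp only [List.mem_cons, List.not_mem_nil, or_false] at hr
    rcases hr with rfl | rfl <;> exact c (by decide) a b
  calc ρ 14 1 * ρ 19 t * (ρ 16 (t ^ 2) * ρ 21 (t ^ 3)) *
        (ρ 15 (t ^ 4) * ρ 20 (t ^ 5) * (ρ 17 (t ^ 6) * ρ 22 1))
      = ρ 14 1 * ρ 19 t * ρ 16 (t ^ 2) * (ρ 21 (t ^ 3) * ρ 15 (t ^ 4)) * ρ 20 (t ^ 5) *
          ρ 17 (t ^ 6) * ρ 22 1 := by group
    _ = ρ 14 1 * ρ 19 t * ρ 16 (t ^ 2) * ρ 15 (t ^ 4) * ρ 21 (t ^ 3) *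
          (ρ 23 (t ^ 4 * t ^ 3) * ρ 20 (t ^ 5)) * ρ 17 (t ^ 6) * ρ 22 1 := by
        rw [d4_rt_swap X hf hK (r := 15) (s := 21) (k := 23) (by decide)]; group
    _ = ρ 14 1 * ρ 19 t * ρ 16 (t ^ 2) * ρ 15 (t ^ 4) * ρ 21 (t ^ 3) * ρ 20 (t ^ 5) *
          (ρ 23 (t ^ 4 * t ^ 3) * ρ 17 (t ^ 6)) * ρ 22 1 := by
        rw [hv 20 (by simp)]; group
    _ = ρ 14 1 * ρ 19 t * ρ 16 (t ^ 2) * ρ 15 (t ^ 4) * ρ 21 (t ^ 3) * ρ 20 (t ^ 5) * ρ 17 (t ^ 6) *
          (ρ 23 (t ^ 4 * t ^ 3) * ρ 22 1) := by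
        rw [hv 17 (by simp)]; group
    _ = _ := by rw [c (r := 23) (s := 22) (by decide)]; group

/-- The commutator of the long root element with a conjugate is the highest root element. -/
theorem d4_comm_b {t : K} (ht : t ≠ 0) :
    ⁅ρ 14 1, d4x K t * ρ 14 1 * (d4x K t)⁻¹⁆ = ρ 23 1 := by
  have := d4_charTwo X hf hK
  have inv' : ∀ r (u : K), (ρ r u)⁻¹ = ρ r u := fun r u => by rw [X.chk.rt_inv, CharTwo.neg_eq]
  have c := fun {r s : ℕ} (h : (r, s) ∈ d4ComPairs ∨ (s, r) ∈ d4ComPairs) (t u : K) =>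
    d4_rt_comm X hf hK h t u
  rw [d4_conj_b X hf hK ht]
  set R := ρ 19 t * ρ 16 (t ^ 2) * ρ 15 (t ^ 4) * (ρ 21 (t ^ 3) * ρ 20 (t ^ 5) * ρ 17 (t ^ 6))
  set k := t ^ 4 * t ^ 3
  have hb : Commute (ρ 14 1) R :=
    (((c (by decide) _ _).mul_right (c (by decide) _ _)).mul_right (c (by decide) _ _)).mul_right
      (((c (by decide) _ _).mul_right (c (by decide) _ _)).mul_right (c (by decide) _ _))
  have hvR : Commute (ρ 23 1) R :=
    (((c (by decide) _ _).mul_right (c (by decide) _ _)).mul_right (c (by decide) _ _)).mul_right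
      (((c (by decide) _ _).mul_right (c (by decide) _ _)).mul_right (c (by decide) _ _))
  have hbv : Commute (ρ 14 1) (ρ 23 k) := c (by decide) _ _
  have hwv : Commute (ρ 22 1) (ρ 23 k) := c (by decide) _ _
  have hvv : Commute (ρ 23 1) (ρ 23 k) := by
    show _ = _
    rw [X.chk.rt_mul, X.chk.rt_mul, add_comm]
  have hswap : ρ 22 1 * ρ 14 1 = ρ 14 1 * ρ 22 1 * ρ 23 1 := by
    rw [d4_rt_swap X hf hK (r := 14) (s := 22) (k := 23) (by decide), mul_one]
  have hbb : ρ 14 1 * ρ 14 1 = 1 := by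
    rw [X.chk.rt_mul, CharTwo.add_self_eq_zero, X.chk.rt_zero]
  have hW : R * ρ 22 1 * ρ 23 k * ρ 14 1 = ρ 14 1 * (R * ρ 22 1 * ρ 23 k) * ρ 23 1 := by
    calc R * ρ 22 1 * ρ 23 k * ρ 14 1 = R * ρ 22 1 * (ρ 23 k * ρ 14 1) := by group
      _ = R * (ρ 22 1 * ρ 14 1) * ρ 23 k := by rw [← hbv.eq]; group
      _ = R * ρ 14 1 * ρ 22 1 * (ρ 23 1 * ρ 23 k) := by rw [hswap]; group
      _ = _ := by rw [← hb.eq, hvv.eq]; group
  set W := R * ρ 22 1 * ρ 23 k
  have hbv1 : Commute (ρ 14 1) (ρ 23 1) := c (by decide) _ _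
  have hvW : Commute (ρ 23 1) W := (hvR.mul_right (c (by decide) _ _)).mul_right hvv
  rw [commutatorElement_def, mul_inv_rev, inv' 14 1]
  calc ρ 14 1 * (ρ 14 1 * W) * ρ 14 1 * (W⁻¹ * ρ 14 1)
      = ρ 14 1 * ρ 14 1 * (W * ρ 14 1) * W⁻¹ * ρ 14 1 := by group
    _ = ρ 14 1 * (W * ρ 23 1) * W⁻¹ * ρ 14 1 := by rw [hW, hbb]; group
    _ = ρ 14 1 * ρ 23 1 * ρ 14 1 := by rw [← hvW.eq]; group
    _ = ρ 23 1 := by rw [hbv1.eq, mul_assoc, hbb, mul_one]

/-- The positive root subgroup lies in the span of `U_a` and the conjugates. -/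
theorem d4_E_le_M (S : Fin chevG2.nroots) (hS : chevG2.nroots / 2 ≤ S.val) :
    X.E S ≤ Subgroup.closure (Set.range (d4x K)) ⊔ d4M K := by
  have := d4_charTwo X hf hK
  set M := d4M K
  have c := fun {r s : ℕ} (h : (r, s) ∈ d4ComPairs ∨ (s, r) ∈ d4ComPairs) (t u : K) =>
    d4_rt_comm X hf hK h t u
  have hG : M ≤ X.grp := d4M_le X hf hK
  have hb : ρ 14 1 ∈ M := Subgroup.subset_closure ⟨0, by
    show d4x K 0 * _ * (d4x K 0)⁻¹ = _
    rw [d4x_zero X hf hK, one_mul, inv_one, mul_one]⟩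
  have hB : ∀ t, d4x K t * ρ 14 1 * (d4x K t)⁻¹ ∈ M := fun t => Subgroup.subset_closure ⟨t, rfl⟩
  have hv1 : ρ 23 1 ∈ M := by
    rw [← d4_comm_b X hf hK (one_ne_zero (α := K)), commutatorElement_def]
    exact mul_mem (mul_mem (mul_mem hb (hB 1)) (inv_mem hb)) (inv_mem (hB 1))
  have hv : ∀ k : K, ρ 23 k ∈ X.grp → ρ 23 k ∈ M := fun k hk => by
    rcases d4_v_fixed X hf hK hk with rfl | rfl
    · rw [X.chk.rt_zero]; exact one_mem _
    · exact hv1
  have hx : ∀ t, d4x K t ∈ X.grp := fun t => X.E_le_grp _ ((mem_E_short X hf hK).2 ⟨t, rfl⟩)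
  let Y : K → GL chevD4.Idx K := fun t => ρ 19 t * ρ 16 (t ^ 2) * ρ 15 (t ^ 4)
  let Z : K → GL chevD4.Idx K := fun s => ρ 17 s * ρ 20 (s ^ 2) * ρ 21 (s ^ 4)
  have hY : ∀ t, Y t ∈ X.grp := fun t => by
    show ρ 19 t * _ * _ ∈ X.grp
    rw [← d4_y_eq X hf hK]
    exact mul_mem (mul_mem (X.nOne_mem_grp _) (hx t)) (inv_mem (X.nOne_mem_grp _))
  have hZ : ∀ t, Z t ∈ X.grp := fun t => by
    show ρ 17 t * _ * _ ∈ X.grp
    rw [← d4_z_eq X hf hK]
    exact mul_mem (mul_mem (X.nOne_mem_grp _) (hY t)) (inv_mem (X.nOne_mem_grp _))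
  have hYadd : ∀ t u, Y t * Y u = Y (t + u) := fun t u => by
    simp only [Y, ← d4_y_eq X hf hK]
    rw [conj_mul, d4x_mul X hf hK]
  have hZadd : ∀ t u, Z t * Z u = Z (t + u) := fun t u => by
    show ρ 17 t * _ * _ * (ρ 17 u * _ * _) = ρ 17 (t + u) * _ * _
    rw [← d4_z_eq X hf hK, ← d4_z_eq X hf hK, ← d4_z_eq X hf hK, conj_mul]
    show _ * (Y t * Y u) * _ = _
    rw [hYadd]
  have hw : ρ 22 (1 : K) ∈ X.grp := by
    rw [← d4_conj_n X hf hK (J := g2J0) (r := 14) (r' := 22) (by decide) (by decide)]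
    exact mul_mem (mul_mem (X.nOne_mem_grp _) (d4_long_mem X hf hK)) (inv_mem (X.nOne_mem_grp _))
  have hww : ρ 22 (1 : K) * ρ 22 1 = 1 := by
    rw [X.chk.rt_mul, CharTwo.add_self_eq_zero, X.chk.rt_zero]
  have hwY : ∀ t, Commute (ρ 22 1) (Y t) := fun t =>
    ((c (by decide) _ _).mul_right (c (by decide) _ _)).mul_right (c (by decide) _ _)
  have hwZ : ∀ t, Commute (ρ 22 1) (Z t) := fun t =>
    ((c (by decide) _ _).mul_right (c (by decide) _ _)).mul_right (c (by decide) _ _)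
  have hvY : ∀ k t, Commute (ρ 23 k) (Y t) := fun k t =>
    ((c (by decide) _ _).mul_right (c (by decide) _ _)).mul_right (c (by decide) _ _)
  have hvZ : ∀ k t, Commute (ρ 23 k) (Z t) := fun k t =>
    ((c (by decide) _ _).mul_right (c (by decide) _ _)).mul_right (c (by decide) _ _)
  -- the swap of the classes `a + b` and `2a + b`
  have hZY : ∀ s t, ∃ k, Z s * Y t = Y t * Z s * ρ 23 k := by
    intro s t
    refine ⟨t * s + t ^ 2 * s ^ 2 + t ^ 4 * s ^ 4, ?_⟩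
    have v := fun {r : ℕ} (h : (23, r) ∈ d4ComPairs ∨ (r, 23) ∈ d4ComPairs) (a b : K) => (c h a b).eq
    calc Z s * Y t = ρ 17 s * ρ 20 (s ^ 2) * (ρ 21 (s ^ 4) * ρ 19 t) * ρ 16 (t ^ 2) * ρ 15 (t ^ 4) := by
          simp only [Y, Z]; group
      _ = ρ 17 s * (ρ 20 (s ^ 2) * ρ 19 t) * (ρ 21 (s ^ 4) * ρ 16 (t ^ 2)) * ρ 15 (t ^ 4) := by
          rw [(c (r := 21) (s := 19) (by decide) _ _).eq]; group
      _ = ρ 17 s * ρ 19 t * (ρ 20 (s ^ 2) * ρ 16 (t ^ 2)) * (ρ 21 (s ^ 4) * ρ 15 (t ^ 4)) := by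
          rw [(c (r := 20) (s := 19) (by decide) _ _).eq, (c (r := 21) (s := 16) (by decide) _ _).eq]
          group
      _ = ρ 19 t * ρ 17 s * (ρ 23 (t * s) * ρ 16 (t ^ 2)) * ρ 20 (s ^ 2) * ρ 23 (t ^ 2 * s ^ 2) *
            ρ 15 (t ^ 4) * ρ 21 (s ^ 4) * ρ 23 (t ^ 4 * s ^ 4) := by
          rw [d4_rt_swap X hf hK (r := 19) (s := 17) (k := 23) (by decide),
            d4_rt_swap X hf hK (r := 16) (s := 20) (k := 23) (by decide),
            d4_rt_swap X hf hK (r := 15) (s := 21) (k := 23) (by decide)]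
          group
      _ = ρ 19 t * (ρ 17 s * ρ 16 (t ^ 2)) * (ρ 23 (t * s) * ρ 20 (s ^ 2)) *
            (ρ 23 (t ^ 2 * s ^ 2) * ρ 15 (t ^ 4)) * ρ 21 (s ^ 4) * ρ 23 (t ^ 4 * s ^ 4) := by
          rw [v (r := 16) (by decide)]; group
      _ = ρ 19 t * ρ 16 (t ^ 2) * ρ 17 s * ρ 20 (s ^ 2) * (ρ 23 (t * s) * ρ 15 (t ^ 4)) *
            (ρ 23 (t ^ 2 * s ^ 2) * ρ 21 (s ^ 4)) * ρ 23 (t ^ 4 * s ^ 4) := by
          rw [(c (r := 17) (s := 16) (by decide) _ _).eq, v (r := 20) (by decide),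
            v (r := 15) (by decide)]
          group
      _ = ρ 19 t * ρ 16 (t ^ 2) * ρ 17 s * (ρ 20 (s ^ 2) * ρ 15 (t ^ 4)) *
            (ρ 23 (t * s) * ρ 21 (s ^ 4)) * (ρ 23 (t ^ 2 * s ^ 2) * ρ 23 (t ^ 4 * s ^ 4)) := by
          rw [v (r := 15) (by decide), v (r := 21) (by decide)]; group
      _ = ρ 19 t * ρ 16 (t ^ 2) * (ρ 17 s * ρ 15 (t ^ 4)) * ρ 20 (s ^ 2) * ρ 21 (s ^ 4) *
            (ρ 23 (t * s) * (ρ 23 (t ^ 2 * s ^ 2) * ρ 23 (t ^ 4 * s ^ 4))) := by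
          rw [(c (r := 20) (s := 15) (by decide) _ _).eq, v (r := 21) (by decide)]; group
      _ = _ := by
          rw [(c (r := 17) (s := 15) (by decide) _ _).eq, X.chk.rt_mul, X.chk.rt_mul, ← add_assoc]
          simp only [Y, Z]
          group
  -- the parts of the conjugates
  have hP : ∀ t : K, t ≠ 0 → Y t * Z ((t ^ 3) ^ 2) * ρ 22 1 ∈ M := by
    intro t ht
    have e := d4_conj_b X hf hK ht
    have ez : ρ 21 (t ^ 3) * ρ 20 (t ^ 5) * ρ 17 (t ^ 6) = Z ((t ^ 3) ^ 2) := by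
      simp only [Z]
      have h7 := d4_pow7 X hf hK ht
      rw [show (t ^ 3) ^ 2 = t ^ 6 by ring, show (t ^ 6) ^ 2 = t ^ 5 by
          rw [show (t ^ 6) ^ 2 = t ^ 5 * t ^ 7 by ring, h7, mul_one],
        show (t ^ 6) ^ 4 = t ^ 3 by
          rw [show (t ^ 6) ^ 4 = t ^ 3 * t ^ 7 * t ^ 7 * t ^ 7 by ring, h7, mul_one, mul_one, mul_one],
        mul_assoc, (c (r := 20) (s := 17) (by decide) _ _).eq, ← mul_assoc,
        (c (r := 21) (s := 17) (by decide) _ _).eq, mul_assoc,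
        (c (r := 21) (s := 20) (by decide) _ _).eq, ← mul_assoc]
    rw [ez] at e
    set k := t ^ 4 * t ^ 3
    have e' : ρ 23 k = (Y t * Z ((t ^ 3) ^ 2) * ρ 22 1)⁻¹ * ((ρ 14 1)⁻¹ * (d4x K t * ρ 14 1 * (d4x K t)⁻¹)) := by
      rw [e]; simp only [Y]; group
    have hk : ρ 23 k ∈ M := hv _ (by
      rw [e']
      exact mul_mem (inv_mem (mul_mem (mul_mem (hY t) (hZ _)) hw))
        (mul_mem (inv_mem (hG hb)) (hG (hB t))))
    have : Y t * Z ((t ^ 3) ^ 2) * ρ 22 1 =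
        (ρ 14 1)⁻¹ * (d4x K t * ρ 14 1 * (d4x K t)⁻¹) * (ρ 23 k)⁻¹ := by
      rw [e]; simp only [Y]; group
    rw [this]
    exact mul_mem (mul_mem (inv_mem hb) (hB t)) (inv_mem hk)
  have hZw : ∀ t u : K, t ≠ 0 → u ≠ 0 → t + u ≠ 0 →
      Z ((t ^ 3) ^ 2 + (u ^ 3) ^ 2 + ((t + u) ^ 3) ^ 2) * ρ 22 1 ∈ M := by
    intro t u ht hu htu
    have h := mul_mem (mul_mem (hP t ht) (hP u hu)) (hP _ htu)
    obtain ⟨k, hk⟩ := hZY ((t ^ 3) ^ 2) u
    obtain ⟨l, hl⟩ := hZY ((t ^ 3) ^ 2 + (u ^ 3) ^ 2) (t + u)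
    have e : Y t * Z ((t ^ 3) ^ 2) * ρ 22 1 * (Y u * Z ((u ^ 3) ^ 2) * ρ 22 1) *
        (Y (t + u) * Z (((t + u) ^ 3) ^ 2) * ρ 22 1) =
        Z ((t ^ 3) ^ 2 + (u ^ 3) ^ 2 + ((t + u) ^ 3) ^ 2) * ρ 22 1 * ρ 23 (l + k) := by
      have e1 : Y t * Z ((t ^ 3) ^ 2) * ρ 22 1 * (Y u * Z ((u ^ 3) ^ 2) * ρ 22 1) =
          Y (t + u) * Z ((t ^ 3) ^ 2 + (u ^ 3) ^ 2) * ρ 23 k := by
        calc Y t * Z ((t ^ 3) ^ 2) * ρ 22 1 * (Y u * Z ((u ^ 3) ^ 2) * ρ 22 1)
            = Y t * Z ((t ^ 3) ^ 2) * (ρ 22 1 * (Y u * Z ((u ^ 3) ^ 2))) * ρ 22 1 := by group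
          _ = Y t * (Z ((t ^ 3) ^ 2) * Y u) * Z ((u ^ 3) ^ 2) * (ρ 22 1 * ρ 22 1) := by
              rw [((hwY u).mul_right (hwZ _)).eq]; group
          _ = Y t * Y u * Z ((t ^ 3) ^ 2) * (ρ 23 k * Z ((u ^ 3) ^ 2)) := by
              rw [hk, hww]; group
          _ = Y t * Y u * (Z ((t ^ 3) ^ 2) * Z ((u ^ 3) ^ 2)) * ρ 23 k := by
              rw [(hvZ k _).eq]; group
          _ = _ := by rw [hYadd, hZadd]
      rw [e1]
      calc Y (t + u) * Z ((t ^ 3) ^ 2 + (u ^ 3) ^ 2) * ρ 23 k *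
            (Y (t + u) * Z (((t + u) ^ 3) ^ 2) * ρ 22 1)
          = Y (t + u) * Z ((t ^ 3) ^ 2 + (u ^ 3) ^ 2) *
              (ρ 23 k * (Y (t + u) * Z (((t + u) ^ 3) ^ 2) * ρ 22 1)) := by group
        _ = Y (t + u) * (Z ((t ^ 3) ^ 2 + (u ^ 3) ^ 2) * Y (t + u)) * Z (((t + u) ^ 3) ^ 2) *
              ρ 22 1 * ρ 23 k := by
            rw [(((hvY k _).mul_right (hvZ k _)).mul_right (c (by decide) _ _)).eq]; group
        _ = Y (t + u) * Y (t + u) * Z ((t ^ 3) ^ 2 + (u ^ 3) ^ 2) *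
              (ρ 23 l * (Z (((t + u) ^ 3) ^ 2) * ρ 22 1)) * ρ 23 k := by
            rw [hl]; group
        _ = Y (t + u) * Y (t + u) * (Z ((t ^ 3) ^ 2 + (u ^ 3) ^ 2) * Z (((t + u) ^ 3) ^ 2)) *
              ρ 22 1 * (ρ 23 l * ρ 23 k) := by
            rw [((hvZ l _).mul_right (c (by decide) _ _)).eq]; group
        _ = _ := by
            rw [hYadd, hZadd, X.chk.rt_mul, CharTwo.add_self_eq_zero]
            simp [Y, X.chk.rt_zero]
    rw [e] at h
    have hl' : ρ 23 (l + k) ∈ M := hv _ (by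
      have := hG h
      exact (Subgroup.mul_mem_cancel_left _ (mul_mem (hZ _) hw)).1 this)
    exact (Subgroup.mul_mem_cancel_right _ hl').1 h
  classical
  obtain ⟨t₀, -, ht₀⟩ := Finset.exists_mem_notMem_of_card_lt_card
    (s := ({0, 1} : Finset K)) (t := Finset.univ) (by
      rw [Finset.card_univ, hK]
      exact lt_of_le_of_lt (Finset.card_insert_le _ _) (by simp))
  simp only [Finset.mem_insert, Finset.mem_singleton, not_or] at ht₀
  set σ₀ := t₀ ^ 2 + t₀ with hσ₀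
  have hσ0 : σ₀ ≠ 0 := by
    intro h
    rw [hσ₀, CharTwo.add_eq_zero, sq, mul_left_eq_self₀] at h
    exact h.elim ht₀.2 ht₀.1
  have hall : ∀ s : K, s ≠ 0 → Z s * ρ 22 1 ∈ M := by
    intro s hs
    set r := s ^ 4 / σ₀ with hr
    have hr0 : r ≠ 0 := div_ne_zero (pow_ne_zero _ hs) hσ0
    set m := r ^ 5 with hm
    have hm0 : m ≠ 0 := pow_ne_zero _ hr0
    have hm3 : m ^ 3 = r := by
      rw [hm, ← pow_mul, show 5 * 3 = 7 + 7 + 1 from rfl, pow_add, pow_add, d4_pow7 X hf hK hr0,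
        one_mul, one_mul, pow_one]
    have h := hZw (m * t₀) m (mul_ne_zero hm0 ht₀.1) hm0 (by
      rw [show m * t₀ + m = m * (t₀ + 1) by ring]
      exact mul_ne_zero hm0 fun e => ht₀.2 (CharTwo.add_eq_zero.1 e))
    have e : ((m * t₀) ^ 3) ^ 2 + (m ^ 3) ^ 2 + ((m * t₀ + m) ^ 3) ^ 2 = s := by
      rw [← CharTwo.add_sq, ← CharTwo.add_sq,
        show (m * t₀) ^ 3 + m ^ 3 + (m * t₀ + m) ^ 3 = m ^ 3 * σ₀ +
          2 * (m ^ 3 * (t₀ ^ 3 + t₀ + t₀ ^ 2 + 1)) by rw [hσ₀]; ring,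
        CharTwo.two_eq_zero, zero_mul, add_zero, hm3, hr, div_mul_cancel₀ _ hσ0, ← pow_mul,
        show 4 * 2 = 7 + 1 from rfl, pow_succ, d4_pow7 X hf hK hs, one_mul]
    rwa [e] at h
  have hZ' : ∀ d : K, Z d ∈ M := by
    intro d
    by_cases hd : d = 0
    · subst hd; simp [Z, X.chk.rt_zero]
    obtain ⟨s, -, hs⟩ := Finset.exists_mem_notMem_of_card_lt_card
      (s := ({0, d} : Finset K)) (t := Finset.univ) (by
        rw [Finset.card_univ, hK]
        exact lt_of_le_of_lt (Finset.card_insert_le _ _) (by simp))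
    simp only [Finset.mem_insert, Finset.mem_singleton, not_or] at hs
    have h := mul_mem (hall s hs.1) (hall (d + s) fun e => hs.2 (CharTwo.add_eq_zero.1 e).symm)
    rwa [mul_assoc, ← mul_assoc (ρ 22 1), (hwZ _).eq, mul_assoc (Z (d + s)), hww, mul_one, hZadd,
      add_comm d s, ← add_assoc, CharTwo.add_self_eq_zero, zero_add] at h
  have hw' : ρ 22 (1 : K) ∈ M :=
    (Subgroup.mul_mem_cancel_left _ (hZ' 1)).1 (hall 1 one_ne_zero)
  have hY' : ∀ t : K, Y t ∈ M := by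
    intro t
    by_cases ht : t = 0
    · subst ht; simp [Y, X.chk.rt_zero]
    exact (Subgroup.mul_mem_cancel_right _ (hZ' _)).1
      ((Subgroup.mul_mem_cancel_right _ hw').1 (hP t ht))
  -- the classes
  obtain ⟨-, hact, -⟩ := d4_classes
  obtain ⟨-, -, -, -, a0, a1⟩ := d4_sp_vals
  have back : ∀ (J : Fin chevG2.rank) (S : Fin chevG2.nroots) (g : GL chevD4.Idx K), g ∈ X.E S →
      (Twist.nOne d4Fold K J)⁻¹ * g * Twist.nOne d4Fold K J ∈ X.E (d4Fold.W'.data.act J S) :=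
    fun J S g hg => X.E_conj_nOne_inv hg
  have fwd : ∀ (n g : GL chevD4.Idx K), g = n * (n⁻¹ * g * n) * n⁻¹ := fun n g => by group
  have h8 : ∀ S : Fin chevG2.nroots, S.val = 8 → ∀ g ∈ X.E S, ∃ t, g = Y t := by
    intro S h g hg
    have h' := back g2J1 S g hg
    rw [show d4Fold.W'.data.act g2J1 S = d4Fold.ap g2J0 from Fin.ext (((hact S).1 h).trans a0.symm)] at h'
    obtain ⟨t, e⟩ := (mem_E_short X hf hK).1 h'
    exact ⟨t, by rw [fwd (Twist.nOne d4Fold K g2J1) g, e, d4_y_eq X hf hK]⟩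
  have h10 : ∀ S : Fin chevG2.nroots, S.val = 10 → ∀ g ∈ X.E S, g = 1 ∨ g = ρ 22 1 := by
    intro S h g hg
    have h' := back g2J0 S g hg
    rw [show d4Fold.W'.data.act g2J0 S = d4Fold.ap g2J1 from Fin.ext (((hact S).2.2.1 h).trans a1.symm)] at h'
    rw [fwd (Twist.nOne d4Fold K g2J0) g]
    rcases mem_E_long X hf hK h' with e | e <;> rw [e]
    · exact Or.inl (by group)
    · exact Or.inr (d4_conj_n X hf hK (by decide) (by decide) _)
  intro g hg
  rcases d4_classes.1 S hS with h | h | h | h | h | h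
  · rw [show S = d4Fold.ap g2J1 from Fin.ext (h.trans a1.symm)] at hg
    rcases mem_E_long X hf hK hg with rfl | rfl
    · exact one_mem _
    · exact Subgroup.mem_sup_right hb
  · rw [show S = d4Fold.ap g2J0 from Fin.ext (h.trans a0.symm)] at hg
    obtain ⟨t, rfl⟩ := (mem_E_short X hf hK).1 hg
    exact Subgroup.mem_sup_left (Subgroup.subset_closure ⟨t, rfl⟩)
  · obtain ⟨t, rfl⟩ := h8 S h g hg
    exact Subgroup.mem_sup_right (hY' t)
  · obtain ⟨t, e⟩ := h8 _ ((hact S).2.1 h) _ (back g2J0 S g hg)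
    rw [fwd (Twist.nOne d4Fold K g2J0) g, e, d4_z_eq X hf hK]
    exact Subgroup.mem_sup_right (hZ' t)
  · rcases h10 S h g hg with rfl | rfl
    · exact one_mem _
    · exact Subgroup.mem_sup_right hw'
  · rw [fwd (Twist.nOne d4Fold K g2J1) g]
    rcases h10 _ ((hact S).2.2.2 h) _ (back g2J1 S g hg) with e | e <;> rw [e]
    · simp
    · rw [d4_conj_n X hf hK (r' := 23) (by decide) (by decide)]
      exact Subgroup.mem_sup_right hv1

/-- The torus fixes the long root elements. -/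
theorem d4_torus_long {c : Fin chevD4.rank → Kˣ} (hc : c ∈ X.cFix) (r : Fin chevD4.nroots)
    (hr : r.val = 14 ∨ r.val = 23) : (chiR c r : K) = 1 := by
  have h := X.char_equi hc r
  rw [d4_classes.2.2 r hr] at h
  rw [hf, eq_comm, sq] at h
  exact (mul_left_eq_self₀.1 h).resolve_right (Units.ne_zero _)

variable {Γ : Type*} [Group Γ] [Finite Γ] {σ : Γ →* ↥X.grp}

/-- In a stem extension of `³D₄(2)` the kernel has odd order. -/
theorem d4_two_not_dvd (hs : Function.Surjective σ) (hc : σ.ker ≤ Subgroup.center Γ)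
    (hd : σ.ker ≤ commutator Γ) : ¬ 2 ∣ Nat.card σ.ker := by
  classical
  have := d4_charTwo X hf hK
  have : Fact (Nat.Prime 2) := ⟨Nat.prime_two⟩
  obtain ⟨v0, v1, v2, v3, a0, a1⟩ := d4_sp_vals
  set A := X.sys.U (d4Fold.ap g2J0)
  set b : ↥X.grp := ⟨ρ 14 1, d4_long_mem X hf hK⟩
  have hx : ∀ t, d4x K t ∈ X.grp := fun t => X.E_le_grp _ ((mem_E_short X hf hK).2 ⟨t, rfl⟩)
  set x : K → ↥X.grp := fun t => ⟨d4x K t, hx t⟩
  have hA : ∀ g : ↥X.grp, g ∈ A ↔ ∃ t, g = x t := fun g => by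
    rw [X.mem_U', mem_E_short X hf hK]
    exact exists_congr fun t => ⟨fun e => Subtype.ext e, fun e => congrArg Subtype.val e⟩
  have hv : ρ 23 (1 : K) ∈ X.grp := by
    rw [← d4_comm_b X hf hK (one_ne_zero (α := K)), commutatorElement_def]
    exact mul_mem (mul_mem (mul_mem b.2 (mul_mem (mul_mem (hx 1) b.2) (inv_mem (hx 1))))
      (inv_mem b.2)) (inv_mem (mul_mem (mul_mem (hx 1) b.2) (inv_mem (hx 1))))
  set v : ↥X.grp := ⟨ρ 23 1, hv⟩
  have htor : ∀ h ∈ X.sys.H, ∀ r : Fin chevD4.nroots, r.val = 14 ∨ r.val = 23 →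
      Commute (h : GL chevD4.Idx K) (ρ r.val 1) := by
    intro h hh r hr
    obtain ⟨c, hcm, e⟩ := X.mem_H'.1 hh
    have h1 := X.chk.torus_conj_rt c r.isLt (1 : K)
    rw [show ((∏ i : Fin chevD4.rank, c i ^ chevD4.cartan i.val r.val : Kˣ) : K) = 1 from
      d4_torus_long X hf hK hcm r hr, one_mul, mul_inv_eq_iff_eq_mul, e] at h1
    exact h1
  -- transitivity of the torus
  have htr : ∀ z : Kˣ, ∃ h ∈ X.sys.H, h * x 1 * h⁻¹ = x (z : K) := by
    intro z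
    obtain ⟨c, hcm, ec⟩ := d4_char_surj X hf hK z
    have hm : torus chevD4 c ∈ X.torusT := X.torus_mem_torusT hcm
    refine ⟨⟨_, X.torusT_le_grp hm⟩, hm, Subtype.ext ?_⟩
    show torus chevD4 c * (d4x K 1) * (torus chevD4 c)⁻¹ = d4x K (z : K)
    have hχ : ∀ i : Fin chevD4.rank, (chiR c (d4Fold.sp (d4Fold.τi i)) : K) =
        (chiR c (d4Fold.sp i) : K) ^ 2 := fun i => by
      have e : d4Fold.sp (d4Fold.τi i) = d4Fold.τ (d4Fold.sp i) := (X.fval.tau_simple i).1.symm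
      rw [e, ← hf]
      exact X.char_equi hcm _
    have h0 : (chiR c (d4Fold.sp d4I0) : K) = z := by rw [ec]
    have h2 : (chiR c (d4Fold.sp d4I2) : K) = (z : K) ^ 2 := by
      rw [← d4Fold_τi.1, hχ, h0]
    have h3 : (chiR c (d4Fold.sp d4I3) : K) = (z : K) ^ 4 := by
      rw [← d4Fold_τi.2.2.1, hχ, h2, ← pow_mul]
    simp only [d4x, one_pow]
    rw [← conj_mul, ← conj_mul, ← v0, ← v2, ← v3, X.chk.torus_conj_rt c (Fin.isLt _),
      X.chk.torus_conj_rt c (Fin.isLt _), X.chk.torus_conj_rt c (Fin.isLt _), mul_one, mul_one,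
      mul_one]
    simp only [chiR] at h0 h2 h3
    rw [h0, h2, h3]
  have hA8 : Nat.card A ≤ 8 := by
    have h := d4_card_E X hf hK g2J0
    rw [d4Fold_orb0] at h
    refine le_of_eq (Eq.trans (Nat.card_congr ?_) h)
    exact (Subgroup.subgroupOfEquivOfLe (X.E_le_grp _)).toEquiv
  have hAcomm : ∀ a ∈ A, ∀ a' ∈ A, Commute a a' := comm_of_lifts hs (d4_self X hf hK hs hc g2J0)
  -- lifts of `U_a` commute with lifts of `v`
  obtain ⟨z, hz1⟩ : ∃ z : Kˣ, z ≠ 1 := by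
    have : 1 < Fintype.card Kˣ := by rw [Fintype.card_units, hK]; norm_num
    obtain ⟨z, hz⟩ := Fintype.exists_ne_of_one_lt_card this 1
    exact ⟨z, hz⟩
  obtain ⟨h, hh, he⟩ := htr z
  have hAv : ∀ γ c : Γ, σ γ ∈ A → σ c = v → Commute γ c := by
    intro γ c hγ hcv
    have hAn : ∀ a ∈ A, h * a * h⁻¹ ∈ A := fun a ha =>
      RootGroupSys.acts_conj_mem (RootGroupSys.acts_H X.axioms' hh) ha
    refine liftsCommute_of_weight (B := zpowers v) hs hc ?_ hAcomm (h := h) hAn ?_ ?_ γ c hγ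
      (hcv ▸ mem_zpowers _)
    · intro a ha y hy
      obtain ⟨n, rfl⟩ := mem_zpowers_iff.1 hy
      refine Commute.zpow_right ?_ n
      obtain ⟨t, rfl⟩ := (hA a).1 ha
      refine Subtype.ext ?_
      exact (((d4_rt_comm X hf hK (by decide) t 1).mul_left
        (d4_rt_comm X hf hK (by decide) (t ^ 2) 1)).mul_left
        (d4_rt_comm X hf hK (by decide) (t ^ 4) 1))
    · intro a ha hfix
      obtain ⟨t, rfl⟩ := (hA a).1 ha
      by_contra hne
      have ht : t ≠ 0 := fun e => hne (Subtype.ext (by rw [e]; exact d4x_zero X hf hK))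
      obtain ⟨k, hk, hek⟩ := htr (Units.mk0 t ht)
      have e1 : h * x 1 * h⁻¹ = x 1 := by
        have hhk : Commute h k := H_comm X h hh k hk
        rw [Units.val_mk0] at hek
        rw [← hek] at hfix
        calc h * x 1 * h⁻¹ = k⁻¹ * (h * (k * x 1 * k⁻¹) * h⁻¹) * k := by
              rw [show h * (k * x 1 * k⁻¹) * h⁻¹ = h * k * x 1 * (h * k)⁻¹ by group, hhk.eq]
              group
          _ = x 1 := by rw [hfix]; group
      rw [he] at e1
      have e2 := congrArg Subtype.val e1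
      rw [show ((x (z : K)) : GL chevD4.Idx K) = d4x K (z : K) from rfl,
        show ((x 1) : GL chevD4.Idx K) = d4x K 1 from rfl, d4x_eq_xp X hf hK,
        d4x_eq_xp X hf hK] at e2
      exact hz1 (Units.ext (X.xp_p_injective e2 d4I0 (by rw [d4Fold_orb0]; simp)))
    · intro y hy
      obtain ⟨n, rfl⟩ := mem_zpowers_iff.1 hy
      have : Commute h v := Subtype.ext (htor h hh ⟨23, by decide⟩ (Or.inr rfl))
      rw [(this.zpow_right n).eq, mul_inv_cancel_right]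
  refine not_two_dvd_ker_of_frame hs hc hd (P := X.sys.Uplus) (H := X.sys.H) (b := b) (v := v)
    (t₀ := x 1) (d4_self X hf hK hs hc g2J0) hA8 hAv (not_dvd_card_H X 2)
    (fun h hh => Subtype.ext (htor h hh ⟨14, by decide⟩ (Or.inl rfl)))
    (fun h hh => Subtype.ext (htor h hh ⟨23, by decide⟩ (Or.inr rfl))) ((hA _).2 ⟨1, rfl⟩) ?_ ?_ ?_
    (Subtype.ext (d4_comm_b X hf hK one_ne_zero)) ?_ ?_ ?_ (not_dvd_index X 2)
  · intro e
    have e2 := congrArg Subtype.val e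
    rw [show ((x 1) : GL chevD4.Idx K) = d4x K 1 from rfl, d4x_eq_xp X hf hK,
      Subgroup.coe_one, ← X.xp_zero d4Fold.sp g2J0] at e2
    exact one_ne_zero (α := K) (X.xp_p_injective e2 d4I0 (by rw [d4Fold_orb0]; simp))
  · intro t ht ht1
    obtain ⟨u, rfl⟩ := (hA t).1 ht
    have hu : u ≠ 0 := fun e => ht1 (Subtype.ext (by rw [e]; exact d4x_zero X hf hK))
    exact htr (Units.mk0 u hu)
  · refine Subtype.ext ?_
    show ρ 14 1 * ρ 14 1 = 1
    rw [X.chk.rt_mul, CharTwo.add_self_eq_zero, X.chk.rt_zero]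
  · refine ⟨⟨_, X.nOne_mem_grp g2J1⟩ * ⟨_, X.nOne_mem_grp g2J0⟩, Subtype.ext ?_⟩
    show ρ 23 1 = Twist.nOne d4Fold K g2J1 * Twist.nOne d4Fold K g2J0 * ρ 14 1 *
      (Twist.nOne d4Fold K g2J1 * Twist.nOne d4Fold K g2J0)⁻¹
    rw [← d4_conj_n X hf hK (J := g2J1) (r := 22) (r' := 23) (by decide) (by decide),
      ← d4_conj_n X hf hK (J := g2J0) (r := 14) (r' := 22) (by decide) (by decide)]
    group
  · refine (Subgroup.closure_le _).2 ?_
    rintro g ⟨S, hS, hg⟩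
    have h1 := d4_E_le_M X hf hK S hS (X.mem_U'.1 hg)
    have h2 : Subgroup.closure (Set.range (d4x K)) ⊔ d4M K ≤
        (A ⊔ Subgroup.closure (Set.range fun a : A => (a : ↥X.grp) * b * (a : ↥X.grp)⁻¹)).map
          X.grp.subtype := by
      refine sup_le ((Subgroup.closure_le _).2 ?_) ((Subgroup.closure_le _).2 ?_)
      · rintro _ ⟨t, rfl⟩
        exact ⟨x t, Subgroup.mem_sup_left ((hA _).2 ⟨t, rfl⟩), rfl⟩
      · rintro _ ⟨t, rfl⟩
        exact ⟨x t * b * (x t)⁻¹, Subgroup.mem_sup_right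
          (Subgroup.subset_closure ⟨⟨x t, (hA _).2 ⟨t, rfl⟩⟩, rfl⟩), rfl⟩
    obtain ⟨g', hg', e⟩ := h2 h1
    rwa [← show g' = g from Subtype.ext e]
  · obtain ⟨k, hk⟩ := IsPGroup.iff_card.1 (isPGroup_Uplus X 2)
    have h := X.sys.Uplus.card_mul_index
    have hG : Nat.card ↥X.grp = 2 ^ 12 * (3 * 63 * 273) := by
      rw [twistD4_grp X hf hK, d4t_card Nat.prime_two.isPrimePow hK]; norm_num
    rw [hG, hk] at h
    have h12 : 12 ≤ k := by
      by_contra hlt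
      obtain ⟨m, hm⟩ : ∃ m, 12 = k + (m + 1) := ⟨11 - k, by omega⟩
      rw [hm, pow_add, mul_assoc, Nat.mul_left_cancel_iff (Nat.pow_pos (by norm_num))] at h
      exact not_dvd_index X 2 ⟨2 ^ m * (3 * 63 * 273), by rw [h, pow_succ]; ring⟩
    rw [hk]
    exact Nat.pow_le_pow_right (by norm_num) h12

end Concrete

end H50.Tw
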