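import Cfsg.Agent.H50.TwTables
import Cfsg.Agent.H52.TwistE6
import Cfsg.Agent.H52.TwistSimple
import Cfsg.Agent.H52.TwistOrderE6

/-!
The kernel of a stem extension of `²E₆(q)`, `q ≠ 2`, has order dividing `gcd(3, q + 1)`.
-/

set_option autoImplicit false
set_option linter.unusedSectionVars false

namespace H50.Tw

open Cfsg.Lie H53 H52

universe v

/-- Digit tables of the torus elements used for `²E₆`. -/
def e6Wits : List (List (List ℤ)) :=
  [[[-2, 0], [-1, -1], [-2, -1], [-2, -2], [-1, -2], [0, -2]],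
   [[-1, 0], [0, 0], [-2, 0], [-1, -1], [0, -2], [0, -1]],
   [[-2, 0], [0, 0], [-1, 0], [0, 0], [0, -1], [0, -2]],
   [[0, 0], [-2, -2], [0, 0], [-1, -1], [0, 0], [0, 0]],
   [[-1, 0], [-1, -1], [-2, 0], [-2, -2], [0, -2], [0, -1]],
   [[-1, 1], [0, 0], [-1, 0], [-1, -1], [0, -1], [1, -1]]]

/-- The first roots of the orbits. -/
def e6J0 (J : Fin chevF4.rank) : Fin chevE6.rank := [e6I0, e6I2, e6I3, e6I1].getD J.val e6I0

set_option backward.isDefEq.respectTransparency false in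
theorem e6_orbOK : ∀ J, OrbOK e6Fold J (e6J0 J) := by
  decide +kernel

set_option backward.isDefEq.respectTransparency false in
theorem e6_braidOK : ∀ i j, i ≠ j → BraidOK e6Fold.W'.data i j := by
  decide +kernel

set_option backward.isDefEq.respectTransparency false in
theorem e6_wit_equi : ∀ W ∈ e6Wits, WitEqui e6Fold 2 W := by
  decide +kernel

set_option backward.isDefEq.respectTransparency false in
theorem e6_wit_fpf : ∀ S : Fin chevF4.nroots, chevF4.nroots / 2 ≤ S.val →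
    ∃ W ∈ e6Wits, WitGood e6Fold 2 W S := by
  decide +kernel

set_option backward.isDefEq.respectTransparency false in
theorem e6_wit_pair : ∀ (J : Fin chevF4.rank) (S : Fin chevF4.nroots),
    chevF4.nroots / 2 ≤ S.val → S ≠ e6Fold.ap J →
      ∃ W ∈ e6Wits, WitZero e6Fold 2 W (e6Fold.ap J) ∧ WitGood e6Fold 2 W S := by
  decide +kernel

set_option backward.isDefEq.respectTransparency false in
theorem e6_long_commute : ∀ r s k : Fin chevE6.nroots, r.val = 39 → s.val = 46 → k.val = 47 →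
    RootsCommute chevE6 k.val r.val ∧ RootsCommute chevE6 k.val s.val := by
  decide +kernel

set_option backward.isDefEq.respectTransparency false in
theorem e6_long_data' : ∃ r s k : Fin chevE6.nroots, e6Fold.τ r = r ∧ e6Fold.η r = 1 ∧
    e6Fold.τ s = s ∧ e6Fold.η s = 1 ∧ e6Fold.τ k = k ∧ e6Fold.η k = 1 ∧
    s.val ≠ r.val ∧ s.val ≠ chevE6.neg r.val ∧
    chevE6.commTerms r.val s.val = [(k.val, 1, 1, 1)] ∧
    RootsCommute chevE6 k.val r.val ∧ RootsCommute chevE6 k.val s.val ∧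
    (([f4J3] : List (Fin chevF4.rank)).flatMap e6Fold.orb).foldr e6Fold.W.data.act k =
      e6Fold.sp e6I3 ∧
    (([f4J2] : List (Fin chevF4.rank)).flatMap e6Fold.orb).foldr e6Fold.W.data.act k =
      e6Fold.sp e6I1 := by
  refine ⟨⟨39, by decide⟩, ⟨46, by decide⟩, ⟨47, by decide⟩, ?_⟩
  decide +kernel

/-- Character values at the roots of the two pairs. -/
theorem e6_cartan : ∀ i : Fin chevE6.rank,
    chevE6.cartan i.val (e6Fold.sp e6I0).val = ([2, 0, -1, 0, 0, 0] : List ℤ).getD i.val 0 ∧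
    chevE6.cartan i.val (e6Fold.sp e6I2).val = ([-1, 0, 2, -1, 0, 0] : List ℤ).getD i.val 0 := by
  decide +kernel

variable {K : Type*} [Field K] [Fintype K] {q : ℕ} {T : Tables} (X : Twist e6Fold T K)
  (hf : ∀ x, X.f x = x ^ q) (hK : Fintype.card K = q ^ 2) (hq : 3 ≤ q)

include hf hK

/-- Every value is a character value on a pair class. -/
theorem e6_char_surj (u : Kˣ) : ∃ c ∈ X.cFix, ∃ c' ∈ X.cFix,
    chiR c (e6Fold.sp e6I0) = u ∧ chiR c' (e6Fold.sp e6I2) = u := by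
  obtain ⟨t0, t1, t2, t3, t4, t5⟩ := e6Fold_τi
  have hq2 : ∀ v : Kˣ, (v ^ q) ^ q = v := fun v => Units.ext (by
    simpa using e6_f2 X hf hK (v : K))
  have hmem : ∀ a b : Kˣ, e6Fun a 1 b 1 (b ^ q) (a ^ q) ∈ X.cFix := by
    intro a b i
    rw [hf, ← Units.val_pow_eq_pow_val]
    refine congrArg Units.val ?_
    rcases e6_cases i with rfl | rfl | rfl | rfl | rfl | rfl
    · rw [t0]; rfl
    · rw [t1]; exact (one_pow q).symm
    · rw [t2]; rfl
    · rw [t3]; exact (one_pow q).symm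
    · rw [t4]; exact (hq2 b).symm
    · rw [t5]; exact (hq2 a).symm
  have hP : ∀ g : Fin chevE6.rank → Kˣ, ∏ i : Fin chevE6.rank, g i =
      g e6I0 * g e6I1 * g e6I2 * g e6I3 * g e6I4 * g e6I5 :=
    fun g => Fin.prod_univ_six (g : Fin 6 → Kˣ)
  refine ⟨_, hmem 1 u⁻¹, _, hmem u⁻¹ 1, ?_, ?_⟩
  · rw [chiR, hP]
    simp only [fun i => (e6_cartan i).1]
    simp [e6Fun, e6I0, e6I1, e6I2, e6I3, e6I4, e6I5]
  · rw [chiR, hP]
    simp only [fun i => (e6_cartan i).2]
    simp [e6Fun, e6I0, e6I1, e6I2, e6I3, e6I4, e6I5]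

variable {Γ : Type v} [Group Γ] {σ : Γ →* ↥X.grp} (hs : Function.Surjective σ)
  (hc : σ.ker ≤ Subgroup.center Γ)
include hs hc hq

theorem e6_self (J : Fin chevF4.rank) :
    LiftsCommute σ (X.sys.U (e6Fold.ap J)) (X.sys.U (e6Fold.ap J)) := by
  classical
  obtain ⟨r, s, k, h1, h2, h3, h4, h5, h6, h7, h8, h9, h10, h11, h12, h13⟩ := e6_long_data'
  obtain ⟨z, hz0, hz1, hz2⟩ : ∃ z : K, z ≠ 0 ∧ 1 + z ≠ 0 ∧ 1 + z + z * z ≠ 0 := by
    by_contra hcon
    push Not at hcon
    let P : Polynomial K := Polynomial.X * (Polynomial.X + 1) * (Polynomial.X ^ 2 + Polynomial.X + 1)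
    have hm : P.Monic := by
      simp only [P]; monicity!
    have hdeg : P.natDegree ≤ 4 := by simp only [P]; compute_degree
    have hroots : ∀ x : K, x ∈ P.roots := fun x => by
      rw [Polynomial.mem_roots hm.ne_zero]
      simp only [Polynomial.IsRoot, P, Polynomial.eval_mul, Polynomial.eval_add, Polynomial.eval_X,
        Polynomial.eval_one, Polynomial.eval_pow]
      by_cases h0 : x = 0
      · simp [h0]
      by_cases h1 : 1 + x = 0
      · simp [add_comm x 1, h1]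
      rw [show x ^ 2 + x + 1 = 1 + x + x * x by ring, hcon x h0 h1, mul_zero]
    have h5 : Fintype.card K ≤ P.roots.toFinset.card :=
      Finset.card_le_card (s := Finset.univ) fun x _ => Multiset.mem_toFinset.2 (hroots x)
    have := P.card_roots'
    have := Multiset.toFinset_card_le P.roots
    have : 3 ^ 2 ≤ q ^ 2 := Nat.pow_le_pow_left hq 2
    omega
  obtain ⟨c, hcm, d, hdm, ec, ed⟩ := e6_char_surj X hf hK (Units.mk0 z hz0)
  obtain ⟨c', hcm', d', hdm', ec', ed'⟩ := e6_char_surj X hf hK (Units.mk0 _ hz1)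
  rcases f4_cases J with rfl | rfl | rfl | rfl
  · refine self_of_scale (j₀ := e6I0) (by decide) hcm hcm' ?_ ?_ hs hc
    · rw [ec', ec]; rfl
    · rw [ec]; exact hz2
  · refine self_of_scale (j₀ := e6I2) (by decide) hdm hdm' ?_ ?_ hs hc
    · rw [ed', ed]; rfl
    · rw [ed]; exact hz2
  · exact self_of_decomp (j := e6I3) rfl h1 h2 h3 h4 h5 h6 h7 h8 h9 h10 h11 [f4J3] h12 hs hc
  · exact self_of_decomp (j := e6I1) rfl h1 h2 h3 h4 h5 h6 h7 h8 h9 h10 h11 [f4J2] h13 hs hc

theorem e6_ker_dvd [Finite Γ] (hd : σ.ker ≤ commutator Γ) :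
    Nat.card σ.ker ∣ Nat.gcd 3 (q + 1) := by
  classical
  obtain ⟨p, hp⟩ := CharP.exists K
  haveI : Fact p.Prime := ⟨CharP.char_is_prime K p⟩
  haveI : NeZero (2 : ℕ) := ⟨by norm_num⟩
  have hP : PHyp X.sys σ := hyp_of_tables (d := 2) hq hK hf hs hc e6Wits e6_wit_equi e6_wit_fpf
    (fun J S hS hne => Or.inl (e6_wit_pair J S hS hne)) (e6_self X hf hK hq hs hc)
  have hcop := not_dvd_ker_twist (p := p) hP hs hc hd
  have h := card_ker_prime (p := p) X σ hs hc hcop hd e6J0 e6_orbOK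
    fun i j hij => braidData_of_ok X (e6_braidOK i j hij)
  have hcard : ∀ J, Nat.card ↥(orbField X J) = q ^ (e6Fold.orb J).length := fun J =>
    (card_orbField X (e6_orbOK J)).trans (e6_card_E X hf hK J)
  have ht := e6_card_torus X hf hK
  simp only [hcard] at h
  rw [show ∀ g : Fin chevF4.rank → ℕ, ∏ J, g J = g f4J0 * g f4J1 * g f4J2 * g f4J3 from
    fun g => Fin.prod_univ_four (g : Fin 4 → ℕ)] at h
  change Nat.card σ.ker * _ ∣ (q ^ 2 - 1) * (q ^ 2 - 1) * (q ^ 1 - 1) * (q ^ 1 - 1) at h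
  have h2 : (q ^ 2 - 1) * (q ^ 2 - 1) * (q ^ 1 - 1) * (q ^ 1 - 1) =
      (q - 1) ^ 4 * (q + 1) ^ 2 := by
    rw [show q ^ 2 - 1 = (q + 1) * (q - 1) by rw [← Nat.sq_sub_sq, one_pow], pow_one]
    ring
  rw [h2, ← ht] at h
  exact Nat.dvd_of_mul_dvd_mul_right Nat.card_pos h

end H50.Tw
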