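import Cfsg.Agent.H50.TwE6
import Cfsg.Agent.H53.StEmb
import Cfsg.Agent.H76.CoverLift
import Cfsg.Agent.H76.ExcSchur
import Cfsg.Prelude.Def_KGroupFacts

/-!
A stem cover of `²E₆(q)` with kernel of order 3 when `3 ∣ q + 1`, inside the universal group of
type `E₆` over the field with `q²` elements.
-/

set_option autoImplicit false
set_option linter.unusedSectionVars false

namespace H50.Tw

open Cfsg.Lie H53 H52
open scoped commutatorElement

universe u

/-- A perfect subgroup of the image of a homomorphism with central kernel, and a kernel element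
which is a product of commutators over it, give a proper stem extension. -/
theorem cover_of_comap {S H : Type u} [Group S] [Finite S] [Group H] (θ : S →* H)
    (G : Subgroup H) (hG : G ≤ θ.range) (hperf : commutator ↥G = ⊤)
    (hc : θ.ker ≤ Subgroup.center S) {z : S} (hz : z ∈ ⁅G.comap θ, G.comap θ⁆) (hzk : θ z = 1)
    (hz1 : z ≠ 1) :
    ∃ (Γ : Type u) (_ : Group Γ) (_ : Finite Γ) (σ : Γ →* ↥G),
      Cfsg.IsStemExtension σ ∧ Nat.card σ.ker ≠ 1 := by
  let σ₀ : ↥(G.comap θ) →* ↥G := θ.subgroupComap G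
  have hs₀ : Function.Surjective σ₀ := fun x => by
    obtain ⟨y, hy⟩ := hG x.2
    exact ⟨⟨y, show θ y ∈ G from hy ▸ x.2⟩, Subtype.ext hy⟩
  have hc₀ : σ₀.ker ≤ Subgroup.center ↥(G.comap θ) := fun x hx =>
    Subgroup.mem_center_iff.2 fun g => Subtype.ext
      (Subgroup.mem_center_iff.1 (hc (show θ x.1 = 1 from congrArg Subtype.val hx)) g)
  let τ : ↥(commutator ↥(G.comap θ)) →* ↥G := σ₀.comp (commutator ↥(G.comap θ)).subtype
  have hD : (commutator ↥(G.comap θ)).map σ₀ = ⊤ := by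
    rw [map_commutator_eq, MonoidHom.range_eq_top.2 hs₀, ← commutator_def, hperf]
  have hτs : Function.Surjective τ := fun x => by
    obtain ⟨y, hy, rfl⟩ := hD.ge (Subgroup.mem_top x)
    exact ⟨⟨y, hy⟩, rfl⟩
  have hp : commutator ↥(commutator ↥(G.comap θ)) = ⊤ := by
    apply Subgroup.map_injective (commutator ↥(G.comap θ)).subtype_injective
    rw [Subgroup.map_subtype_commutator, ← MonoidHom.range_eq_map, Subgroup.range_subtype]
    apply le_antisymm (commutator ↥(G.comap θ)).commutator_le_self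
    refine Subgroup.commutator_le.2 fun a _ b _ => ?_
    obtain ⟨a', ha'⟩ := hτs (σ₀ a)
    obtain ⟨b', hb'⟩ := hτs (σ₀ b)
    rw [H76.Cover.comm_congr σ₀ hc₀ (x' := (a' : ↥(G.comap θ))) (y' := (b' : ↥(G.comap θ)))
      ha'.symm hb'.symm]
    exact Subgroup.commutator_mem_commutator a'.2 b'.2
  refine ⟨↥(commutator ↥(G.comap θ)), inferInstance, inferInstance, τ, ⟨hτs, fun x hx => ?_,
    hp ▸ le_top⟩, fun h1 => ?_⟩
  · exact Subgroup.mem_center_iff.2 fun g => Subtype.ext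
      (Subgroup.mem_center_iff.1 (hc₀ hx) g)
  · rw [← Subgroup.map_subtype_commutator] at hz
    obtain ⟨w, hw, rfl⟩ := hz
    have := (Nat.card_eq_one_iff_unique.1 h1).1
    have h : (⟨⟨w, hw⟩, Subtype.ext hzk⟩ : τ.ker) = 1 := Subsingleton.elim _ _
    exact hz1 (congrArg (fun x : τ.ker => ((x.1.1 : ↥(G.comap θ)) : S)) h)

/-- `h_i(w) h_j(w^q)` is a product of commutators over the twisted group. -/
theorem pair_mem_commutator {K : Type u} [Field K] {q : ℕ} {T : Tables} {D D' : ChevalleyDatum}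
    {Fl : Fold D D'} (X : Twist Fl T K) (hf : ∀ x, X.f x = x ^ q) (hq : q ≠ 0) (hP : HasPairs D)
    {θ : D.SteinbergGroup K →* GL D.Idx K}
    (hθ : ∀ r < D.nroots, ∀ t, θ (D.stGen K r t) = rt D r t)
    {a : Kˣ} (ha : a ^ 2 ≠ 1)
    {J : Fin D'.rank} {i j : Fin D.rank} (horb : Fl.orb J = [i, j]) (hne : i ≠ j)
    (hequi : ∀ t : K, X.Equi J fun k => if k = i then t else t ^ q)
    (ci : D.cartan i.val (Fl.sp i).val = 2) (cj : D.cartan j.val (Fl.sp j).val = 2)
    (cij : D.cartan i.val (Fl.sp j).val = 0) (cji : D.cartan j.val (Fl.sp i).val = 0) (w : Kˣ) :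
    stH1 X.chk Fl.W i w * stH1 X.chk Fl.W j (w ^ q) ∈
      ⁅X.grp.comap θ, X.grp.comap θ⁆ := by
  set W := Fl.W
  set S := stSys D K
  have hS := stSys_rel θ hθ
  have hR : ChevSys.Rel W S := ChevSys.rel X.chk W hS hP
  obtain ⟨o1, o2, o3, o4, -⟩ := X.fval.orth J i (by rw [horb]; simp) j (by rw [horb]; simp) hne
  have com : ∀ (r s : Fin D.nroots), RootsCommute D r.val s.val → ∀ a b : K,
      Commute (S.x r a) (S.x s b) := by
    intro r s h a b
    have e := hS.comm r.val r.isLt s.val s.isLt h.1 h.2.1 a b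
    rw [ChevalleyDatum.commWord, h.2.2] at e
    simp only [ChevSys.x_eq_xn X.chk]
    simpa [ChevSys.wd, Commute, SemiconjBy] using e.symm
  have hqq : ∀ t : K, X.f t = t ^ q := hf
  have hq0 : ((0 : K)) ^ q = 0 := zero_pow hq
  have hneg : ∀ t : K, (-t) ^ q = -(t ^ q) := fun t => by rw [← hqq, ← hqq, map_neg]
  -- the pair elements
  have hmemP : ∀ t : K, S.x (ChevSys.sa W i) t * S.x (ChevSys.sa W j) (t ^ q) ∈ X.grp.comap θ := by
    intro t
    rw [Subgroup.mem_comap, map_mul, ChevSys.x_eq_xn X.chk, ChevSys.x_eq_xn X.chk,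
      hS.img _ (Fin.isLt _), hS.img _ (Fin.isLt _)]
    have h1 := X.E_le_grp _ (X.xp_p_mem (hequi t))
    rw [Twist.xp, horb] at h1
    simp only [List.map_cons, List.map_nil, List.prod_cons, List.prod_nil, mul_one, if_pos,
      if_neg hne.symm] at h1
    exact h1
  have hmemN : ∀ t : K, S.x (ChevSys.na W i) t * S.x (ChevSys.na W j) (t ^ q) ∈ X.grp.comap θ := by
    intro t
    rw [Subgroup.mem_comap, map_mul, ChevSys.x_eq_xn X.chk, ChevSys.x_eq_xn X.chk,
      hS.img _ (Fin.isLt _), hS.img _ (Fin.isLt _)]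
    have h1 := X.E_le_grp _ (X.xp_n_mem (hequi t))
    rw [Twist.xp, horb] at h1
    simp only [List.map_cons, List.map_nil, List.prod_cons, List.prod_nil, mul_one, if_pos,
      if_neg hne.symm] at h1
    exact h1
  -- rearrangements
  have re3 : ∀ {x y x' y' : D.SteinbergGroup K}, Commute x x' → Commute x y' → Commute y x' →
      x * x' * (y * y') * (x * x') = x * y * x * (x' * y' * x') := by
    intro x y x' y' h1 h2 h3
    calc x * x' * (y * y') * (x * x') = x * (x' * y) * (y' * x) * x' := by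
          simp only [mul_assoc]
      _ = x * (y * x') * (x * y') * x' := by rw [h3.eq, h2.symm.eq]
      _ = x * y * (x' * x) * y' * x' := by simp only [mul_assoc]
      _ = x * y * (x * x') * y' * x' := by rw [h1.symm.eq]
      _ = _ := by simp only [mul_assoc]
  have nP : ∀ t : K, ChevSys.nEl W S i t * ChevSys.nEl W S j (t ^ q) =
      S.x (ChevSys.sa W i) t * S.x (ChevSys.sa W j) (t ^ q) *
        (S.x (ChevSys.na W i) (-t⁻¹) * S.x (ChevSys.na W j) ((-t⁻¹) ^ q)) *
        (S.x (ChevSys.sa W i) t * S.x (ChevSys.sa W j) (t ^ q)) := by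
    intro t
    rw [hneg, inv_pow]
    exact (re3 (com _ (ChevSys.sa W j) o1 _ _) (com _ (ChevSys.na W j) o2 _ _)
      (com (ChevSys.na W i) (ChevSys.sa W j) o3 _ _)).symm
  have cn : ∀ (t u : K), Commute (ChevSys.nEl W S i t) (ChevSys.nEl W S j u) := by
    intro t u
    have c1 : ∀ t u : K, Commute (S.x (ChevSys.sa W i) t) (S.x (ChevSys.sa W j) u) := com _ _ o1
    have c2 : ∀ t u : K, Commute (S.x (ChevSys.sa W i) t) (S.x (ChevSys.na W j) u) := com _ _ o2
    have c3 : ∀ t u : K, Commute (S.x (ChevSys.na W i) t) (S.x (ChevSys.sa W j) u) := com _ _ o3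
    have c4 : ∀ t u : K, Commute (S.x (ChevSys.na W i) t) (S.x (ChevSys.na W j) u) := com _ _ o4
    exact (((c1 _ _).mul_right (c2 _ _)).mul_right (c1 _ _)).mul_left
      (((c3 _ _).mul_right (c4 _ _)).mul_right (c3 _ _)) |>.mul_left
      (((c1 _ _).mul_right (c2 _ _)).mul_right (c1 _ _))
  have hh : ∀ t : K, ChevSys.hEl W S i t * ChevSys.hEl W S j (t ^ q) =
      (ChevSys.nEl W S i t * ChevSys.nEl W S j (t ^ q)) *
        (ChevSys.nEl W S i (-1) * ChevSys.nEl W S j ((-1 : K) ^ q)) := by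
    intro t
    rewrite [hneg, one_pow, ChevSys.hEl, ChevSys.hEl]
    exact (cn (-1) (t ^ q)).mul_mul_mul_comm _ _
  have hn : ∀ (M : Subgroup (D.SteinbergGroup K)),
      (∀ t, S.x (ChevSys.sa W i) t * S.x (ChevSys.sa W j) (t ^ q) ∈ M) →
      (∀ t, S.x (ChevSys.na W i) t * S.x (ChevSys.na W j) (t ^ q) ∈ M) →
      ∀ t : K, ChevSys.hEl W S i t * ChevSys.hEl W S j (t ^ q) ∈ M := by
    intro M hP hN t
    rw [hh, nP, nP]
    exact mul_mem (mul_mem (mul_mem (hP _) (hN _)) (hP _)) (mul_mem (mul_mem (hP _) (hN _)) (hP _))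
  set k := ChevSys.hEl W S i (a : K) * ChevSys.hEl W S j ((a : K) ^ q)
  have hk : k ∈ X.grp.comap θ := hn _ hmemP hmemN _
  -- every pair element is a commutator
  have key : ∀ (r r' : Fin D.nroots) (m : ℤ), RootsCommute D r.val r'.val →
      D.cartan i.val r.val = m → D.cartan j.val r.val = 0 →
      D.cartan j.val r'.val = m → D.cartan i.val r'.val = 0 → (a : K) ^ m ≠ 1 →
      (∀ t, S.x r t * S.x r' (t ^ q) ∈ X.grp.comap θ) →
      ∀ t, S.x r t * S.x r' (t ^ q) ∈ ⁅X.grp.comap θ, X.grp.comap θ⁆ := by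
    intro r r' m hrr h1 h2 h3 h4 hm hM t
    have hm0 : (a : K) ^ m - 1 ≠ 0 := sub_ne_zero.2 hm
    obtain ⟨u, rfl⟩ : ∃ u, t = ((a : K) ^ m - 1) * u :=
      ⟨_, (mul_div_cancel₀ t hm0).symm⟩
    have hh0 : (a : K) ≠ 0 := a.ne_zero
    have hh1 : (a : K) ^ q ≠ 0 := pow_ne_zero _ hh0
    have e : ⁅k, S.x r u * S.x r' (u ^ q)⁆ = S.x r (((a : K) ^ m - 1) * u) *
        S.x r' ((((a : K) ^ m - 1) * u) ^ q) := by
      have c1 : k * S.x r u * k⁻¹ = S.x r ((a : K) ^ m * u) := by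
        rw [mul_inv_rev, show ChevSys.hEl W S i (a : K) * ChevSys.hEl W S j ((a : K) ^ q) * S.x r u *
          ((ChevSys.hEl W S j ((a : K) ^ q))⁻¹ * (ChevSys.hEl W S i (a : K))⁻¹) =
          ChevSys.hEl W S i (a : K) * (ChevSys.hEl W S j ((a : K) ^ q) * S.x r u *
            (ChevSys.hEl W S j ((a : K) ^ q))⁻¹) * (ChevSys.hEl W S i (a : K))⁻¹ by group,
          ChevSys.h_conj_x hR j r hh1, h2, zpow_zero, one_mul, ChevSys.h_conj_x hR i r hh0, h1]
      have c2 : k * S.x r' (u ^ q) * k⁻¹ = S.x r' (((a : K) ^ m * u) ^ q) := by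
        rw [mul_inv_rev, show ChevSys.hEl W S i (a : K) * ChevSys.hEl W S j ((a : K) ^ q) *
          S.x r' (u ^ q) *
          ((ChevSys.hEl W S j ((a : K) ^ q))⁻¹ * (ChevSys.hEl W S i (a : K))⁻¹) =
          ChevSys.hEl W S i (a : K) * (ChevSys.hEl W S j ((a : K) ^ q) * S.x r' (u ^ q) *
            (ChevSys.hEl W S j ((a : K) ^ q))⁻¹) * (ChevSys.hEl W S i (a : K))⁻¹ by group,
          ChevSys.h_conj_x hR j r' hh1, h3, ChevSys.h_conj_x hR i r' hh0, h4, zpow_zero, one_mul]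
        congr 1
        rw [mul_pow]
        congr 1
        rw [← zpow_natCast (a : K) q, ← zpow_natCast (((a : K) ^ m)) q, ← zpow_mul, ← zpow_mul,
          mul_comm]
      rw [commutatorElement_def, show k * (S.x r u * S.x r' (u ^ q)) * k⁻¹ =
          k * S.x r u * k⁻¹ * (k * S.x r' (u ^ q) * k⁻¹) by group, c1, c2, mul_inv_rev, ChevSys.x_inv hR,
        ChevSys.x_inv hR]
      calc S.x r ((a : K) ^ m * u) * S.x r' (((a : K) ^ m * u) ^ q) *
            (S.x r' (-u ^ q) * S.x r (-u))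
          = S.x r ((a : K) ^ m * u) * (S.x r' (((a : K) ^ m * u) ^ q) * S.x r' (-u ^ q)) *
              S.x r (-u) := by simp only [mul_assoc]
        _ = S.x r ((a : K) ^ m * u) * S.x r' ((((a : K) ^ m - 1) * u) ^ q) * S.x r (-u) := by
            rw [hR.add]
            congr 3
            rw [← hneg, ← hqq, ← hqq, ← hqq, ← map_add]
            congr 1
            ring
        _ = S.x r ((a : K) ^ m * u) * S.x r (-u) * S.x r' ((((a : K) ^ m - 1) * u) ^ q) := by
            rw [mul_assoc, (com _ _ hrr (-u) _).symm.eq, ← mul_assoc]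
        _ = _ := by
            rw [hR.add]
            congr 2
            ring
    rw [← e]
    exact Subgroup.commutator_mem_commutator hk (hM u)
  have ha2 : (a : K) ^ (2 : ℤ) ≠ 1 := fun h => ha (Units.ext (by
    push_cast
    simpa using h))
  have ha2' : (a : K) ^ (-2 : ℤ) ≠ 1 := by
    rw [zpow_neg, ne_eq, inv_eq_one]
    exact ha2
  have hneg' : ∀ l l' : Fin D.rank, D.cartan l.val (ChevSys.na W l').val =
      -D.cartan l.val (ChevSys.sa W l').val := hR.cartan_neg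
  have e : stH1 X.chk W i w * stH1 X.chk W j (w ^ q) =
      ChevSys.hEl W S i (w : K) * ChevSys.hEl W S j ((w : K) ^ q) := by
    rw [stH1_apply, stH1_apply, Units.val_pow_eq_pow_val]
    rfl
  rw [e]
  refine hn _ (key _ _ 2 o1 ci cji cj cij ha2 hmemP) (key _ _ (-2) o4 ?_ ?_ ?_ ?_ ha2' hmemN) _
  · rw [hneg']; exact congrArg Neg.neg ci
  · rw [hneg']; exact (congrArg Neg.neg cji).trans neg_zero
  · rw [hneg']; exact congrArg Neg.neg cj
  · rw [hneg']; exact (congrArg Neg.neg cij).trans neg_zero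

variable {K : Type u} [Field K] [Fintype K] {q : ℕ} {T : Tables} (X : Twist e6Fold T K)
  (hf : ∀ x, X.f x = x ^ q) (hK : Fintype.card K = q ^ 2) (hq : 3 ≤ q)

/-- Cartan integers of an orbit pair. -/
def PairOK (i j : Fin chevE6.rank) : Prop :=
  chevE6.cartan i.val (e6Fold.sp i).val = 2 ∧ chevE6.cartan j.val (e6Fold.sp j).val = 2 ∧
    chevE6.cartan i.val (e6Fold.sp j).val = 0 ∧ chevE6.cartan j.val (e6Fold.sp i).val = 0

theorem e6_pairOK : PairOK e6I0 e6I5 ∧ PairOK e6I2 e6I4 := by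
  unfold PairOK
  decide +kernel

set_option backward.isDefEq.respectTransparency false in
theorem e6_center_rows : ∀ l : Fin chevE6.rank,
    (chevE6.cartan e6I0.val (chevE6.simple l.val) + 2 * chevE6.cartan e6I5.val (chevE6.simple l.val)
      + 2 * chevE6.cartan e6I2.val (chevE6.simple l.val) + chevE6.cartan e6I4.val (chevE6.simple l.val))
      % 3 = 0 := by
  decide +kernel

include hf hK hq

/-- The stem cover. -/
theorem e6_exists_cover (h3 : 3 ∣ q + 1) :
    ∃ (Γ : Type u) (_ : Group Γ) (_ : Finite Γ) (σ : Γ →* ↥X.grp),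
      Cfsg.IsStemExtension σ ∧ Nat.card σ.ker = 3 := by
  classical
  have hok := X.ok
  obtain ⟨θ, hθ⟩ := exists_stHom (F := K) X.chk
  have hS := stSys_rel θ hθ
  have : Finite (chevE6.SteinbergGroup K) := by
    refine H76.Exc.finite_steinbergGroup ?_ pairsE6
    exact ⟨_, X.chk, e6Fold.W, X.ok⟩
  have hrange : X.grp ≤ θ.range := by
    refine X.grp_le_group.trans fun g hg => ?_
    obtain ⟨y, hy⟩ := ChevSys.thetaG_surjective X.chk e6Fold.W hok hS pairsE6 ⟨g, hg⟩
    exact ⟨y, congrArg Subtype.val hy⟩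
  have hck : θ.ker ≤ Subgroup.center _ := fun g hg => by
    rw [← ChevSys.ker_eq_center X.chk e6Fold.W hok hS pairsE6, MonoidHom.mem_ker,
      ChevSys.thetaG_eq_one X.chk hok hS pairsE6]
    exact hg
  have hcard3 : 3 ∣ Nat.card Kˣ := by
    rw [Nat.card_units, Nat.card_eq_fintype_card, hK]
    obtain ⟨m, hm⟩ := h3
    exact ⟨m * (q - 1), by rw [← mul_assoc, ← hm]; zify [show 1 ≤ q ^ 2 by nlinarith, show 1 ≤ q by omega]; ring⟩
  have : Fact (Nat.Prime 3) := ⟨Nat.prime_three⟩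
  obtain ⟨ω, hω⟩ := exists_prime_orderOf_dvd_card' 3 hcard3
  have hω3 : ω ^ 3 = 1 := hω ▸ pow_orderOf_eq_one ω
  have hωq : (ω ^ q) ^ q = ω := Units.ext (by
    push_cast
    exact e6_f2 X hf hK (ω : K))
  have hω2 : ω ^ q = ω ^ 2 := by
    obtain ⟨m, hm⟩ := h3
    rw [pow_eq_pow_iff_modEq, hω, Nat.ModEq]
    omega
  let c : Fin chevE6.rank → Kˣ := Pi.mulSingle e6I0 ω * Pi.mulSingle e6I5 (ω ^ q) *
    (Pi.mulSingle e6I2 (ω ^ q) * Pi.mulSingle e6I4 ω)
  have hct : c ∈ (torus chevE6 (F := K)).ker := by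
    rw [X.chk.mem_torus_ker_iff]
    funext l
    rw [mact_apply]
    simp only [Matrix.of_apply, Pi.one_apply]
    simp only [c, Pi.mul_apply, mul_zpow, Finset.prod_mul_distrib]
    have hsingle : ∀ (i : Fin chevE6.rank) (v : Kˣ),
        ∏ k : Fin chevE6.rank, (Pi.mulSingle (M := fun _ => Kˣ) i v k) ^
          chevE6.cartan k.val (chevE6.simple l.val) =
        v ^ chevE6.cartan i.val (chevE6.simple l.val) := fun i v => by
      rw [Finset.prod_eq_single i, Pi.mulSingle_eq_same]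
      · intro k _ hk; rw [Pi.mulSingle_eq_of_ne hk, one_zpow]
      · simp
    rw [hsingle, hsingle, hsingle, hsingle, hω2]
    obtain ⟨n, hn⟩ := Int.dvd_of_emod_eq_zero (e6_center_rows l)
    rw [← zpow_natCast ω 2, ← zpow_mul, ← zpow_mul, ← zpow_add, ← zpow_add, ← zpow_add]
    refine Eq.trans (congrArg (ω ^ ·) (?_ : _ = 3 * n)) ?_
    · rw [← hn]; push_cast; ring
    · rw [zpow_mul, show (3 : ℤ) = ((3 : ℕ) : ℤ) from rfl, zpow_natCast, hω3, one_zpow]
  have hz : stTorus X.chk e6Fold.W pairsE6 c ∈ ⁅X.grp.comap θ, X.grp.comap θ⁆ := by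
    obtain ⟨t0, t1, t2, t3, t4, t5⟩ := e6Fold_τi
    obtain ⟨⟨a1, a2, a3, a4⟩, b1, b2, b3, b4⟩ := e6_pairOK
    obtain ⟨a, ha⟩ := exists_sq_ne_one (K := K) (by
      rw [hK]; have := Nat.pow_le_pow_left hq 2; omega)
    simp only [c, map_mul, stTorus_single]
    refine mul_mem (pair_mem_commutator X hf (by omega) pairsE6 hθ ha (J := f4J0) rfl (by decide)
      (e6_equi_pair_fun X hf hK rfl t0 t5 (by decide)) a1 a2 a3 a4 ω) ?_
    have h := pair_mem_commutator X hf (by omega) pairsE6 hθ ha (J := f4J1) rfl (by decide)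
      (e6_equi_pair_fun X hf hK rfl t2 t4 (by decide)) b1 b2 b3 b4 (ω ^ q)
    rwa [hωq] at h
  have hzk : θ (stTorus X.chk e6Fold.W pairsE6 c) = 1 := by
    rw [theta_stTorus X.chk e6Fold.W pairsE6 θ hθ]
    exact hct
  have hz1 : stTorus X.chk e6Fold.W pairsE6 c ≠ 1 := by
    obtain ⟨TE, hE⟩ := H52.checked_of_mem (D := chevE8) (by simp)
    intro h
    have hc1 := stTorus_injective_of_emb X.chk hE e6InE8_ok e6Fold.W pairsE6
      (torus_injective_of_divisors hE divisorsE8 divE8_one) (h.trans (map_one _).symm)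
    have h0 := congrFun hc1 e6I0
    simp [c, e6I0, e6I2, e6I4, e6I5] at h0
    rw [h0, orderOf_one] at hω
    omega
  obtain ⟨Γ, hg, hfin, σ, hσ, hne⟩ :=
    cover_of_comap θ X.grp hrange (e6_perfect X hf hK) hck hz hzk hz1
  refine ⟨Γ, hg, hfin, σ, hσ, ?_⟩
  have h := e6_ker_dvd X hf hK hq hσ.1 hσ.2.1 hσ.2.2
  exact ((Nat.dvd_prime Nat.prime_three).1 (h.trans (Nat.gcd_dvd_left _ _))).resolve_left hne

end H50.Tw
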