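import Cfsg.Agent.H50.CExt
import Cfsg.Agent.H52.RootCount
import Cfsg.Agent.H76.CoverLift

/-!
Central extensions of order prime to the characteristic of a group with a system of root
subgroups: the kernel of a stem extension lies in the lifts of the tori of rank one.
-/

set_option autoImplicit false
set_option linter.unusedSectionVars false

namespace H50.Tw

open Subgroup H53 H53.RootGroupSys
open H50.CExt
open scoped commutatorElement

/-- The word `L ++ [j] ++ L.reverse ++ [c]` is a relator of the pair, and `L` sends `a j` to `a c`. -/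
def BraidData {ι R : Type*} (σ : ι → Equiv.Perm R) (a : ι → R) (i j : ι) (m : ℕ) : Prop :=
  ∃ (L : List ι) (c : ι), L.foldr (fun x r => σ x r) (a j) = a c ∧
    (L ++ [j] ++ L.reverse ++ [c] = (List.replicate m [i, j]).flatten ∨
      L ++ [j] ++ L.reverse ++ [c] = (List.replicate m [j, i]).flatten)

theorem map_prod_flatten_replicate {α Q : Type*} [Group Q] (f : α → Q) (l : List α) :
    ∀ m : ℕ, ((List.replicate m l).flatten.map f).prod = (l.map f).prod ^ m
  | 0 => by simp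
  | m + 1 => by
    rw [List.replicate_succ, List.flatten_cons, List.map_append, List.prod_append,
      map_prod_flatten_replicate f l m, pow_succ']

theorem prod_reverse_involutions {α Q : Type*} [Group Q] (f : α → Q) (hf : ∀ x, f x * f x = 1) :
    ∀ L : List α, (L.reverse.map f).prod = ((L.map f).prod)⁻¹
  | [] => by simp
  | x :: L => by
    rw [List.reverse_cons, List.map_append, List.prod_append, prod_reverse_involutions f hf L,
      List.map_singleton, List.prod_singleton, List.map_cons, List.prod_cons, mul_inv_rev]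
    congr 1
    exact eq_inv_of_mul_eq_one_left (hf x)

theorem map_prod_apply {ι R : Type*} (σ : ι → Equiv.Perm R) (r : R) :
    ∀ L : List ι, (L.map σ).prod r = L.foldr (fun x r => σ x r) r
  | [] => rfl
  | y :: L => by
    rw [List.map_cons, List.prod_cons, Equiv.Perm.mul_apply, map_prod_apply σ r L, List.foldr_cons]

section

variable {G : Type*} [Group G] {ι R : Type*} (S : RootGroupSys G ι R)

/-- The rank one subgroup of a simple root. -/
def rk1 (i : ι) : Subgroup G := S.U (S.a i) ⊔ S.U (S.neg (S.a i))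

variable {Γ : Type*} [Group Γ] (p : ℕ) (σ : Γ →* G)

/-- The lift of the torus of a rank one subgroup. -/
def tor1 (i : ι) : Subgroup Γ := liftGrp p σ (rk1 S i) ⊓ S.H.comap σ

/-- The lift of the torus. -/
def tor : Subgroup Γ := ⨆ i, tor1 S p σ i

/-- The hypotheses of the splitting. -/
structure LiftHyp : Prop where
  ax : S.Axioms
  sep : Sep S
  hab : ∀ x ∈ S.H, ∀ y ∈ S.H, Commute x y
  unip : IsPGroup p S.Uplus
  n_mem : ∀ i, S.n i ∈ rk1 S i
  split : ∀ i, Split p σ (rk1 S i)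
  gen_H : S.H ≤ ⨆ i, rk1 S i ⊓ S.H

variable [Fact p.Prime] [Finite Γ] [Finite G]
variable {S p σ} (hL : LiftHyp S p σ)
variable (hs : Function.Surjective σ) (hc : σ.ker ≤ center Γ) (hcop : ¬ p ∣ Nat.card σ.ker)

theorem pEl_of_Uplus (hU : IsPGroup p S.Uplus) {x : G} (hx : x ∈ S.Uplus) : IsPEl p x :=
  (hU ⟨x, hx⟩).imp fun _ hk => congrArg Subtype.val hk

include hL

theorem pEl_Uneg (i : ι) {x : G} (hx : x ∈ S.U (S.neg (S.a i))) : IsPEl p x := by
  obtain ⟨y, hy, rfl⟩ := Uneg_le hL.ax i hx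
  exact (pEl_of_Uplus hL.unip (U_le_Uplus (hL.ax.pos_a i) hy)).conj p (S.n i)

include hs hc hcop

theorem exists_lift_rk1 (i : ι) {x : G} (hx : x ∈ rk1 S i) :
    ∃ g ∈ liftGrp p σ (rk1 S i), σ g = x := by
  have hle : rk1 S i ≤ (liftGrp p σ (rk1 S i)).map σ := by
    refine sup_le (fun y hy => ?_) fun y hy => ?_
    · obtain ⟨g, hg, rfl⟩ := exists_pEl p σ hc hcop hs
        (pEl_of_Uplus hL.unip (U_le_Uplus (hL.ax.pos_a i) hy))
      exact ⟨g, mem_liftGrp p σ hg (mem_sup_left hy), rfl⟩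
    · obtain ⟨g, hg, rfl⟩ := exists_pEl p σ hc hcop hs (pEl_Uneg hL i hy)
      exact ⟨g, mem_liftGrp p σ hg (mem_sup_right hy), rfl⟩
  obtain ⟨g, hg, rfl⟩ := hle hx
  exact ⟨g, hg, rfl⟩

omit hs hc hcop in
theorem H_normalizes_rk1 (i : ι) {h : G} (hh : h ∈ S.H) :
    (rk1 S i).map (MulAut.conj h).toMonoidHom = rk1 S i := by
  rw [rk1, Subgroup.map_sup, hL.ax.conj_H h hh, hL.ax.conj_H h hh]

omit hs hc hcop in
theorem conj_rk1_mem (i : ι) {x : Γ} (hx : σ x ∈ S.H) {g : Γ}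
    (hg : g ∈ liftGrp p σ (rk1 S i)) : x * g * x⁻¹ ∈ liftGrp p σ (rk1 S i) := by
  have := liftGrp_conj p σ hg x
  rwa [H_normalizes_rk1 hL i hx] at this

omit hs hc hcop in
theorem σ_tor {t : Γ} (ht : t ∈ tor S p σ) : σ t ∈ S.H :=
  (iSup_le fun _ => inf_le_right : tor S p σ ≤ S.H.comap σ) ht

/-- The lifts of the rank one tori commute. -/
theorem tor1_commute (i j : ι) {s t : Γ} (hs' : s ∈ tor1 S p σ i) (ht : t ∈ tor1 S p σ j) :
    Commute s t := by
  rw [← commutatorElement_eq_one_iff_commute]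
  refine (hL.split i).eq_one p σ ?_ ?_
  · rw [commutatorElement_def, mul_assoc (s * t), mul_assoc s, ← mul_assoc t s⁻¹ t⁻¹]
    exact mul_mem hs'.1 (conj_rk1_mem hL i ht.2 (inv_mem hs'.1))
  · rw [map_commutatorElement, commutatorElement_eq_one_iff_commute]
    exact hL.hab _ hs'.2 _ ht.2

/-- A lift of `n i`. -/
noncomputable def nl (i : ι) : Γ :=
  (exists_lift_rk1 hL hs hc hcop i (hL.n_mem i)).choose

theorem nl_mem (i : ι) : nl hL hs hc hcop i ∈ liftGrp p σ (rk1 S i) :=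
  (exists_lift_rk1 hL hs hc hcop i (hL.n_mem i)).choose_spec.1

theorem σ_nl (i : ι) : σ (nl hL hs hc hcop i) = S.n i :=
  (exists_lift_rk1 hL hs hc hcop i (hL.n_mem i)).choose_spec.2

theorem nl_sq (i : ι) : nl hL hs hc hcop i * nl hL hs hc hcop i ∈ tor S p σ := by
  refine (le_iSup (tor1 S p σ) i) ⟨mul_mem (nl_mem hL hs hc hcop i) (nl_mem hL hs hc hcop i), ?_⟩
  show σ _ ∈ S.H
  rw [map_mul, σ_nl]
  exact hL.ax.n_sq i

theorem nl_conj_tor (j : ι) {t : Γ} (ht : t ∈ tor S p σ) :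
    nl hL hs hc hcop j * t * (nl hL hs hc hcop j)⁻¹ ∈ tor S p σ := by
  set n := nl hL hs hc hcop j with hn
  have h1 : t⁻¹ * n * t * n⁻¹ ∈ tor1 S p σ j := by
    refine Subgroup.mem_inf.2 ⟨mul_mem ?_ (inv_mem (nl_mem hL hs hc hcop j)), ?_⟩
    · have := conj_rk1_mem hL j (x := t⁻¹) (by rw [map_inv]; exact inv_mem (σ_tor hL ht))
        (nl_mem hL hs hc hcop j)
      rwa [inv_inv] at this
    · show σ _ ∈ S.H
      rw [show t⁻¹ * n * t * n⁻¹ = t⁻¹ * (n * t * n⁻¹) by group, map_mul, map_inv, map_mul,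
        map_mul, map_inv, hn, σ_nl]
      exact mul_mem (inv_mem (σ_tor hL ht)) (hL.ax.n_norm j _ (σ_tor hL ht))
  rw [show n * t * n⁻¹ = t * (t⁻¹ * n * t * n⁻¹) by group]
  exact mul_mem ht (le_iSup (tor1 S p σ) j h1)

/-- The lift of `N`. -/
noncomputable def Nl : Subgroup Γ :=
  tor S p σ ⊔ closure (Set.range (nl hL hs hc hcop))

theorem nl_mem_Nl (i : ι) : nl hL hs hc hcop i ∈ Nl hL hs hc hcop :=
  mem_sup_right (subset_closure ⟨i, rfl⟩)

theorem Nl_eq : Nl hL hs hc hcop = closure ((tor S p σ : Set Γ) ∪ Set.range (nl hL hs hc hcop)) := by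
  rw [Nl, Subgroup.closure_union, Subgroup.closure_eq]

theorem σ_Nl {w : Γ} (hw : w ∈ Nl hL hs hc hcop) : σ w ∈ S.N := by
  refine (sup_le ?_ ((closure_le _).2 ?_) : Nl hL hs hc hcop ≤ S.N.comap σ) hw
  · exact fun t ht => (H_le_N (S := S)) (σ_tor hL ht)
  · rintro _ ⟨i, rfl⟩
    show σ _ ∈ S.N
    rw [σ_nl]
    exact n_mem_N i

theorem tor_normal : ((tor S p σ).subgroupOf (Nl hL hs hc hcop)).Normal := by
  apply normal_subgroupOf_of_le_normalizer
  refine sup_le le_normalizer ((closure_le _).2 ?_)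
  rintro _ ⟨j, rfl⟩
  have hfin : ((tor S p σ : Set Γ)).Finite := Set.toFinite _
  rw [SetLike.mem_coe, mem_normalizer_iff]
  refine fun t => ⟨nl_conj_tor hL hs hc hcop j, fun h => ?_⟩
  have h2 := nl_sq hL hs hc hcop j
  have h3 := mul_mem (mul_mem (inv_mem h2) (nl_conj_tor hL hs hc hcop j h)) h2
  simpa [mul_assoc] using h3

variable {M : CoxeterMatrix ι} (ψ : M.Group →* Equiv.Perm R) (hψ : ∀ i, ψ (M.simple i) = S.σ i)
  (hψi : Function.Injective ψ)
  (hbr : ∀ i j, i ≠ j → BraidData S.σ S.a i j (M i j))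
include ψ hψ hψi hbr

/-- The elements of the lift of `N` over `H` are in the lift of the torus. -/
theorem Nl_inf_comap {w : Γ} (hw : w ∈ Nl hL hs hc hcop) (hwH : σ w ∈ S.H) : w ∈ tor S p σ := by
  classical
  have hS := hL.ax
  have hsep := hL.sep
  haveI := tor_normal hL hs hc hcop
  let π := QuotientGroup.mk' ((tor S p σ).subgroupOf (Nl hL hs hc hcop))
  let f : ι → _ := fun i => π ⟨nl hL hs hc hcop i, nl_mem_Nl hL hs hc hcop i⟩
  have hπ1 : ∀ (g : Γ) (hg : g ∈ Nl hL hs hc hcop), g ∈ tor S p σ → π ⟨g, hg⟩ = 1 :=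
    fun g hg h => (QuotientGroup.eq_one_iff _).2 (mem_subgroupOf.2 h)
  have hf2 : ∀ i, f i * f i = 1 := fun i => by
    rw [← map_mul]
    exact hπ1 _ (mul_mem (nl_mem_Nl hL hs hc hcop i) (nl_mem_Nl hL hs hc hcop i))
      (nl_sq hL hs hc hcop i)
  -- products of lifts
  let pr : List ι → Γ := fun L => (L.map (nl hL hs hc hcop)).prod
  have hpr : ∀ L : List ι, ∃ h : pr L ∈ Nl hL hs hc hcop, π ⟨pr L, h⟩ = (L.map f).prod ∧
      S.Acts (σ (pr L)) ((L.map S.σ).prod) := by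
    intro L
    induction L with
    | nil => exact ⟨one_mem _, map_one π, by simpa [pr] using acts_one⟩
    | cons x L ih =>
      obtain ⟨h, h1, h2⟩ := ih
      refine ⟨by simpa [pr] using mul_mem (nl_mem_Nl hL hs hc hcop x) h, ?_, ?_⟩
      · simp only [List.map_cons, List.prod_cons]
        rw [← h1, ← map_mul]
        rfl
      · simp only [pr, List.map_cons, List.prod_cons, map_mul, σ_nl]
        exact acts_mul (acts_n hS x) h2
  have hperm : ∀ L : List ι, (L.map S.σ).prod = ψ (M.toCoxeterSystem.wordProd L) := by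
    intro L
    induction L with
    | nil => simp
    | cons y L ih =>
      rw [CoxeterSystem.wordProd_cons, map_mul, List.map_cons, List.prod_cons, ih,
        CoxeterMatrix.toCoxeterSystem_simple, hψ]
  have hbraid : ∀ (L : List ι) (x c : ι), L.foldr (fun x r => S.σ x r) (S.a x) = S.a c →
      ((L ++ [x] ++ L.reverse ++ [c]).map S.σ).prod = 1 →
      ((L ++ [x] ++ L.reverse ++ [c]).map f).prod = 1 := by
    intro L x c hL' hone
    obtain ⟨hP, hPπ, hPa⟩ := hpr L
    set P := pr L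
    have hLa : ((L.map S.σ).prod) (S.a x) = S.a c := by
      rw [← hL', map_prod_apply]
    set z := P * nl hL hs hc hcop x * P⁻¹ * nl hL hs hc hcop c with hz
    have hzN : z ∈ Nl hL hs hc hcop :=
      mul_mem (mul_mem (mul_mem hP (nl_mem_Nl hL hs hc hcop x)) (inv_mem hP))
        (nl_mem_Nl hL hs hc hcop c)
    have hzc : z ∈ liftGrp p σ (rk1 S c) := by
      refine mul_mem (liftGrp_mono p σ ?_ (liftGrp_conj p σ (nl_mem hL hs hc hcop x) P))
        (nl_mem hL hs hc hcop c)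
      rw [rk1, rk1, Subgroup.map_sup, hPa.2, hPa.2, hLa, W_neg hS hPa.1, hLa]
    have hzπ : π ⟨z, hzN⟩ = ((L ++ [x] ++ L.reverse ++ [c]).map f).prod := by
      simp only [List.map_append, List.prod_append, prod_reverse_involutions f hf2 L,
        List.map_singleton, List.prod_singleton, ← hPπ]
      rfl
    have hinv : ((L.reverse).map S.σ).prod = ((L.map S.σ).prod)⁻¹ :=
      prod_reverse_involutions S.σ (fun i => by
        ext r; simp [hS.sigma_sigma]) L
    have hact : S.Acts (σ z) 1 := by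
      have h := acts_mul (acts_mul (acts_mul hPa (acts_n hS x)) (acts_inv hPa)) (acts_n hS c)
      rw [← hone]
      simp only [hz, map_mul, map_inv, σ_nl, List.map_append, List.prod_append, hinv,
        List.map_singleton, List.prod_singleton]
      exact h
    rw [← hzπ]
    refine hπ1 _ hzN (le_iSup (tor1 S p σ) c ⟨hzc, ?_⟩)
    exact mem_H_of_acts_one hS hsep (σ_Nl hL hs hc hcop hzN) hact
  have hlift : M.IsLiftable f := by
    intro i j
    by_cases hij : i = j
    · subst hij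
      rw [M.diagonal i, pow_one, hf2]
    obtain ⟨L, c, hLc, hlist⟩ := hbr i j hij
    have hone : ((L ++ [j] ++ L.reverse ++ [c]).map S.σ).prod = 1 := by
      rw [hperm]
      have hrel := M.toCoxeterSystem.simple_mul_simple_pow i j
      have hrel' := M.toCoxeterSystem.simple_mul_simple_pow' i j
      rcases hlist with e | e <;> rw [e]
      all_goals
        rw [CoxeterSystem.wordProd, map_prod_flatten_replicate]
        simp only [List.map_cons, List.map_nil, List.prod_cons, List.prod_nil, mul_one]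
      · rw [hrel, map_one]
      · rw [hrel', map_one]
    have h1 := hbraid L j c hLc hone
    rcases hlist with e | e <;> rw [e, map_prod_flatten_replicate] at h1 <;>
      simp only [List.map_cons, List.map_nil, List.prod_cons, List.prod_nil, mul_one] at h1
    · exact h1
    · have h2 : f i * f j = (f j * f i)⁻¹ := by
        rw [mul_inv_rev, inv_eq_of_mul_eq_one_left (hf2 i), inv_eq_of_mul_eq_one_left (hf2 j)]
      rw [h2, inv_pow, h1, inv_one]
  have hword : ∀ (u : Γ) (hu : u ∈ Nl hL hs hc hcop), ∃ L : List ι, π ⟨u, hu⟩ = (L.map f).prod := by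
    intro u hu
    have hu' := hu
    rw [Nl_eq] at hu'
    induction hu' using closure_induction with
    | mem y hy =>
      rcases hy with hy | ⟨i, rfl⟩
      · exact ⟨[], hπ1 y hu hy⟩
      · exact ⟨[i], by simp [f]⟩
    | one => exact ⟨[], map_one π⟩
    | mul a b ha hb iha ihb =>
      rw [← Nl_eq] at ha hb
      obtain ⟨L, hL1⟩ := iha ha
      obtain ⟨L', hL2⟩ := ihb hb
      refine ⟨L ++ L', ?_⟩
      rw [List.map_append, List.prod_append, ← hL1, ← hL2, ← map_mul]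
      rfl
    | inv a ha iha =>
      rw [← Nl_eq] at ha
      obtain ⟨L, hL1⟩ := iha ha
      refine ⟨L.reverse, ?_⟩
      rw [prod_reverse_involutions f hf2, ← hL1, ← map_inv]
      rfl
  let cs := M.toCoxeterSystem
  let Φ := cs.lift ⟨f, hlift⟩
  have hΦ : ∀ L : List ι, Φ (cs.wordProd L) = (L.map f).prod := by
    intro L
    induction L with
    | nil => simp
    | cons y L ih =>
      rw [CoxeterSystem.wordProd_cons, map_mul, ih, CoxeterSystem.lift_apply_simple, List.map_cons,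
        List.prod_cons]
  obtain ⟨L, hLw⟩ := hword w hw
  obtain ⟨hP, hPπ, hPa⟩ := hpr L
  have hd : (pr L)⁻¹ * w ∈ tor S p σ := by
    have h1 : π ((⟨pr L, hP⟩ : ↥(Nl hL hs hc hcop))⁻¹ * ⟨w, hw⟩) = 1 := by
      rw [map_mul, map_inv, hPπ, hLw, inv_mul_cancel]
    exact mem_subgroupOf.1 ((QuotientGroup.eq_one_iff _).1 h1)
  have hPH : σ (pr L) ∈ S.H := by
    have h1 := σ_tor hL hd
    rw [map_mul, map_inv] at h1
    have := mul_mem hwH (inv_mem h1)
    rwa [mul_inv_rev, inv_inv, mul_inv_cancel_left] at this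
  have h1 : cs.wordProd L = 1 := hψi (by
    rw [map_one, ← hperm L]
    exact acts_unique hS hsep hPa (acts_H hS hPH))
  have h2 : (L.map f).prod = 1 := by rw [← hΦ, h1, map_one]
  rw [h2] at hLw
  exact mem_subgroupOf.1 ((QuotientGroup.eq_one_iff _).1 hLw)

omit ψ hψ hψi hbr

/-- The lift of `B`. -/
def Bl (S : RootGroupSys G ι R) (p : ℕ) (σ : Γ →* G) : Subgroup Γ := liftGrp p σ S.Uplus ⊔ tor S p σ

omit hs hc hcop in
theorem Uplus_le_Bl {g : Γ} (hg : g ∈ liftGrp p σ S.Uplus) : g ∈ Bl S p σ :=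
  mem_sup_left hg

theorem exists_lift_Uplus {x : G} (hx : x ∈ S.Uplus) : ∃ g, IsPEl p g ∧ σ g = x :=
  exists_pEl p σ hc hcop hs (pEl_of_Uplus hL.unip hx)

theorem mem_Bl {g : Γ} (hg : g ∈ Bl S p σ) :
    ∃ u ∈ liftGrp p σ S.Uplus, ∃ t ∈ tor S p σ, g = u * t := by
  have hn : tor S p σ ≤ normalizer (liftGrp p σ S.Uplus : Set Γ) := by
    have key : ∀ t : Γ, σ t ∈ S.H → ∀ u ∈ liftGrp p σ S.Uplus, t * u * t⁻¹ ∈ liftGrp p σ S.Uplus := by
      intro t ht u hu
      refine liftGrp_mono p σ ?_ (liftGrp_conj p σ hu t)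
      rintro _ ⟨y, hy, rfl⟩
      exact H_conj_Uplus hL.ax ht hy
    intro t ht
    rw [mem_normalizer_iff]
    refine fun u => ⟨key t (σ_tor hL ht) u, fun h => ?_⟩
    have := key t⁻¹ (σ_tor hL (inv_mem ht)) _ h
    rwa [show t⁻¹ * (t * u * t⁻¹) * t⁻¹⁻¹ = u by group] at this
  have hg' : g ∈ ((liftGrp p σ S.Uplus ⊔ tor S p σ : Subgroup Γ) : Set Γ) := hg
  rw [coe_mul_of_right_le_normalizer_left _ _ hn] at hg'
  obtain ⟨u, hu, t, ht, rfl⟩ := hg'
  exact ⟨u, hu, t, ht, rfl⟩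

theorem acts_inv_pos_lift {w : Γ} {π : Equiv.Perm R} (hπ : S.Acts (σ w) π) {r : R}
    (hr : S.pos (π⁻¹ r)) {x : Γ} (hx : IsPEl p x) (hxr : σ x ∈ S.U r) :
    w⁻¹ * x * w ∈ Bl S p σ := by
  refine Uplus_le_Bl hL (mem_liftGrp p σ ?_ ?_)
  · have := hx.conj p w⁻¹
    rwa [inv_inv] at this
  · have h := acts_conj_mem (acts_inv hπ) hxr
    rw [inv_inv] at h
    rw [map_mul, map_mul, map_inv]
    exact U_le_Uplus hr h

/-- The double cosets of the lift of `B` over the lift of `N`. -/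
def InBNB (g : Γ) : Prop :=
  ∃ b ∈ Bl S p σ, ∃ w ∈ Nl hL hs hc hcop, ∃ b' ∈ Bl S p σ, g = b * w * b'

theorem InBNB.bl {g z : Γ} (hz : z ∈ Bl S p σ) (h : InBNB hL hs hc hcop g) :
    InBNB hL hs hc hcop (z * g) := by
  obtain ⟨b, hb, w, hw, b', hb', rfl⟩ := h
  exact ⟨z * b, mul_mem hz hb, w, hw, b', hb', by group⟩

theorem InBNB.nl {g : Γ} (i : ι) (h : InBNB hL hs hc hcop g) :
    InBNB hL hs hc hcop (nl hL hs hc hcop i * g) := by
  obtain ⟨b, hb, w, hw, b', hb', rfl⟩ := h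
  have hS := hL.ax
  set n := H50.Tw.nl hL hs hc hcop i with hndef
  have hσn : σ n = S.n i := σ_nl hL hs hc hcop i
  obtain ⟨u, hu, t, ht, rfl⟩ := mem_Bl hL hs hc hcop hb
  have ht' : σ t ∈ S.H := σ_tor hL ht
  -- bring `t` to the front
  set u1 := t⁻¹ * u * t with hu1
  have hu1U : σ u1 ∈ S.Uplus := by
    rw [hu1, map_mul, map_mul, map_inv]
    simpa using H_conj_Uplus hS (inv_mem ht') (liftGrp_le_comap p σ _ hu)
  have hu1m : u1 ∈ liftGrp p σ S.Uplus := by
    refine liftGrp_mono p σ ?_ (by simpa using liftGrp_conj p σ hu t⁻¹)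
    rintro _ ⟨y, hy, rfl⟩
    simpa using H_conj_Uplus hS (inv_mem ht') hy
  obtain ⟨v0, hv0, x0, hx0, hux⟩ := Uplus_split hS i hu1U
  obtain ⟨v, hv, rfl⟩ := exists_lift_Uplus hL hs hc hcop (Uhat_le_Uplus i hv0)
  obtain ⟨x, hx, rfl⟩ := exists_lift_Uplus hL hs hc hcop (U_le_Uplus (hS.pos_a i) hx0)
  have hvx : u1 = v * x :=
    (split_isPGroup p σ hc hcop hL.unip).1.inj p σ hu1m
      (mul_mem (mem_liftGrp p σ hv (Uhat_le_Uplus i hv0))
        (mem_liftGrp p σ hx (U_le_Uplus (hS.pos_a i) hx0)))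
      (by rw [hux, map_mul])
  set b0 := n * t * n⁻¹ * (n * v * n⁻¹) with hb0
  have hb0m : b0 ∈ Bl S p σ := by
    refine mul_mem (mem_sup_right (nl_conj_tor hL hs hc hcop i ht))
      (Uplus_le_Bl hL (mem_liftGrp p σ (hv.conj p n) ?_))
    rw [map_mul, map_mul, map_inv, hσn]
    exact Uhat_le_Uplus i (n_conj_Uhat hS i hv0)
  have heq : n * (u * t * w * b') = b0 * (n * x * w) * b' := by
    have e : u * t = t * (v * x) := by rw [← hvx, hu1]; group
    rw [hb0, e]; group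
  rw [heq, mul_assoc]
  refine InBNB.bl hL hs hc hcop hb0m ?_
  suffices h : InBNB hL hs hc hcop (n * x * w) by
    obtain ⟨c, hc1, w1, hw1, c', hc', e⟩ := h
    exact ⟨c, hc1, w1, hw1, c' * b', mul_mem hc' hb', by rw [e]; group⟩
  obtain ⟨π, hπ⟩ := exists_acts hS (σ_Nl hL hs hc hcop hw)
  have hnN : n ∈ Nl hL hs hc hcop := nl_mem_Nl hL hs hc hcop i
  by_cases hp : S.pos (π⁻¹ (S.a i))
  · exact ⟨1, one_mem _, n * w, mul_mem hnN hw, w⁻¹ * x * w,
      acts_inv_pos_lift hL hs hc hcop hπ hp hx hx0, by group⟩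
  set y := n * x * n⁻¹ with hy
  have hy' : σ y ∈ S.U (S.neg (S.a i)) := by
    rw [hy, map_mul, map_mul, map_inv, hσn]
    exact hS.sigma_a i ▸ acts_conj_mem (acts_n hS i) hx0
  by_cases hy1 : σ y = 1
  · have hy0 : y = 1 := pEl_inj p σ hc hcop (hx.conj p n) ⟨0, by simp⟩ (by rw [hy1, map_one])
    refine ⟨1, one_mem _, n * w, mul_mem hnN hw, 1, one_mem _, ?_⟩
    rw [one_mul, mul_one, show n * x * w = y * (n * w) by rw [hy]; group, hy0, one_mul]
  obtain ⟨x1', hx1', h', hh', x2', hx2', he⟩ := hS.rankone i _ hy' hy1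
  obtain ⟨x1, hx1, rfl⟩ := exists_lift_Uplus hL hs hc hcop (U_le_Uplus (hS.pos_a i) hx1')
  obtain ⟨x2, hx2, rfl⟩ := exists_lift_Uplus hL hs hc hcop (U_le_Uplus (hS.pos_a i) hx2')
  set k := x1⁻¹ * y * x2⁻¹ * n⁻¹ with hk
  have hkt : k ∈ tor S p σ := by
    refine le_iSup (tor1 S p σ) i (Subgroup.mem_inf.2 ⟨?_, ?_⟩)
    · refine mul_mem (mul_mem (mul_mem (inv_mem (mem_liftGrp p σ hx1 (mem_sup_left hx1'))) ?_)
        (inv_mem (mem_liftGrp p σ hx2 (mem_sup_left hx2')))) (inv_mem (nl_mem hL hs hc hcop i))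
      exact mem_liftGrp p σ (hx.conj p n) (mem_sup_right hy')
    · show σ k ∈ S.H
      have : σ k = h' := by
        rw [hk, map_mul, map_mul, map_mul, map_inv, map_inv, map_inv, he, hσn]; group
      rw [this]; exact hh'
  have hp2 : S.pos ((S.σ i * π)⁻¹ (S.a i)) := by
    rw [mul_inv_rev, sigma_inv hS, Equiv.Perm.mul_apply, hS.sigma_a, W_neg hS (inv_mem hπ.1),
      hS.pos_neg]
    exact hp
  have hnw : S.Acts (σ (n * w)) (S.σ i * π) := by
    rw [map_mul, hσn]; exact acts_mul (acts_n hS i) hπ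
  have hb2 := acts_inv_pos_lift hL hs hc hcop hnw hp2 hx2 hx2'
  refine ⟨x1 * k * (n * n), mul_mem (mul_mem (Uplus_le_Bl hL (mem_liftGrp p σ hx1
    (U_le_Uplus (hS.pos_a i) hx1'))) (mem_sup_right hkt)) (mem_sup_right (nl_sq hL hs hc hcop i)),
    w, hw, (n * w)⁻¹ * x2 * (n * w), hb2, ?_⟩
  rw [show n * x * w = y * (n * w) by rw [hy]; group, hk]
  group

/-- The subgroup generated by the lifts of the rank one subgroups. -/
def Kl (S : RootGroupSys G ι R) (p : ℕ) (σ : Γ →* G) : Subgroup Γ := ⨆ i, liftGrp p σ (rk1 S i)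

theorem map_Kl : (Kl S p σ).map σ = ⊤ := by
  have hle : ∀ i, rk1 S i ≤ (Kl S p σ).map σ := fun i x hx => by
    obtain ⟨g, hg, rfl⟩ := exists_lift_rk1 hL hs hc hcop i hx
    exact ⟨g, le_iSup (fun i => liftGrp p σ (rk1 S i)) i hg, rfl⟩
  rw [eq_top_iff, ← hL.ax.gen]
  refine sup_le (hL.gen_H.trans (iSup_le fun i => inf_le_left.trans (hle i))) ((closure_le _).2 ?_)
  rintro g ⟨i, hg | hg⟩
  · exact hle i (mem_sup_left hg)
  · exact hle i (mem_sup_right hg)

theorem mem_BNB_of_Kl {g : Γ} (hg : g ∈ Kl S p σ) : InBNB hL hs hc hcop g := by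
  let A : Submonoid Γ :=
    { carrier := {x | ∀ g, InBNB hL hs hc hcop g → InBNB hL hs hc hcop (x * g)}
      one_mem' := fun g hg => by rwa [one_mul]
      mul_mem' := fun {a b} ha hb g hg => by rw [mul_assoc]; exact ha _ (hb g hg) }
  have hA : A.carrier = {x | ∀ g, InBNB hL hs hc hcop g → InBNB hL hs hc hcop (x * g)} := rfl
  have hU : ∀ i, ∀ x : Γ, IsPEl p x → σ x ∈ S.U (S.a i) ∨ σ x ∈ S.U (S.neg (S.a i)) → x ∈ A := by
    intro i x hx hor g hg
    rcases hor with h | h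
    · exact InBNB.bl hL hs hc hcop
        (Uplus_le_Bl hL (mem_liftGrp p σ hx (U_le_Uplus (hL.ax.pos_a i) h))) hg
    · set n := H50.Tw.nl hL hs hc hcop i with hn
      obtain ⟨y, hy, hyx⟩ := Uneg_le hL.ax i h
      obtain ⟨y', hy', rfl⟩ := exists_lift_Uplus hL hs hc hcop (U_le_Uplus (hL.ax.pos_a i) hy)
      have hxe : x = n * y' * n⁻¹ := pEl_inj p σ hc hcop hx (hy'.conj p n) (by
        rw [hyx, map_mul, map_mul, map_inv, hn, σ_nl])
      have hn2 : n⁻¹ = (n * n)⁻¹ * n := by group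
      rw [hxe, show n * y' * n⁻¹ * g = n * (y' * (n⁻¹ * g)) by group, hn2, mul_assoc (n * n)⁻¹]
      exact InBNB.nl hL hs hc hcop i (InBNB.bl hL hs hc hcop
        (Uplus_le_Bl hL (mem_liftGrp p σ hy' (U_le_Uplus (hL.ax.pos_a i) hy)))
        (InBNB.bl hL hs hc hcop (mem_sup_right (inv_mem (nl_sq hL hs hc hcop i)))
          (InBNB.nl hL hs hc hcop i hg)))
  have hone : InBNB hL hs hc hcop 1 :=
    ⟨1, one_mem _, 1, one_mem _, 1, one_mem _, by group⟩
  suffices h : g ∈ A by simpa using h 1 hone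
  have hfin : IsOfFinOrder g := isOfFinOrder_of_finite g
  have hKA : ∀ x ∈ Kl S p σ, x ∈ A := by
    intro x hx
    induction hx using iSup_induction' with
    | hp i y hy =>
      have hy2 : ∃ z ∈ A, z ∈ liftGrp p σ (rk1 S i) ∧ σ z = σ y := by
        have hσ := liftGrp_le_comap p σ _ hy
        have hle : rk1 S i ≤ closure ((S.U (S.a i) : Set G) ∪ S.U (S.neg (S.a i))) := by
          rw [Subgroup.closure_union, Subgroup.closure_eq, Subgroup.closure_eq]; rfl
        have hmem := hle hσ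
        clear hσ
        generalize σ y = a at hmem ⊢
        rw [← mem_toSubmonoid, closure_toSubmonoid_of_finite] at hmem
        induction hmem using Submonoid.closure_induction with
        | mem a ha =>
          rcases ha with ha | ha
          · obtain ⟨z, hz, rfl⟩ := exists_lift_Uplus hL hs hc hcop (U_le_Uplus (hL.ax.pos_a i) ha)
            exact ⟨z, hU i z hz (Or.inl ha), mem_liftGrp p σ hz (mem_sup_left ha), rfl⟩
          · obtain ⟨z, hz, rfl⟩ := exists_pEl p σ hc hcop hs (pEl_Uneg hL i ha)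
            exact ⟨z, hU i z hz (Or.inr ha), mem_liftGrp p σ hz (mem_sup_right ha), rfl⟩
        | one => exact ⟨1, one_mem _, one_mem _, map_one σ⟩
        | mul a b _ _ iha ihb =>
          obtain ⟨z, hz1, hz2, rfl⟩ := iha
          obtain ⟨z', hz1', hz2', rfl⟩ := ihb
          exact ⟨z * z', mul_mem hz1 hz1', mul_mem hz2 hz2', map_mul σ z z'⟩
      obtain ⟨z, hz1, hz2, hz3⟩ := hy2
      rwa [(hL.split i).inj p σ hy hz2 hz3.symm]
    | h1 => exact one_mem _
    | hmul a b _ _ ha hb => exact mul_mem ha hb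
  exact hKA g hg

include ψ hψ hψi hbr

/-- The kernel of a stem extension lies in the lift of the torus. -/
theorem ker_le_tor (hd : σ.ker ≤ commutator Γ) : σ.ker ≤ tor S p σ := by
  have hK : commutator Γ ≤ Kl S p σ := by
    rw [commutator_def, commutator_le]
    intro a _ b _
    have hm := map_Kl hL hs hc hcop
    obtain ⟨a', ha', ea⟩ : σ a ∈ (Kl S p σ).map σ := hm ▸ mem_top _
    obtain ⟨b', hb', eb⟩ : σ b ∈ (Kl S p σ).map σ := hm ▸ mem_top _
    rw [H76.Cover.comm_congr σ hc ea.symm eb.symm, commutatorElement_def]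
    exact mul_mem (mul_mem (mul_mem ha' hb') (inv_mem ha')) (inv_mem hb')
  intro z hz
  obtain ⟨b, hb, w, hw, b', hb', e⟩ := mem_BNB_of_Kl hL hs hc hcop (hK (hd hz))
  have hBσ : ∀ {c : Γ}, c ∈ Bl S p σ → σ c ∈ S.B := by
    intro c hc'
    obtain ⟨u, hu, t, ht, rfl⟩ := mem_Bl hL hs hc hcop hc'
    rw [map_mul]
    exact mul_mem (Uplus_le_B (liftGrp_le_comap p σ _ hu)) (H_le_B (σ_tor hL ht))
  have hw' : σ w ∈ S.H := by
    rw [← BN_eq hL.ax hL.sep]
    refine mem_inf.2 ⟨?_, σ_Nl hL hs hc hcop hw⟩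
    have h1 : σ b * σ w * σ b' = 1 := by
      rw [← map_mul, ← map_mul, ← e]; exact hz
    rw [show σ w = (σ b)⁻¹ * (σ b')⁻¹ from
      eq_mul_inv_iff_mul_eq.2 (eq_inv_of_mul_eq_one_right ((mul_assoc _ _ _).symm.trans h1))]
    exact mul_mem (inv_mem (hBσ hb)) (inv_mem (hBσ hb'))
  have hzB : z ∈ Bl S p σ := e ▸ mul_mem (mul_mem hb
    (mem_sup_right (Nl_inf_comap hL hs hc hcop ψ hψ hψi hbr hw hw'))) hb'
  obtain ⟨u, hu, t, ht, rfl⟩ := mem_Bl hL hs hc hcop hzB
  have h1 : σ u * σ t = 1 := by rw [← map_mul]; exact hz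
  have h2 : σ u ∈ S.Uplus ⊓ S.N := mem_inf.2 ⟨liftGrp_le_comap p σ _ hu, by
    rw [eq_inv_of_mul_eq_one_left h1]
    exact inv_mem ((H_le_N (S := S)) (σ_tor hL ht))⟩
  rw [hL.sep.U_N, mem_bot] at h2
  rw [(split_isPGroup p σ hc hcop hL.unip).1.eq_one p σ hu h2, one_mul]
  exact ht

/-- `|ker| |H|` divides `∏ |H ∩ L_i|`. -/
theorem card_ker_dvd [Fintype ι] (hd : σ.ker ≤ commutator Γ) :
    Nat.card σ.ker * Nat.card S.H ∣ ∏ i, Nat.card ↥(rk1 S i ⊓ S.H) := by
  classical
  have hcomm : Pairwise fun i j : ι => ∀ x y : Γ, x ∈ tor1 S p σ i → y ∈ tor1 S p σ j →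
      Commute x y := fun i j _ x y hx hy => tor1_commute hL hs hc hcop i j hx hy
  have h1 : Nat.card (tor S p σ) ∣ ∏ i, Nat.card (tor1 S p σ i) := by
    rw [tor, ← noncommPiCoprod_range (hcomm := hcomm), ← Nat.card_pi]
    exact Subgroup.card_dvd_of_surjective _ (MonoidHom.rangeRestrict_surjective _)
  have h2 : ∀ i, Nat.card (tor1 S p σ i) ∣ Nat.card ↥(rk1 S i ⊓ S.H) := fun i => by
    refine Subgroup.card_dvd_of_injective ((σ.comp (tor1 S p σ i).subtype).codRestrict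
      (rk1 S i ⊓ S.H) fun t => mem_inf.2 ⟨liftGrp_le_comap p σ _ t.2.1, t.2.2⟩) fun a b h => ?_
    exact Subtype.ext ((hL.split i).inj p σ a.2.1 b.2.1 (congrArg Subtype.val h))
  refine dvd_trans ?_ (h1.trans (Finset.prod_dvd_prod_of_dvd _ _ fun i _ => h2 i))
  have hker := ker_le_tor hL hs hc hcop ψ hψ hψi hbr hd
  let φ : ↥(tor S p σ) →* G := σ.comp (tor S p σ).subtype
  have hH : φ.range = S.H := by
    refine le_antisymm ?_ (hL.gen_H.trans (iSup_le fun i x hx => ?_))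
    · rintro _ ⟨t, rfl⟩
      exact σ_tor hL t.2
    · obtain ⟨g, hg, rfl⟩ := exists_lift_rk1 hL hs hc hcop i hx.1
      exact ⟨⟨g, le_iSup (tor1 S p σ) i ⟨hg, hx.2⟩⟩, rfl⟩
  have hk : Nat.card φ.ker = Nat.card σ.ker := Nat.card_congr
    { toFun := fun z => ⟨z.1.1, z.2⟩
      invFun := fun z => ⟨⟨z.1, hker z.2⟩, z.2⟩
      left_inv := fun _ => rfl
      right_inv := fun _ => rfl }
  rw [← hk, ← hH, ← index_ker, mul_comm, index_mul_card]

end

end H50.Tw
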