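import Cfsg.Agent.H50.CExtCrit
import Cfsg.Agent.H52.RootCount
import Cfsg.Agent.H76.CoverLift

/-!
Central extensions of a group with a system of root subgroups: canonical lifts of the root
subgroups by torus commutators, and the `p`-part of the kernel of a stem extension.
-/

set_option autoImplicit false
set_option linter.unusedSectionVars false

namespace H50.Tw

open Subgroup H53 H53.RootGroupSys
open scoped commutatorElement

variable {G : Type*} [Group G] {ι R : Type*} (S : RootGroupSys G ι R)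
  {Γ : Type*} [Group Γ] (σ : Γ →* G)

/-- Any lifts of elements of `A` and `B` commute. -/
def LiftsCommute (A B : Subgroup G) : Prop := ∀ a b : Γ, σ a ∈ A → σ b ∈ B → Commute a b

/-- The canonical lift of a root subgroup. -/
def rootLift (r : R) : Subgroup Γ := ⁅S.H.comap σ, (S.U r).comap σ⁆

/-- The span of the canonical lifts over the roots made negative by `π`. -/
def invLift (π : Equiv.Perm R) : Subgroup Γ :=
  ⨆ (r : R) (_ : S.pos r ∧ ¬ S.pos (π r)), rootLift S σ r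

theorem LiftsCommute.symm {σ : Γ →* G} {A B : Subgroup G} (h : LiftsCommute σ A B) :
    LiftsCommute σ B A := fun a b ha hb => (h b a hb ha).symm

theorem LiftsCommute.conj {σ : Γ →* G} (hs : Function.Surjective σ) {A B : Subgroup G} (g : G)
    (h : LiftsCommute σ A B) :
    LiftsCommute σ (A.map (MulAut.conj g).toMonoidHom) (B.map (MulAut.conj g).toMonoidHom) := by
  rintro a b ⟨a', ha', ea⟩ ⟨b', hb', eb⟩
  obtain ⟨k, rfl⟩ := hs g
  rw [MulEquiv.coe_toMonoidHom, MulAut.conj_apply] at ea eb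
  refine (Commute.conj_iff k⁻¹).1 (h _ _ ?_ ?_)
  · rw [map_mul, map_mul, map_inv, map_inv, ← ea]
    simpa [mul_assoc] using ha'
  · rw [map_mul, map_mul, map_inv, map_inv, ← eb]
    simpa [mul_assoc] using hb'

/-- The hypotheses on the lifts of the positive root subgroups. -/
structure PHyp : Prop where
  ax : S.Axioms
  sep : Sep S
  hab : ∀ x ∈ S.H, ∀ y ∈ S.H, Commute x y
  fpf : ∀ r, S.pos r → ∃ h ∈ S.H, ∀ y ∈ S.U r, h * y * h⁻¹ = y → y = 1
  self : ∀ r, S.pos r → LiftsCommute σ (S.U r) (S.U r)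
  pair : ∀ i r, S.pos r → r ≠ S.a i →
    (∃ h ∈ S.H, (∀ x ∈ S.U (S.a i), h * x * h⁻¹ = x) ∧ ∀ y ∈ S.U r, h * y * h⁻¹ = y → y = 1) ∨
      LiftsCommute σ (S.U (S.a i)) (S.U r)

variable {S σ} [Finite G] (hP : PHyp S σ) (hs : Function.Surjective σ) (hc : σ.ker ≤ center Γ)

include hs in
omit [Finite G] in
theorem comm_of_lifts {A B : Subgroup G} (h : LiftsCommute σ A B) :
    ∀ x ∈ A, ∀ y ∈ B, Commute x y := by
  intro x hx y hy
  obtain ⟨a, rfl⟩ := hs x
  obtain ⟨b, rfl⟩ := hs y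
  exact (h a b hx hy).map σ

/-- A fixed-point-free automorphism of a finite abelian group is `y ↦ [h, y]` onto. -/
theorem exists_comm_eq {U : Subgroup G} (hU : ∀ x ∈ U, ∀ y ∈ U, Commute x y) {h : G}
    (hn : ∀ y ∈ U, h * y * h⁻¹ ∈ U) (hf : ∀ y ∈ U, h * y * h⁻¹ = y → y = 1) {x : G} (hx : x ∈ U) :
    ∃ y ∈ U, ⁅h, y⁆ = x := by
  let f : U → U := fun y => ⟨⁅h, (y : G)⁆, mul_mem (hn y y.2) (inv_mem y.2)⟩
  have hinj : Function.Injective f := by
    intro a b e
    have e' : h * a.1 * h⁻¹ * a.1⁻¹ = h * b.1 * h⁻¹ * b.1⁻¹ := congrArg Subtype.val e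
    refine Subtype.ext (inv_mul_eq_one.1 (hf _ (mul_mem (inv_mem a.2) b.2) ?_))
    have e2 : h * b.1 * h⁻¹ = h * a.1 * h⁻¹ * a.1⁻¹ * b.1 := by rw [e']; group
    calc h * (a.1⁻¹ * b.1) * h⁻¹ = (h * a.1 * h⁻¹)⁻¹ * (h * b.1 * h⁻¹) := by group
      _ = a.1⁻¹ * b.1 := by rw [e2]; group
  obtain ⟨y, hy⟩ := (Finite.injective_iff_surjective.1 hinj) ⟨x, hx⟩
  exact ⟨y, y.2, congrArg Subtype.val hy⟩

include hc in
omit [Finite G] in
theorem comm_congr' {x x' y y' : Γ} (h1 : σ x = σ x') (h2 : σ y = σ y') : ⁅x, y⁆ = ⁅x', y'⁆ :=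
  H76.Cover.comm_congr σ hc h1 h2

include hP hs hc

/-- The canonical lift consists of the commutators with one element of the torus. -/
theorem rootLift_spec {r : R} (hr : S.pos r) {h : Γ} (hh : σ h ∈ S.H)
    (hf : ∀ y ∈ S.U r, σ h * y * (σ h)⁻¹ = y → y = 1) {g : Γ} :
    g ∈ rootLift S σ r ↔ ∃ a, σ a ∈ S.U r ∧ g = ⁅h, a⁆ := by
  refine ⟨fun hg => ?_, fun ⟨a, ha, e⟩ => e ▸ commutator_mem_commutator hh ha⟩
  have hn : ∀ {k : Γ}, σ k ∈ S.H → ∀ {y : G}, y ∈ S.U r → σ k * y * (σ k)⁻¹ ∈ S.U r :=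
    fun {k} hk {y} hy => by simpa using acts_conj_mem (acts_H hP.ax hk) hy
  have hUab := comm_of_lifts hs (hP.self r hr)
  let L0 : Subgroup Γ :=
    { carrier := {g | ∃ a, σ a ∈ S.U r ∧ g = ⁅h, a⁆}
      one_mem' := ⟨1, by simp, by simp⟩
      mul_mem' := by
        rintro _ _ ⟨a, ha, rfl⟩ ⟨b, hb, rfl⟩
        refine ⟨a * b, by rw [map_mul]; exact mul_mem ha hb, ?_⟩
        have hab : Commute a ⁅h, b⁆ := hP.self r hr _ _ ha (by
          rw [map_commutatorElement, commutatorElement_def]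
          exact mul_mem (hn hh hb) (inv_mem hb))
        rw [commutatorElement_mul_right_eq_mul_conj, mul_assoc ⁅h, a⁆, hab.eq, ← mul_assoc,
          mul_inv_cancel_right]
      inv_mem' := by
        rintro _ ⟨a, ha, rfl⟩
        refine ⟨a⁻¹, by rw [map_inv]; exact inv_mem ha, ?_⟩
        have hab : Commute a⁻¹ ⁅h, a⁆ := hP.self r hr _ _ (by rw [map_inv]; exact inv_mem ha) (by
          rw [map_commutatorElement, commutatorElement_def]
          exact mul_mem (hn hh ha) (inv_mem ha))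
        rw [inv_eq_iff_mul_eq_one]
        have : ⁅h, a * a⁻¹⁆ = ⁅h, a⁆ * (a * ⁅h, a⁻¹⁆ * a⁻¹) := by
          rw [commutatorElement_mul_right_eq_mul_conj, mul_assoc, mul_assoc, mul_assoc]
        have hab' : Commute a ⁅h, a⁻¹⁆ := hP.self r hr _ _ ha (by
          rw [map_commutatorElement, commutatorElement_def, map_inv]
          exact mul_mem (hn hh (inv_mem ha)) (inv_mem (inv_mem ha)))
        rw [mul_inv_cancel, commutatorElement_one_right, hab'.eq, mul_inv_cancel_right] at this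
        exact this.symm }
  have hle : rootLift S σ r ≤ L0 := by
    refine commutator_le.2 fun k hk b hb => ?_
    obtain ⟨y, hy, hyb⟩ := exists_comm_eq hUab (fun y hy => hn hh hy) hf (show σ b ∈ S.U r from hb)
    obtain ⟨a, rfl⟩ := hs y
    rw [comm_congr' hc (rfl : σ k = σ k) (y' := ⁅h, a⁆) (by rw [← hyb, map_commutatorElement]),
      commutatorElement_def]
    refine L0.mul_mem ?_ (L0.inv_mem ⟨a, hy, rfl⟩)
    refine ⟨k * a * k⁻¹, ?_, ?_⟩
    · rw [map_mul, map_mul, map_inv]; exact hn hk hy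
    · rw [conjugate_commutatorElement]
      refine comm_congr' hc ?_ rfl
      rw [map_mul, map_mul, map_inv, (hP.hab _ hk _ hh).eq, mul_inv_cancel_right]
  exact hle hg

theorem rootLift_le {r : R} : rootLift S σ r ≤ (S.U r).comap σ := by
  refine commutator_le.2 fun k hk b hb => ?_
  show σ ⁅k, b⁆ ∈ S.U r
  rw [map_commutatorElement, commutatorElement_def]
  refine mul_mem ?_ (inv_mem hb)
  simpa using acts_conj_mem (acts_H hP.ax hk) hb

theorem exists_rootLift {r : R} (hr : S.pos r) {x : G} (hx : x ∈ S.U r) :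
    ∃ g ∈ rootLift S σ r, σ g = x := by
  obtain ⟨h', hh, hf⟩ := hP.fpf r hr
  obtain ⟨h, rfl⟩ := hs h'
  obtain ⟨y, hy, e⟩ := exists_comm_eq (comm_of_lifts hs (hP.self r hr))
    (fun y hy => by simpa using acts_conj_mem (acts_H hP.ax hh) hy) hf hx
  obtain ⟨a, rfl⟩ := hs y
  exact ⟨⁅h, a⁆, commutator_mem_commutator hh hy, by rw [map_commutatorElement, e]⟩

theorem rootLift_inj {r : R} (hr : S.pos r) {g : Γ} (hg : g ∈ rootLift S σ r) (hg1 : σ g = 1) :
    g = 1 := by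
  obtain ⟨h', hh, hf⟩ := hP.fpf r hr
  obtain ⟨h, rfl⟩ := hs h'
  obtain ⟨a, ha, rfl⟩ := (rootLift_spec hP hs hc hr hh hf).1 hg
  rw [map_commutatorElement, commutatorElement_def, mul_inv_eq_one] at hg1
  rw [comm_congr' hc (rfl : σ h = σ h) (y' := 1) (by rw [map_one, hf _ ha hg1]),
    commutatorElement_one_right]

omit hs hc in
theorem H_conj_rootLift (r : R) {k : Γ} (hk : σ k ∈ S.H) :
    (rootLift S σ r).map (MulAut.conj k).toMonoidHom = rootLift S σ r := by
  rw [rootLift, map_commutator]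
  congr 1
  · ext g
    constructor
    · rintro ⟨y, hy, rfl⟩
      show σ (k * y * k⁻¹) ∈ S.H
      rw [map_mul, map_mul, map_inv]
      exact mul_mem (mul_mem hk hy) (inv_mem hk)
    · intro hg
      refine ⟨k⁻¹ * g * k, ?_, by simp [mul_assoc]⟩
      show σ (k⁻¹ * g * k) ∈ S.H
      rw [map_mul, map_mul, map_inv]
      exact mul_mem (mul_mem (inv_mem hk) hg) hk
  · ext g
    constructor
    · rintro ⟨y, hy, rfl⟩
      show σ (k * y * k⁻¹) ∈ S.U r
      rw [map_mul, map_mul, map_inv]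
      simpa using acts_conj_mem (acts_H hP.ax hk) hy
    · intro hg
      refine ⟨k⁻¹ * g * k, ?_, by simp [mul_assoc]⟩
      show σ (k⁻¹ * g * k) ∈ S.U r
      rw [map_mul, map_mul, map_inv]
      simpa using acts_conj_mem (acts_H hP.ax (inv_mem hk)) (show σ g ∈ S.U r from hg)

omit hs hc in
theorem n_conj_rootLift (i : ι) (r : R) {k : Γ} (hk : σ k = S.n i) :
    (rootLift S σ r).map (MulAut.conj k).toMonoidHom = rootLift S σ (S.σ i r) := by
  rw [rootLift, map_commutator, rootLift]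
  congr 1
  · ext g
    constructor
    · rintro ⟨y, hy, rfl⟩
      show σ (k * y * k⁻¹) ∈ S.H
      rw [map_mul, map_mul, map_inv, hk]
      exact hP.ax.n_norm i _ hy
    · intro hg
      refine ⟨k⁻¹ * g * k, ?_, by simp [mul_assoc]⟩
      show σ (k⁻¹ * g * k) ∈ S.H
      rw [map_mul, map_mul, map_inv, hk]
      have h2 := mul_mem (mul_mem (inv_mem (hP.ax.n_sq i))
        (hP.ax.n_norm i _ (show σ g ∈ S.H from hg))) (hP.ax.n_sq i)
      simpa [mul_assoc] using h2
  · ext g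
    constructor
    · rintro ⟨y, hy, rfl⟩
      show σ (k * y * k⁻¹) ∈ S.U (S.σ i r)
      rw [map_mul, map_mul, map_inv, hk]
      exact acts_conj_mem (acts_n hP.ax i) hy
    · intro hg
      refine ⟨k⁻¹ * g * k, ?_, by simp [mul_assoc]⟩
      show σ (k⁻¹ * g * k) ∈ S.U r
      rw [map_mul, map_mul, map_inv, hk]
      have h2 := acts_conj_mem (acts_inv (acts_n hP.ax i)) (show σ g ∈ S.U (S.σ i r) from hg)
      simpa using h2

theorem map_invLift (π : Equiv.Perm R) : (invLift S σ π).map σ = S.Uinv π := by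
  refine le_antisymm ?_ ((closure_le _).2 ?_)
  · rw [map_le_iff_le_comap]
    exact iSup₂_le fun r hr => (rootLift_le hP hs hc).trans (comap_mono fun x hx =>
      subset_closure ⟨r, hr.1, hr.2, hx⟩)
  · rintro x ⟨r, h1, h2, hx⟩
    obtain ⟨g, hg, rfl⟩ := exists_rootLift hP hs hc h1 hx
    exact ⟨g, le_iSup₂ (f := fun r (_ : S.pos r ∧ ¬ S.pos (π r)) => rootLift S σ r) r ⟨h1, h2⟩ hg,
      rfl⟩

/-- The span of the lifts meets the kernel trivially. -/
theorem invLift_inj [Finite R] : ∀ (n : ℕ) (w : G) (π : Equiv.Perm R), S.Acts w π →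
    H52.invCard S π = n → ∀ g ∈ invLift S σ π, σ g = 1 → g = 1 := by
  intro n
  induction n with
  | zero =>
    intro w π hπ hn g hg _
    have h : invLift S σ π = ⊥ := by
      refine eq_bot_iff.2 (iSup₂_le fun r hr => ?_)
      rw [H52.invCard, Nat.card_eq_zero] at hn
      rcases hn with hn | hn
      · exact (hn.false ⟨r, hr⟩).elim
      · exact absurd (inferInstance : Finite _) hn.not_finite
    rw [h] at hg
    exact mem_bot.1 hg
  | succ n ih =>
    intro w π hπ hn g hg hg1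
    have hS := hP.ax
    have hex : ∃ r, S.pos r ∧ ¬ S.pos (π r) := by
      by_contra hne
      rw [H52.invCard, Nat.card_eq_zero.2 (Or.inl ⟨fun x => hne ⟨x.1, x.2⟩⟩)] at hn
      omega
    obtain ⟨i, hi⟩ := hS.descent π hπ.1 hex
    set π₁ := π * S.σ i with hπ₁
    have hacts₁ : S.Acts (w * S.n i) π₁ := acts_mul hπ (acts_n hS i)
    have hn₁ : H52.invCard S π₁ = n := by
      have := H52.invCard_step hS hπ.1 hi
      rw [← hπ₁] at this
      omega
    have hpa : S.pos (π₁ (S.a i)) := by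
      rw [hπ₁, Equiv.Perm.mul_apply, hS.sigma_a, W_neg hS hπ.1, hS.pos_neg]; exact hi
    have hmem : ∀ r, S.pos r → ¬ S.pos (π r) → r ≠ S.a i →
        S.pos (S.σ i r) ∧ ¬ S.pos (π₁ (S.σ i r)) := fun r h1 h2 h3 =>
      ⟨hS.sigma_pos i r h1 h3, by rwa [hπ₁, Equiv.Perm.mul_apply, hS.sigma_sigma]⟩
    obtain ⟨k, hk⟩ := hs (S.n i)
    set M' := (invLift S σ π₁).map (MulAut.conj k).toMonoidHom with hM'
    have hM'r : ∀ r, S.pos r → ¬ S.pos (π r) → r ≠ S.a i → rootLift S σ r ≤ M' := by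
      intro r h1 h2 h3
      have e := n_conj_rootLift hP i (S.σ i r) hk
      rw [hS.sigma_sigma] at e
      rw [← e]
      exact map_mono (le_iSup₂ (f := fun r (_ : S.pos r ∧ ¬ S.pos (π₁ r)) => rootLift S σ r)
        (S.σ i r) (hmem r h1 h2 h3))
    have hM'le : M' ≤ ⨆ (r : R) (_ : S.pos r ∧ ¬ S.pos (π r) ∧ r ≠ S.a i), rootLift S σ r := by
      rw [hM', invLift, Subgroup.map_iSup]
      refine iSup_le fun r => ?_
      rw [Subgroup.map_iSup]
      refine iSup_le fun hr => ?_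
      rw [n_conj_rootLift hP i r hk]
      have hne : r ≠ S.a i := fun e => hr.2 (e ▸ hpa)
      refine le_iSup₂ (f := fun r (_ : S.pos r ∧ ¬ S.pos (π r) ∧ r ≠ S.a i) => rootLift S σ r)
        (S.σ i r) ⟨hS.sigma_pos i r hr.1 hne, ?_, sigma_ne_a hS hr.1 hne⟩
      have := hr.2
      rwa [hπ₁, Equiv.Perm.mul_apply] at this
    have hM'H : ∀ t : Γ, σ t ∈ S.H → ∀ m ∈ M', t * m * t⁻¹ ∈ M' := by
      intro t ht m hm
      have hm' := hM'le hm
      have h2 : (⨆ (r : R) (_ : S.pos r ∧ ¬ S.pos (π r) ∧ r ≠ S.a i), rootLift S σ r).map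
          (MulAut.conj t).toMonoidHom ≤ M' := by
        rw [Subgroup.map_iSup]
        refine iSup_le fun r => ?_
        rw [Subgroup.map_iSup]
        refine iSup_le fun hr => ?_
        rw [H_conj_rootLift hP r ht]
        exact hM'r r hr.1 hr.2.1 hr.2.2
      exact h2 ⟨m, hm', rfl⟩
    -- lifts of elements of `U a` normalise `M'`
    have hnorm : ∀ x : Γ, σ x ∈ S.U (S.a i) → ∀ m ∈ M', x * m * x⁻¹ ∈ M' := by
      intro x hx m hm
      have hm' := hM'le hm
      suffices h2 : (⨆ (r : R) (_ : S.pos r ∧ ¬ S.pos (π r) ∧ r ≠ S.a i), rootLift S σ r).map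
          (MulAut.conj x).toMonoidHom ≤ M' from h2 ⟨m, hm', rfl⟩
      rw [Subgroup.map_iSup]
      refine iSup_le fun r => ?_
      rw [Subgroup.map_iSup]
      refine iSup_le fun hr => ?_
      rintro _ ⟨y, hy, rfl⟩
      show x * y * x⁻¹ ∈ M'
      rcases hP.pair i r hr.1 hr.2.2 with ⟨h', hh, hfix, hf⟩ | hcm
      swap
      · rw [(hcm x y hx (rootLift_le hP hs hc hy)).eq, mul_inv_cancel_right]
        exact hM'r r hr.1 hr.2.1 hr.2.2 hy
      obtain ⟨h, rfl⟩ := hs h'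
      obtain ⟨a, ha, rfl⟩ := (rootLift_spec hP hs hc hr.1 hh hf).1 hy
      -- `x a x⁻¹` lies in the image of `M'`
      have haU : σ a ∈ S.Uinv π := subset_closure ⟨r, hr.1, hr.2.1, ha⟩
      have hxU : σ x ∈ S.Uinv π := subset_closure ⟨S.a i, hS.pos_a i, hi, hx⟩
      obtain ⟨v, hv, x', hx', he⟩ := H52.Uinv_split hS hP.sep hπ hi
        (mul_mem (mul_mem hxU haU) (inv_mem hxU))
      have hvhat : S.n i * v * (S.n i)⁻¹ ∈ S.Uhat i := by
        refine n_conj_Uhat hS i ((closure_le _).2 ?_ hv)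
        rintro g ⟨s, hs1, hs2, hg⟩
        exact U_le_Uhat hs1 (fun e => hs2 (e ▸ hpa)) hg
      have hx'1 : x' = 1 := by
        refine H52.Ua_inf_Uhat hS hP.sep i hx' ?_
        have h3 := Ua_conj_Uhat hS i hx (U_le_Uhat hr.1 hr.2.2 ha)
        have : x' = (S.n i * v * (S.n i)⁻¹)⁻¹ * (σ x * σ a * (σ x)⁻¹) := by rw [he]; group
        rw [this]
        exact mul_mem (inv_mem hvhat) h3
      rw [hx'1, mul_one] at he
      rw [← map_invLift hP hs hc π₁] at hv
      obtain ⟨m₁, hm₁, rfl⟩ := hv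
      rw [conjugate_commutatorElement, comm_congr' hc (x' := h) (y' := k * m₁ * k⁻¹) (by
          rw [map_mul, map_mul, map_inv, mul_inv_eq_iff_eq_mul]
          exact (mul_inv_eq_iff_eq_mul.1 (hfix _ hx)).symm)
        (by rw [map_mul, map_mul, map_inv, map_mul, map_mul, map_inv, hk, he]),
        commutatorElement_def]
      exact mul_mem (hM'H h hh _ ⟨m₁, hm₁, rfl⟩) (inv_mem ⟨m₁, hm₁, rfl⟩)
    have hLn : rootLift S σ (S.a i) ≤ normalizer (M' : Set Γ) := by
      intro x hx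
      rw [mem_normalizer_iff]
      have hx' : σ x ∈ S.U (S.a i) := rootLift_le hP hs hc hx
      refine fun m => ⟨hnorm x hx' m, fun h => ?_⟩
      have := hnorm x⁻¹ (by rw [map_inv]; exact inv_mem hx') _ h
      rwa [show x⁻¹ * (x * m * x⁻¹) * x⁻¹⁻¹ = m by group] at this
    have hle : invLift S σ π ≤ M' ⊔ rootLift S σ (S.a i) := iSup₂_le fun r hr => by
      by_cases h3 : r = S.a i
      · exact h3 ▸ le_sup_right
      · exact (hM'r r hr.1 hr.2 h3).trans le_sup_left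
    have hg' : g ∈ ((M' ⊔ rootLift S σ (S.a i) : Subgroup Γ) : Set Γ) := hle hg
    rw [coe_mul_of_right_le_normalizer_left _ _ hLn] at hg'
    obtain ⟨m, ⟨m₁, hm₁, rfl⟩, l, hl, rfl⟩ := hg'
    simp only [MulEquiv.coe_toMonoidHom, MulAut.conj_apply, map_mul, map_inv, hk] at hg1
    have hl1 : σ l = 1 := by
      refine H52.Ua_inf_Uhat hS hP.sep i (rootLift_le hP hs hc hl) ?_
      rw [eq_inv_of_mul_eq_one_right hg1]
      refine inv_mem (n_conj_Uhat hS i ?_)
      have : σ m₁ ∈ S.Uinv π₁ := by rw [← map_invLift hP hs hc π₁]; exact ⟨m₁, hm₁, rfl⟩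
      refine (closure_le _).2 ?_ this
      rintro g ⟨s, hs1, hs2, hg⟩
      exact U_le_Uhat hs1 (fun e => hs2 (e ▸ hpa)) hg
    have hm1 : σ m₁ = 1 := by
      rw [hl1, mul_one] at hg1
      exact conj_eq_one_iff.1 hg1
    show MulAut.conj k m₁ * l = 1
    rw [ih _ _ hacts₁ hn₁ _ hm₁ hm1, rootLift_inj hP hs hc (hS.pos_a i) hl hl1, map_one, one_mul]

/-- In a stem extension the kernel has order prime to `p`. -/
theorem not_dvd_ker [Finite Γ] [Finite R] {p : ℕ} [Fact p.Prime] (hidx : ¬ p ∣ S.Uplus.index)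
    {π₀ : Equiv.Perm R} (hπ₀ : π₀ ∈ S.W) (hneg : ∀ r, S.pos r → ¬ S.pos (π₀ r))
    (hd : σ.ker ≤ commutator Γ) : ¬ p ∣ Nat.card σ.ker := by
  intro hdvd
  obtain ⟨⟨z, hz⟩, hord⟩ := exists_prime_orderOf_dvd_card' p hdvd
  rw [Subgroup.orderOf_mk] at hord
  obtain ⟨⟨w, hw⟩, hwe⟩ := weylHom_surjective hP.ax hP.sep ⟨π₀, hπ₀⟩
  have hact : S.Acts w π₀ := by
    have := permOf_acts hP.ax hP.sep ⟨w, hw⟩
    rwa [show permOf hP.ax ⟨w, hw⟩ = π₀ from congrArg Subtype.val hwe] at this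
  have hU : S.Uinv π₀ = S.Uplus := by
    refine congrArg Subgroup.closure (Set.ext fun g => ?_)
    exact ⟨fun ⟨r, h1, _, h3⟩ => ⟨r, h1, h3⟩, fun ⟨r, h1, h3⟩ => ⟨r, h1, hneg r h1, h3⟩⟩
  have hzc := CExt.mem_commutator_comap σ hs hc hidx (hd hz) hz (hord ▸ pow_orderOf_eq_one z)
  have hle : ⁅S.Uplus.comap σ, S.Uplus.comap σ⁆ ≤ invLift S σ π₀ := by
    refine commutator_le.2 fun a ha b hb => ?_
    rw [← hU, ← map_invLift hP hs hc π₀] at ha hb
    obtain ⟨a', ha', ea⟩ := ha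
    obtain ⟨b', hb', eb⟩ := hb
    rw [comm_congr' hc ea.symm eb.symm, commutatorElement_def]
    exact mul_mem (mul_mem (mul_mem ha' hb') (inv_mem ha')) (inv_mem hb')
  have hz1 := invLift_inj hP hs hc _ w π₀ hact rfl z (hle hzc) hz
  rw [hz1, orderOf_one] at hord
  exact (Fact.out : p.Prime).one_lt.ne hord

omit hP

omit [Finite G] in
/-- Lifts of `A` and `B` commute if the torus separates them. -/
theorem liftsCommute_of_weight [Finite G] {A B : Subgroup G} (hAB : ∀ x ∈ A, ∀ y ∈ B, Commute x y)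
    (hA : ∀ x ∈ A, ∀ x' ∈ A, Commute x x') {h : G} (hn : ∀ x ∈ A, h * x * h⁻¹ ∈ A)
    (hf : ∀ x ∈ A, h * x * h⁻¹ = x → x = 1) (hfix : ∀ y ∈ B, h * y * h⁻¹ = y) :
    LiftsCommute σ A B := by
  intro a b ha hb
  have hcen : ∀ {u v : Γ}, Commute (σ u) (σ v) → ⁅u, v⁆ ∈ center Γ := fun {u v} huv => hc (by
    rw [MonoidHom.mem_ker, map_commutatorElement, commutatorElement_eq_one_iff_commute]; exact huv)
  obtain ⟨y, hy, e⟩ := exists_comm_eq hA hn hf ha
  obtain ⟨c, rfl⟩ := hs y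
  obtain ⟨k, rfl⟩ := hs h
  rw [← commutatorElement_eq_one_iff_commute,
    comm_congr' hc (x := a) (x' := k * c * k⁻¹ * c⁻¹) (y := b) (y' := b) ?_ rfl]
  · have h1 : ⁅k * c * k⁻¹, b⁆ = ⁅c, b⁆ := by
      rw [comm_congr' hc (x' := k * c * k⁻¹) (y' := k * b * k⁻¹) rfl (by
        rw [map_mul, map_mul, map_inv, hfix _ hb]), ← conjugate_commutatorElement,
        mem_center_iff.1 (hcen (hAB _ hy _ hb)) k, mul_inv_cancel_right]
    have h2 : ⁅c⁻¹, b⁆ ∈ center Γ := hcen (by rw [map_inv]; exact hAB _ (inv_mem hy) _ hb)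
    have h3 : ⁅c, b⁆ * ⁅c⁻¹, b⁆ = 1 := by
      have := commutatorElement_mul_left_eq_conj_mul c c⁻¹ b
      rw [mul_inv_cancel, commutatorElement_one_left, mem_center_iff.1 h2 c,
        mul_inv_cancel_right, ← mem_center_iff.1 h2 ⁅c, b⁆] at this
      exact this.symm
    rw [commutatorElement_mul_left_eq_conj_mul, mem_center_iff.1 h2 (k * c * k⁻¹),
      mul_inv_cancel_right, h1, ← mem_center_iff.1 h2 ⁅c, b⁆, h3]
  · rw [← e, map_mul, map_mul, map_mul, map_inv, map_inv, commutatorElement_def]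

/-- Lifts of an abelian subgroup commute if the torus scales it by `c` and `c + 1`. -/
theorem liftsCommute_self_of_elt {A : Subgroup G} (hA : ∀ x ∈ A, ∀ x' ∈ A, Commute x x')
    {h h' : G} (hn : ∀ x ∈ A, h * x * h⁻¹ ∈ A) (hn' : ∀ x ∈ A, h⁻¹ * x * h ∈ A)
    (hh' : ∀ x ∈ A, h' * x * h'⁻¹ = x * (h * x * h⁻¹))
    (hf : ∀ x ∈ A, h⁻¹ * x * h * (x * (h * x * h⁻¹)) = 1 → x = 1) :
    LiftsCommute σ A A := by
  classical
  choose lf hlf using fun x : A => hs (x : G)
  let B : A → A → Γ := fun t u => ⁅lf t, lf u⁆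
  have hB : ∀ t u, B t u ∈ center Γ := fun t u => hc (by
    rw [MonoidHom.mem_ker, map_commutatorElement, hlf, hlf, commutatorElement_eq_one_iff_commute]
    exact hA _ t.2 _ u.2)
  have hBe : ∀ (t u : A) (a b : Γ), σ a = t → σ b = u → ⁅a, b⁆ = B t u := fun t u a b ha hb =>
    comm_congr' hc (by rw [ha, hlf]) (by rw [hb, hlf])
  have hl : ∀ t t' u, B (t * t') u = B t u * B t' u := by
    intro t t' u
    rw [← hBe (t * t') u (lf t * lf t') (lf u) (by rw [map_mul, hlf, hlf]; rfl) (hlf u),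
      commutatorElement_mul_left_eq_conj_mul]
    show lf t * B t' u * (lf t)⁻¹ * B t u = _
    rw [mem_center_iff.1 (hB t' u) (lf t), mul_inv_cancel_right,
      mem_center_iff.1 (hB t' u) (B t u)]
  have hr : ∀ t u u', B t (u * u') = B t u * B t u' := by
    intro t u u'
    rw [← hBe t (u * u') (lf t) (lf u * lf u') (hlf t) (by rw [map_mul, hlf, hlf]; rfl),
      commutatorElement_mul_right_eq_mul_conj, mul_assoc ⁅lf t, lf u⁆,
      mem_center_iff.1 (hB t u') (lf u), ← mul_assoc, mul_inv_cancel_right]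
  have hinv : ∀ (k : G) (hk : ∀ x ∈ A, k * x * k⁻¹ ∈ A) (t u : A),
      B ⟨k * t * k⁻¹, hk _ t.2⟩ ⟨k * u * k⁻¹, hk _ u.2⟩ = B t u := by
    intro k hk t u
    obtain ⟨g, rfl⟩ := hs k
    rw [← hBe ⟨_, hk _ t.2⟩ ⟨_, hk _ u.2⟩ (g * lf t * g⁻¹) (g * lf u * g⁻¹)
      (by rw [map_mul, map_mul, map_inv, hlf]) (by rw [map_mul, map_mul, map_inv, hlf]),
      ← conjugate_commutatorElement]
    show g * B t u * g⁻¹ = B t u
    rw [mem_center_iff.1 (hB t u) g, mul_inv_cancel_right]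
  intro a b ha hb
  rw [← commutatorElement_eq_one_iff_commute, hBe ⟨_, ha⟩ ⟨_, hb⟩ a b rfl rfl]
  -- every element is `(h⁻¹ u h) u (h u h⁻¹)`
  let T : A → A := fun u =>
    ⟨h⁻¹ * u * h * (u * (h * u * h⁻¹)), mul_mem (hn' _ u.2) (mul_mem u.2 (hn _ u.2))⟩
  let fm : A →* A :=
    { toFun := T
      map_one' := Subtype.ext (by simp [T])
      map_mul' := fun u v => Subtype.ext (by
        have e1 : h⁻¹ * ((u : G) * v) * h = h⁻¹ * u * h * (h⁻¹ * v * h) := by group
        have e2 : h * ((u : G) * v) * h⁻¹ = h * u * h⁻¹ * (h * v * h⁻¹) := by group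
        have c1 : Commute (h⁻¹ * v * h) ((u : G) * (h * u * h⁻¹)) :=
          hA _ (hn' _ v.2) _ (mul_mem u.2 (hn _ u.2))
        have c2 : Commute (v : G) (h * u * h⁻¹) := hA _ v.2 _ (hn _ u.2)
        show h⁻¹ * ((u : G) * v) * h * ((u : G) * v * (h * ((u : G) * v) * h⁻¹)) =
          h⁻¹ * u * h * (u * (h * u * h⁻¹)) * (h⁻¹ * v * h * (v * (h * v * h⁻¹)))
        rw [e1, e2]
        calc h⁻¹ * u * h * (h⁻¹ * v * h) * (u * v * (h * u * h⁻¹ * (h * v * h⁻¹)))
            = h⁻¹ * u * h * (h⁻¹ * v * h) * (u * ((v : G) * (h * u * h⁻¹)) * (h * v * h⁻¹)) := by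
              group
          _ = h⁻¹ * u * h * (h⁻¹ * v * h * (u * (h * u * h⁻¹))) * (v * (h * v * h⁻¹)) := by
              rw [c2.eq]; group
          _ = _ := by rw [c1.eq]; group) }
  have hinj : Function.Injective fm := (injective_iff_map_eq_one fm).2 fun u hu =>
    Subtype.ext (hf _ u.2 (congrArg Subtype.val hu))
  obtain ⟨u, hu⟩ := (Finite.injective_iff_surjective.1 hinj) ⟨σ b, hb⟩
  rw [← hu]
  set t : A := ⟨σ a, ha⟩
  have hn'' : ∀ x ∈ A, h' * x * h'⁻¹ ∈ A := fun x hx => hh' x hx ▸ mul_mem hx (hn x hx)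
  set ht : A := ⟨h * t * h⁻¹, hn _ t.2⟩ with hht
  set hu' : A := ⟨h * u * h⁻¹, hn _ u.2⟩ with hhu
  set gu : A := ⟨h⁻¹ * u * h, hn' _ u.2⟩ with hgu
  have e1 : B (t * ht) (u * hu') = B t u := by
    refine Eq.trans ?_ (hinv h' hn'' t u)
    congr 1 <;> exact Subtype.ext (hh' _ (Subtype.mem _)).symm
  have e2 : B t gu = B ht u := by
    rw [← hinv h hn t gu]
    congr 1
    exact Subtype.ext (by simp [hgu, mul_assoc])
  rw [hl, hr, hr, show B ht hu' = B t u from hinv h hn t u] at e1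
  show B t (gu * (u * hu')) = 1
  rw [hr, hr, e2]
  have e3 : B t u * B t hu' * B ht u = 1 :=
    mul_right_cancel (b := B t u) (by rw [one_mul, mul_assoc]; exact e1)
  exact mul_eq_one_comm.1 e3

end H50.Tw
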