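import Cfsg.Agent.H50.TwLift
import Cfsg.Agent.H50.SCBase
import Cfsg.Agent.H52.TwistField
import Cfsg.Agent.H52.RankOne
import Cfsg.Agent.H54.ChevSylow

/-!
The rank one subgroups of the twisted groups as images of `SL₂`, and the part of the kernel of a
stem extension of order prime to the characteristic.
-/

set_option autoImplicit false
set_option linter.unusedSectionVars false

namespace H50.Tw

open Cfsg.Lie H53 H52
open H50.CExt
open scoped MatrixGroups

section Generic

variable {G : Type*} [Group G] {ι R : Type*} {S : RootGroupSys G ι R}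

/-- `U` is a Sylow `p`-subgroup. -/
theorem not_dvd_index_Uplus [Finite G] [Finite R] (hS : S.Axioms) (hsep : RootGroupSys.Sep S)
    (hab : ∀ x ∈ S.H, ∀ y ∈ S.H, Commute x y) {p : ℕ} [Fact p.Prime] (hU : IsPGroup p S.Uplus)
    (hH : ¬ p ∣ Nat.card S.H) : ¬ p ∣ S.Uplus.index := by
  obtain ⟨P, hP⟩ := hU.exists_le_sylow
  suffices h : S.Uplus = (P : Subgroup G) by rw [h]; exact P.not_dvd_index
  by_contra hne
  have hlt : S.Uplus < (P : Subgroup G) := lt_of_le_of_ne hP hne
  haveI : Group.IsNilpotent P := P.isPGroup'.isNilpotent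
  -- normalisers grow in `P`
  have hlt' : S.Uplus.subgroupOf (P : Subgroup G) < ⊤ := by
    rw [lt_top_iff_ne_top]
    intro h
    exact not_le_of_gt hlt (Subgroup.subgroupOf_eq_top.1 h)
  obtain ⟨g, hgn, hgU⟩ := SetLike.exists_of_lt
    (normalizerCondition_of_isNilpotent (G := (P : Subgroup G)) _ hlt')
  have hgU' : (g : G) ∉ S.Uplus := fun h => hgU (Subgroup.mem_subgroupOf.2 h)
  have hn : ∀ u ∈ S.Uplus, (g : G) * u * (g : G)⁻¹ ∈ S.Uplus := fun u hu => by
    have := (Subgroup.mem_normalizer_iff.1 hgn ⟨u, hP hu⟩).1 (Subgroup.mem_subgroupOf.2 hu)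
    exact Subgroup.mem_subgroupOf.1 this
  obtain ⟨b, hb, w, hw, π, hπ, v, hv, hg⟩ := RootGroupSys.exists_normal_form hS (g : G)
  have hπ1 : π = 1 := by
    refine hsep.fix π hπ.1 fun r hr => ?_
    by_contra hneg
    obtain ⟨x, hx, hx1⟩ := (S.U r).bot_or_exists_ne_one.resolve_left (hsep.U_ne r)
    obtain ⟨u, hu, h, hh, hbe⟩ := RootGroupSys.mem_B hS hb
    have hvU := RootGroupSys.Uinv_le_Uplus π hv
    have h1 := hn (v⁻¹ * x * v)
      (mul_mem (mul_mem (inv_mem hvU) (RootGroupSys.U_le_Uplus hr hx)) hvU)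
    rw [hg, hbe, show u * h * w * v * (v⁻¹ * x * v) * (u * h * w * v)⁻¹ =
      u * (h * (w * x * w⁻¹) * h⁻¹) * u⁻¹ by group] at h1
    have h2 : h * (w * x * w⁻¹) * h⁻¹ ∈ S.Uplus := by
      have := mul_mem (mul_mem (inv_mem hu) h1) hu
      simpa [mul_assoc] using this
    have h3 : w * x * w⁻¹ ∈ S.Uplus := by
      have := RootGroupSys.H_conj_Uplus hS (inv_mem hh) h2
      simpa [mul_assoc] using this
    have h4 : w * x * w⁻¹ ∈ S.B ⊓ S.Uminus := Subgroup.mem_inf.2
      ⟨RootGroupSys.Uplus_le_B h3,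
        Subgroup.subset_closure ⟨π r, hneg, RootGroupSys.acts_conj_mem hπ hx⟩⟩
    rw [hsep.B_V, Subgroup.mem_bot, conj_eq_one_iff] at h4
    exact hx1 h4
  subst hπ1
  have hgB : (g : G) ∈ S.B := hg ▸ mul_mem (mul_mem hb
    (RootGroupSys.H_le_B (RootGroupSys.mem_H_of_acts_one hS hsep hw hπ)))
    (RootGroupSys.Uplus_le_B (RootGroupSys.Uinv_le_Uplus _ hv))
  -- the torus has order prime to `p`
  obtain ⟨u, hu, h, hh, hgu⟩ := RootGroupSys.mem_B hS hgB
  have hhP : h ∈ (P : Subgroup G) := by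
    have := mul_mem (inv_mem (hP hu)) g.2
    rwa [hgu, inv_mul_cancel_left] at this
  obtain ⟨k, hk⟩ := P.isPGroup' ⟨h, hhP⟩
  have h1 : orderOf h ∣ p ^ k := orderOf_dvd_of_pow_eq_one (congrArg Subtype.val hk)
  have h2 : orderOf h ∣ Nat.card S.H := by
    rw [← Subgroup.orderOf_mk h hh]; exact orderOf_dvd_natCard _
  have h3 : orderOf h = 1 := Nat.eq_one_of_dvd_coprimes
    (Nat.Coprime.pow_left k ((Nat.Prime.coprime_iff_not_dvd Fact.out).2 hH)) h1 h2
  rw [orderOf_eq_one_iff.1 h3, mul_one] at hgu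
  exact hgU' (hgu ▸ hu)

end Generic

section SL

variable {F : Type*} [Field F]

/-- An upper unitriangular element. -/
def sU (t : F) : SL(2, F) := ⟨!![1, t; 0, 1], by simp [Matrix.det_fin_two]⟩

/-- A lower unitriangular element. -/
def sL (t : F) : SL(2, F) := ⟨!![1, 0; t, 1], by simp [Matrix.det_fin_two]⟩

/-- Upper triangular elements. -/
theorem sl2_upper_eq (g : SL(2, F)) (hc : g.1 1 0 = 0) (ha : g.1 0 0 ≠ 0) :
    g = sU (g.1 0 0) * sL (-(g.1 0 0)⁻¹) * sU (g.1 0 0) *
        (sU (-1) * sL (-(-1)⁻¹) * sU (-1)) * sU (g.1 0 1 / g.1 0 0) := by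
  have hdet := g.2
  rw [Matrix.det_fin_two, hc, mul_zero, sub_zero] at hdet
  have hd : g.1 1 1 = (g.1 0 0)⁻¹ := eq_inv_of_mul_eq_one_right hdet
  apply Subtype.ext
  simp only [Matrix.SpecialLinearGroup.coe_mul]
  ext i j
  fin_cases i <;> fin_cases j <;> simp [sU, sL, Matrix.mul_apply, Fin.sum_univ_two, hc, hd] <;>
    field_simp <;> first | (ring1) | simp

/-- Elements outside the triangle. -/
theorem sl2_big_eq (g : SL(2, F)) (hc : g.1 1 0 ≠ 0) :
    g = sU (g.1 0 0 / g.1 1 0) *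
        (sU (-(g.1 1 0)⁻¹) * sL (-(-(g.1 1 0)⁻¹)⁻¹) * sU (-(g.1 1 0)⁻¹)) *
        sU (g.1 1 1 / g.1 1 0) := by
  have hdet := g.2
  rw [Matrix.det_fin_two] at hdet
  have hb : g.1 0 1 = (g.1 0 0 * g.1 1 1 - 1) / g.1 1 0 := by
    field_simp; linear_combination -hdet
  apply Subtype.ext
  simp only [Matrix.SpecialLinearGroup.coe_mul]
  ext i j
  fin_cases i <;> fin_cases j <;> simp [sU, sL, Matrix.mul_apply, Fin.sum_univ_two, hb] <;>
    field_simp <;> ring

end SL

section Bridge

variable {D D' : ChevalleyDatum} {Fl : Fold D D'} {T : Tables} {K : Type*} [Field K]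

/-- The decidable conditions on the orbit of a fundamental class. -/
structure OrbOK (Fl : Fold D D') (J : Fin D'.rank) (j₀ : Fin D.rank) : Prop where
  mem : j₀ ∈ Fl.orb J
  idx : ∀ j ∈ Fl.orb J, Fl.τi^[(Fl.orb J).idxOf j] j₀ = j
  step : ∀ j ∈ Fl.orb J,
    (Fl.orb J).idxOf (Fl.τi j) = ((Fl.orb J).idxOf j + 1) % (Fl.orb J).length
  nbr : (∀ j ∈ Fl.orb J, ∃ k : Fin D.rank, D.cartan j.val (D.simple k.val) = -1 ∧
      ∀ j' ∈ Fl.orb J, j' ≠ j → D.cartan j'.val (D.simple k.val) = 0) ∨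
    ((Fl.orb J).length % 2 = 1 ∧
      (∀ j' ∈ Fl.orb J, D.cartan j'.val (D.simple j₀.val) = if j' = j₀ then 2 else 0) ∧
      ∃ k : Fin D.rank, ∀ j' ∈ Fl.orb J, D.cartan j'.val (D.simple k.val) = -1)

variable (X : Twist Fl T K) (J : Fin D'.rank)

/-- The field of the parameters of a fundamental class. -/
noncomputable def orbField : Subfield K :=
  RingHom.eqLocusField ((X.f ^ (Fl.orb J).length : K ≃+* K) : K →+* K) (RingHom.id K)

variable {X J}

theorem mem_orbField {a : K} : a ∈ orbField X J ↔ (X.f ^ (Fl.orb J).length : K ≃+* K) a = a :=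
  Iff.rfl

theorem aut_pow_eq_iterate (f : K ≃+* K) (n : ℕ) (x : K) : (f ^ n : K ≃+* K) x = f^[n] x := by
  induction n generalizing x with
  | zero => rfl
  | succ n ih =>
    rw [pow_succ', Function.iterate_succ_apply', ← ih]
    rfl

variable (X J) in
/-- The parameters of an element of the field. -/
noncomputable def orbPar (a : ↥(orbField X J)) (j : Fin D.rank) : K :=
  (X.f ^ (Fl.orb J).idxOf j : K ≃+* K) (a : K)

theorem orbPar_equi {j₀ : Fin D.rank} (h : OrbOK Fl J j₀) (a : ↥(orbField X J)) :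
    X.Equi J (orbPar X J a) := by
  intro j hj
  simp only [orbPar, aut_pow_eq_iterate, h.step j hj]
  rw [← Function.iterate_succ_apply' (f := X.f)]
  set m := (Fl.orb J).idxOf j with hm
  set L := (Fl.orb J).length
  have hlt : m < L := List.idxOf_lt_length_iff.2 hj
  by_cases hmL : m + 1 = L
  · rw [Nat.succ_eq_add_one, hmL, Nat.mod_self, Function.iterate_zero_apply]
    have := a.2
    rw [mem_orbField, aut_pow_eq_iterate] at this
    exact this.symm
  · rw [Nat.mod_eq_of_lt (by omega)]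

variable (X J) in
/-- The root elements of a fundamental class as functions on the field. -/
noncomputable def xPos (a : ↥(orbField X J)) : GL D.Idx K := Twist.xp Fl Fl.sp J (orbPar X J a)

variable (X J) in
/-- The same for the opposite class. -/
noncomputable def xNeg (a : ↥(orbField X J)) : GL D.Idx K := Twist.xp Fl Fl.sn J (orbPar X J a)

theorem orbPar_neg (a : ↥(orbField X J)) (j : Fin D.rank) :
    orbPar X J (-a) j = -orbPar X J a j := map_neg (X.f ^ (Fl.orb J).idxOf j : K ≃+* K) (a : K)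

theorem orbPar_inv (a : ↥(orbField X J)) (j : Fin D.rank) :
    orbPar X J a⁻¹ j = (orbPar X J a j)⁻¹ := map_inv₀ (X.f ^ (Fl.orb J).idxOf j : K ≃+* K) (a : K)

theorem orbPar_one (j : Fin D.rank) : orbPar X J 1 j = 1 :=
  map_one (X.f ^ (Fl.orb J).idxOf j : K ≃+* K)

theorem orbPar_zero (j : Fin D.rank) : orbPar X J 0 j = 0 :=
  map_zero (X.f ^ (Fl.orb J).idxOf j : K ≃+* K)

theorem orbPar_mul (a b : ↥(orbField X J)) (j : Fin D.rank) :
    orbPar X J (a * b) j = orbPar X J a j * orbPar X J b j :=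
  map_mul (X.f ^ (Fl.orb J).idxOf j : K ≃+* K) (a : K) (b : K)

theorem orbPar_ne {a : ↥(orbField X J)} (ha : a ≠ 0) (j : Fin D.rank) : orbPar X J a j ≠ 0 :=
  fun e => ha (Subtype.ext ((map_eq_zero (X.f ^ (Fl.orb J).idxOf j : K ≃+* K)).1 e))

theorem xp_par_neg_inv (a : Fin D.rank → Fin D.nroots) (c : ↥(orbField X J)) :
    Twist.xp Fl a J (orbPar X J (-c⁻¹)) = Twist.xp Fl a J fun j => -(orbPar X J c j)⁻¹ :=
  congrArg (Twist.xp Fl a J) (funext fun j => by rw [orbPar_neg, orbPar_inv])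

theorem orbPar_add (a b : ↥(orbField X J)) :
    orbPar X J (a + b) = orbPar X J a + orbPar X J b := by
  funext j
  simp [orbPar]

variable (X J) in
theorem rel_GL : RankOneRel (xPos X J) (xNeg X J) where
  x_add a b := by rw [xPos, xPos, xPos, X.xp_mul _ Twist.rt_mem_pairGrp_p, orbPar_add]
  y_add a b := by rw [xNeg, xNeg, xNeg, X.xp_mul _ Twist.rt_mem_pairGrp_n, orbPar_add]
  conj t u ht := by
    have hne : ∀ j, orbPar X J t j ≠ 0 := orbPar_ne ht
    have hn : xPos X J t * xNeg X J (-t⁻¹) * xPos X J t = Twist.nJ Fl J (orbPar X J t) := by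
      rw [X.nJ_eq, xPos, xNeg, xp_par_neg_inv]
    rw [hn, xPos, xNeg, Twist.nJ, Twist.xp, Twist.xp]
    have hnd := X.fval.orb_nodup J
    rw [← list_prod_map_inv hnd fun i hi j hj hne' =>
        X.pairGrp_commute hi hj hne' (X.nElt_mem_pairGrp i _) (X.nElt_mem_pairGrp j _),
      ← list_prod_map_mul hnd fun i hi j hj hne' =>
        X.pairGrp_commute hi hj hne' (X.nElt_mem_pairGrp i _) (Twist.rt_mem_pairGrp_p j _),
      ← list_prod_map_mul hnd fun i hi j hj hne' =>
        X.pairGrp_commute hi hj hne' (mul_mem (X.nElt_mem_pairGrp i _) (Twist.rt_mem_pairGrp_p i _))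
          (inv_mem (X.nElt_mem_pairGrp j _))]
    refine congrArg List.prod (List.map_congr_left fun j _ => ?_)
    rw [X.chk.nElt_conj_rt_self (Fl.sp j).isLt (hne j), X.sn_val]
    congr 1
    rw [show -u / t ^ 2 = -(u * (t * t)⁻¹) by rw [neg_div, sq, div_eq_mul_inv], orbPar_neg,
      orbPar_mul, orbPar_inv, orbPar_mul, neg_div, sq, div_eq_mul_inv]
  torus a b ha hb := by
    have hn : ∀ c, xPos X J c * xNeg X J (-c⁻¹) * xPos X J c = Twist.nJ Fl J (orbPar X J c) := by
      intro c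
      rw [X.nJ_eq, xPos, xNeg, xp_par_neg_inv]
    have hm : xPos X J (-1) * xNeg X J 1 * xPos X J (-1) = Twist.nJ Fl J (fun _ => (-1 : K)) := by
      have := hn (-1)
      rw [inv_neg, inv_one, neg_neg] at this
      rw [this]
      refine congrArg List.prod (List.map_congr_left fun j _ => ?_)
      rw [orbPar_neg, orbPar_one]
    rw [hn, hn, hn, hm, ← X.hProd_eq, ← X.hProd_eq, ← X.hProd_eq]
    have hne : ∀ (c : ↥(orbField X J)), c ≠ 0 → ∀ j, orbPar X J c j ≠ 0 := fun c hc => orbPar_ne hc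
    set ua : Fin D.rank → Kˣ := fun j => Units.mk0 _ (hne a ha j)
    set ub : Fin D.rank → Kˣ := fun j => Units.mk0 _ (hne b hb j)
    have e1 := X.torus_restr J ua
    have e2 := X.torus_restr J ub
    have e3 := X.torus_restr J (ua * ub)
    simp only [ua, ub, Units.val_mk0, Pi.mul_apply, Units.val_mul] at e1 e2 e3
    simp only [orbPar_mul]
    rw [← e1, ← e2, ← e3, ← map_mul]
    congr 1
    funext i
    simp only [Twist.restr, Pi.mul_apply]
    split <;> simp [ua, ub]

variable {j₀ : Fin D.rank}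

/-- The root elements in the twisted group. -/
noncomputable def xPosG (h : OrbOK Fl J j₀) (a : ↥(orbField X J)) : ↥X.grp :=
  ⟨xPos X J a, X.E_le_grp_p J (X.xp_p_mem (orbPar_equi h a))⟩

/-- The opposite root elements in the twisted group. -/
noncomputable def xNegG (h : OrbOK Fl J j₀) (a : ↥(orbField X J)) : ↥X.grp :=
  ⟨xNeg X J a, X.E_le_grp_n J (X.xp_n_mem (orbPar_equi h a))⟩

theorem rel_grp (h : OrbOK Fl J j₀) : RankOneRel (xPosG (X := X) h) (xNegG h) where
  x_add a b := Subtype.ext ((rel_GL X J).x_add a b)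
  y_add a b := Subtype.ext ((rel_GL X J).y_add a b)
  conj t u ht := Subtype.ext ((rel_GL X J).conj t u ht)
  torus a b ha hb := Subtype.ext ((rel_GL X J).torus a b ha hb)

theorem exists_par (h : OrbOK Fl J j₀) {t : Fin D.rank → K} (ht : X.Equi J t) :
    ∃ a : ↥(orbField X J), ∀ j ∈ Fl.orb J, t j = orbPar X J a j := by
  refine ⟨⟨t j₀, ?_⟩, fun j hj => ?_⟩
  · rw [mem_orbField, aut_pow_eq_iterate]
    have h0 := h.step j₀ h.mem
    set L := (Fl.orb J).length
    -- the last element of the orbit is sent back to the first one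
    have hL : 0 < L := List.length_pos_of_mem h.mem
    have hlast : L - 1 < L := by omega
    set jl := (Fl.orb J)[L - 1]
    have hjl : jl ∈ Fl.orb J := List.getElem_mem _
    have hidx : (Fl.orb J).idxOf jl = L - 1 := (X.fval.orb_nodup J).idxOf_getElem (L - 1) hlast
    have h1 := h.idx jl hjl
    rw [hidx] at h1
    have h2 := h.step jl hjl
    rw [hidx, Nat.sub_add_cancel hL, Nat.mod_self] at h2
    have h3 := h.idx (Fl.τi jl) (X.fval.orb_stable J jl hjl)
    rw [h2, Function.iterate_zero_apply] at h3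
    have h4 : (Fl.τi^[L]) j₀ = j₀ := by
      rw [← Nat.sub_add_cancel hL, Function.iterate_succ_apply', h1, ← h3]
    have := (X.equi_iterate ht h.mem L).2
    rw [h4] at this
    exact this.symm
  · simp only [orbPar, aut_pow_eq_iterate]
    have := (X.equi_iterate ht h.mem ((Fl.orb J).idxOf j)).2
    rwa [h.idx j hj] at this

variable (X) in
/-- The rank one subgroup as the image of `SL₂`. -/
theorem exists_sl2 (h : OrbOK Fl J j₀) :
    ∃ φ : SL(2, ↥(orbField X J)) →* ↥X.grp, φ.range = rk1 X.sys J ∧ Function.Injective φ ∧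
      ∀ g ∈ φ.range, g ∈ X.sys.H → ∃ a : ↥(orbField X J), a ≠ 0 ∧
        g = tEl (xPosG h) (xNegG h) a := by
  classical
  have hA := X.axioms'
  have hS := X.sep'
  have hR := rel_grp (X := X) h
  obtain ⟨φ, hmem, hφ⟩ := hR.exists_hom
  set x := xPosG (X := X) h
  set y := xNegG (X := X) h
  have hxU : ∀ a, x a ∈ X.sys.U (X.sys.a J) := fun a => X.xp_p_mem (orbPar_equi h a)
  have hyU : ∀ a, y a ∈ X.sys.U (X.sys.neg (X.sys.a J)) := fun a => X.xp_n_mem (orbPar_equi h a)
  have hw : ∀ t, ((wEl x y t : ↥X.grp) : GL D.Idx K) = Twist.nJ Fl J (orbPar X J t) := fun t => by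
    rw [X.nJ_eq, ← xp_par_neg_inv]
    rfl
  have ht : ∀ a : ↥(orbField X J), a ≠ 0 → ∃ c : Fin D.rank → Kˣ, c ∈ X.cFix ∧
      (∀ j, j ∉ Fl.orb J → c j = 1) ∧ (∀ j ∈ Fl.orb J, (c j : K) = orbPar X J a j) ∧
      ((tEl x y a : ↥X.grp) : GL D.Idx K) = torus D c := by
    intro a ha
    have hne : ∀ j, orbPar X J a j ≠ 0 := orbPar_ne ha
    refine ⟨Twist.restr Fl J fun j => Units.mk0 _ (hne j), X.restr_mem_cFix J fun i hi => ?_,
      fun j hj => if_neg hj, fun j hj => by simp [Twist.restr, hj], ?_⟩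
    · simp only [Units.val_mk0]
      exact orbPar_equi h a i hi
    · rw [X.torus_restr, X.hProd_eq, tEl, Subgroup.coe_mul, hw, hw]
      congr 1
      refine congrArg List.prod (List.map_congr_left fun j _ => ?_)
      rw [orbPar_neg, orbPar_one]
  have htH : ∀ a : ↥(orbField X J), a ≠ 0 → tEl x y a ∈ X.sys.H := fun a ha => by
    obtain ⟨c, hc, -, -, e⟩ := ht a ha
    rw [X.mem_H', e]
    exact X.torus_mem_torusT hc
  have hw1 : wEl x y 1 = X.sys.n J := Subtype.ext (by
    rw [hw]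
    refine congrArg List.prod (List.map_congr_left fun j _ => ?_)
    simp [orbPar])
  -- the image of the lower triangle avoids `H`
  have hbig : ∀ g : SL(2, ↥(orbField X J)), φ g ∈ X.sys.H → g.1 1 0 = 0 ∧
      φ g = tEl x y (g.1 0 0) * x (g.1 0 1 / g.1 0 0) := by
    intro g hg
    have hdet := g.2
    rw [Matrix.det_fin_two] at hdet
    have hx : ∀ (t : ↥(orbField X J)) (u : SL(2, ↥(orbField X J))),
        u.1 = !![1, t; 0, 1] → φ u = x t := fun t u hu => (hφ u t).1 hu
    have hyv : ∀ (t : ↥(orbField X J)) (u : SL(2, ↥(orbField X J))),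
        u.1 = !![1, 0; t, 1] → φ u = y t := fun t u hu => (hφ u t).2 hu
    let uu : ↥(orbField X J) → SL(2, ↥(orbField X J)) := fun t =>
      ⟨!![1, t; 0, 1], by simp [Matrix.det_fin_two]⟩
    let ll : ↥(orbField X J) → SL(2, ↥(orbField X J)) := fun t =>
      ⟨!![1, 0; t, 1], by simp [Matrix.det_fin_two]⟩
    set a := g.1 0 0 with ha'
    set b := g.1 0 1 with hb'
    set c := g.1 1 0 with hc'
    set d := g.1 1 1 with hd'
    have hφw : ∀ t, φ (uu t * ll (-t⁻¹) * uu t) = wEl x y t := fun t => by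
      rw [map_mul, map_mul, hx _ _ rfl, hyv _ _ rfl]; rfl
    by_cases hc : c = 0
    · rw [hc, mul_zero, sub_zero] at hdet
      have ha : a ≠ 0 := fun e => by rw [e, zero_mul] at hdet; exact zero_ne_one hdet
      refine ⟨hc, ?_⟩
      have e : g = uu a * ll (-a⁻¹) * uu a * (uu (-1) * ll (-(-1)⁻¹) * uu (-1)) * uu (b / a) :=
        sl2_upper_eq g hc ha
      rw [e, map_mul, map_mul, hφw, hφw, hx _ _ rfl]
      rfl
    · exfalso
      have e : g = uu (a / c) * (uu (-c⁻¹) * ll (-(-c⁻¹)⁻¹) * uu (-c⁻¹)) * uu (d / c) :=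
        sl2_big_eq g hc
      rw [e, map_mul, map_mul, hφw, hx _ _ rfl, hx _ _ rfl, hR.w_eq] at hg
      set x1 := x (a / c)
      set x2 := x (d / c)
      have hnB : X.sys.n J ∈ X.sys.B := by
        rw [← hw1, show wEl x y 1 = (tEl x y (-c⁻¹))⁻¹ * x1⁻¹ *
          (x1 * (tEl x y (-c⁻¹) * wEl x y 1) * x2) * x2⁻¹ by group]
        have hxB : ∀ a, x a ∈ X.sys.B := fun a =>
          RootGroupSys.Uplus_le_B (RootGroupSys.U_le_Uplus (hA.pos_a J) (hxU a))
        exact mul_mem (mul_mem (mul_mem (inv_mem (RootGroupSys.H_le_B (htH _ (by simpa using hc))))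
          (inv_mem (hxB _))) (RootGroupSys.H_le_B hg)) (inv_mem (hxB _))
      have hnH : X.sys.n J ∈ X.sys.H := by
        rw [← RootGroupSys.BN_eq hA hS]
        exact Subgroup.mem_inf.2 ⟨hnB, RootGroupSys.n_mem_N J⟩
      have h1 := RootGroupSys.acts_unique hA hS (RootGroupSys.acts_n hA J)
        (RootGroupSys.acts_H hA hnH)
      have h2 := hA.sigma_a J
      rw [h1, Equiv.Perm.one_apply] at h2
      exact RootGroupSys.pos_neg_a hA J (h2 ▸ hA.pos_a J)
  have hbig' : ∀ g, φ g ∈ X.sys.H → g.1 1 0 = 0 ∧ g.1 0 0 ≠ 0 ∧ x (g.1 0 1 / g.1 0 0) = 1 ∧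
      φ g = tEl x y (g.1 0 0) := by
    intro g hg
    obtain ⟨h1, h2⟩ := hbig g hg
    have hdet := g.2
    rw [Matrix.det_fin_two, h1, mul_zero, sub_zero] at hdet
    have ha : g.1 0 0 ≠ 0 := fun e => by rw [e, zero_mul] at hdet; exact zero_ne_one hdet
    have h3 : x (g.1 0 1 / g.1 0 0) ∈ X.sys.Uplus ⊓ X.sys.N := Subgroup.mem_inf.2
      ⟨RootGroupSys.U_le_Uplus (hA.pos_a J) (hxU _), RootGroupSys.H_le_N (by
        have := mul_mem (inv_mem (htH _ ha)) (h2 ▸ hg)
        rwa [inv_mul_cancel_left] at this)⟩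
    rw [hS.U_N, Subgroup.mem_bot] at h3
    exact ⟨h1, ha, h3, by rw [h2, h3, mul_one]⟩
  refine ⟨φ, ?_, ?_, ?_⟩
  · refine le_antisymm ?_ (sup_le ?_ ?_)
    · rintro _ ⟨g, rfl⟩
      refine (Subgroup.closure_le _).2 ?_ (hmem g)
      rintro _ (⟨a, rfl⟩ | ⟨a, rfl⟩)
      · exact Subgroup.mem_sup_left (hxU a)
      · exact Subgroup.mem_sup_right (hyU a)
    · intro g hg
      obtain ⟨t, ht, e⟩ := X.mem_E_ap.1 (show (g : GL D.Idx K) ∈ X.E (Fl.ap J) from hg)
      obtain ⟨a, ha⟩ := exists_par h ht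
      exact ⟨⟨!![1, a; 0, 1], by simp [Matrix.det_fin_two]⟩,
        ((hφ _ a).1 rfl).trans (Subtype.ext (by rw [e]; exact X.xp_congr fun j hj => (ha j hj).symm))⟩
    · intro g hg
      obtain ⟨t, ht, e⟩ := X.mem_E_an.1 (show (g : GL D.Idx K) ∈ X.E (Fl.an J) from hg)
      obtain ⟨a, ha⟩ := exists_par h ht
      exact ⟨⟨!![1, 0; a, 1], by simp [Matrix.det_fin_two]⟩,
        ((hφ _ a).2 rfl).trans (Subtype.ext (by rw [e]; exact X.xp_congr fun j hj => (ha j hj).symm))⟩
  · refine (injective_iff_map_eq_one φ).2 fun g hg => ?_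
    obtain ⟨h1, ha, hx1, he⟩ := hbig' g (hg ▸ one_mem _)
    obtain ⟨c, hc, hc1, hc2, et⟩ := ht _ ha
    rw [hg] at he
    rw [← he] at et
    have hk := (X.chk.mem_torus_ker_iff c).1 (MonoidHom.mem_ker.2 et.symm)
    have hcj : ∀ j ∈ Fl.orb J, c j = 1 := by
      intro j hj
      have hmact : ∀ k : Fin D.rank, ∀ i : Fin D.rank, i ∉ Fl.orb J →
          c i ^ D.cartan i.val (D.simple k.val) = 1 := fun k i hi => by rw [hc1 i hi, one_zpow]
      rcases h.nbr with hn | ⟨hodd, hdiag, k, hk'⟩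
      · obtain ⟨k, hk1, hk2⟩ := hn j hj
        have := congrFun hk k
        rw [mact_apply, Finset.prod_eq_single j] at this
        · simp only [Matrix.of_apply, hk1, zpow_neg_one, Pi.one_apply, inv_eq_one] at this
          exact this
        · intro i _ hi
          by_cases hiJ : i ∈ Fl.orb J
          · simp only [Matrix.of_apply, hk2 i hiJ hi, zpow_zero]
          · exact hmact k i hiJ
        · simp
      · have h0 := congrFun hk j₀
        rw [mact_apply, Finset.prod_eq_single j₀] at h0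
        rotate_left
        · intro i _ hi
          by_cases hiJ : i ∈ Fl.orb J
          · simp only [Matrix.of_apply, hdiag i hiJ, if_neg hi, zpow_zero]
          · exact hmact j₀ i hiJ
        · simp
        simp only [Matrix.of_apply, hdiag j₀ h.mem, if_true, Pi.one_apply] at h0
        have hsq : (c j₀ : K) ^ 2 = 1 := by
          rw [← Units.val_pow_eq_pow_val, ← zpow_natCast, Nat.cast_ofNat, h0, Units.val_one]
        have hc0 := hc2 j₀ h.mem
        rw [sq_eq_one_iff, hc0, orbPar] at hsq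
        -- all the parameters are equal to the same sign
        have hall : ∀ i ∈ Fl.orb J, c i = c j₀ := by
          intro i hi
          apply Units.ext
          rw [hc2 i hi, hc0, orbPar, orbPar]
          rcases hsq with e | e
          · have e' : (g.1 0 0 : K) = 1 := (X.f ^ (Fl.orb J).idxOf j₀ : K ≃+* K).injective
              (e.trans (map_one _).symm)
            rw [e', map_one, map_one]
          · have e' : (g.1 0 0 : K) = -1 := (X.f ^ (Fl.orb J).idxOf j₀ : K ≃+* K).injective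
              (e.trans ((map_neg _ _).trans (by rw [map_one])).symm)
            rw [e', map_neg, map_neg, map_one, map_one]
        have hk2 := congrFun hk k
        rw [mact_apply] at hk2
        simp only [Matrix.of_apply] at hk2
        rw [← Finset.prod_subset (Finset.subset_univ (Fl.orb J).toFinset)
          (fun i _ hi => hmact k i fun hm => hi (List.mem_toFinset.2 hm))] at hk2
        rw [Finset.prod_congr rfl fun i hi =>
          show c i ^ D.cartan i.val (D.simple k.val) = c j₀ ^ (-1 : ℤ) by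
            rw [hk' i (List.mem_toFinset.1 hi), hall i (List.mem_toFinset.1 hi)], Finset.prod_const, List.toFinset_card_of_nodup (X.fval.orb_nodup J), Pi.one_apply] at hk2
        rw [hall j hj]
        rw [zpow_neg_one, inv_pow, inv_eq_one] at hk2
        have h2' : c j₀ ^ 2 = 1 := by rw [← zpow_natCast, Nat.cast_ofNat, h0]
        obtain ⟨l, hl⟩ : ∃ l, (Fl.orb J).length = 2 * l + 1 :=
          ⟨(Fl.orb J).length / 2, by omega⟩
        rwa [hl, pow_succ, pow_mul, h2', one_pow, one_mul] at hk2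
    have ha1 : g.1 0 0 = 1 := by
      have h5 := hc2 j₀ h.mem
      rw [hcj j₀ h.mem, Units.val_one] at h5
      refine Subtype.ext ((X.f ^ (Fl.orb J).idxOf j₀ : K ≃+* K).injective ?_)
      exact h5.symm.trans (map_one _).symm
    have hb0 : g.1 0 1 = 0 := by
      have e : xPos X J (g.1 0 1 / g.1 0 0) = xPos X J 0 :=
        (congrArg Subtype.val hx1).trans ((rel_GL X J).x_zero).symm
      have h6 := X.xp_p_injective e j₀ h.mem
      have h7 : g.1 0 1 / g.1 0 0 = 0 :=
        Subtype.ext ((X.f ^ (Fl.orb J).idxOf j₀ : K ≃+* K).injective h6)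
      rwa [ha1, div_one] at h7
    have hd : g.1 1 1 = 1 := by
      have hdet := g.2
      rw [Matrix.det_fin_two, h1, ha1, one_mul, mul_zero, sub_zero] at hdet
      exact hdet
    apply Subtype.ext
    ext i j
    fin_cases i <;> fin_cases j <;> simp [ha1, hb0, h1, hd]
  · rintro _ ⟨g, rfl⟩ hgH
    obtain ⟨-, ha, -, he⟩ := hbig' g hgH
    exact ⟨_, ha, he⟩

end Bridge

end H50.Tw
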