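import Cfsg.Agent.H50.TwChar

/-!
Decidable forms of the braid data and the size of the fields of parameters.
-/

set_option autoImplicit false
set_option linter.unusedSectionVars false

namespace H50.Tw

open Cfsg.Lie H53 H52

/-- An alternating word of length `m` ending in `i`. -/
def altWord {ι : Type*} (i j : ι) : ℕ → List ι
  | 0 => []
  | m + 1 => altWord j i m ++ [i]

/-- The braid condition on the tables of a folded root system. -/
def BraidOK {l n : ℕ} (W : WeylData l n) (i j : Fin l) : Prop :=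
  (altWord i j (W.M i j - 1)).foldr W.act (W.simple j) =
      W.simple (if W.M i j % 2 = 0 then j else i) ∧
    ((altWord i j (W.M i j - 1) ++ [j] ++ (altWord i j (W.M i j - 1)).reverse ++
          [if W.M i j % 2 = 0 then j else i]) = (List.replicate (W.M i j) [i, j]).flatten ∨
      (altWord i j (W.M i j - 1) ++ [j] ++ (altWord i j (W.M i j - 1)).reverse ++
          [if W.M i j % 2 = 0 then j else i]) = (List.replicate (W.M i j) [j, i]).flatten)

instance decBraidOK {l n : ℕ} (W : WeylData l n) (i j : Fin l) : Decidable (BraidOK W i j) :=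
  inferInstanceAs (Decidable (_ ∧ _))

variable {D D' : ChevalleyDatum} {Fl : Fold D D'} {T : Tables} {K : Type*} [Field K]
  (X : Twist Fl T K)

theorem braidData_of_ok {i j : Fin D'.rank} (h : BraidOK Fl.W'.data i j) :
    BraidData X.sys.σ X.sys.a i j (Fl.W'.data.M i j) :=
  ⟨altWord i j (Fl.W'.data.M i j - 1), if Fl.W'.data.M i j % 2 = 0 then j else i, h.1, h.2⟩

instance decOrbOK (Fl : Fold D D') (J : Fin D'.rank) (j₀ : Fin D.rank) :
    Decidable (OrbOK Fl J j₀) :=
  decidable_of_iff (j₀ ∈ Fl.orb J ∧ (∀ j ∈ Fl.orb J, Fl.τi^[(Fl.orb J).idxOf j] j₀ = j) ∧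
    (∀ j ∈ Fl.orb J,
      (Fl.orb J).idxOf (Fl.τi j) = ((Fl.orb J).idxOf j + 1) % (Fl.orb J).length) ∧
    ((∀ j ∈ Fl.orb J, ∃ k : Fin D.rank, D.cartan j.val (D.simple k.val) = -1 ∧
      ∀ j' ∈ Fl.orb J, j' ≠ j → D.cartan j'.val (D.simple k.val) = 0) ∨
    ((Fl.orb J).length % 2 = 1 ∧
      (∀ j' ∈ Fl.orb J, D.cartan j'.val (D.simple j₀.val) = if j' = j₀ then 2 else 0) ∧
      ∃ k : Fin D.rank, ∀ j' ∈ Fl.orb J, D.cartan j'.val (D.simple k.val) = -1)))
    ⟨fun h => ⟨h.1, h.2.1, h.2.2.1, h.2.2.2⟩, fun h => ⟨h.mem, h.idx, h.step, h.nbr⟩⟩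

/-- The field of parameters has the size of the root subgroup. -/
theorem card_orbField {J : Fin D'.rank} {j₀ : Fin D.rank} (h : OrbOK Fl J j₀) :
    Nat.card ↥(orbField X J) = Nat.card ↥(X.E (Fl.ap J)) := by
  refine Nat.card_congr (Equiv.ofBijective
    (fun a => (⟨xPos X J a, X.xp_p_mem (orbPar_equi h a)⟩ : ↥(X.E (Fl.ap J)))) ⟨fun a b e => ?_, ?_⟩)
  · have h1 := X.xp_p_injective (congrArg Subtype.val e) j₀ h.mem
    exact Subtype.ext ((X.f ^ (Fl.orb J).idxOf j₀ : K ≃+* K).injective h1)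
  · rintro ⟨g, hg⟩
    obtain ⟨t, ht, rfl⟩ := X.mem_E_ap.1 hg
    obtain ⟨a, ha⟩ := exists_par h ht
    exact ⟨a, Subtype.ext (X.xp_congr fun j hj => (ha j hj).symm)⟩

end H50.Tw
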